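/-
Kernel-checkable stabiliser chains.

A `Rep` presents some elements of a group `G` acting on `Ω` by natural-number codes.
A list of `Level`s is a certificate of a base and strong generating set; `checkChain`
is a Bool-valued checker meant to be evaluated by `decide +kernel`, and
`card_chainGroup` reads off the order of the generated group.
-/
import Mathlib

set_option autoImplicit false

namespace Cfsg.Agent.Compute

/-- A computable presentation of elements of a group acting on points. -/
structure Rep (G : Type*) [Group G] (Ω : Type*) [MulAction G Ω] where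
  n : ℕ
  one : ℕ
  mul : ℕ → ℕ → ℕ
  act : ℕ → ℕ → ℕ
  okb : ℕ → Bool
  Ok : ℕ → Prop
  den : ℕ → G
  pt : ℕ → Ω
  okb_sound : ∀ g, okb g = true → Ok g
  ok_one : Ok one
  den_one : den one = 1
  ok_mul : ∀ g h, Ok g → Ok h → Ok (mul g h)
  den_mul : ∀ g h, Ok g → Ok h → den (mul g h) = den g * den h
  pt_inj : ∀ i j, i < n → j < n → pt i = pt j → i = j
  act_lt : ∀ g i, Ok g → i < n → act g i < n
  act_spec : ∀ g i, Ok g → i < n → den g • pt i = pt (act g i)

/-- A transversal entry: element, its inverse, index of parent entry and of generator. -/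
structure Entry where
  u : ℕ
  ui : ℕ
  par : ℕ
  gen : ℕ

/-- Binary tree of entries; the root has index 0, its subtrees hold the odd resp. positive even
indices. -/
inductive Tr where
  | nil : Tr
  | node (e : Entry) (l r : Tr) : Tr

/-- Look up entry number `j`. -/
noncomputable def Tr.get (t : Tr) (d : Entry) : ℕ → Entry :=
  Tr.rec (motive := fun _ => ℕ → Entry) (fun _ => d)
    (fun e _ _ gl gr j => Nat.rec (motive := fun _ => Entry) e
      (fun k _ => cond (Nat.beq (Nat.mod k 2) 0) (gl (Nat.div k 2)) (gr (Nat.div k 2))) j) t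

/-- One level of a stabiliser chain. -/
structure Level where
  base : ℕ
  size : ℕ
  pos : ℕ → ℕ
  tree : Tr
  gens : List ℕ

/-- `∀ j < n, f j` as a Bool. -/
noncomputable def allBelow (n : ℕ) (f : ℕ → Bool) : Bool :=
  Nat.rec (motive := fun _ => Bool) true (fun k r => f k && r) n

theorem allBelow_eq_true {n : ℕ} {f : ℕ → Bool} :
    allBelow n f = true ↔ ∀ j, j < n → f j = true := by
  induction n with
  | zero => simp [allBelow]
  | succ k ih =>
      have : allBelow (k + 1) f = (f k && allBelow k f) := rfl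
      rw [this, Bool.and_eq_true, ih]
      constructor
      · rintro ⟨h1, h2⟩ j hj
        rcases Nat.lt_succ_iff_lt_or_eq.mp hj with h | h
        · exact h2 j h
        · subst h; exact h1
      · intro h
        exact ⟨h k (Nat.lt_succ_self k), fun j hj => h j (Nat.lt_succ_of_lt hj)⟩

theorem cond_eq {α : Type*} {c : Bool} {a b : α} : cond c a b = if c = true then a else b := by
  cases c <;> rfl

variable {G : Type*} [Group G] {Ω : Type*} [MulAction G Ω] (R : Rep G Ω)

/-- Default (identity) entry. -/
def Rep.idEntry : Entry := ⟨R.one, R.one, 0, 0⟩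

/-- Entry `k` of a level, the identity entry when out of range. -/
noncomputable def Rep.entry (L : Level) (k : ℕ) : Entry :=
  cond (Nat.blt k L.size) (L.tree.get R.idEntry k) R.idEntry

theorem Rep.entry_of_lt (L : Level) {k : ℕ} (h : k < L.size) :
    R.entry L k = L.tree.get R.idEntry k := by
  simp [Rep.entry, Nat.blt_eq, h, cond_eq]

theorem Rep.entry_of_not_lt (L : Level) {k : ℕ} (h : ¬ k < L.size) :
    R.entry L k = R.idEntry := by
  simp [Rep.entry, Nat.blt_eq, h, cond_eq]

/-- Sift an element down a chain. -/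
noncomputable def Rep.sift (Ls : List Level) : ℕ → ℕ :=
  List.rec (motive := fun _ => ℕ → ℕ) (fun r => r)
    (fun L _ rec r => rec (R.mul (R.entry L (L.pos (R.act r L.base))).ui r)) Ls

theorem Rep.sift_cons (L : Level) (Ls : List Level) (r : ℕ) :
    R.sift (L :: Ls) r = R.sift Ls (R.mul (R.entry L (L.pos (R.act r L.base))).ui r) := rfl

/-- Generators of the first level. -/
def topGens : List Level → List ℕ
  | [] => []
  | L :: _ => L.gens

/-- Membership in a list of codes, as a Bool. -/
noncomputable def memB (a : ℕ) (l : List ℕ) : Bool :=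
  List.rec (motive := fun _ => Bool) false (fun b _ r => Nat.beq a b || r) l

theorem memB_eq_true {a : ℕ} {l : List ℕ} : memB a l = true ↔ a ∈ l := by
  induction l with
  | nil => simp [memB]
  | cons b l ih =>
      have : memB a (b :: l) = (Nat.beq a b || memB a l) := rfl
      rw [this, Bool.or_eq_true, ih, List.mem_cons, Nat.beq_eq]

/-- Check one transversal entry. -/
noncomputable def Rep.checkEntry (L : Level) (j : ℕ) : Bool :=
  let e := L.tree.get R.idEntry j
  R.okb e.u && R.okb e.ui && Nat.beq (R.mul e.ui e.u) R.one &&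
    Nat.beq (L.pos (R.act e.u L.base)) j &&
    (cond (Nat.beq j 0) (Nat.beq e.u R.one)
      (Nat.blt e.par j && Nat.blt e.gen L.gens.length &&
        Nat.beq e.u (R.mul (L.gens.getD e.gen R.one) (L.tree.get R.idEntry e.par).u)))

/-- Check one level above the (already checked) tail `Ls`. -/
noncomputable def Rep.checkLevel (L : Level) (Ls : List Level) : Bool :=
  Nat.blt L.base R.n && Nat.blt 0 L.size && L.gens.all R.okb &&
    (topGens Ls).all (fun g => memB g L.gens && Nat.beq (R.act g L.base) L.base) &&
    allBelow L.size (R.checkEntry L) &&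
    allBelow L.size (fun j => L.gens.all (fun s =>
      Nat.blt (L.pos (R.act (R.mul s (R.entry L j).u) L.base)) L.size &&
        Nat.beq (R.sift (L :: Ls) (R.mul s (R.entry L j).u)) R.one))

/-- Check a chain. -/
noncomputable def Rep.checkChain (Ls : List Level) : Bool :=
  List.rec (motive := fun _ => Bool) true (fun L Ls r => R.checkLevel L Ls && r) Ls

theorem Rep.checkChain_cons (L : Level) (Ls : List Level) :
    R.checkChain (L :: Ls) = (R.checkLevel L Ls && R.checkChain Ls) := rfl

/-- The subgroup generated by the elements with the given codes. -/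
def Rep.span (l : List ℕ) : Subgroup G := Subgroup.closure (R.den '' {g | g ∈ l})

/-- The group of a chain. -/
def Rep.chainGroup (Ls : List Level) : Subgroup G := R.span (topGens Ls)

theorem Rep.den_mem_span {l : List ℕ} {g : ℕ} (h : g ∈ l) : R.den g ∈ R.span l :=
  Subgroup.subset_closure ⟨g, h, rfl⟩

/-- Everything `checkLevel` gives, in propositional form. -/
structure Rep.LevelOK (L : Level) (Ls : List Level) : Prop where
  base_lt : L.base < R.n
  size_pos : 0 < L.size
  gens_ok : ∀ g ∈ L.gens, R.Ok g
  next_sub : ∀ g ∈ topGens Ls, g ∈ L.gens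
  next_fix : ∀ g ∈ topGens Ls, R.act g L.base = L.base
  entries : ∀ j < L.size, R.Ok (R.entry L j).u ∧ R.Ok (R.entry L j).ui ∧
    R.mul (R.entry L j).ui (R.entry L j).u = R.one ∧
    L.pos (R.act (R.entry L j).u L.base) = j ∧
    (j = 0 → (R.entry L j).u = R.one) ∧
    (j ≠ 0 → (R.entry L j).par < j ∧ ∃ s ∈ L.gens,
      (R.entry L j).u = R.mul s (R.entry L (R.entry L j).par).u)
  schreier : ∀ j < L.size, ∀ s ∈ L.gens,
    L.pos (R.act (R.mul s (R.entry L j).u) L.base) < L.size ∧
      R.sift (L :: Ls) (R.mul s (R.entry L j).u) = R.one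

theorem Rep.levelOK_of_check {L : Level} {Ls : List Level}
    (h : R.checkLevel L Ls = true) : R.LevelOK L Ls := by
  simp only [Rep.checkLevel, Bool.and_eq_true, allBelow_eq_true, List.all_eq_true, Nat.blt_eq,
    Nat.beq_eq, memB_eq_true] at h
  obtain ⟨⟨⟨⟨⟨hb, hs⟩, hg⟩, hn⟩, he⟩, hsch⟩ := h
  refine ⟨hb, hs, fun g hg' => R.okb_sound g (hg g hg'), fun g hg' => (hn g hg').1,
    fun g hg' => (hn g hg').2, ?_, fun j hj s hs' => hsch j hj s hs'⟩
  intro j hj
  have := he j hj
  simp only [Rep.checkEntry, Bool.and_eq_true, Nat.beq_eq, cond_eq] at this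
  obtain ⟨⟨⟨⟨h1, h2⟩, h3⟩, h4⟩, h5⟩ := this
  rw [R.entry_of_lt L hj]
  refine ⟨R.okb_sound _ h1, R.okb_sound _ h2, h3, h4, ?_, ?_⟩
  · rintro rfl
    simpa using h5
  · intro hj0
    rw [if_neg hj0] at h5
    simp only [Bool.and_eq_true, Nat.beq_eq, Nat.blt_eq] at h5
    obtain ⟨⟨h51, h52⟩, h53⟩ := h5
    refine ⟨h51, L.gens.getD (L.tree.get R.idEntry j).gen R.one, ?_, ?_⟩
    · rw [List.getD_eq_getElem _ _ h52]
      exact List.getElem_mem h52
    · rw [R.entry_of_lt L (lt_trans h51 hj)]
      exact h53

variable {R}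

theorem Rep.LevelOK.entry_all {L : Level} {Ls : List Level} (h : R.LevelOK L Ls) (k : ℕ) :
    R.Ok (R.entry L k).u ∧ R.Ok (R.entry L k).ui ∧
      R.den (R.entry L k).ui = (R.den (R.entry L k).u)⁻¹ := by
  by_cases hk : k < L.size
  · obtain ⟨h1, h2, h3, -⟩ := h.entries k hk
    refine ⟨h1, h2, eq_inv_of_mul_eq_one_left ?_⟩
    rw [← R.den_mul _ _ h2 h1, h3, R.den_one]
  · rw [R.entry_of_not_lt L hk]
    exact ⟨R.ok_one, R.ok_one, by simp [Rep.idEntry, R.den_one]⟩

theorem Rep.LevelOK.entry_mem {L : Level} {Ls : List Level} (h : R.LevelOK L Ls) (k : ℕ) :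
    R.den (R.entry L k).u ∈ R.span L.gens := by
  induction k using Nat.strong_induction_on with
  | _ k ih =>
    by_cases hk : k < L.size
    · obtain ⟨-, -, -, -, h0, hne⟩ := h.entries k hk
      by_cases hk0 : k = 0
      · rw [h0 hk0, R.den_one]; exact one_mem _
      · obtain ⟨hp, s, hs, he⟩ := hne hk0
        rw [he, R.den_mul _ _ (h.gens_ok s hs) (h.entry_all _).1]
        exact mul_mem (R.den_mem_span hs) (ih _ hp)
    · rw [R.entry_of_not_lt L hk]
      simp [Rep.idEntry, R.den_one]

theorem Rep.LevelOK.next_le {L : Level} {Ls : List Level} (h : R.LevelOK L Ls) :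
    R.chainGroup Ls ≤ R.span L.gens :=
  Subgroup.closure_mono (Set.image_mono fun g hg => h.next_sub g hg)

variable (R) in
/-- Every element sifting to the identity is in the group of the chain. -/
theorem Rep.mem_of_sift (Ls : List Level) (hc : R.checkChain Ls = true) {r : ℕ} (hr : R.Ok r)
    (hs : R.sift Ls r = R.one) : R.den r ∈ R.chainGroup Ls := by
  induction Ls generalizing r with
  | nil =>
      change r = R.one at hs
      rw [hs, R.den_one]; exact one_mem _
  | cons L Ls ih =>
      rw [R.checkChain_cons, Bool.and_eq_true] at hc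
      have h := R.levelOK_of_check hc.1
      rw [R.sift_cons] at hs
      set k := L.pos (R.act r L.base) with hk
      obtain ⟨hu, hui, hinv⟩ := h.entry_all k
      have h1 := ih hc.2 (R.ok_mul _ _ hui hr) hs
      rw [R.den_mul _ _ hui hr, hinv] at h1
      have h2 := mul_mem (h.entry_mem k) (h.next_le h1)
      rwa [mul_inv_cancel_left] at h2

theorem Rep.next_fixes {L : Level} {Ls : List Level} (h : R.LevelOK L Ls) :
    R.chainGroup Ls ≤ MulAction.stabilizer G (R.pt L.base) := by
  rw [Rep.chainGroup, Rep.span, Subgroup.closure_le]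
  rintro _ ⟨g, hg, rfl⟩
  rw [SetLike.mem_coe, MulAction.mem_stabilizer_iff,
    R.act_spec g _ (h.gens_ok g (h.next_sub g hg)) h.base_lt, h.next_fix g hg]

theorem Rep.act_entry_inj {L : Level} {Ls : List Level} (h : R.LevelOK L Ls) {j k : ℕ}
    (hj : j < L.size) (hk : k < L.size)
    (he : R.den (R.entry L j).u • R.pt L.base = R.den (R.entry L k).u • R.pt L.base) : j = k := by
  have hj1 := (h.entries j hj)
  have hk1 := (h.entries k hk)
  rw [R.act_spec _ _ hj1.1 h.base_lt, R.act_spec _ _ hk1.1 h.base_lt] at he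
  have := R.pt_inj _ _ (R.act_lt _ _ hj1.1 h.base_lt) (R.act_lt _ _ hk1.1 h.base_lt) he
  rw [← hj1.2.2.2.1, ← hk1.2.2.2.1, this]

theorem Rep.entry_zero {L : Level} {Ls : List Level} (h : R.LevelOK L Ls) :
    R.den (R.entry L 0).u = 1 := by
  rw [(h.entries 0 h.size_pos).2.2.2.2.1 rfl, R.den_one]

theorem Rep.decompose [Finite G] {L : Level} {Ls : List Level}
    (hc : R.checkChain (L :: Ls) = true) {x : G} (hx : x ∈ R.span L.gens) :
    ∃ j < L.size, ∃ y ∈ R.chainGroup Ls, x = R.den (R.entry L j).u * y := by
  rw [R.checkChain_cons, Bool.and_eq_true] at hc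
  have h := R.levelOK_of_check hc.1
  let T : Set G := {x | ∃ j < L.size, ∃ y ∈ R.chainGroup Ls, x = R.den (R.entry L j).u * y}
  have step : ∀ s ∈ L.gens, ∀ x ∈ T, R.den s * x ∈ T := by
    rintro s hs x ⟨j, hj, y, hy, rfl⟩
    obtain ⟨hk, hsift⟩ := h.schreier j hj s hs
    rw [R.sift_cons] at hsift
    set k := L.pos (R.act (R.mul s (R.entry L j).u) L.base) with hk'
    obtain ⟨hu, hui, hinv⟩ := h.entry_all k
    have hOk := R.ok_mul _ _ (h.gens_ok s hs) (h.entry_all j).1
    have h1 := R.mem_of_sift Ls hc.2 (R.ok_mul _ _ hui hOk) hsift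
    rw [R.den_mul _ _ hui hOk, R.den_mul _ _ (h.gens_ok s hs) (h.entry_all j).1, hinv] at h1
    refine ⟨k, hk, _, mul_mem h1 hy, ?_⟩
    group
  have one_mem' : (1 : G) ∈ T :=
    ⟨0, h.size_pos, 1, one_mem _, by rw [Rep.entry_zero h, mul_one]⟩
  change x ∈ T
  have key : ∀ s ∈ L.gens, ∀ x ∈ T, (R.den s)⁻¹ * x ∈ T := by
    intro s hs x hxT
    have hinj : Function.Injective
        (fun z : T => (⟨R.den s * z, step s hs z z.2⟩ : T)) :=
      fun a b hab => Subtype.ext (mul_left_cancel (congrArg Subtype.val hab))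
    obtain ⟨⟨z, hz⟩, hzx⟩ := (Finite.injective_iff_surjective.mp hinj) ⟨x, hxT⟩
    have hzx' : R.den s * z = x := congrArg Subtype.val hzx
    rw [← hzx']
    simpa using hz
  refine Subgroup.closure_induction_left (p := fun z _ => z ∈ T) one_mem' ?_ ?_ hx
  · rintro a ⟨s, hs, rfl⟩ z _ hz
    exact step s hs z hz
  · rintro a ⟨s, hs, rfl⟩ z _ hz
    exact key s hs z hz

/-- The orbit of the base point. -/
theorem Rep.orbit_base [Finite G] {L : Level} {Ls : List Level}
    (hc : R.checkChain (L :: Ls) = true) :
    MulAction.orbit (R.span L.gens) (R.pt L.base) =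
      Set.range (fun j : Fin L.size => R.pt (R.act (R.entry L j).u L.base)) := by
  have h := R.levelOK_of_check (by rw [R.checkChain_cons, Bool.and_eq_true] at hc; exact hc.1)
  ext p
  constructor
  · rintro ⟨⟨x, hx⟩, rfl⟩
    obtain ⟨j, hj, y, hy, rfl⟩ := R.decompose hc hx
    refine ⟨⟨j, hj⟩, ?_⟩
    change _ = (R.den (R.entry L j).u * y) • R.pt L.base
    rw [mul_smul, MulAction.mem_stabilizer_iff.mp (Rep.next_fixes h hy),
      R.act_spec _ _ (h.entry_all j).1 h.base_lt]
  · rintro ⟨j, rfl⟩
    exact ⟨⟨_, h.entry_mem j⟩, R.act_spec _ _ (h.entry_all j).1 h.base_lt⟩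

/-- The stabiliser of the base point is the group of the next level. -/
theorem Rep.stabilizer_base [Finite G] {L : Level} {Ls : List Level}
    (hc : R.checkChain (L :: Ls) = true) :
    R.span L.gens ⊓ MulAction.stabilizer G (R.pt L.base) = R.chainGroup Ls := by
  have h := R.levelOK_of_check (by rw [R.checkChain_cons, Bool.and_eq_true] at hc; exact hc.1)
  refine le_antisymm ?_ (le_inf h.next_le (Rep.next_fixes h))
  rintro x ⟨hx, hfix⟩
  obtain ⟨j, hj, y, hy, rfl⟩ := R.decompose hc hx
  have : j = 0 := Rep.act_entry_inj h hj h.size_pos (by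
    have hy' := MulAction.mem_stabilizer_iff.mp (Rep.next_fixes h hy)
    have hx' := MulAction.mem_stabilizer_iff.mp hfix
    rw [mul_smul, hy'] at hx'
    rw [hx', Rep.entry_zero h, one_smul])
  subst this
  rw [Rep.entry_zero h, one_mul]
  exact hy

/-- The product of the orbit lengths. -/
def chainSize (Ls : List Level) : ℕ := (Ls.map Level.size).prod

theorem Rep.card_chainGroup [Finite G] (Ls : List Level) (hc : R.checkChain Ls = true) :
    Nat.card (R.chainGroup Ls) = chainSize Ls := by
  induction Ls with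
  | nil =>
      simp [Rep.chainGroup, Rep.span, topGens, chainSize]
  | cons L Ls ih =>
      have hc' := hc
      rw [R.checkChain_cons, Bool.and_eq_true] at hc'
      have h := R.levelOK_of_check hc'.1
      have key : (MulAction.stabilizer (R.span L.gens) (R.pt L.base)).map (Subgroup.subtype _) =
          R.chainGroup Ls := by
        rw [← R.stabilizer_base hc]
        ext x
        simp only [Subgroup.mem_map, Subgroup.mem_inf, MulAction.mem_stabilizer_iff]
        constructor
        · rintro ⟨⟨y, hy⟩, hfix, rfl⟩; exact ⟨hy, hfix⟩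
        · rintro ⟨hx, hfix⟩; exact ⟨⟨x, hx⟩, hfix, rfl⟩
      have hstab : Nat.card (MulAction.stabilizer (R.span L.gens) (R.pt L.base)) = chainSize Ls := by
        rw [← ih hc'.2, ← key, Subgroup.card_map_of_injective (Subgroup.subtype_injective _)]
      have horb : Nat.card (MulAction.orbit (R.span L.gens) (R.pt L.base)) = L.size := by
        rw [R.orbit_base hc, Nat.card_range_of_injective, Nat.card_fin]
        intro a b hab
        apply Fin.ext
        refine Rep.act_entry_inj h a.2 b.2 ?_
        rw [R.act_spec _ _ (h.entry_all _).1 h.base_lt, R.act_spec _ _ (h.entry_all _).1 h.base_lt]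
        exact hab
      have := Nat.card_congr (MulAction.orbitProdStabilizerEquivGroup (R.span L.gens) (R.pt L.base))
      rw [Nat.card_prod, horb, hstab] at this
      change Nat.card (R.span L.gens) = _
      rw [← this]
      simp [chainSize]

end Cfsg.Agent.Compute
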