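/-
Consequences of a checked stabiliser chain: element lists, upper bounds, straight-line programs.
-/
import Cfsg.Agent.Compute.Basic

set_option autoImplicit false

namespace Cfsg.Agent.Compute

variable {G : Type*} [Group G] {Ω : Type*} [MulAction G Ω] (R : Rep G Ω)

/-- All elements of the group of a chain, as codes. -/
noncomputable def Rep.chainElems (Ls : List Level) : List ℕ :=
  List.rec (motive := fun _ => List ℕ) [R.one]
    (fun L _ r => (List.range L.size).flatMap (fun j => r.map (R.mul (R.entry L j).u))) Ls

theorem Rep.exists_elem [Finite G] (Ls : List Level) (hc : R.checkChain Ls = true) {x : G}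
    (hx : x ∈ R.chainGroup Ls) : ∃ c ∈ R.chainElems Ls, R.Ok c ∧ R.den c = x := by
  induction Ls generalizing x with
  | nil =>
      refine ⟨R.one, by simp [Rep.chainElems], R.ok_one, ?_⟩
      simp [Rep.chainGroup, Rep.span, topGens] at hx
      rw [hx, R.den_one]
  | cons L Ls ih =>
      obtain ⟨j, hj, y, hy, rfl⟩ := R.decompose hc hx
      rw [R.checkChain_cons, Bool.and_eq_true] at hc
      have h := R.levelOK_of_check hc.1
      obtain ⟨c, hcmem, hcok, rfl⟩ := ih hc.2 hy
      refine ⟨R.mul (R.entry L j).u c, ?_, R.ok_mul _ _ (h.entry_all j).1 hcok,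
        R.den_mul _ _ (h.entry_all j).1 hcok⟩
      exact List.mem_flatMap.mpr ⟨j, List.mem_range.mpr hj, List.mem_map.mpr ⟨c, hcmem, rfl⟩⟩

variable {R}

/-- Upper bound, one level: a group whose base orbit is the computed one and whose base
stabiliser is below the next level is below the group of the chain. -/
theorem Rep.le_chainGroup_cons [Finite G] {L : Level} {Ls : List Level}
    (hc : R.checkChain (L :: Ls) = true) {H : Subgroup G} (hle : R.chainGroup (L :: Ls) ≤ H)
    (horb : ∀ g ∈ H, ∃ j < L.size, g • R.pt L.base = R.pt (R.act (R.entry L j).u L.base))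
    (hstab : H ⊓ MulAction.stabilizer G (R.pt L.base) ≤ R.chainGroup Ls) :
    H ≤ R.chainGroup (L :: Ls) := by
  intro g hg
  have h := R.levelOK_of_check (by rw [R.checkChain_cons, Bool.and_eq_true] at hc; exact hc.1)
  obtain ⟨j, hj, hgj⟩ := horb g hg
  have hu : R.den (R.entry L j).u ∈ R.span L.gens := h.entry_mem j
  have hmem : (R.den (R.entry L j).u)⁻¹ * g ∈ H ⊓ MulAction.stabilizer G (R.pt L.base) := by
    refine Subgroup.mem_inf.mpr ⟨mul_mem (inv_mem (hle hu)) hg, ?_⟩
    rw [MulAction.mem_stabilizer_iff, mul_smul, hgj, inv_smul_eq_iff,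
      R.act_spec _ _ (h.entry_all j).1 h.base_lt]
  have h2 := h.next_le (hstab hmem)
  have h3 := mul_mem hu h2
  rwa [mul_inv_cancel_left] at h3

theorem Rep.chainGroup_cons (L : Level) (Ls : List Level) :
    R.chainGroup (L :: Ls) = R.span L.gens := rfl

theorem Rep.chainGroup_next_le [Finite G] {L : Level} {Ls : List Level}
    (hc : R.checkChain (L :: Ls) = true) : R.chainGroup Ls ≤ R.chainGroup (L :: Ls) := by
  rw [R.chainGroup_cons, ← R.stabilizer_base hc]
  exact inf_le_left

theorem Rep.checkChain_tail {L : Level} {Ls : List Level}
    (hc : R.checkChain (L :: Ls) = true) : R.checkChain Ls = true := by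
  rw [R.checkChain_cons, Bool.and_eq_true] at hc; exact hc.2

/-- One step down a chain, for subgroups. -/
theorem Rep.chain_step [Finite G] {L : Level} {Ls : List Level}
    (hc : R.checkChain (L :: Ls) = true) {H : Subgroup G} (hle : R.chainGroup (L :: Ls) ≤ H)
    {b : ℕ} (hb : L.base = b) :
    R.chainGroup Ls ≤ H ⊓ MulAction.stabilizer G (R.pt b) := by
  rw [← hb, ← R.stabilizer_base hc]
  exact inf_le_inf_right _ hle

/-- The stabiliser of the base point in the group of a chain. -/
theorem Rep.chainGroup_inf_stabilizer [Finite G] {L : Level} {Ls : List Level}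
    (hc : R.checkChain (L :: Ls) = true) {b : ℕ} (hb : L.base = b) :
    R.chainGroup (L :: Ls) ⊓ MulAction.stabilizer G (R.pt b) = R.chainGroup Ls := by
  rw [← hb]; exact R.stabilizer_base hc

/-- One step of a straight-line program: `code` is the product of entries `i` and `j`, or
(if `isInv`) is a left inverse of entry `i`. -/
structure SlpStep where
  code : ℕ
  i : ℕ
  j : ℕ
  isInv : Bool

variable (R)

/-- Run a straight-line program on the list of known codes, checking every step. -/
noncomputable def Rep.slpCheck (steps : List SlpStep) : List ℕ → List ℕ → Bool :=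
  List.rec (motive := fun _ => List ℕ → List ℕ → Bool)
    (fun known targets => targets.all (fun t => memB t known))
    (fun s _ rec known targets => R.okb s.code &&
      cond s.isInv (Nat.beq (R.mul s.code (known.getD s.i R.one)) R.one)
        (Nat.beq s.code (R.mul (known.getD s.i R.one) (known.getD s.j R.one))) &&
      rec (known ++ [s.code]) targets) steps

theorem Rep.slp_sound (steps : List SlpStep) (known targets : List ℕ) (H : Subgroup G)
    (hk : ∀ c ∈ known, R.Ok c ∧ R.den c ∈ H) (h : R.slpCheck steps known targets = true) :
    ∀ t ∈ targets, R.Ok t ∧ R.den t ∈ H := by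
  induction steps generalizing known with
  | nil =>
      intro t ht
      have h' : targets.all (fun t => memB t known) = true := h
      rw [List.all_eq_true] at h'
      exact hk t (memB_eq_true.mp (h' t ht))
  | cons s steps ih =>
      have h' : (R.okb s.code &&
        cond s.isInv (Nat.beq (R.mul s.code (known.getD s.i R.one)) R.one)
          (Nat.beq s.code (R.mul (known.getD s.i R.one) (known.getD s.j R.one))) &&
        R.slpCheck steps (known ++ [s.code]) targets) = true := h
      simp only [Bool.and_eq_true] at h'
      obtain ⟨⟨hok, hstep⟩, hrest⟩ := h'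
      have hget : ∀ i, R.Ok (known.getD i R.one) ∧ R.den (known.getD i R.one) ∈ H := by
        intro i
        by_cases hi : i < known.length
        · rw [List.getD_eq_getElem _ _ hi]; exact hk _ (List.getElem_mem hi)
        · rw [List.getD_eq_default _ _ (by omega)]
          exact ⟨R.ok_one, by rw [R.den_one]; exact one_mem H⟩
      refine ih _ ?_ hrest
      intro c hc
      rw [List.mem_append, List.mem_singleton] at hc
      rcases hc with hc | rfl
      · exact hk c hc
      · refine ⟨R.okb_sound _ hok, ?_⟩
        cases hv : s.isInv
        · rw [hv, cond_false, Nat.beq_eq] at hstep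
          rw [hstep, R.den_mul _ _ (hget _).1 (hget _).1]
          exact mul_mem (hget _).2 (hget _).2
        · rw [hv, cond_true, Nat.beq_eq] at hstep
          have := congrArg R.den hstep
          rw [R.den_mul _ _ (R.okb_sound _ hok) (hget _).1, R.den_one] at this
          rw [eq_inv_of_mul_eq_one_left this]
          exact inv_mem (hget _).2

end Cfsg.Agent.Compute
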