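/- Generated data: a basis of the length-24 code as bit masks, and coefficients of its generators. -/
import Mathlib

namespace Cfsg.Agent.Compute

/-- Masks of the translates 0..10 of the squares modulo 23 and of the all-ones word. -/
def golayBasis : List ℕ := [0x5335f, 0xa66be, 0x14cd7c, 0x299af8, 0x5335f0, 0x266be1, 0x4cd7c2, 0x19af85, 0x335f0a, 0x66be14, 0x4d7c29, 0xffffff]

/-- Coefficients of the 23 translates and the all-ones word in `golayBasis`. -/
def golayCoeff : List ℕ := [1, 2, 4, 8, 16, 32, 64, 128, 256, 512, 1024, 739, 1478, 367, 734, 1468, 411, 822, 1644, 1595, 1685, 1993, 1393, 2048]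

/-- Masks whose parities against a code word give its coefficients. -/
def golayDual : List ℕ := [0x5dd000, 0xa12000, 0xc24000, 0x43d000, 0xc0f000, 0x1b6000, 0x6b1000, 0xcca000, 0x5e1000, 0xa6a000, 0xcd4000, 0x800000]

end Cfsg.Agent.Compute
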