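/-
Permutations packed into natural numbers, as a `Rep` for stabiliser chains.
The image of `i` sits in the bits `[w*i, w*(i+1))`.
-/
import Cfsg.Agent.Compute.Basic

set_option autoImplicit false

namespace Cfsg.Agent.Compute

/-- Read field `i` of width `w`. -/
def getField (w p i : ℕ) : ℕ := Nat.land (Nat.shiftRight p (Nat.mul w i)) (Nat.sub (Nat.shiftLeft 1 w) 1)

/-- Pack `f 0, …, f (n-1)` into fields of width `w`. -/
noncomputable def pack (w n : ℕ) (f : ℕ → ℕ) : ℕ :=
  Nat.rec (motive := fun _ => ℕ) 0 (fun k r => Nat.add r (Nat.shiftLeft (f k) (Nat.mul w k))) n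

theorem pack_succ (w n : ℕ) (f : ℕ → ℕ) :
    pack w (n + 1) f = pack w n f + f n * 2 ^ (w * n) := by
  rw [← Nat.shiftLeft_eq]; rfl

theorem getField_eq (w p i : ℕ) : getField w p i = p / 2 ^ (w * i) % 2 ^ w := by
  rw [← Nat.shiftRight_eq_div_pow, ← Nat.and_two_pow_sub_one_eq_mod, ← Nat.one_shiftLeft]
  rfl

theorem getField_lt (w p i : ℕ) : getField w p i < 2 ^ w := by
  rw [getField_eq]; exact Nat.mod_lt _ (by positivity)

theorem pack_lt (w n : ℕ) (f : ℕ → ℕ) (hf : ∀ i, i < n → f i < 2 ^ w) :
    pack w n f < 2 ^ (w * n) := by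
  induction n with
  | zero => simp [pack]
  | succ k ih =>
      rw [pack_succ, Nat.mul_succ, Nat.pow_add]
      have h1 := ih (fun i hi => hf i (by omega))
      have h2 := hf k (by omega)
      have h3 : f k * 2 ^ (w * k) + 2 ^ (w * k) ≤ 2 ^ (w * k) * 2 ^ w := by
        calc f k * 2 ^ (w * k) + 2 ^ (w * k) = (f k + 1) * 2 ^ (w * k) := by ring
          _ ≤ 2 ^ w * 2 ^ (w * k) := Nat.mul_le_mul_right _ h2
          _ = 2 ^ (w * k) * 2 ^ w := Nat.mul_comm _ _
      omega

theorem getField_pack (w n : ℕ) (f : ℕ → ℕ) (hf : ∀ i, i < n → f i < 2 ^ w) {i : ℕ} (hi : i < n) :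
    getField w (pack w n f) i = f i := by
  rw [getField_eq]
  induction n with
  | zero => omega
  | succ k ih =>
      rw [pack_succ]
      rcases Nat.lt_succ_iff_lt_or_eq.mp hi with h | h
      · have hki : w * k = w * i + w * (k - i) := by
          rw [← Nat.mul_add]; congr 1; omega
        rw [hki, Nat.pow_add, show f k * (2 ^ (w * i) * 2 ^ (w * (k - i))) =
          2 ^ (w * i) * (f k * 2 ^ (w * (k - i))) by ring,
          Nat.add_mul_div_left _ _ (by positivity)]
        have hd : 2 ^ w ∣ f k * 2 ^ (w * (k - i)) := by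
          refine Dvd.dvd.mul_left (pow_dvd_pow 2 ?_) _
          exact Nat.le_mul_of_pos_right _ (by omega)
        obtain ⟨c, hc⟩ := hd
        rw [hc, Nat.add_mul_mod_self_left]
        exact ih (fun j hj => hf j (by omega)) h
      · subst h
        rw [Nat.mul_comm (f i), Nat.add_mul_div_left _ _ (by positivity),
          Nat.div_eq_of_lt (pack_lt w i f fun j hj => hf j (by omega)), Nat.zero_add,
          Nat.mod_eq_of_lt (hf i (by omega))]

/-- The composition `p ∘ q` of packed maps. -/
noncomputable def compCode (w n p q : ℕ) : ℕ :=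
  pack w n (fun i => getField w p (getField w q i))

/-- The identity code. -/
noncomputable def idCode (w n : ℕ) : ℕ := pack w n (fun i => i)

/-- The code is a map of `{0, …, n-1}` to itself. -/
def CodeMap (w n p : ℕ) : Prop := ∀ i, i < n → getField w p i < n

/-- The code is a bijection of `{0, …, n-1}`. -/
def CodePerm (w n p : ℕ) : Prop :=
  ∃ h : CodeMap w n p, Function.Bijective (fun i : Fin n => (⟨getField w p i, h i i.2⟩ : Fin n))

/-- Boolean test that a code is a bijection: all values are below `n` and all are hit. -/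
noncomputable def codePermB (w n p : ℕ) : Bool :=
  allBelow n (fun i => Nat.blt (getField w p i) n) &&
    Nat.beq (Nat.rec (motive := fun _ => ℕ) 0
      (fun k r => Nat.lor r (Nat.shiftLeft 1 (getField w p k))) n)
      (Nat.sub (Nat.shiftLeft 1 n) 1)

theorem testBit_orFields (g : ℕ → ℕ) (n j : ℕ)
    (h : (Nat.rec (motive := fun _ => ℕ) 0
      (fun k r => Nat.lor r (Nat.shiftLeft 1 (g k))) n).testBit j = true) :
    ∃ i, i < n ∧ g i = j := by
  induction n with
  | zero => simp at h
  | succ k ih =>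
      have e : ((Nat.rec (motive := fun _ => ℕ) 0
          (fun k r => Nat.lor r (Nat.shiftLeft 1 (g k))) (k + 1)) : ℕ) =
          (Nat.rec (motive := fun _ => ℕ) 0
            (fun k r => Nat.lor r (Nat.shiftLeft 1 (g k))) k) ||| (2 ^ g k) := by
        rw [← Nat.one_shiftLeft]; rfl
      rw [e, Nat.testBit_or, Bool.or_eq_true, Nat.testBit_two_pow] at h
      rcases h with h | h
      · obtain ⟨i, hi, hg⟩ := ih h
        exact ⟨i, by omega, hg⟩
      · exact ⟨k, by omega, by simpa using h⟩

theorem codePerm_of_check {w n p : ℕ} (h : codePermB w n p = true) : CodePerm w n p := by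
  simp only [codePermB, Bool.and_eq_true, allBelow_eq_true, Nat.blt_eq, Nat.beq_eq] at h
  obtain ⟨h1, h2⟩ := h
  refine ⟨h1, Finite.surjective_iff_bijective.mp fun j => ?_⟩
  obtain ⟨i, hi, hg⟩ := testBit_orFields (getField w p) n j (by
    rw [h2, show (Nat.sub (Nat.shiftLeft 1 n) 1) = 2 ^ n - 1 by rw [← Nat.one_shiftLeft]; rfl,
      Nat.testBit_two_pow_sub_one]
    simpa using j.2)
  exact ⟨⟨i, hi⟩, Fin.ext hg⟩

theorem getField_idCode {w n : ℕ} (hn : n ≤ 2 ^ w) {i : ℕ} (hi : i < n) :
    getField w (idCode w n) i = i :=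
  getField_pack w n _ (fun j hj => lt_of_lt_of_le hj hn) hi

theorem getField_compCode {w n p q : ℕ} {i : ℕ} (hi : i < n) :
    getField w (compCode w n p q) i = getField w p (getField w q i) :=
  getField_pack w n _ (fun _ _ => getField_lt _ _ _) hi

theorem codePerm_id {w n : ℕ} (hn : n ≤ 2 ^ w) : CodePerm w n (idCode w n) := by
  have h : CodeMap w n (idCode w n) := fun i hi => by rw [getField_idCode hn hi]; exact hi
  refine ⟨h, ?_⟩
  have : (fun i : Fin n => (⟨getField w (idCode w n) i, h i i.2⟩ : Fin n)) = id :=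
    funext fun i => Fin.ext (getField_idCode hn i.2)
  rw [this]; exact Function.bijective_id

theorem codePerm_comp {w n p q : ℕ} (hp : CodePerm w n p) (hq : CodePerm w n q) :
    CodePerm w n (compCode w n p q) := by
  obtain ⟨hp1, hp2⟩ := hp
  obtain ⟨hq1, hq2⟩ := hq
  have h : CodeMap w n (compCode w n p q) := fun i hi => by
    rw [getField_compCode hi]; exact hp1 _ (hq1 i hi)
  refine ⟨h, ?_⟩
  convert hp2.comp hq2 using 1
  funext i
  exact Fin.ext (getField_compCode i.2)

open Classical in
/-- The permutation of `α` denoted by a code, given a numbering `e` of `α`. -/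
noncomputable def denPerm {α : Type*} (w n : ℕ) (e : Fin n ≃ α) (p : ℕ) : Equiv.Perm α :=
  if h : CodePerm w n p then e.permCongr (Equiv.ofBijective _ h.choose_spec) else 1

theorem denPerm_apply {α : Type*} {w n : ℕ} (e : Fin n ≃ α) {p : ℕ} (h : CodePerm w n p)
    (i : Fin n) : denPerm w n e p (e i) = e ⟨getField w p i, h.choose i i.2⟩ := by
  rw [denPerm, dif_pos h]
  simp [Equiv.permCongr_apply]

theorem denPerm_ext {α : Type*} {w n : ℕ} (e : Fin n ≃ α) {p : ℕ} (h : CodePerm w n p)
    (σ : Equiv.Perm α) (hσ : ∀ i : Fin n, σ (e i) = e ⟨getField w p i, h.choose i i.2⟩) :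
    denPerm w n e p = σ := by
  apply Equiv.ext
  intro x
  obtain ⟨i, rfl⟩ := e.surjective x
  rw [denPerm_apply e h, hσ]

/-- Permutations of `α` as packed naturals; the points are numbered by `e`. -/
noncomputable def permRep {α : Type*} (w n : ℕ) (e : Fin n ≃ α) (hn : n ≤ 2 ^ w) (hpos : 0 < n) :
    Rep (Equiv.Perm α) α where
  n := n
  one := idCode w n
  mul := compCode w n
  act := getField w
  okb := codePermB w n
  Ok := CodePerm w n
  den := denPerm w n e
  pt i := e ⟨i % n, Nat.mod_lt _ hpos⟩
  okb_sound _ := codePerm_of_check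
  ok_one := codePerm_id hn
  den_one := denPerm_ext e (codePerm_id hn) 1 fun i => by
    simp [Equiv.Perm.one_apply, getField_idCode hn i.2]
  ok_mul _ _ := codePerm_comp
  den_mul g h hg hh := denPerm_ext e (codePerm_comp hg hh) _ fun i => by
    rw [Equiv.Perm.mul_apply, denPerm_apply e hh, denPerm_apply e hg]
    congr 1
    exact Fin.ext (getField_compCode i.2).symm
  pt_inj i j hi hj h := by
    have := congrArg Fin.val (e.injective h)
    simpa [Nat.mod_eq_of_lt hi, Nat.mod_eq_of_lt hj] using this
  act_lt g i hg hi := hg.choose i hi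
  act_spec g i hg hi := by
    rw [Equiv.Perm.smul_def, denPerm_apply e hg]
    congr 1
    apply Fin.ext
    simp [Nat.mod_eq_of_lt hi, Nat.mod_eq_of_lt (hg.choose i hi)]

end Cfsg.Agent.Compute
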