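/-
The length-24 binary code of `Def_Sporadic_a` as a set of 4096 bit masks.
Point numbering: the residue `x` is `x.val`, the extra point is 23.
-/
import Cfsg.Prelude.Def_Sporadic_a
import Cfsg.Agent.Compute.GolayData
import Cfsg.Agent.Compute.Perm

set_option autoImplicit false

namespace Cfsg.Agent.Compute

open Cfsg
open scoped Pointwise

/-- Number of a point. -/
def ptIdx : GolayPt → ℕ
  | none => 23
  | some x => x.val

/-- The point with a given number. -/
def e24 : Fin 24 ≃ GolayPt := finSuccEquivLast

theorem ptIdx_e24 : ∀ i : Fin 24, ptIdx (e24 i) = i := by decide +kernel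

theorem ptIdx_lt (p : GolayPt) : ptIdx p < 24 := by
  obtain ⟨i, rfl⟩ := e24.surjective p
  rw [ptIdx_e24]; exact i.2

theorem ptIdx_injective : Function.Injective ptIdx := by
  intro p q h
  obtain ⟨i, rfl⟩ := e24.surjective p
  obtain ⟨j, rfl⟩ := e24.surjective q
  rw [ptIdx_e24, ptIdx_e24] at h
  rw [Fin.ext h]

/-- The word with a given mask. -/
def decW (m : ℕ) : GolayPt → ZMod 2 := fun p => if m.testBit (ptIdx p) then 1 else 0

/-- The set of points with a given mask. -/
def suppM (m : ℕ) : Finset GolayPt := Finset.univ.filter fun p => m.testBit (ptIdx p) = true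

theorem mem_suppM {m : ℕ} {p : GolayPt} : p ∈ suppM m ↔ m.testBit (ptIdx p) = true := by
  simp [suppM]

theorem support₂_decW (m : ℕ) : support₂ (decW m) = suppM m := by
  ext p
  by_cases h : m.testBit (ptIdx p) <;> simp [support₂, suppM, decW, h]

theorem decW_xor (a b : ℕ) : decW (a ^^^ b) = decW a + decW b := by
  funext p
  simp only [decW, Pi.add_apply, Nat.testBit_xor]
  cases a.testBit (ptIdx p) <;> cases b.testBit (ptIdx p) <;> decide

theorem decW_zero : decW 0 = 0 := by
  funext p; simp [decW]

theorem support₂_injective : Function.Injective (support₂ : (GolayPt → ZMod 2) → Finset GolayPt) := by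
  intro v w h
  funext p
  have hp : (v p ≠ 0) ↔ (w p ≠ 0) := by
    have := congrArg (fun s => p ∈ s) h
    simpa [support₂] using this
  revert hp
  generalize v p = a
  generalize w p = b
  revert a b
  decide

theorem suppM_eq_iff {a b : ℕ} (ha : a < 2 ^ 24) (hb : b < 2 ^ 24) : suppM a = suppM b ↔ a = b := by
  refine ⟨fun h => Nat.eq_of_testBit_eq fun i => ?_, fun h => by rw [h]⟩
  by_cases hi : i < 24
  · have := congrArg (fun s => e24 ⟨i, hi⟩ ∈ s) h
    simp only [mem_suppM, ptIdx_e24, eq_iff_iff] at this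
    cases h1 : a.testBit i <;> cases h2 : b.testBit i <;> simp_all
  · rw [Nat.testBit_lt_two_pow (lt_of_lt_of_le ha (Nat.pow_le_pow_right (by norm_num) (by omega))),
      Nat.testBit_lt_two_pow (lt_of_lt_of_le hb (Nat.pow_le_pow_right (by norm_num) (by omega)))]

/-- Combination of the masks `bs` with coefficient bits `k`. -/
noncomputable def cwL (bs : List ℕ) : ℕ → ℕ :=
  List.rec (motive := fun _ => ℕ → ℕ) (fun _ => 0)
    (fun b _ r k => Nat.xor (Nat.mul b (Nat.mod k 2)) (r (Nat.div k 2))) bs

theorem cwL_cons (b : ℕ) (bs : List ℕ) (k : ℕ) :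
    cwL (b :: bs) k = (b * (k % 2)) ^^^ cwL bs (k / 2) := rfl

theorem cwL_xor (bs : List ℕ) (a b : ℕ) : cwL bs (a ^^^ b) = cwL bs a ^^^ cwL bs b := by
  induction bs generalizing a b with
  | nil => exact (Nat.xor_self 0).symm
  | cons c bs ih =>
      rw [cwL_cons, cwL_cons, cwL_cons, Nat.xor_div_two, ih]
      have h : c * ((a ^^^ b) % 2) = (c * (a % 2)) ^^^ (c * (b % 2)) := by
        rcases Nat.mod_two_eq_zero_or_one a with h1 | h1 <;>
          rcases Nat.mod_two_eq_zero_or_one b with h2 | h2 <;>
            simp [Nat.xor_mod_two_eq, Nat.add_mod, h1, h2]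
      rw [h]
      simp only [Nat.xor_assoc]
      congr 1
      rw [← Nat.xor_assoc, Nat.xor_comm (c * (b % 2)), Nat.xor_assoc]

/-- The code word number `k`, as a mask. -/
noncomputable def cw (k : ℕ) : ℕ := cwL golayBasis k

theorem cw_xor (a b : ℕ) : cw (a ^^^ b) = cw a ^^^ cw b := cwL_xor _ a b

theorem cw_lt_check : allBelow 4096 (fun k => Nat.blt (cw k) (Nat.shiftLeft 1 24)) = true := by
  decide +kernel

theorem cw_lt {k : ℕ} (hk : k < 4096) : cw k < 2 ^ 24 := by
  have := allBelow_eq_true.mp cw_lt_check k hk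
  rwa [Nat.blt_eq] at this

theorem qrWord_eq : ∀ (t : ZMod 23), ∀ p : GolayPt,
    qrWord t p = decW (cw (golayCoeff.getD t.val 0)) p := by
  decide +kernel

theorem one_eq : ∀ p : GolayPt, (1 : ZMod 2) = decW (cw (golayCoeff.getD 23 0)) p := by
  decide +kernel

theorem coeff_lt : ∀ i : Fin 24, golayCoeff.getD i 0 < 4096 := by decide +kernel

theorem cw_two_pow : ∀ i : Fin 12,
    cw (2 ^ (i : ℕ)) = cw (golayCoeff.getD (if (i : ℕ) = 11 then 23 else i) 0) := by decide +kernel

theorem decW_cw_mem (k : ℕ) (hk : k < 2 ^ 12) : decW (cw k) ∈ golayCode := by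
  suffices ∀ n, n ≤ 12 → ∀ k, k < 2 ^ n → decW (cw k) ∈ golayCode from this 12 le_rfl k hk
  intro n
  induction n with
  | zero =>
      intro _ k hk
      have : k = 0 := by simpa using hk
      subst this
      have : cw 0 = 0 := by decide +kernel
      rw [this, decW_zero]; exact Submodule.zero_mem _
  | succ n ih =>
      intro hn k hk
      by_cases h : k < 2 ^ n
      · exact ih (by omega) k h
      · have hlt : k ^^^ 2 ^ n < 2 ^ n := by
          apply Nat.lt_pow_two_of_testBit
          intro j hj
          rw [Nat.testBit_xor, Nat.testBit_two_pow]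
          rcases eq_or_lt_of_le hj with rfl | hj'
          · rw [Nat.testBit_eq_decide_div_mod_eq]
            have : k / 2 ^ n = 1 :=
              Nat.div_eq_of_lt_le (by omega) (by rw [pow_succ] at hk; omega)
            simp [this]
          · have : k.testBit j = false := Nat.testBit_lt_two_pow
              (lt_of_lt_of_le hk (Nat.pow_le_pow_right (by norm_num) hj'))
            simp [this, Nat.ne_of_lt hj']
        have hk' : k = (k ^^^ 2 ^ n) ^^^ 2 ^ n := by simp [Nat.xor_assoc]
        rw [hk', cw_xor, decW_xor]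
        refine Submodule.add_mem _ (ih (by omega) _ hlt) ?_
        have h2 := cw_two_pow ⟨n, by omega⟩
        rw [h2]
        by_cases h11 : n = 11
        · refine Submodule.subset_span (Set.mem_union_right _ ?_)
          rw [Set.mem_singleton_iff, if_pos h11]
          exact (funext one_eq).symm
        · rw [if_neg h11]
          refine Submodule.subset_span (Set.mem_union_left _ ⟨((n : ℕ) : ZMod 23), ?_⟩)
          funext p
          have := qrWord_eq (n : ZMod 23) p
          rwa [ZMod.val_cast_of_lt (by omega)] at this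

theorem mem_golayCode_iff (w : GolayPt → ZMod 2) :
    w ∈ golayCode ↔ ∃ k, k < 4096 ∧ w = decW (cw k) := by
  refine ⟨fun hw => ?_, fun ⟨k, hk, h⟩ => h ▸ decW_cw_mem k hk⟩
  induction hw using Submodule.span_induction with
  | mem x hx =>
      rcases hx with ⟨t, rfl⟩ | hx
      · refine ⟨golayCoeff.getD t.val 0, coeff_lt ⟨t.val, lt_trans t.val_lt (by norm_num)⟩,
          funext fun p => ?_⟩
        exact qrWord_eq t p
      · rw [Set.mem_singleton_iff] at hx
        subst hx
        exact ⟨_, coeff_lt ⟨23, by norm_num⟩, funext one_eq⟩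
  | zero =>
      refine ⟨0, by norm_num, ?_⟩
      have : cw 0 = 0 := by decide +kernel
      rw [this, decW_zero]
  | add x y _ _ hx hy =>
      obtain ⟨a, ha, rfl⟩ := hx
      obtain ⟨b, hb, rfl⟩ := hy
      exact ⟨a ^^^ b, Nat.xor_lt_two_pow (n := 12) ha hb, by rw [cw_xor, decW_xor]⟩
  | smul c x _ hx =>
      obtain ⟨a, ha, rfl⟩ := hx
      have hc : c = 0 ∨ c = 1 := by revert c; decide
      rcases hc with rfl | rfl
      · refine ⟨0, by norm_num, ?_⟩
        have : cw 0 = 0 := by decide +kernel
        rw [this, decW_zero, zero_smul]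
      · exact ⟨a, ha, by rw [one_smul]⟩

theorem mem_supports_iff (s : Finset GolayPt) :
    s ∈ supports (golayCode : Set (GolayPt → ZMod 2)) ↔ ∃ k, k < 4096 ∧ s = suppM (cw k) := by
  constructor
  · rintro ⟨w, hw, rfl⟩
    obtain ⟨k, hk, rfl⟩ := (mem_golayCode_iff w).mp hw
    exact ⟨k, hk, support₂_decW _⟩
  · rintro ⟨k, hk, rfl⟩
    exact ⟨_, decW_cw_mem k hk, support₂_decW _⟩

end Cfsg.Agent.Compute
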