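/-
Weights in the length-24 code, by enumeration of its 4096 words.
-/
import Cfsg.Agent.Compute.Golay

set_option autoImplicit false

namespace Cfsg.Agent.Compute

open Cfsg
open scoped Pointwise

/-- Number of set bits among the first `n`. -/
noncomputable def popBits (n m : ℕ) : ℕ :=
  Nat.rec (motive := fun _ => ℕ) 0 (fun k r => Nat.add r (Nat.land (Nat.shiftRight m k) 1)) n

theorem popBits_eq (n m : ℕ) :
    popBits n m = ((Finset.range n).filter fun i => m.testBit i = true).card := by
  induction n with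
  | zero => simp [popBits]
  | succ n ih =>
      have h' : popBits (n + 1) m = popBits n m + ((m >>> n) % 2) := by
        rw [← Nat.and_one_is_mod]; rfl
      rw [h', ih, Finset.range_add_one, Finset.filter_insert]
      have ht : m.testBit n = decide (m >>> n % 2 = 1) := by
        rw [Nat.testBit_eq_decide_div_mod_eq, Nat.shiftRight_eq_div_pow]
      rcases Nat.mod_two_eq_zero_or_one (m >>> n) with h1 | h1 <;> simp [ht, h1]

theorem card_suppM (m : ℕ) : (suppM m).card = popBits 24 m := by
  rw [popBits_eq]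
  refine Finset.card_bij (fun p _ => ptIdx p) ?_ ?_ ?_
  · intro p hp
    simp [ptIdx_lt p, mem_suppM.mp hp]
  · intro p _ q _ h; exact ptIdx_injective h
  · intro i hi
    simp only [Finset.mem_filter, Finset.mem_range] at hi
    exact ⟨e24 ⟨i, hi.1⟩, mem_suppM.mpr (by rw [ptIdx_e24]; exact hi.2), ptIdx_e24 _⟩

theorem hammingNorm_decW (m : ℕ) : hammingNorm (decW m) = popBits 24 m := by
  rw [← card_suppM, ← support₂_decW]
  rfl

/-- Bool check of the weight distribution. -/
theorem weight_check : allBelow 4096 (fun k =>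
    let w := popBits 24 (cw k)
    Nat.beq w 8 || Nat.beq w 12 || Nat.beq w 16 || Nat.beq w 24 || (Nat.beq w 0 && Nat.beq k 0))
      = true := by
  decide +kernel

theorem weight_cw {k : ℕ} (hk : k < 4096) :
    popBits 24 (cw k) = 8 ∨ popBits 24 (cw k) = 12 ∨ popBits 24 (cw k) = 16 ∨
      popBits 24 (cw k) = 24 ∨ (popBits 24 (cw k) = 0 ∧ k = 0) := by
  have := allBelow_eq_true.mp weight_check k hk
  simpa [Bool.or_eq_true, Bool.and_eq_true, or_assoc] using this

theorem cw_injOn {a b : ℕ} (ha : a < 4096) (hb : b < 4096) (h : cw a = cw b) : a = b := by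
  have h0 : cw (a ^^^ b) = 0 := by rw [cw_xor, h, Nat.xor_self]
  have hlt : a ^^^ b < 4096 := Nat.xor_lt_two_pow (n := 12) ha hb
  rcases weight_cw hlt with h1 | h1 | h1 | h1 | h1
  · rw [h0] at h1; exact absurd h1 (by decide +kernel)
  · rw [h0] at h1; exact absurd h1 (by decide +kernel)
  · rw [h0] at h1; exact absurd h1 (by decide +kernel)
  · rw [h0] at h1; exact absurd h1 (by decide +kernel)
  · exact Nat.xor_eq_zero_iff.mp h1.2

/-- The indices below 4096 of the words of weight `n`. -/
noncomputable def idxOfWeight (n : ℕ) : List ℕ :=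
  (List.range 4096).filter fun k => Nat.beq (popBits 24 (cw k)) n

theorem wordsOfWeight_eq (n : ℕ) :
    wordsOfWeight (golayCode : Set (GolayPt → ZMod 2)) n =
      (fun k => suppM (cw k)) '' {k | k ∈ idxOfWeight n} := by
  ext s
  constructor
  · rintro ⟨hs, hc⟩
    obtain ⟨k, hk, rfl⟩ := (mem_supports_iff s).mp hs
    refine ⟨k, ?_, rfl⟩
    rw [card_suppM] at hc
    simp [idxOfWeight, hk, hc]
  · rintro ⟨k, hk, rfl⟩
    simp [idxOfWeight] at hk
    exact ⟨(mem_supports_iff _).mpr ⟨k, hk.1, rfl⟩, by rw [card_suppM, hk.2]⟩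

theorem ncard_wordsOfWeight (n : ℕ) :
    (wordsOfWeight (golayCode : Set (GolayPt → ZMod 2)) n).ncard = (idxOfWeight n).length := by
  rw [wordsOfWeight_eq, Set.InjOn.ncard_image]
  · rw [show {k | k ∈ idxOfWeight n} = ((idxOfWeight n).toFinset : Set ℕ) by ext; simp,
      Set.ncard_coe_finset, List.toFinset_card_of_nodup]
    exact List.Nodup.filter _ List.nodup_range
  · intro a ha b hb h
    simp [idxOfWeight] at ha hb
    exact cw_injOn ha.1 hb.1 ((suppM_eq_iff (cw_lt ha.1) (cw_lt hb.1)).mp h)

theorem length_octads : (idxOfWeight 8).length = 759 := by decide +kernel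

theorem length_dodecads : (idxOfWeight 12).length = 2576 := by decide +kernel

/-- Two words of the code whose supports share more than four points and have eight points are
equal. -/
theorem octad_eq_of_inter {s t : Finset GolayPt} (hs : s ∈ octads) (ht : t ∈ octads)
    (h : 5 ≤ (s ∩ t).card) : s = t := by
  obtain ⟨hs1, hs8⟩ := hs
  obtain ⟨ht1, ht8⟩ := ht
  obtain ⟨a, ha, rfl⟩ := (mem_supports_iff s).mp hs1
  obtain ⟨b, hb, rfl⟩ := (mem_supports_iff t).mp ht1
  have hsd : suppM (cw (a ^^^ b)) = symmDiff (suppM (cw a)) (suppM (cw b)) := by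
    ext p
    simp only [mem_suppM, cw_xor, Nat.testBit_xor, Finset.mem_symmDiff]
    cases (cw a).testBit (ptIdx p) <;> cases (cw b).testBit (ptIdx p) <;> decide
  have hcard : (suppM (cw (a ^^^ b))).card ≤ 6 := by
    rw [hsd, symmDiff_def, Finset.sup_eq_union]
    refine (Finset.card_union_le _ _).trans ?_
    have e1 := Finset.card_sdiff_add_card_inter (suppM (cw a)) (suppM (cw b))
    have e2 := Finset.card_sdiff_add_card_inter (suppM (cw b)) (suppM (cw a))
    rw [Finset.inter_comm] at e2
    omega
  rw [card_suppM] at hcard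
  have hlt : a ^^^ b < 4096 := Nat.xor_lt_two_pow (n := 12) ha hb
  rcases weight_cw hlt with h1 | h1 | h1 | h1 | h1 <;> try omega
  rw [Nat.xor_eq_zero_iff.mp h1.2]

end Cfsg.Agent.Compute
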