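/-
Permutations of the 24 points as packed naturals, their action on masks, and membership in M24.
-/
import Cfsg.Agent.Compute.GolayWeights
import Cfsg.Agent.Compute.Chain

set_option autoImplicit false

namespace Cfsg.Agent.Compute

open Cfsg
open scoped Pointwise

/-- Codes for permutations of the 24 points: five bits per point. -/
noncomputable def rep24 : Rep (Equiv.Perm GolayPt) GolayPt :=
  permRep 5 24 e24 (by norm_num) (by norm_num)

theorem rep24_pt {i : ℕ} (hi : i < 24) : rep24.pt i = e24 ⟨i, hi⟩ := by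
  change e24 _ = _
  congr 1
  exact Fin.ext (Nat.mod_eq_of_lt hi)

theorem ptIdx_rep24 {i : ℕ} (hi : i < 24) : ptIdx (rep24.pt i) = i := by
  rw [rep24_pt hi, ptIdx_e24]

theorem rep24_pt_ptIdx (p : GolayPt) : rep24.pt (ptIdx p) = p := by
  obtain ⟨i, rfl⟩ := e24.surjective p
  rw [ptIdx_e24, rep24_pt i.2]

theorem ptIdx_den {g : ℕ} (hg : rep24.Ok g) (p : GolayPt) :
    ptIdx (rep24.den g p) = rep24.act g (ptIdx p) := by
  conv_lhs => rw [← rep24_pt_ptIdx p]
  rw [← Equiv.Perm.smul_def, rep24.act_spec g _ hg (ptIdx_lt p),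
    ptIdx_rep24 (rep24.act_lt g _ hg (ptIdx_lt p))]

/-- Image of a mask under a code. -/
noncomputable def imgMask (g m : ℕ) : ℕ :=
  Nat.rec (motive := fun _ => ℕ) 0 (fun k r =>
    Nat.lor r (Nat.shiftLeft (Nat.land (Nat.shiftRight m k) 1) (getField 5 g k))) 24

theorem testBit_imgMask_aux (g m j n : ℕ) :
    ((Nat.rec (motive := fun _ => ℕ) 0 (fun k r =>
      Nat.lor r (Nat.shiftLeft (Nat.land (Nat.shiftRight m k) 1) (getField 5 g k))) n) : ℕ).testBit j
      = true ↔ ∃ i, i < n ∧ m.testBit i = true ∧ getField 5 g i = j := by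
  induction n with
  | zero => simp
  | succ k ih =>
      have e : ((Nat.rec (motive := fun _ => ℕ) 0 (fun k r =>
          Nat.lor r (Nat.shiftLeft (Nat.land (Nat.shiftRight m k) 1) (getField 5 g k))) (k + 1)) : ℕ)
          = (Nat.rec (motive := fun _ => ℕ) 0 (fun k r =>
          Nat.lor r (Nat.shiftLeft (Nat.land (Nat.shiftRight m k) 1) (getField 5 g k))) k) |||
            ((m >>> k % 2) <<< getField 5 g k) := by
        rw [← Nat.and_one_is_mod]; rfl
      rw [e, Nat.testBit_or, Bool.or_eq_true, ih]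
      have ht : m.testBit k = decide (m >>> k % 2 = 1) := by
        rw [Nat.testBit_eq_decide_div_mod_eq, Nat.shiftRight_eq_div_pow]
      constructor
      · rintro (⟨i, hi, h1, h2⟩ | h)
        · exact ⟨i, by omega, h1, h2⟩
        · rcases Nat.mod_two_eq_zero_or_one (m >>> k) with h1 | h1
          · simp [h1] at h
          · rw [h1, Nat.one_shiftLeft, Nat.testBit_two_pow] at h
            exact ⟨k, by omega, by rw [ht, h1]; rfl, by simpa using h⟩
      · rintro ⟨i, hi, h1, h2⟩
        rcases Nat.lt_succ_iff_lt_or_eq.mp hi with hik | rfl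
        · exact Or.inl ⟨i, hik, h1, h2⟩
        · right
          have h3 : m >>> i % 2 = 1 := of_decide_eq_true (ht.symm.trans h1)
          rw [h3, Nat.one_shiftLeft, h2, Nat.testBit_two_pow]
          simp

theorem testBit_imgMask {g m : ℕ} (hg : rep24.Ok g) (p : GolayPt) :
    (imgMask g m).testBit (ptIdx (rep24.den g p)) = m.testBit (ptIdx p) := by
  rw [ptIdx_den hg, Bool.eq_iff_iff]
  refine (testBit_imgMask_aux g m _ 24).trans ⟨?_, fun h => ⟨ptIdx p, ptIdx_lt p, h, rfl⟩⟩
  rintro ⟨i, hi, h1, h2⟩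
  have hp := ptIdx_den hg p
  have hq := ptIdx_den hg (rep24.pt i)
  rw [ptIdx_rep24 hi] at hq
  have h2' : rep24.act g i = rep24.act g (ptIdx p) := h2
  rw [h2', ← hp] at hq
  have := (rep24.den g).injective (ptIdx_injective hq)
  rw [← this, ptIdx_rep24 hi]
  exact h1

theorem decW_comp_symm {g m : ℕ} (hg : rep24.Ok g) :
    decW m ∘ (rep24.den g).symm = decW (imgMask g m) := by
  funext p
  obtain ⟨q, rfl⟩ := (rep24.den g).surjective p
  simp only [Function.comp_apply, Equiv.symm_apply_apply, decW, testBit_imgMask hg]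

theorem smul_suppM {g m : ℕ} (hg : rep24.Ok g) :
    rep24.den g • suppM m = suppM (imgMask g m) := by
  ext p
  obtain ⟨q, rfl⟩ := (rep24.den g).surjective p
  rw [← Equiv.Perm.smul_def, Finset.smul_mem_smul_finset_iff, mem_suppM, Equiv.Perm.smul_def,
    mem_suppM, testBit_imgMask hg]

/-- Coefficient bits of a mask with respect to the basis. -/
noncomputable def decK (m : ℕ) : ℕ :=
  List.rec (motive := fun _ => ℕ) 0
    (fun c _ r => Nat.add (Nat.mod (popBits 24 (Nat.land m c)) 2) (Nat.mul 2 r)) golayDual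

/-- The mask is a word of the code. -/
noncomputable def inCodeB (m : ℕ) : Bool :=
  Nat.blt (decK m) 4096 && Nat.beq (cw (decK m)) m

theorem of_inCodeB {m : ℕ} (h : inCodeB m = true) : ∃ k, k < 4096 ∧ cw k = m := by
  simp only [inCodeB, Bool.and_eq_true, Nat.blt_eq, Nat.beq_eq] at h
  exact ⟨_, h.1, h.2⟩

theorem smul_support₂ (σ : Equiv.Perm GolayPt) (w : GolayPt → ZMod 2) :
    σ • support₂ w = support₂ (w ∘ σ.symm) := by
  ext p
  obtain ⟨q, rfl⟩ := σ.surjective p
  rw [← Equiv.Perm.smul_def, Finset.smul_mem_smul_finset_iff]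
  simp [support₂]

/-- Membership in M24 in terms of words. -/
theorem mem_M24_iff_words (σ : Equiv.Perm GolayPt) :
    σ ∈ M24 ↔ ∀ w ∈ golayCode, w ∘ σ.symm ∈ golayCode := by
  constructor
  · intro h w hw
    have h' : σ • supports (golayCode : Set (GolayPt → ZMod 2)) = supports (golayCode : Set _) :=
      MulAction.mem_stabilizer_iff.mp h
    have : σ • support₂ w ∈ supports (golayCode : Set (GolayPt → ZMod 2)) :=
      h' ▸ Set.smul_mem_smul_set ⟨w, hw, rfl⟩
    rw [smul_support₂] at this
    obtain ⟨v, hv, he⟩ := this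
    rw [← support₂_injective he]; exact hv
  · intro h
    refine MulAction.mem_stabilizer_iff.mpr ?_
    refine Set.eq_of_subset_of_ncard_le ?_ ?_ (Set.toFinite _)
    · rintro _ ⟨s, ⟨w, hw, rfl⟩, rfl⟩
      exact ⟨_, h w hw, (smul_support₂ σ w).symm⟩
    · exact le_of_eq (Set.ncard_smul_set _ _).symm

/-- Bool test of membership in M24: the generators of the code go to code words. -/
noncomputable def inM24B (g : ℕ) : Bool :=
  rep24.okb g && allBelow 24 (fun i => inCodeB (imgMask g (cw (golayCoeff.getD i 0))))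

theorem mem_M24_of_check {g : ℕ} (h : inM24B g = true) : rep24.Ok g ∧ rep24.den g ∈ M24 := by
  simp only [inM24B, Bool.and_eq_true, allBelow_eq_true] at h
  obtain ⟨hok, hgen⟩ := h
  have hg := rep24.okb_sound _ hok
  refine ⟨hg, (mem_M24_iff_words _).mpr ?_⟩
  intro w hw
  induction hw using Submodule.span_induction with
  | mem x hx =>
      obtain ⟨i, rfl⟩ : ∃ i : Fin 24, x = decW (cw (golayCoeff.getD i 0)) := by
        rcases hx with ⟨t, rfl⟩ | hx
        · exact ⟨⟨t.val, lt_trans t.val_lt (by norm_num)⟩, funext fun p => qrWord_eq t p⟩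
        · rw [Set.mem_singleton_iff] at hx
          subst hx
          exact ⟨⟨23, by norm_num⟩, funext one_eq⟩
      rw [decW_comp_symm hg]
      obtain ⟨k, hk, he⟩ := of_inCodeB (hgen i i.2)
      rw [← he]
      exact decW_cw_mem k hk
  | zero => exact Submodule.zero_mem _
  | add x y _ _ hx hy => exact Submodule.add_mem _ hx hy
  | smul c x _ hx => exact Submodule.smul_mem _ c hx

end Cfsg.Agent.Compute
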