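/-
Kernel checks of the certificates for M24 and M12.
-/
import Cfsg.Agent.Compute.GolayPerm
import Cfsg.Agent.Compute.M24Data

set_option autoImplicit false

namespace Cfsg.Agent.Compute

theorem m24a_check : rep24.checkChain m24aChain = true := by decide +kernel

theorem m24b_check : rep24.checkChain m24bChain = true := by decide +kernel

theorem m12_check : rep24.checkChain m12Chain = true := by decide +kernel

theorem m24Slp_check : rep24.slpCheck (m24Slp.map fun x => ⟨x.1, x.2.1, x.2.2.1, x.2.2.2⟩)
    (rep24.one :: m24Gens) m24aL0.gens = true := by
  decide +kernel

theorem m24Gens_check : m24Gens.all inM24B = true := by decide +kernel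

theorem strongGens_check : (m24aL0.gens ++ m24bL0.gens ++ m12L0.gens).all inM24B = true := by
  decide +kernel

theorem m12Gens_fix_check :
    m12L0.gens.all (fun g => Nat.beq (imgMask g dodecadMask) dodecadMask) = true := by
  decide +kernel

end Cfsg.Agent.Compute
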