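/-
The automorphism group of the length-24 code is the group of the checked chain.
-/
import Cfsg.Agent.Compute.M24Check

set_option autoImplicit false

namespace Cfsg.Agent.Compute

open Cfsg
open scoped Pointwise

/-- Bit `i` of a mask, as a Bool. -/
def bitB (m i : ℕ) : Bool := Nat.beq (Nat.land (Nat.shiftRight m i) 1) 1

theorem bitB_eq (m i : ℕ) : bitB m i = m.testBit i := by
  have h : Nat.land (Nat.shiftRight m i) 1 = m / 2 ^ i % 2 := by
    rw [← Nat.shiftRight_eq_div_pow, ← Nat.and_one_is_mod]; rfl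
  rw [bitB, h, Nat.testBit_eq_decide_div_mod_eq, Bool.eq_iff_iff, Nat.beq_eq, decide_eq_true_iff]

/-- An octad with five fixed points is invariant under an element of M24. -/
theorem smul_octad_eq {g : Equiv.Perm GolayPt} (hg : g ∈ M24) {s : Finset GolayPt}
    (hs : s ∈ octads) {t : Finset GolayPt} (ht : 5 ≤ (s ∩ t).card) (hfix : ∀ p ∈ t, g p = p) :
    g • s = s := by
  have hs' : g • s ∈ octads := by
    obtain ⟨hs1, hs2⟩ := hs
    refine ⟨?_, ?_⟩
    · exact (MulAction.mem_stabilizer_iff.mp hg) ▸ Set.smul_mem_smul_set hs1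
    · rw [Finset.card_smul_finset]; exact hs2
  refine octad_eq_of_inter hs' hs (ht.trans (Finset.card_le_card ?_))
  intro p hp
  rw [Finset.mem_inter] at hp ⊢
  refine ⟨?_, hp.1⟩
  have := Finset.smul_mem_smul_finset (a := g) hp.1
  rwa [Equiv.Perm.smul_def, hfix p hp.2] at this

theorem suppM_and (a b : ℕ) : suppM (a &&& b) = suppM a ∩ suppM b := by
  ext p; simp [mem_suppM, Nat.testBit_and]

theorem suppM_cw_mem_octads {k : ℕ} (hk : k < 4096) (hw : popBits 24 (cw k) = 8) :
    suppM (cw k) ∈ octads :=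
  ⟨(mem_supports_iff _).mpr ⟨k, hk, rfl⟩, by rw [card_suppM, hw]⟩

/-- Check of a propagation of fixed points by invariant octads; `F` is the mask of fixed points. -/
noncomputable def propB (steps : List (ℕ × List ℕ)) : ℕ → Bool :=
  List.rec (motive := fun _ => ℕ → Bool) (fun F => Nat.beq F (Nat.sub (Nat.shiftLeft 1 24) 1))
    (fun x _ rec F =>
      x.2.all (fun k => Nat.blt k 4096 && Nat.beq (popBits 24 (cw k)) 8 &&
        Nat.ble 5 (popBits 24 (Nat.land (cw k) F))) &&
      allBelow 24 (fun q => Nat.beq q x.1 || bitB F q ||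
        x.2.any (fun k => !(bitB (cw k) q == bitB (cw k) x.1))) &&
      rec (Nat.lor F (Nat.shiftLeft 1 x.1))) steps

theorem eq_one_of_propB (steps : List (ℕ × List ℕ)) (F : ℕ) (h : propB steps F = true)
    {g : Equiv.Perm GolayPt} (hg : g ∈ M24)
    (hF : ∀ p, F.testBit (ptIdx p) = true → g p = p) : g = 1 := by
  induction steps generalizing F with
  | nil =>
      have h' : Nat.beq F (Nat.sub (Nat.shiftLeft 1 24) 1) = true := h
      rw [Nat.beq_eq] at h'
      refine Equiv.ext fun p => hF p ?_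
      rw [h', show Nat.sub (Nat.shiftLeft 1 24) 1 = 2 ^ 24 - 1 from rfl,
        Nat.testBit_two_pow_sub_one]
      simpa using ptIdx_lt p
  | cons x steps ih =>
      obtain ⟨p₀, ks⟩ := x
      have h' : (ks.all (fun k => Nat.blt k 4096 && Nat.beq (popBits 24 (cw k)) 8 &&
          Nat.ble 5 (popBits 24 (Nat.land (cw k) F))) &&
        allBelow 24 (fun q => Nat.beq q p₀ || bitB F q ||
          ks.any (fun k => !(bitB (cw k) q == bitB (cw k) p₀))) &&
        propB steps (Nat.lor F (Nat.shiftLeft 1 p₀))) = true := h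
      simp only [Bool.and_eq_true, List.all_eq_true, allBelow_eq_true, Nat.blt_eq, Nat.beq_eq,
        Nat.ble_eq, Bool.or_eq_true, List.any_eq_true, Bool.not_eq_true', bitB_eq] at h'
      obtain ⟨⟨hks, hsep⟩, hrest⟩ := h'
      refine ih _ hrest fun p hp => ?_
      rw [show Nat.lor F (Nat.shiftLeft 1 p₀) = F ||| 2 ^ p₀ by rw [← Nat.one_shiftLeft]; rfl,
        Nat.testBit_or, Bool.or_eq_true, Nat.testBit_two_pow, decide_eq_true_iff] at hp
      rcases hp with hp | hp
      · exact hF p hp
      · by_contra hne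
        rcases hsep (ptIdx (g p)) (ptIdx_lt _) with (hq | hq) | ⟨k, hk, hkq⟩
        · exact hne (ptIdx_injective (hq.trans hp))
        · exact hne (g.injective (hF _ hq))
        · obtain ⟨⟨hk1, hk2⟩, hk3⟩ := hks k hk
          have hinv := smul_octad_eq hg (suppM_cw_mem_octads hk1 hk2) (t := suppM F)
            (by rw [← suppM_and, card_suppM]; exact hk3) (fun q hq' => hF q (mem_suppM.mp hq'))
          have h2 : g p ∈ suppM (cw k) ↔ p ∈ suppM (cw k) := by
            conv_lhs => rw [← hinv]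
            exact Finset.smul_mem_smul_finset_iff g
          simp only [mem_suppM] at h2
          rw [hp] at hkq
          cases h3 : (cw k).testBit (ptIdx (g p)) <;> cases h4 : (cw k).testBit (ptIdx p) <;>
            simp_all

/-- The orbit of a level contains every point outside `excl`. -/
noncomputable def coverB (L : Level) (excl : ℕ) : Bool :=
  allBelow 24 (fun y => bitB excl y || (Nat.blt (L.pos y) L.size &&
    Nat.beq (rep24.act (rep24.entry L (L.pos y)).u L.base) y))

theorem orbit_of_cover {L : Level} {excl : ℕ} (h : coverB L excl = true) (p : GolayPt)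
    (hp : ¬ excl.testBit (ptIdx p) = true) :
    ∃ j < L.size, p = rep24.pt (rep24.act (rep24.entry L j).u L.base) := by
  simp only [coverB, allBelow_eq_true, Bool.or_eq_true, Bool.and_eq_true, Nat.blt_eq,
    Nat.beq_eq, bitB_eq] at h
  rcases h (ptIdx p) (ptIdx_lt p) with h1 | ⟨h1, h2⟩
  · exact absurd h1 hp
  · exact ⟨_, h1, by rw [h2, rep24_pt_ptIdx]⟩

theorem m24a_gens_le : rep24.chainGroup m24aChain ≤ M24 := by
  rw [Rep.chainGroup, Rep.span, Subgroup.closure_le]
  rintro _ ⟨g, hg, rfl⟩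
  have h := List.all_eq_true.mp strongGens_check g
    (List.mem_append_left _ (List.mem_append_left _ hg))
  exact (mem_M24_of_check h).2

/-- Mask of the octad through the first five base points. -/
noncomputable def baseOctad : ℕ := cw m24BaseOctad

theorem cover0 : coverB m24aL0 0 = true := by decide +kernel
theorem cover1 : coverB m24aL1 0x800000 = true := by decide +kernel
theorem cover2 : coverB m24aL2 0x800001 = true := by decide +kernel
theorem cover3 : coverB m24aL3 0x800003 = true := by decide +kernel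
theorem cover4 : coverB m24aL4 0x800007 = true := by decide +kernel
theorem cover5 : coverB m24aL5 baseOctad = true := by decide +kernel
theorem cover6 : coverB m24aL6 (Nat.xor (2 ^ 24 - 1) (Nat.xor baseOctad 0x80000f)) = true := by
  decide +kernel

theorem baseOctad_facts : m24BaseOctad < 4096 ∧ popBits 24 (cw m24BaseOctad) = 8 ∧
    5 ≤ popBits 24 (cw m24BaseOctad &&& 0x80000f) := by decide +kernel

theorem base_bits : baseOctad.testBit 4 = false ∧ baseOctad.testBit 5 = true ∧
    (0x80000f : ℕ).testBit 5 = false := by decide +kernel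

theorem m24Prop_check : propB m24Prop 0x80003f = true := by decide +kernel

theorem bases_m24a : m24aL0.base = 23 ∧ m24aL1.base = 0 ∧ m24aL2.base = 1 ∧ m24aL3.base = 2 ∧
    m24aL4.base = 3 ∧ m24aL5.base = 4 ∧ m24aL6.base = 5 := by decide +kernel

theorem testBit_or_pow {F b : ℕ} {p : GolayPt}
    (h : (F ||| 2 ^ b).testBit (ptIdx p) = true) :
    F.testBit (ptIdx p) = true ∨ ptIdx p = b := by
  rw [Nat.testBit_or, Bool.or_eq_true, Nat.testBit_two_pow, decide_eq_true_iff] at h
  exact h.imp id Eq.symm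

theorem fixes_grow {H : Subgroup (Equiv.Perm GolayPt)} {F b : ℕ}
    (h : ∀ g ∈ H, ∀ p, F.testBit (ptIdx p) = true → g p = p) :
    ∀ g ∈ H ⊓ MulAction.stabilizer (Equiv.Perm GolayPt) (rep24.pt b),
      ∀ p, (F ||| 2 ^ b).testBit (ptIdx p) = true → g p = p := by
  intro g hg p hp
  rcases testBit_or_pow hp with hp | hp
  · exact h g hg.1 p hp
  · have := MulAction.mem_stabilizer_iff.mp hg.2
    rw [Equiv.Perm.smul_def] at this
    rw [← rep24_pt_ptIdx p, hp]; exact this

/-- Orbit condition when the excluded set is invariant. -/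
theorem horb_of_invariant {H : Subgroup (Equiv.Perm GolayPt)} {L : Level} {excl : ℕ}
    (hb : L.base < 24) (hc : coverB L excl = true) (hbase : excl.testBit L.base = false)
    (hinv : ∀ g ∈ H, ∀ p, excl.testBit (ptIdx (g p)) = excl.testBit (ptIdx p)) :
    ∀ g ∈ H, ∃ j < L.size,
      g • rep24.pt L.base = rep24.pt (rep24.act (rep24.entry L j).u L.base) := by
  intro g hg
  refine orbit_of_cover hc _ ?_
  rw [Equiv.Perm.smul_def, hinv g hg, ptIdx_rep24 hb, hbase]
  decide

theorem testBit_invariant_of_fixed {g : Equiv.Perm GolayPt} {F : ℕ}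
    (h : ∀ p, F.testBit (ptIdx p) = true → g p = p) (p : GolayPt) :
    F.testBit (ptIdx (g p)) = F.testBit (ptIdx p) := by
  rw [Bool.eq_iff_iff]
  constructor
  · intro hp; rwa [g.injective (h _ hp)] at hp
  · intro hp; rwa [h _ hp]

theorem testBit_baseOctad {g : Equiv.Perm GolayPt} (hg : g ∈ M24)
    (h : ∀ p, (0x80000f : ℕ).testBit (ptIdx p) = true → g p = p) (p : GolayPt) :
    baseOctad.testBit (ptIdx (g p)) = baseOctad.testBit (ptIdx p) := by
  have hinv : g • suppM baseOctad = suppM baseOctad :=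
    smul_octad_eq hg (suppM_cw_mem_octads baseOctad_facts.1 baseOctad_facts.2.1)
      (t := suppM 0x80000f) (by rw [← suppM_and, card_suppM]; exact baseOctad_facts.2.2)
      (fun q hq => h q (mem_suppM.mp hq))
  have h2 : g p ∈ suppM baseOctad ↔ p ∈ suppM baseOctad := by
    conv_lhs => rw [← hinv]
    exact Finset.smul_mem_smul_finset_iff g
  simp only [mem_suppM] at h2
  rw [Bool.eq_iff_iff]; exact h2

theorem m24_le : M24 ≤ rep24.chainGroup m24aChain := by
  obtain ⟨b0, b1, b2, b3, b4, b5, b6⟩ := bases_m24a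
  have hc0 := m24a_check
  have hc1 := Rep.checkChain_tail hc0
  have hc2 := Rep.checkChain_tail hc1
  have hc3 := Rep.checkChain_tail hc2
  have hc4 := Rep.checkChain_tail hc3
  have hc5 := Rep.checkChain_tail hc4
  have hc6 := Rep.checkChain_tail hc5
  have l0 := m24a_gens_le
  let H1 := M24 ⊓ MulAction.stabilizer (Equiv.Perm GolayPt) (rep24.pt 23)
  let H2 := H1 ⊓ MulAction.stabilizer (Equiv.Perm GolayPt) (rep24.pt 0)
  let H3 := H2 ⊓ MulAction.stabilizer (Equiv.Perm GolayPt) (rep24.pt 1)
  let H4 := H3 ⊓ MulAction.stabilizer (Equiv.Perm GolayPt) (rep24.pt 2)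
  let H5 := H4 ⊓ MulAction.stabilizer (Equiv.Perm GolayPt) (rep24.pt 3)
  let H6 := H5 ⊓ MulAction.stabilizer (Equiv.Perm GolayPt) (rep24.pt 4)
  let H7 := H6 ⊓ MulAction.stabilizer (Equiv.Perm GolayPt) (rep24.pt 5)
  have f0 : ∀ g ∈ M24, ∀ p, (0 : ℕ).testBit (ptIdx p) = true → g p = p := by
    intro g _ p h; simp at h
  have f1 : ∀ g ∈ H1, ∀ p, (0x800000 : ℕ).testBit (ptIdx p) = true → g p = p := fixes_grow f0
  have f2 : ∀ g ∈ H2, ∀ p, (0x800001 : ℕ).testBit (ptIdx p) = true → g p = p := fixes_grow f1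
  have f3 : ∀ g ∈ H3, ∀ p, (0x800003 : ℕ).testBit (ptIdx p) = true → g p = p := fixes_grow f2
  have f4 : ∀ g ∈ H4, ∀ p, (0x800007 : ℕ).testBit (ptIdx p) = true → g p = p := fixes_grow f3
  have f5 : ∀ g ∈ H5, ∀ p, (0x80000f : ℕ).testBit (ptIdx p) = true → g p = p := fixes_grow f4
  have f6 : ∀ g ∈ H6, ∀ p, (0x80001f : ℕ).testBit (ptIdx p) = true → g p = p := fixes_grow f5
  have f7 : ∀ g ∈ H7, ∀ p, (0x80003f : ℕ).testBit (ptIdx p) = true → g p = p := fixes_grow f6
  have l1 : rep24.chainGroup _ ≤ H1 := Rep.chain_step hc0 l0 b0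
  have l2 : rep24.chainGroup _ ≤ H2 := Rep.chain_step hc1 l1 b1
  have l3 : rep24.chainGroup _ ≤ H3 := Rep.chain_step hc2 l2 b2
  have l4 : rep24.chainGroup _ ≤ H4 := Rep.chain_step hc3 l3 b3
  have l5 : rep24.chainGroup _ ≤ H5 := Rep.chain_step hc4 l4 b4
  have l6 : rep24.chainGroup _ ≤ H6 := Rep.chain_step hc5 l5 b5
  have u7 : H7 ≤ rep24.chainGroup [] := by
    intro g hg
    rw [eq_one_of_propB _ _ m24Prop_check hg.1.1.1.1.1.1.1 (f7 g hg)]
    exact one_mem _
  have u6 : H6 ≤ rep24.chainGroup [m24aL6] := by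
    refine Rep.le_chainGroup_cons hc6 l6
      (horb_of_invariant (b6 ▸ by norm_num) cover6 ?_ ?_) (b6 ▸ u7)
    · rw [b6]; decide +kernel
    · intro g hg p
      have hO := testBit_baseOctad hg.1.1.1.1.1.1 (f5 g hg.1) p
      have hF := testBit_invariant_of_fixed (f5 g hg.1) p
      have hX : ∀ a q, (Nat.xor a q).testBit = fun i => a.testBit i != q.testBit i := by
        intro a q; funext i; exact Nat.testBit_xor a q i
      simp only [hX, hO, hF]
      congr 1
      rw [Nat.testBit_two_pow_sub_one, Nat.testBit_two_pow_sub_one]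
      simp [ptIdx_lt]
  have u5 : H5 ≤ rep24.chainGroup _ :=
    Rep.le_chainGroup_cons hc5 l5
      (horb_of_invariant (b5 ▸ by norm_num) cover5 (b5 ▸ base_bits.1)
        (fun g hg p => testBit_baseOctad hg.1.1.1.1.1 (f5 g hg) p)) (b5 ▸ u6)
  have u4 : H4 ≤ rep24.chainGroup _ :=
    Rep.le_chainGroup_cons hc4 l4
      (horb_of_invariant (b4 ▸ by norm_num) cover4 (b4 ▸ by decide +kernel)
        (fun g hg => testBit_invariant_of_fixed (f4 g hg))) (b4 ▸ u5)
  have u3 : H3 ≤ rep24.chainGroup _ :=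
    Rep.le_chainGroup_cons hc3 l3
      (horb_of_invariant (b3 ▸ by norm_num) cover3 (b3 ▸ by decide +kernel)
        (fun g hg => testBit_invariant_of_fixed (f3 g hg))) (b3 ▸ u4)
  have u2 : H2 ≤ rep24.chainGroup _ :=
    Rep.le_chainGroup_cons hc2 l2
      (horb_of_invariant (b2 ▸ by norm_num) cover2 (b2 ▸ by decide +kernel)
        (fun g hg => testBit_invariant_of_fixed (f2 g hg))) (b2 ▸ u3)
  have u1 : H1 ≤ rep24.chainGroup _ :=
    Rep.le_chainGroup_cons hc1 l1
      (horb_of_invariant (b1 ▸ by norm_num) cover1 (b1 ▸ by decide +kernel)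
        (fun g hg => testBit_invariant_of_fixed (f1 g hg))) (b1 ▸ u2)
  exact Rep.le_chainGroup_cons hc0 l0
    (horb_of_invariant (b0 ▸ by norm_num) cover0 (by simp)
      (fun g _ p => by simp)) (b0 ▸ u1)

/-- M24 is the group of the chain. -/
theorem m24_eq : M24 = rep24.chainGroup m24aChain :=
  le_antisymm m24_le m24a_gens_le

theorem card_m24 : Nat.card M24 = 244823040 := by
  rw [m24_eq, Rep.card_chainGroup _ m24a_check]
  decide +kernel

end Cfsg.Agent.Compute
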