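/-
Straight-line programs for normal closures, and orders of coded elements.
-/
import Cfsg.Agent.Compute.Chain

set_option autoImplicit false

namespace Cfsg.Agent.Compute

variable {G : Type*} [Group G] {Ω : Type*} [MulAction G Ω] (R : Rep G Ω)

/-- Run a program for a normal closure; steps are `(code, i, j, kind)` with kind 0 a product of
known entries `i`, `j`, kind 1 an inverse of entry `i`, and otherwise the conjugate of entry `i`
by generator `j`. -/
noncomputable def Rep.nclCheck (gens : List ℕ) (steps : List (ℕ × ℕ × ℕ × ℕ)) :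
    List ℕ → List ℕ → Bool :=
  List.rec (motive := fun _ => List ℕ → List ℕ → Bool)
    (fun known targets => targets.all (fun t => memB t known))
    (fun s _ rec known targets => R.okb s.1 &&
      cond (Nat.beq s.2.2.2 0)
        (Nat.beq s.1 (R.mul (known.getD s.2.1 R.one) (known.getD s.2.2.1 R.one)))
        (cond (Nat.beq s.2.2.2 1) (Nat.beq (R.mul s.1 (known.getD s.2.1 R.one)) R.one)
          (Nat.beq (R.mul s.1 (gens.getD s.2.2.1 R.one))
            (R.mul (gens.getD s.2.2.1 R.one) (known.getD s.2.1 R.one)))) &&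
      rec (known ++ [s.1]) targets) steps

theorem Rep.ncl_sound (gens : List ℕ) (steps : List (ℕ × ℕ × ℕ × ℕ)) (known targets : List ℕ)
    (H : Subgroup G) (hgens : ∀ g ∈ gens, R.Ok g ∧ R.den g ∈ H) (N : Subgroup H) [N.Normal]
    (hk : ∀ c ∈ known, R.Ok c ∧ ∃ y ∈ N, (y : G) = R.den c)
    (h : R.nclCheck gens steps known targets = true) :
    ∀ t ∈ targets, ∃ y ∈ N, (y : G) = R.den t := by
  induction steps generalizing known with
  | nil =>
      intro t ht
      have h' : targets.all (fun t => memB t known) = true := h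
      rw [List.all_eq_true] at h'
      exact (hk t (memB_eq_true.mp (h' t ht))).2
  | cons s steps ih =>
      obtain ⟨code, i, j, k⟩ := s
      have h' : (R.okb code &&
        cond (Nat.beq k 0) (Nat.beq code (R.mul (known.getD i R.one) (known.getD j R.one)))
          (cond (Nat.beq k 1) (Nat.beq (R.mul code (known.getD i R.one)) R.one)
            (Nat.beq (R.mul code (gens.getD j R.one))
              (R.mul (gens.getD j R.one) (known.getD i R.one)))) &&
        R.nclCheck gens steps (known ++ [code]) targets) = true := h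
      simp only [Bool.and_eq_true] at h'
      obtain ⟨⟨hok, hstep⟩, hrest⟩ := h'
      have hget : ∀ i, R.Ok (known.getD i R.one) ∧ ∃ y ∈ N, (y : G) = R.den (known.getD i R.one) := by
        intro i
        by_cases hi : i < known.length
        · rw [List.getD_eq_getElem _ _ hi]; exact hk _ (List.getElem_mem hi)
        · rw [List.getD_eq_default _ _ (by omega)]
          exact ⟨R.ok_one, 1, one_mem N, by rw [R.den_one]; rfl⟩
      have hgen : R.Ok (gens.getD j R.one) ∧ R.den (gens.getD j R.one) ∈ H := by
        by_cases hj : j < gens.length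
        · rw [List.getD_eq_getElem _ _ hj]; exact hgens _ (List.getElem_mem hj)
        · rw [List.getD_eq_default _ _ (by omega)]
          exact ⟨R.ok_one, by rw [R.den_one]; exact one_mem H⟩
      refine ih _ ?_ hrest
      intro c hc
      rw [List.mem_append, List.mem_singleton] at hc
      rcases hc with hc | rfl
      · exact hk c hc
      refine ⟨R.okb_sound _ hok, ?_⟩
      obtain ⟨y, hy, hyc⟩ := (hget i).2
      by_cases hk0 : k = 0
      · subst hk0
        rw [show Nat.beq 0 0 = true from rfl, cond_true, Nat.beq_eq] at hstep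
        obtain ⟨z, hz, hzc⟩ := (hget j).2
        exact ⟨y * z, mul_mem hy hz, by
          rw [hstep, R.den_mul _ _ (hget i).1 (hget j).1, ← hyc, ← hzc]; rfl⟩
      rw [show Nat.beq k 0 = false from Bool.eq_false_iff.mpr fun e => hk0 (Nat.eq_of_beq_eq_true e),
        cond_false] at hstep
      by_cases hk1 : k = 1
      · subst hk1
        rw [show Nat.beq 1 1 = true from rfl, cond_true, Nat.beq_eq] at hstep
        have := congrArg R.den hstep
        rw [R.den_mul _ _ (R.okb_sound _ hok) (hget i).1, R.den_one, ← hyc] at this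
        exact ⟨y⁻¹, inv_mem hy, (eq_inv_of_mul_eq_one_left this).symm⟩
      rw [show Nat.beq k 1 = false from Bool.eq_false_iff.mpr fun e => hk1 (Nat.eq_of_beq_eq_true e),
        cond_false, Nat.beq_eq] at hstep
      have := congrArg R.den hstep
      rw [R.den_mul _ _ (R.okb_sound _ hok) hgen.1, R.den_mul _ _ hgen.1 (hget i).1, ← hyc] at this
      refine ⟨⟨_, hgen.2⟩ * y * ⟨_, hgen.2⟩⁻¹, Subgroup.Normal.conj_mem inferInstance _ hy _, ?_⟩
      simp only [Subgroup.coe_mul, InvMemClass.coe_inv]
      rw [← this]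
      group

variable {R}

/-- The normal closure of one element is everything, from a program. -/
theorem Rep.normalClosure_eq_top {H : Subgroup G} {gens : List ℕ} (hH : H = R.span gens)
    (hgens : gens.all R.okb = true) {x : ℕ} (hx : R.okb x = true) (hxH : R.den x ∈ H)
    {steps : List (ℕ × ℕ × ℕ × ℕ)} (h : R.nclCheck gens steps [R.one, x] gens = true) :
    Subgroup.normalClosure ({⟨R.den x, hxH⟩} : Set H) = ⊤ := by
  set N := Subgroup.normalClosure ({⟨R.den x, hxH⟩} : Set H)
  have hg : ∀ g ∈ gens, R.Ok g ∧ R.den g ∈ H := fun g hg =>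
    ⟨R.okb_sound g (List.all_eq_true.mp hgens g hg), hH ▸ R.den_mem_span hg⟩
  have hk : ∀ c ∈ [R.one, x], R.Ok c ∧ ∃ y ∈ N, (y : G) = R.den c := by
    intro c hc
    simp only [List.mem_cons, List.not_mem_nil, or_false] at hc
    rcases hc with rfl | rfl
    · exact ⟨R.ok_one, 1, one_mem N, by rw [R.den_one]; rfl⟩
    · exact ⟨R.okb_sound _ hx, _, Subgroup.subset_normalClosure rfl, rfl⟩
  have hs := R.ncl_sound gens steps _ gens H hg N hk h
  rw [eq_top_iff]
  intro z _
  have hle : H ≤ N.map H.subtype := by
    conv_lhs => rw [hH]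
    rw [Rep.span, Subgroup.closure_le]
    rintro _ ⟨t, ht, rfl⟩
    obtain ⟨y, hy, hyt⟩ := hs t ht
    exact ⟨y, hy, hyt⟩
  obtain ⟨y, hy, hyz⟩ := hle z.2
  rwa [← Subtype.ext (a1 := y) (a2 := z) hyz]

variable (R) in
/-- `x ^ p` as a code, by repeated multiplication. -/
noncomputable def Rep.powCode (x p : ℕ) : ℕ :=
  Nat.rec (motive := fun _ => ℕ) R.one (fun _ r => R.mul x r) p

theorem Rep.powCode_spec {x : ℕ} (hx : R.Ok x) (p : ℕ) :
    R.Ok (R.powCode x p) ∧ R.den (R.powCode x p) = R.den x ^ p := by
  induction p with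
  | zero => exact ⟨R.ok_one, by rw [pow_zero]; exact R.den_one⟩
  | succ p ih =>
      have e : R.powCode x (p + 1) = R.mul x (R.powCode x p) := rfl
      rw [e, R.den_mul _ _ hx ih.1, ih.2, pow_succ']
      exact ⟨R.ok_mul _ _ hx ih.1, rfl⟩

/-- An element with `x ^ p = 1` moving some point has order `p`. -/
theorem Rep.orderOf_eq_prime {x p i : ℕ} (hx : R.okb x = true) (hp : p.Prime)
    (hpow : Nat.beq (R.powCode x p) R.one = true) (hi : i < R.n) (hmove : R.act x i ≠ i) :
    orderOf (R.den x) = p := by
  have := Fact.mk hp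
  obtain ⟨hok, hden⟩ := R.powCode_spec (R.okb_sound _ hx) p
  rw [Nat.beq_eq] at hpow
  rw [hpow, R.den_one] at hden
  refine _root_.orderOf_eq_prime hden.symm fun h => hmove ?_
  have := R.act_spec x i (R.okb_sound _ hx) hi
  rw [h, one_smul] at this
  exact (R.pt_inj _ _ hi (R.act_lt _ _ (R.okb_sound _ hx) hi) this).symm

end Cfsg.Agent.Compute
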