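/-
Conjugacy classes of elements of prime order in M24 from certificates on a Sylow subgroup.
-/
import Cfsg.Agent.Compute.M24Base
import Cfsg.Agent.Compute.NormalSlp
import Cfsg.Agent.Compute.ClassData

set_option autoImplicit false

namespace Cfsg.Agent.Compute

open Cfsg
open scoped Pointwise

/-- The code fixes every point. -/
noncomputable def idB (c : ℕ) : Bool := allBelow 24 (fun i => Nat.beq (rep24.act c i) i)

theorem idB_iff {c : ℕ} (hc : rep24.Ok c) : idB c = true ↔ rep24.den c = 1 := by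
  simp only [idB, allBelow_eq_true, Nat.beq_eq]
  constructor
  · intro h
    refine Equiv.ext fun p => ptIdx_injective ?_
    rw [ptIdx_den hc, h _ (ptIdx_lt p), Equiv.Perm.one_apply]
  · intro h i hi
    have := rep24.act_spec c i hc hi
    rw [h, one_smul] at this
    exact (rep24.pt_inj _ _ hi (rep24.act_lt c i hc hi) this).symm

/-- Check conjugating certificates for all elements of order `p` of a chain. -/
noncomputable def classB (P : List Level) (p : ℕ) (reps : List ℕ) (certs : List (ℕ × ℕ × ℕ)) :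
    Bool :=
  reps.all (fun r => rep24.okb r) &&
    (rep24.chainElems P).all (fun c => idB c || !(idB (rep24.powCode c p)) ||
      certs.any (fun x => Nat.beq x.1 c && Nat.blt x.2.2 reps.length && inM24B x.2.1 &&
        Nat.beq (rep24.mul x.2.1 c) (rep24.mul (reps.getD x.2.2 rep24.one) x.2.1)))

theorem exists_conj_sylow {P : Subgroup (Equiv.Perm GolayPt)} (hP : P ≤ M24) {p v : ℕ}
    [hp : Fact p.Prime] (hcard : Nat.card P = p ^ v) (hndvd : ¬ p ^ (v + 1) ∣ 244823040)
    {X : Subgroup ↥M24} (hX : IsPGroup p X) :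
    ∃ k ∈ M24, ∀ a ∈ X, k * (a : Equiv.Perm GolayPt) * k⁻¹ ∈ P := by
  have hc : Nat.card ↥(P.subgroupOf M24) = p ^ v := by
    rw [Nat.card_congr (Subgroup.subgroupOfEquivOfLe hP).toEquiv, hcard]
  obtain ⟨Q, hPQ⟩ := (IsPGroup.of_card hc).exists_le_sylow
  obtain ⟨n, hn⟩ := IsPGroup.iff_card.mp Q.2
  have hnv : n ≤ v := by
    by_contra h
    refine hndvd ((pow_dvd_pow p (show v + 1 ≤ n by omega)).trans ?_)
    rw [← hn, ← card_m24]
    exact Subgroup.card_subgroup_dvd_card _
  have hQ : P.subgroupOf M24 = (Q : Subgroup ↥M24) := by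
    refine Subgroup.eq_of_le_of_card_ge hPQ ?_
    rw [hn, hc]
    exact Nat.pow_le_pow_right hp.out.pos hnv
  obtain ⟨R, hR⟩ := hX.exists_le_sylow
  obtain ⟨k, hk⟩ := MulAction.exists_smul_eq ↥M24 R Q
  refine ⟨k, k.2, fun a ha => ?_⟩
  have hm : k * a * k⁻¹ ∈ (Q : Subgroup ↥M24) := by
    rw [← hk, Sylow.coe_subgroup_smul]
    exact Subgroup.smul_mem_pointwise_smul _ (MulAut.conj k) _ (hR ha)
  rw [← hQ] at hm
  exact hm

theorem exists_conj_rep {P : List Level} {p v : ℕ} [hp : Fact p.Prime] {reps : List ℕ}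
    {certs : List (ℕ × ℕ × ℕ)} (hc : rep24.checkChain P = true)
    (hgens : (topGens P).all inM24B = true) (hsize : chainSize P = p ^ v)
    (hndvd : ¬ p ^ (v + 1) ∣ 244823040) (hcert : classB P p reps certs = true)
    {g : Equiv.Perm GolayPt} (hg : g ∈ M24) (hord : orderOf g = p) :
    ∃ j < reps.length, ∃ k ∈ M24, k * g * k⁻¹ = rep24.den (reps.getD j rep24.one) := by
  have hle : rep24.chainGroup P ≤ M24 := by
    rw [Rep.chainGroup, Rep.span, Subgroup.closure_le]
    rintro _ ⟨t, ht, rfl⟩
    exact (mem_M24_of_check (List.all_eq_true.mp hgens t ht)).2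
  have hX : IsPGroup p (Subgroup.zpowers (⟨g, hg⟩ : ↥M24)) := IsPGroup.of_card (n := 1) (by
    rw [Nat.card_zpowers, pow_one, ← hord]
    exact Subgroup.orderOf_mk _ _)
  obtain ⟨k, hk, hkP⟩ := exists_conj_sylow hle
    (by rw [Rep.card_chainGroup _ hc, hsize]) hndvd hX
  obtain ⟨c, hcm, hok, hden⟩ :=
    rep24.exists_elem P hc (hkP _ (Subgroup.mem_zpowers _))
  have h := hcert
  simp only [classB, Bool.and_eq_true, List.all_eq_true, Bool.or_eq_true, List.any_eq_true,
    Bool.not_eq_true'] at h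
  obtain ⟨hreps, hel⟩ := h
  have hconj : orderOf (rep24.den c) = p := by
    rw [hden]
    exact (orderOf_injective (MulAut.conj k).toMonoidHom (MulAut.conj k).injective g).trans hord
  rcases hel c hcm with (h1 | h1) | ⟨⟨x, hj, r⟩, hx, h1⟩
  · rw [(idB_iff hok).mp h1, orderOf_one] at hconj
    exact absurd hconj.symm hp.out.one_lt.ne'
  · obtain ⟨hokp, hdenp⟩ := rep24.powCode_spec hok p
    have : idB (rep24.powCode c p) = true := by
      rw [idB_iff hokp, hdenp, ← hconj, pow_orderOf_eq_one]
    rw [this] at h1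
    exact absurd h1 (by simp)
  · obtain ⟨⟨⟨hxc, hr⟩, hjM⟩, hmul⟩ := h1
    rw [Nat.beq_eq] at hxc hmul
    rw [Nat.blt_eq] at hr
    obtain ⟨hjok, hjmem⟩ := mem_M24_of_check hjM
    have hrok : rep24.Ok (reps.getD r rep24.one) := by
      rw [List.getD_eq_getElem _ _ hr]
      exact rep24.okb_sound _ (hreps _ (List.getElem_mem hr))
    refine ⟨r, hr, rep24.den hj * k, mul_mem hjmem hk, ?_⟩
    have h2 := congrArg rep24.den hmul
    rw [rep24.den_mul _ _ hjok hok, rep24.den_mul _ _ hrok hjok, hden] at h2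
    calc rep24.den hj * k * g * (rep24.den hj * k)⁻¹
        = rep24.den hj * (k * g * k⁻¹) * (rep24.den hj)⁻¹ := by group
      _ = _ := by rw [h2, mul_inv_cancel_right]

theorem syl_checks :
    (rep24.checkChain syl2Chain = true ∧ (topGens syl2Chain).all inM24B = true ∧
      chainSize syl2Chain = 2 ^ 10) ∧
    (rep24.checkChain syl3Chain = true ∧ (topGens syl3Chain).all inM24B = true ∧
      chainSize syl3Chain = 3 ^ 3) := by decide +kernel

theorem syl2_class : classB syl2Chain 2 syl2Reps syl2Certs = true := by decide +kernel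

theorem syl3_class : classB syl3Chain 3 syl3Reps syl3Certs = true := by decide +kernel

theorem exists_conj_involution {g : Equiv.Perm GolayPt} (hg : g ∈ M24) (h : orderOf g = 2) :
    ∃ j < 2, ∃ k ∈ M24, k * g * k⁻¹ = rep24.den (syl2Reps.getD j rep24.one) := by
  have := Fact.mk Nat.prime_two
  exact exists_conj_rep syl_checks.1.1 syl_checks.1.2.1 syl_checks.1.2.2 (by decide)
    syl2_class hg h

theorem exists_conj_three {g : Equiv.Perm GolayPt} (hg : g ∈ M24) (h : orderOf g = 3) :
    ∃ j < 2, ∃ k ∈ M24, k * g * k⁻¹ = rep24.den (syl3Reps.getD j rep24.one) := by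
  have := Fact.mk Nat.prime_three
  exact exists_conj_rep syl_checks.2.1 syl_checks.2.2.1 syl_checks.2.2.2 (by decide)
    syl3_class hg h

theorem classReps_facts :
    (syl2Reps ++ syl3Reps).all (fun r => inM24B r) = true ∧
      syl2Reps.all (fun r => !(idB r) && idB (rep24.powCode r 2)) = true ∧
      syl3Reps.all (fun r => !(idB r) && idB (rep24.powCode r 3)) = true := by decide +kernel

end Cfsg.Agent.Compute
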