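/-
Kernel-checkable orbits of coded objects under the group generated by coded elements.
-/
import Cfsg.Agent.Compute.Chain

set_option autoImplicit false

namespace Cfsg.Agent.Compute

open scoped Pointwise

variable {G : Type*} [Group G] {Ω : Type*} [MulAction G Ω]

/-- Coded objects with an action. -/
structure Obj (R : Rep G Ω) (β : Type*) [MulAction G β] where
  act : ℕ → ℕ → ℕ
  Good : ℕ → Prop
  dec : ℕ → β
  act_good : ∀ g a, R.Ok g → Good a → Good (act g a)
  act_dec : ∀ g a, R.Ok g → Good a → R.den g • dec a = dec (act g a)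
  dec_inj : ∀ a b, Good a → Good b → dec a = dec b → a = b

/-- A search tree of orbit points; `info` packs `parent <<< 24 | depth <<< 8 | generator`. -/
inductive OTr where
  | nil : OTr
  | node (c info : ℕ) (l r : OTr) : OTr

/-- `info + 1` of the node with code `x`, or 0. -/
noncomputable def OTr.lookup (t : OTr) (x : ℕ) : ℕ :=
  OTr.rec (motive := fun _ => ℕ) 0
    (fun c i _ _ gl gr => cond (Nat.beq x c) (Nat.succ i) (cond (Nat.blt x c) gl gr)) t

/-- The nodes in order, consed onto an accumulator. -/
noncomputable def OTr.toListAux (t : OTr) : List (ℕ × ℕ) → List (ℕ × ℕ) :=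
  OTr.rec (motive := fun _ => List (ℕ × ℕ) → List (ℕ × ℕ)) (fun acc => acc)
    (fun c i _ _ gl gr acc => gl ((c, i) :: gr acc)) t

/-- The nodes in order. -/
noncomputable def OTr.toList (t : OTr) : List (ℕ × ℕ) := t.toListAux []

theorem OTr.toListAux_eq (t : OTr) (acc : List (ℕ × ℕ)) :
    t.toListAux acc = t.toList ++ acc := by
  induction t generalizing acc with
  | nil => rfl
  | node c i l r ihl ihr =>
      change l.toListAux ((c, i) :: r.toListAux acc) = l.toListAux ((c, i) :: r.toListAux []) ++ acc
      rw [ihl ((c, i) :: r.toListAux acc), ihl ((c, i) :: r.toListAux []), ihr acc,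
        show r.toListAux [] = r.toList from rfl]
      simp

theorem OTr.toList_node (c i : ℕ) (l r : OTr) :
    (OTr.node c i l r).toList = l.toList ++ (c, i) :: r.toList := by
  change l.toListAux ((c, i) :: r.toList) = _
  rw [OTr.toListAux_eq]

theorem OTr.lookup_sound (t : OTr) (x i : ℕ) (h : t.lookup x = i + 1) : (x, i) ∈ t.toList := by
  induction t with
  | nil => exact absurd h (by simp [OTr.lookup])
  | node c j l r ihl ihr =>
      rw [OTr.toList_node]
      have h' : cond (Nat.beq x c) (Nat.succ j) (cond (Nat.blt x c) (l.lookup x) (r.lookup x)) =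
          i + 1 := h
      cases h1 : Nat.beq x c
      · rw [h1, cond_false] at h'
        cases h2 : Nat.blt x c
        · rw [h2, cond_false] at h'
          exact List.mem_append_right _ (List.mem_cons_of_mem _ (ihr h'))
        · rw [h2, cond_true] at h'
          exact List.mem_append_left _ (ihl h')
      · rw [h1, cond_true] at h'
        rw [Nat.beq_eq] at h1
        obtain rfl : j = i := by simpa using h'
        exact List.mem_append_right _ (by rw [h1]; exact List.mem_cons_self)

theorem OTr.exists_of_lookup (t : OTr) (x : ℕ) (h : ¬ t.lookup x = 0) :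
    ∃ i, t.lookup x = i + 1 ∧ (x, i) ∈ t.toList :=
  ⟨t.lookup x - 1, by omega, t.lookup_sound x _ (by omega)⟩

/-- The codes of a tree. -/
noncomputable def OTr.codes (t : OTr) : List ℕ := t.toList.map Prod.fst

/-- Membership test for codes. -/
noncomputable def OTr.memB (t : OTr) (x : ℕ) : Bool := Nat.blt 0 (t.lookup x)

theorem OTr.mem_codes_of_memB {t : OTr} {x : ℕ} (h : t.memB x = true) : x ∈ t.codes := by
  rw [OTr.memB, Nat.blt_eq] at h
  obtain ⟨i, -, hi⟩ := t.exists_of_lookup x (by omega)
  exact List.mem_map.mpr ⟨_, hi, rfl⟩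

/-- Strictly increasing. -/
noncomputable def incB (l : List (ℕ × ℕ)) : Bool :=
  List.rec (motive := fun _ => ℕ → Bool) (fun _ => true)
    (fun a _ rec b => Nat.ble b a.1 && rec (Nat.succ a.1)) l 0

theorem nodup_of_incB {l : List (ℕ × ℕ)} (h : incB l = true) : (l.map Prod.fst).Nodup := by
  suffices ∀ b, (List.rec (motive := fun _ => ℕ → Bool) (fun _ => true)
      (fun a _ rec b => Nat.ble b a.1 && rec (Nat.succ a.1)) l b) = true →
      (l.map Prod.fst).Nodup ∧ ∀ x ∈ l.map Prod.fst, b ≤ x from (this 0 h).1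
  clear h
  induction l with
  | nil => intro b _; simp
  | cons a l ih =>
      intro b h
      have h' : (Nat.ble b a.1 && (List.rec (motive := fun _ => ℕ → Bool) (fun _ => true)
          (fun a _ rec b => Nat.ble b a.1 && rec (Nat.succ a.1)) l (Nat.succ a.1))) = true := h
      rw [Bool.and_eq_true, Nat.ble_eq] at h'
      obtain ⟨h1, h2⟩ := h'
      obtain ⟨hnd, hle⟩ := ih _ h2
      refine ⟨?_, ?_⟩
      · rw [List.map_cons, List.nodup_cons]
        exact ⟨fun hm => by have := hle _ hm; omega, hnd⟩
      · intro x hx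
        rw [List.map_cons, List.mem_cons] at hx
        rcases hx with rfl | hx
        · exact h1
        · have := hle x hx; omega

variable {R : Rep G Ω} {β : Type*} [MulAction G β] (O : Obj R β)

/-- Depth field. -/
def infoDepth (i : ℕ) : ℕ := Nat.land (Nat.shiftRight i 8) 65535
/-- Parent field. -/
def infoPar (i : ℕ) : ℕ := Nat.shiftRight i 24
/-- Generator field. -/
def infoGen (i : ℕ) : ℕ := Nat.land i 255

/-- Check one node. -/
noncomputable def Obj.nodeB (gens : List ℕ) (t : OTr) (root : ℕ) (a : ℕ × ℕ) : Bool :=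
  cond (Nat.beq (infoDepth a.2) 0) (Nat.beq a.1 root)
    (Nat.blt 0 (t.lookup (infoPar a.2)) &&
      Nat.blt (infoDepth (Nat.pred (t.lookup (infoPar a.2)))) (infoDepth a.2) &&
      Nat.blt (infoGen a.2) gens.length &&
      Nat.beq (O.act (gens.getD (infoGen a.2) R.one) (infoPar a.2)) a.1) &&
    gens.all (fun s => t.memB (O.act s a.1))

/-- Check that the tree is the orbit of `root`, of size `N`. -/
noncomputable def Obj.orbitB (gens : List ℕ) (t : OTr) (root N : ℕ) : Bool :=
  gens.all R.okb && incB t.toList && Nat.beq t.toList.length N && t.memB root &&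
    t.toList.all (O.nodeB gens t root)

variable {O}

theorem Obj.orbit_spec [Finite G] {gens : List ℕ} {t : OTr} {root N : ℕ}
    (h : O.orbitB gens t root N = true) (hroot : O.Good root) :
    (∀ c ∈ t.codes, O.Good c) ∧
      MulAction.orbit (R.span gens) (O.dec root) = O.dec '' {c | c ∈ t.codes} ∧
      (MulAction.orbit (R.span gens) (O.dec root)).ncard = N := by
  simp only [Obj.orbitB, Bool.and_eq_true, List.all_eq_true, Nat.beq_eq] at h
  obtain ⟨⟨⟨⟨hok, hinc⟩, hlen⟩, hmem⟩, hnodes⟩ := h
  have hokg : ∀ s ∈ gens, R.Ok s := fun s hs => R.okb_sound s (hok s hs)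
  have key : ∀ d, ∀ a ∈ t.toList, infoDepth a.2 = d →
      O.Good a.1 ∧ O.dec a.1 ∈ MulAction.orbit (R.span gens) (O.dec root) := by
    intro d
    induction d using Nat.strong_induction_on with
    | _ d ih =>
      intro a ha hd
      have h := hnodes a ha
      rw [Obj.nodeB, Bool.and_eq_true] at h
      replace h := h.1
      by_cases h0 : infoDepth a.2 = 0
      · rw [h0, show Nat.beq 0 0 = true from rfl, cond_true, Nat.beq_eq] at h
        rw [h]
        exact ⟨hroot, MulAction.mem_orbit_self _⟩
      · rw [show Nat.beq (infoDepth a.2) 0 = false from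
          Bool.eq_false_iff.mpr fun e => h0 (Nat.eq_of_beq_eq_true e), cond_false] at h
        simp only [Bool.and_eq_true, Nat.blt_eq, Nat.beq_eq] at h
        obtain ⟨⟨⟨hl, hdd⟩, hg⟩, hact⟩ := h
        obtain ⟨i, hi, himem⟩ := t.exists_of_lookup (infoPar a.2) (by omega)
        rw [hi] at hdd
        obtain ⟨hgood, horb⟩ := ih _ (hd ▸ hdd) (infoPar a.2, i) himem rfl
        have hgm : gens.getD (infoGen a.2) R.one ∈ gens := by
          rw [List.getD_eq_getElem _ _ hg]; exact List.getElem_mem hg
        rw [← hact]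
        refine ⟨O.act_good _ _ (hokg _ hgm) hgood, ?_⟩
        obtain ⟨u, hu⟩ := horb
        refine ⟨⟨R.den (gens.getD (infoGen a.2) R.one), R.den_mem_span hgm⟩ * u, ?_⟩
        change (R.den (gens.getD (infoGen a.2) R.one) * (u : G)) • O.dec root = _
        rw [mul_smul, show (u : G) • O.dec root = O.dec (infoPar a.2) from hu,
          O.act_dec _ _ (hokg _ hgm) hgood]
  have hgood : ∀ c ∈ t.codes, O.Good c := by
    intro c hc
    obtain ⟨a, ha, rfl⟩ := List.mem_map.mp hc
    exact (key _ a ha rfl).1
  have hclosed : ∀ s ∈ gens, ∀ c ∈ t.codes, O.act s c ∈ t.codes := by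
    intro s hs c hc
    obtain ⟨a, ha, rfl⟩ := List.mem_map.mp hc
    have h := hnodes a ha
    rw [Obj.nodeB, Bool.and_eq_true, List.all_eq_true] at h
    exact OTr.mem_codes_of_memB (h.2 s hs)
  set S : Set β := O.dec '' {c | c ∈ t.codes} with hS
  have horb : MulAction.orbit (R.span gens) (O.dec root) = S := by
    apply Set.Subset.antisymm
    · have hfin : S.Finite := (List.finite_toSet _).image _
      have hle : R.span gens ≤ MulAction.stabilizer G S := by
        rw [Rep.span, Subgroup.closure_le]
        rintro _ ⟨s, hs, rfl⟩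
        rw [SetLike.mem_coe, MulAction.mem_stabilizer_iff]
        refine Set.eq_of_subset_of_ncard_le ?_ (le_of_eq (Set.ncard_smul_set _ _).symm) hfin
        rintro _ ⟨_, ⟨c, hc, rfl⟩, rfl⟩
        exact ⟨O.act s c, hclosed s hs c hc, (O.act_dec s c (hokg s hs) (hgood c hc)).symm⟩
      rintro _ ⟨u, rfl⟩
      have : (u : G) • S = S := hle u.2
      rw [← this]
      exact Set.smul_mem_smul_set ⟨root, OTr.mem_codes_of_memB hmem, rfl⟩
    · rintro _ ⟨c, hc, rfl⟩
      obtain ⟨a, ha, rfl⟩ := List.mem_map.mp hc
      exact (key _ a ha rfl).2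
  refine ⟨hgood, horb, ?_⟩
  rw [horb, hS, Set.InjOn.ncard_image]
  · rw [show {c | c ∈ t.codes} = (t.codes.toFinset : Set ℕ) by ext; simp, Set.ncard_coe_finset,
      List.toFinset_card_of_nodup (l := t.codes) (nodup_of_incB hinc)]
    rw [← hlen]; simp [OTr.codes]
  · intro a ha b hb hab
    exact O.dec_inj a b (hgood a ha) (hgood b hb) hab

/-- Exactness of a stabiliser from an orbit length. -/
theorem stabilizer_eq_of_orbit [Finite G] {H K : Subgroup G} {x : β} {N : ℕ}
    (hK : K ≤ H ⊓ MulAction.stabilizer G x) (horb : (MulAction.orbit H x).ncard = N)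
    (hcard : Nat.card H = N * Nat.card K) : H ⊓ MulAction.stabilizer G x = K := by
  refine (Subgroup.eq_of_le_of_card_ge hK ?_).symm
  have e : ↥(MulAction.stabilizer H x) ≃ ↥(H ⊓ MulAction.stabilizer G x) :=
    { toFun := fun a => ⟨(a : H), Subgroup.mem_inf.mpr ⟨(a : H).2, a.2⟩⟩
      invFun := fun a => ⟨⟨(a : G), (Subgroup.mem_inf.mp a.2).1⟩, (Subgroup.mem_inf.mp a.2).2⟩
      left_inv := fun a => rfl
      right_inv := fun a => rfl }
  have h := Nat.card_congr (MulAction.orbitProdStabilizerEquivGroup H x)
  rw [Nat.card_prod, Nat.card_congr e, Nat.card_coe_set_eq, horb, hcard] at h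
  have hN : 0 < N := by
    rcases Nat.eq_zero_or_pos N with rfl | hN
    · have := Nat.card_pos (α := H); simp at hcard; omega
    · exact hN
  exact le_of_eq (Nat.eq_of_mul_eq_mul_left hN h)

end Cfsg.Agent.Compute
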