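/-
Coded points, point sets and sorted families of point sets on the 24 points.
-/
import Cfsg.Agent.Compute.Orbit
import Cfsg.Agent.Compute.GolayPerm

set_option autoImplicit false

namespace Cfsg.Agent.Compute

open Cfsg
open scoped Pointwise

theorem imgMask_lt {g m : ℕ} (hg : rep24.Ok g) : imgMask g m < 2 ^ 24 := by
  refine Nat.lt_pow_two_of_testBit _ fun j hj => ?_
  by_contra hb
  rw [Bool.not_eq_false] at hb
  obtain ⟨i, hi, -, hij⟩ := (testBit_imgMask_aux g m j 24).mp hb
  have : rep24.act g i < 24 := rep24.act_lt g i hg hi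
  exact absurd (hij ▸ this : j < 24) (by omega)

theorem imgMask_injOn {g a b : ℕ} (hg : rep24.Ok g) (ha : a < 2 ^ 24) (hb : b < 2 ^ 24)
    (h : imgMask g a = imgMask g b) : a = b := by
  have h2 : rep24.den g • suppM a = rep24.den g • suppM b := by rw [smul_suppM hg, smul_suppM hg, h]
  exact (suppM_eq_iff ha hb).mp (MulAction.injective (rep24.den g) h2)

/-- Points as codes. -/
noncomputable def ptObj : Obj rep24 GolayPt where
  act := rep24.act
  Good i := i < 24
  dec := rep24.pt
  act_good g a hg ha := rep24.act_lt g a hg ha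
  act_dec g a hg ha := rep24.act_spec g a hg ha
  dec_inj a b ha hb h := by
    have := congrArg ptIdx h
    rwa [ptIdx_rep24 ha, ptIdx_rep24 hb] at this

/-- Point sets as masks. -/
noncomputable def maskObj : Obj rep24 (Finset GolayPt) where
  act := imgMask
  Good m := m < 2 ^ 24
  dec := suppM
  act_good _ _ hg _ := imgMask_lt hg
  act_dec _ _ hg _ := smul_suppM hg
  dec_inj _ _ ha hb := (suppM_eq_iff ha hb).mp

/-- Insert into a sorted list. -/
noncomputable def insNat (a : ℕ) (l : List ℕ) : List ℕ :=
  List.rec (motive := fun _ => List ℕ) [a]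
    (fun b t r => cond (Nat.ble a b) (a :: b :: t) (b :: r)) l

/-- Insertion sort. -/
noncomputable def sortNat (l : List ℕ) : List ℕ :=
  List.rec (motive := fun _ => List ℕ) [] (fun a _ r => insNat a r) l

theorem insNat_perm (a : ℕ) (l : List ℕ) : (insNat a l).Perm (a :: l) := by
  induction l with
  | nil => exact List.Perm.refl _
  | cons b t ih =>
      change (cond (Nat.ble a b) (a :: b :: t) (b :: insNat a t)).Perm _
      cases Nat.ble a b
      · exact (ih.cons b).trans (List.Perm.swap a b t)
      · exact List.Perm.refl _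

theorem sortNat_perm (l : List ℕ) : (sortNat l).Perm l := by
  induction l with
  | nil => exact List.Perm.refl _
  | cons a t ih => exact (insNat_perm a _).trans (ih.cons a)

theorem insNat_sorted (a : ℕ) (l : List ℕ) (hl : l.Pairwise (· < ·)) (ha : a ∉ l) :
    (insNat a l).Pairwise (· < ·) := by
  induction l with
  | nil => exact List.pairwise_singleton _ _
  | cons b t ih =>
      change (cond (Nat.ble a b) (a :: b :: t) (b :: insNat a t)).Pairwise _
      rw [List.pairwise_cons] at hl
      rw [List.mem_cons, not_or] at ha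
      cases h : Nat.ble a b
      · have hba : b < a := Nat.lt_of_not_le fun hle => by rw [Nat.ble_eq_true_of_le hle] at h; simp at h
        rw [cond_false, List.pairwise_cons]
        refine ⟨fun x hx => ?_, ih hl.2 ha.2⟩
        rcases List.mem_cons.mp ((insNat_perm a t).mem_iff.mp hx) with rfl | hx
        · exact hba
        · exact hl.1 x hx
      · have hab : a < b := lt_of_le_of_ne (Nat.le_of_ble_eq_true h) ha.1
        rw [cond_true, List.pairwise_cons]
        refine ⟨fun x hx => ?_, List.pairwise_cons.mpr hl⟩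
        rcases List.mem_cons.mp hx with rfl | hx
        · exact hab
        · exact hab.trans (hl.1 x hx)

theorem sortNat_sorted (l : List ℕ) (h : l.Nodup) : (sortNat l).Pairwise (· < ·) := by
  induction l with
  | nil => exact List.Pairwise.nil
  | cons a t ih =>
      rw [List.nodup_cons] at h
      exact insNat_sorted a _ (ih h.2) (fun hm => h.1 ((sortNat_perm t).mem_iff.mp hm))

/-- Pack masks, 24 bits each. -/
noncomputable def packMasks (l : List ℕ) : ℕ :=
  List.rec (motive := fun _ => ℕ) 0 (fun a _ r => Nat.add a (Nat.shiftLeft r 24)) l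

/-- The `k` masks of a packed code. -/
noncomputable def masksOf (k : ℕ) : ℕ → List ℕ :=
  Nat.rec (motive := fun _ => ℕ → List ℕ) (fun _ => [])
    (fun _ r c => Nat.mod c 16777216 :: r (Nat.shiftRight c 24)) k

theorem masksOf_packMasks (l : List ℕ) (h : ∀ a ∈ l, a < 2 ^ 24) :
    masksOf l.length (packMasks l) = l := by
  induction l with
  | nil => rfl
  | cons a t ih =>
      have ha : a < 16777216 := h a (by simp)
      have e : packMasks (a :: t) = a + packMasks t * 16777216 := by
        rw [show (16777216 : ℕ) = 2 ^ 24 from rfl, ← Nat.shiftLeft_eq]; rfl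
      change (packMasks (a :: t) % 16777216) :: masksOf t.length (packMasks (a :: t) >>> 24) = _
      rw [e, Nat.shiftRight_eq_div_pow, show (2 : ℕ) ^ 24 = 16777216 from rfl,
        Nat.add_mul_mod_self_right, Nat.mod_eq_of_lt ha, Nat.add_mul_div_right _ _ (by norm_num),
        Nat.div_eq_of_lt ha, Nat.zero_add, ih fun b hb => h b (by simp [hb])]

/-- A code of a sorted family of `k` masks. -/
def GoodFam (k c : ℕ) : Prop :=
  ∃ l : List ℕ, l.length = k ∧ (∀ a ∈ l, a < 2 ^ 24) ∧ l.Pairwise (· < ·) ∧ c = packMasks l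

/-- The family with a given code. -/
noncomputable def decFam (k c : ℕ) : Finset (Finset GolayPt) :=
  ((masksOf k c).map suppM).toFinset

theorem mem_decFam {k c : ℕ} {s : Finset GolayPt} :
    s ∈ decFam k c ↔ ∃ a ∈ masksOf k c, suppM a = s := by
  simp [decFam]

/-- Boolean test of a good family code. -/
noncomputable def goodFamB (k c : ℕ) : Bool :=
  Nat.beq (packMasks (masksOf k c)) c && (masksOf k c).all (fun a => Nat.blt a (2 ^ 24)) &&
    incB ((masksOf k c).map fun a => (a, 0))

theorem length_masksOf (k c : ℕ) : (masksOf k c).length = k := by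
  induction k generalizing c with
  | zero => rfl
  | succ k ih => change (_ :: masksOf k _).length = _; simp [ih]

theorem pairwise_of_incB {l : List (ℕ × ℕ)} (h : incB l = true) :
    (l.map Prod.fst).Pairwise (· < ·) := by
  suffices ∀ b, (List.rec (motive := fun _ => ℕ → Bool) (fun _ => true)
      (fun a _ rec b => Nat.ble b a.1 && rec (Nat.succ a.1)) l b) = true →
      (l.map Prod.fst).Pairwise (· < ·) ∧ ∀ x ∈ l.map Prod.fst, b ≤ x from (this 0 h).1
  clear h
  induction l with
  | nil => intro b _; simp
  | cons a l ih =>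
      intro b h
      have h' : (Nat.ble b a.1 && (List.rec (motive := fun _ => ℕ → Bool) (fun _ => true)
          (fun a _ rec b => Nat.ble b a.1 && rec (Nat.succ a.1)) l (Nat.succ a.1))) = true := h
      rw [Bool.and_eq_true, Nat.ble_eq] at h'
      obtain ⟨hp, hle⟩ := ih _ h'.2
      refine ⟨?_, ?_⟩
      · rw [List.map_cons, List.pairwise_cons]
        exact ⟨fun x hx => by have := hle x hx; omega, hp⟩
      · intro x hx
        rw [List.map_cons, List.mem_cons] at hx
        rcases hx with rfl | hx
        · exact h'.1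
        · have := hle x hx; omega

theorem goodFam_of_check {k c : ℕ} (h : goodFamB k c = true) : GoodFam k c := by
  simp only [goodFamB, Bool.and_eq_true, Nat.beq_eq, List.all_eq_true, Nat.blt_eq] at h
  obtain ⟨⟨h1, h2⟩, h3⟩ := h
  refine ⟨masksOf k c, length_masksOf k c, h2, ?_, h1.symm⟩
  have := pairwise_of_incB h3
  simpa [List.map_map, Function.comp_def] using this

/-- Image of a family code. -/
noncomputable def imgFam (k g c : ℕ) : ℕ := packMasks (sortNat ((masksOf k c).map (imgMask g)))

theorem imgFam_spec {k g c : ℕ} (hg : rep24.Ok g) (hc : GoodFam k c) :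
    GoodFam k (imgFam k g c) ∧ rep24.den g • decFam k c = decFam k (imgFam k g c) := by
  obtain ⟨l, hl, hlt, hp, rfl⟩ := hc
  subst hl
  have hm : masksOf l.length (packMasks l) = l := masksOf_packMasks l hlt
  have hnd : (l.map (imgMask g)).Nodup := by
    refine (List.nodup_map_iff_inj_on (hp.imp fun h => Nat.ne_of_lt h)).mpr ?_
    exact fun a ha b hb h => imgMask_injOn hg (hlt a ha) (hlt b hb) h
  set l' := sortNat (l.map (imgMask g)) with hl'
  have hlen : l'.length = l.length := by rw [hl', (sortNat_perm _).length_eq, List.length_map]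
  have hlt' : ∀ a ∈ l', a < 2 ^ 24 := by
    intro a ha
    obtain ⟨b, -, rfl⟩ := List.mem_map.mp ((sortNat_perm _).mem_iff.mp ha)
    exact imgMask_lt hg
  have e : imgFam l.length g (packMasks l) = packMasks l' := by rw [imgFam, hm]
  refine ⟨⟨l', hlen, hlt', sortNat_sorted _ hnd, e⟩, ?_⟩
  have hm' : masksOf l.length (packMasks l') = l' := hlen ▸ masksOf_packMasks l' hlt'
  ext s
  rw [mem_decFam, e, hm', Finset.mem_smul_finset]
  constructor
  · rintro ⟨t, ht, rfl⟩
    obtain ⟨a, ha, rfl⟩ := mem_decFam.mp ht
    rw [hm] at ha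
    exact ⟨imgMask g a, (sortNat_perm _).mem_iff.mpr (List.mem_map_of_mem ha), (smul_suppM hg).symm⟩
  · rintro ⟨a, ha, rfl⟩
    obtain ⟨b, hb, rfl⟩ := List.mem_map.mp ((sortNat_perm _).mem_iff.mp ha)
    exact ⟨suppM b, mem_decFam.mpr ⟨b, hm.symm ▸ hb, rfl⟩, smul_suppM hg⟩

theorem decFam_inj {k a b : ℕ} (ha : GoodFam k a) (hb : GoodFam k b)
    (h : decFam k a = decFam k b) : a = b := by
  obtain ⟨l, hl, hlt, hp, rfl⟩ := ha
  obtain ⟨m, hm, hmt, hq, rfl⟩ := hb
  subst hl
  have h1 : masksOf l.length (packMasks l) = l := masksOf_packMasks l hlt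
  have h2 : masksOf l.length (packMasks m) = m := hm ▸ masksOf_packMasks m hmt
  have hmem : ∀ x, x ∈ l ↔ x ∈ m := by
    intro x
    constructor <;> intro hx
    · have hs : suppM x ∈ decFam l.length (packMasks l) := mem_decFam.mpr ⟨x, h1.symm ▸ hx, rfl⟩
      rw [h] at hs
      obtain ⟨y, hy, hyx⟩ := mem_decFam.mp hs
      rw [h2] at hy
      rwa [(suppM_eq_iff (hlt x hx) (hmt y hy)).mp hyx.symm]
    · have hs : suppM x ∈ decFam l.length (packMasks m) := mem_decFam.mpr ⟨x, h2.symm ▸ hx, rfl⟩
      rw [← h] at hs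
      obtain ⟨y, hy, hyx⟩ := mem_decFam.mp hs
      rw [h1] at hy
      rwa [(suppM_eq_iff (hmt x hx) (hlt y hy)).mp hyx.symm]
  have hperm : l.Perm m := (List.perm_ext_iff_of_nodup (hp.imp fun h => Nat.ne_of_lt h)
    (hq.imp fun h => Nat.ne_of_lt h)).mpr hmem
  rw [hperm.eq_of_pairwise (fun x y _ _ h1 h2 => absurd (h1.trans h2) (lt_irrefl x)) hp hq]

/-- Sorted families of `k` point sets. -/
noncomputable def famObj (k : ℕ) : Obj rep24 (Finset (Finset GolayPt)) where
  act := imgFam k
  Good := GoodFam k
  dec := decFam k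
  act_good _ _ hg ha := (imgFam_spec hg ha).1
  act_dec _ _ hg ha := (imgFam_spec hg ha).2
  dec_inj _ _ := decFam_inj

end Cfsg.Agent.Compute
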