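/-
Numerical invariants of coded objects.
-/
import Cfsg.Agent.Compute.Objects
import Cfsg.Agent.Compute.CfgOctData

set_option autoImplicit false

namespace Cfsg.Agent.Compute

open Cfsg

/-- The number of common points of two masks. -/
noncomputable def interN (r c : ℕ) : ℕ := popBits 24 (Nat.land r c)

/-- `w` if bit `i` is set. -/
noncomputable def bitN (c i w : ℕ) : ℕ := cond (Nat.testBit c i) w 0

/-- `w` if the mask lies in an octad. -/
noncomputable def extN (m w : ℕ) : ℕ :=
  cond (cfgOctTree.codes.any fun o => Nat.beq (Nat.land o m) m) w 0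

/-- The number of masks of a packed family of six meeting a mask. -/
noncomputable def meetN (r c : ℕ) : ℕ :=
  List.rec (motive := fun _ => ℕ) 0
    (fun m _ k => cond (Nat.beq (Nat.land r m) 0) k (Nat.succ k)) (masksOf 6 c)

end Cfsg.Agent.Compute
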