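/-
Moving orbit statements to standard representatives; maximal stabilisers from suborbit lengths.
-/
import Cfsg.Agent.Compute.Orbit

set_option autoImplicit false

namespace Cfsg.Agent.Compute

open scoped Pointwise

variable {G : Type*} [Group G]

theorem mem_orbit_subgroup {β : Type*} [MulAction G β] {H : Subgroup G} {x y : β} :
    y ∈ MulAction.orbit H x ↔ ∃ g ∈ H, g • x = y :=
  ⟨fun ⟨g, h⟩ => ⟨g, g.2, h⟩, fun ⟨g, hg, h⟩ => ⟨⟨g, hg⟩, h⟩⟩

/-- Orbits of a stabiliser inside `H` are translates of orbits of the standard stabiliser. -/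
theorem orbit_stabilizer_conj {β γ : Type*} [MulAction G β] [MulAction G γ] {H : Subgroup G}
    {g : G} (hg : g ∈ H) {x x₀ : β} (hx : g • x = x₀) (X : γ) :
    MulAction.orbit ↥(MulAction.stabilizer H x) X =
      g⁻¹ • MulAction.orbit ↥(H ⊓ MulAction.stabilizer G x₀) (g • X) := by
  subst hx
  ext Y
  rw [Set.mem_inv_smul_set_iff, mem_orbit_subgroup (H := H ⊓ MulAction.stabilizer G (g • x)),
    MulAction.mem_orbit_iff]
  constructor
  · rintro ⟨⟨⟨a, ha⟩, hax⟩, rfl⟩
    have hax' : a • x = x := hax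
    refine ⟨g * a * g⁻¹, Subgroup.mem_inf.mpr ⟨mul_mem (mul_mem hg ha) (inv_mem hg), ?_⟩, ?_⟩
    · rw [MulAction.mem_stabilizer_iff, mul_smul, inv_smul_smul, mul_smul, hax']
    · change (g * a * g⁻¹) • g • X = g • a • X
      rw [mul_smul, inv_smul_smul, mul_smul]
  · rintro ⟨b, hb, hbY⟩
    obtain ⟨hb1, hb2⟩ := Subgroup.mem_inf.mp hb
    rw [MulAction.mem_stabilizer_iff] at hb2
    refine ⟨⟨⟨g⁻¹ * b * g, mul_mem (mul_mem (inv_mem hg) hb1) hg⟩, ?_⟩, ?_⟩
    · change (g⁻¹ * b * g) • x = x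
      rw [mul_smul, mul_smul, hb2, inv_smul_smul]
    · change (g⁻¹ * b * g) • X = Y
      rw [mul_smul, mul_smul, hbY, inv_smul_smul]

theorem ncard_orbit_stabilizer_conj {β γ : Type*} [MulAction G β] [MulAction G γ] {H : Subgroup G}
    {g : G} (hg : g ∈ H) {x x₀ : β} (hx : g • x = x₀) (X : γ) :
    (MulAction.orbit ↥(MulAction.stabilizer H x) (g⁻¹ • X)).ncard =
      (MulAction.orbit ↥(H ⊓ MulAction.stabilizer G x₀) X).ncard := by
  rw [orbit_stabilizer_conj hg hx, smul_inv_smul, Set.ncard_smul_set]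

/-- The stabiliser of a point is maximal when no union of suborbits has a size properly
dividing the orbit length. -/
theorem isCoatom_stabilizer_of_suborbits [Finite G] {β : Type*} [MulAction G β] (H : Subgroup G)
    (x : β) {r n : ℕ} (S : Fin (r + 1) → Set β) (size : Fin (r + 1) → ℕ)
    (hn : (MulAction.orbit H x).ncard = n) (hn2 : 1 < n)
    (hS0 : S 0 = {x})
    (hcover : MulAction.orbit H x ⊆ ⋃ i, S i) (hsub : ∀ i, S i ⊆ MulAction.orbit H x)
    (hK : ∀ i, ∃ y, S i = MulAction.orbit ↥(H ⊓ MulAction.stabilizer G x) y)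
    (hsize : ∀ i, (S i).ncard = size i) (hsum : ∑ i, size i = n)
    (hdiv : ∀ T : Finset (Fin (r + 1)), 0 ∈ T → (∑ i ∈ T, size i) ∣ n →
      T = {0} ∨ T = Finset.univ) :
    IsCoatom (MulAction.stabilizer H x) := by
  classical
  have hfin : ∀ i, (S i).Finite := fun i =>
    (Set.finite_range fun h : H => h • x).subset (hsub i)
  refine ⟨fun htop => ?_, fun L hL => ?_⟩
  · have h1 : MulAction.orbit H x = {x} := by
      refine Set.eq_singleton_iff_unique_mem.mpr ⟨MulAction.mem_orbit_self x, ?_⟩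
      rintro _ ⟨h, rfl⟩
      exact (htop.symm ▸ Subgroup.mem_top h : h ∈ MulAction.stabilizer H x)
    rw [h1, Set.ncard_singleton] at hn
    omega
  have hKL : MulAction.stabilizer H x ≤ L := hL.le
  set A : Set β := MulAction.orbit L x with hA
  let T : Finset (Fin (r + 1)) := Finset.univ.filter fun i => (S i ∩ A).Nonempty
  have hinv : ∀ i ∈ T, S i ⊆ A := by
    intro i hi
    obtain ⟨y, hyS, hyA⟩ := (Finset.mem_filter.mp hi).2
    obtain ⟨z, hz⟩ := hK i
    intro w hw
    rw [hz, ← MulAction.orbit_eq_iff.mpr (hz ▸ hyS : y ∈ _)] at hw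
    obtain ⟨k, hk, rfl⟩ := mem_orbit_subgroup.mp hw
    obtain ⟨hk1, hk2⟩ := Subgroup.mem_inf.mp hk
    obtain ⟨l, rfl⟩ := hyA
    exact ⟨⟨⟨k, hk1⟩, hKL (show k • x = x from hk2)⟩ * l, mul_smul _ _ _⟩
  have hAeq : A = ⋃ i ∈ T, S i := by
    apply Set.Subset.antisymm
    · intro y hy
      obtain ⟨l, rfl⟩ := hy
      obtain ⟨i, hi⟩ := Set.mem_iUnion.mp (hcover ⟨(l : H), rfl⟩)
      exact Set.mem_biUnion (Finset.mem_filter.mpr ⟨Finset.mem_univ i, _, hi, ⟨l, rfl⟩⟩) hi
    · exact Set.iUnion₂_subset hinv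
  have hle : ∀ T' : Finset (Fin (r + 1)), (⋃ i ∈ T', S i).ncard ≤ ∑ i ∈ T', size i := fun T' =>
    (Finset.set_ncard_biUnion_le T' S).trans (le_of_eq (Finset.sum_congr rfl fun i _ => hsize i))
  have hcardA : A.ncard = ∑ i ∈ T, size i := by
    refine le_antisymm (hAeq ▸ hle T) ?_
    have h1 : n ≤ A.ncard + ∑ i ∈ Tᶜ, size i := by
      rw [← hn]
      refine (Set.ncard_le_ncard ?_ ((Set.finite_range fun l : L => l • x).union
        ((Tᶜ).finite_toSet.biUnion fun i _ => hfin i))).trans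
        ((Set.ncard_union_le A (⋃ i ∈ Tᶜ, S i)).trans (Nat.add_le_add_left (hle _) _))
      intro y hy
      obtain ⟨i, hi⟩ := Set.mem_iUnion.mp (hcover hy)
      by_cases hiT : i ∈ T
      · exact Or.inl (hinv i hiT hi)
      · exact Or.inr (Set.mem_biUnion (Finset.mem_compl.mpr hiT) hi)
    have h2 : ∑ i ∈ T, size i + ∑ i ∈ Tᶜ, size i = n := by
      rw [Finset.sum_add_sum_compl, hsum]
    omega
  have hLA := Nat.card_congr (MulAction.orbitProdStabilizerEquivGroup L x)
  rw [Nat.card_prod, Nat.card_coe_set_eq, ← hA] at hLA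
  have e : Nat.card (MulAction.stabilizer L x) = Nat.card (MulAction.stabilizer H x) :=
    Nat.card_congr
      { toFun := fun a => ⟨((a : L) : H), a.2⟩
        invFun := fun a => ⟨⟨(a : H), hKL a.2⟩, a.2⟩
        left_inv := fun a => rfl
        right_inv := fun a => rfl }
  have hHn := Nat.card_congr (MulAction.orbitProdStabilizerEquivGroup H x)
  rw [Nat.card_prod, Nat.card_coe_set_eq, hn] at hHn
  have hd : (∑ i ∈ T, size i) ∣ n := by
    rw [← hcardA]
    have := Subgroup.card_subgroup_dvd_card L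
    rw [← hHn, ← hLA, e] at this
    exact Nat.dvd_of_mul_dvd_mul_right Nat.card_pos this
  have h0 : (0 : Fin (r + 1)) ∈ T :=
    Finset.mem_filter.mpr ⟨Finset.mem_univ _, x, hS0 ▸ rfl, MulAction.mem_orbit_self x⟩
  have hle' : Nat.card L = A.ncard * Nat.card (MulAction.stabilizer H x) := by rw [← hLA, e]
  rcases hdiv T h0 hd with hT | hT
  · exfalso
    have hsz : size 0 = 1 := by rw [← hsize, hS0, Set.ncard_singleton]
    rw [hT, Finset.sum_singleton, hsz] at hcardA
    rw [hcardA, one_mul] at hle'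
    exact hL.ne (Subgroup.eq_of_le_of_card_ge hKL hle'.le)
  · refine Subgroup.eq_top_of_card_eq L ?_
    rw [hle', hcardA, hT, hsum, hHn]

end Cfsg.Agent.Compute
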