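/-
Certified stabilisers and suborbits of coded objects.
-/
import Cfsg.Agent.Compute.Orbit
import Cfsg.Agent.Compute.Suborbits

set_option autoImplicit false

namespace Cfsg.Agent.Compute

open scoped Pointwise

variable {G : Type*} [Group G] {Ω : Type*} [MulAction G Ω] {R : Rep G Ω}
variable {β : Type*} [MulAction G β] (O : Obj R β)

/-- Check that `K` is the stabiliser of `x` in the group of the chain `P` generated by `gP`, with
orbit `t`. -/
noncomputable def Obj.stabB (P K : List Level) (gP : List ℕ) (t : OTr) (x N : ℕ) : Bool :=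
  O.orbitB gP t x N && R.checkChain K &&
    (topGens K).all (fun g => R.okb g && Nat.beq (R.sift P g) R.one && Nat.beq (O.act g x) x) &&
    Nat.beq (chainSize P) (Nat.mul N (chainSize K))

variable {O}

theorem Obj.stab_spec [Finite G] {P K : List Level} {gP : List ℕ} {t : OTr} {x N : ℕ}
    (hP : R.checkChain P = true) (hgP : R.span gP = R.chainGroup P)
    (h : O.stabB P K gP t x N = true) (hx : O.Good x) :
    R.checkChain K = true ∧
      R.chainGroup P ⊓ MulAction.stabilizer G (O.dec x) = R.chainGroup K ∧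
      MulAction.orbit (R.chainGroup P) (O.dec x) = O.dec '' {c | c ∈ t.codes} ∧
      (MulAction.orbit (R.chainGroup P) (O.dec x)).ncard = N := by
  simp only [Obj.stabB, Bool.and_eq_true, List.all_eq_true, Nat.beq_eq] at h
  obtain ⟨⟨⟨horb, hK⟩, hgens⟩, hcard⟩ := h
  obtain ⟨-, ho1, ho2⟩ := Obj.orbit_spec horb hx
  rw [hgP] at ho1 ho2
  refine ⟨hK, stabilizer_eq_of_orbit ?_ ho2 ?_, ho1, ho2⟩
  · rw [Rep.chainGroup, Rep.span, Subgroup.closure_le]
    rintro _ ⟨g, hg, rfl⟩
    obtain ⟨⟨hok, hsift⟩, hfix⟩ := hgens g hg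
    refine Subgroup.mem_inf.mpr ⟨R.mem_of_sift P hP (R.okb_sound _ hok) hsift, ?_⟩
    rw [MulAction.mem_stabilizer_iff, O.act_dec g x (R.okb_sound _ hok) hx, hfix]
  · rw [Rep.card_chainGroup P hP, Rep.card_chainGroup K hK]
    exact hcard

variable (O)

/-- A certified suborbit: tree, root, size. -/
structure SubCert where
  tree : OTr
  root : ℕ
  size : ℕ

/-- Check a list of suborbits of the group generated by `gK` covering the listed codes. -/
noncomputable def Obj.partB (gK : List ℕ) (univCodes : List ℕ) (subs : List SubCert) : Bool :=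
  subs.all (fun s => O.orbitB gK s.tree s.root s.size) &&
    univCodes.all (fun c => subs.any (fun s => s.tree.memB c))

variable {O}

theorem Obj.part_spec [Finite G] {K : List Level} {gK univCodes : List ℕ} {subs : List SubCert}
    (hgK : R.span gK = R.chainGroup K) (h : O.partB gK univCodes subs = true) (hgood : ∀ s ∈ subs, O.Good s.root) :
    (∀ s ∈ subs, MulAction.orbit (R.chainGroup K) (O.dec s.root) = O.dec '' {c | c ∈ s.tree.codes} ∧
      (MulAction.orbit (R.chainGroup K) (O.dec s.root)).ncard = s.size) ∧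
    ∀ c ∈ univCodes, ∃ s ∈ subs, c ∈ s.tree.codes ∧
      O.dec c ∈ MulAction.orbit (R.chainGroup K) (O.dec s.root) := by
  simp only [Obj.partB, Bool.and_eq_true, List.all_eq_true, List.any_eq_true] at h
  have h1 : ∀ s ∈ subs, MulAction.orbit (R.chainGroup K) (O.dec s.root) =
      O.dec '' {c | c ∈ s.tree.codes} ∧
      (MulAction.orbit (R.chainGroup K) (O.dec s.root)).ncard = s.size := fun s hs =>
    let ⟨_, a, b⟩ := Obj.orbit_spec (h.1 s hs) (hgood s hs)
    by rw [← hgK]; exact ⟨a, b⟩
  refine ⟨h1, fun c hc => ?_⟩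
  obtain ⟨s, hs, hm⟩ := h.2 c hc
  exact ⟨s, hs, OTr.mem_codes_of_memB hm,
    by rw [(h1 s hs).1]; exact ⟨c, OTr.mem_codes_of_memB hm, rfl⟩⟩

/-- Check that `gens` generates the group of the chain `K`. -/
noncomputable def Rep.genB (R : Rep G Ω) (K : List Level) (gens : List ℕ)
    (steps : List (ℕ × ℕ × ℕ × Bool)) : Bool :=
  (topGens K).all R.okb && gens.all (fun g => R.okb g && Nat.beq (R.sift K g) R.one) &&
    R.slpCheck (steps.map fun x => ⟨x.1, x.2.1, x.2.2.1, x.2.2.2⟩) (R.one :: gens) (topGens K)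

theorem Rep.span_of_genB {K : List Level} {gens : List ℕ} {steps : List (ℕ × ℕ × ℕ × Bool)}
    (hK : R.checkChain K = true) (h : R.genB K gens steps = true) :
    R.span gens = R.chainGroup K := by
  simp only [Rep.genB, Bool.and_eq_true, List.all_eq_true, Nat.beq_eq] at h
  obtain ⟨⟨-, hg⟩, hs⟩ := h
  apply le_antisymm
  · rw [Rep.span, Subgroup.closure_le]
    rintro _ ⟨g, hgm, rfl⟩
    exact R.mem_of_sift K hK (R.okb_sound _ (hg g hgm).1) (hg g hgm).2
  · rw [Rep.chainGroup, Rep.span, Subgroup.closure_le]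
    rintro _ ⟨t, ht, rfl⟩
    refine (R.slp_sound _ _ _ _ ?_ hs t ht).2
    intro c hc
    rcases List.mem_cons.mp hc with rfl | hc
    · exact ⟨R.ok_one, by rw [R.den_one]; exact one_mem _⟩
    · exact ⟨R.okb_sound _ (hg c hc).1, R.den_mem_span hc⟩

end Cfsg.Agent.Compute
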