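/-
Suborbits separated by an invariant.
-/
import Cfsg.Agent.Compute.Config

set_option autoImplicit false

namespace Cfsg.Agent.Compute

open scoped Pointwise

variable {G : Type*} [Group G] {Ω : Type*} [MulAction G Ω] {R : Rep G Ω}
variable {β : Type*} [MulAction G β]

/-- No value occurs twice. -/
noncomputable def distinctB (l : List ℕ) : Bool :=
  List.rec (motive := fun _ => Bool) true (fun a t r => !(memB a t) && r) l

theorem nodup_of_distinctB {l : List ℕ} (h : distinctB l = true) : l.Nodup := by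
  induction l with
  | nil => exact List.nodup_nil
  | cons a t ih =>
      replace h : (!(memB a t) && distinctB t) = true := h
      rw [Bool.and_eq_true, Bool.not_eq_true', Bool.eq_false_iff, Ne, memB_eq_true] at h
      exact List.nodup_cons.mpr ⟨h.1, ih h.2⟩

/-- Check that `lab` is constant on each suborbit, inside `U`, and separates the suborbits. -/
noncomputable def labB (U : OTr) (lab : ℕ → ℕ) (subs : List SubCert) : Bool :=
  subs.all (fun s => s.tree.codes.all (fun c => U.memB c && Nat.beq (lab c) (lab s.root))) &&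
    distinctB (subs.map fun s => lab s.root)

variable {O : Obj R β}

theorem Obj.stab_good [Finite G] {P K : List Level} {gP : List ℕ} {t : OTr} {x N : ℕ}
    (h : O.stabB P K gP t x N = true) (hx : O.Good x) : ∀ c ∈ t.codes, O.Good c := by
  simp only [Obj.stabB, Bool.and_eq_true] at h
  exact (Obj.orbit_spec h.1.1.1 hx).1

theorem OTr.root_mem {gens : List ℕ} {t : OTr} {root N : ℕ}
    (h : O.orbitB gens t root N = true) : root ∈ t.codes := by
  simp only [Obj.orbitB, Bool.and_eq_true] at h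
  exact OTr.mem_codes_of_memB h.1.2

/-- Equal invariants give the same suborbit; the suborbit sizes count the invariant. -/
theorem Obj.lab_spec [Finite G] {K : List Level} {gK : List ℕ} {U : OTr} {subs : List SubCert}
    {lab : ℕ → ℕ} (L : β → ℕ) (hgK : R.span gK = R.chainGroup K)
    (hpart : O.partB gK U.codes subs = true) (hlab : labB U lab subs = true)
    (hgood : ∀ c ∈ U.codes, O.Good c) (hL : ∀ c, O.Good c → L (O.dec c) = lab c) :
    (∀ X ∈ O.dec '' {c | c ∈ U.codes}, ∀ Y ∈ O.dec '' {c | c ∈ U.codes}, L X = L Y →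
      ∃ h ∈ R.chainGroup K, h • X = Y) ∧
    ∀ s ∈ subs, {X | X ∈ O.dec '' {c | c ∈ U.codes} ∧ L X = lab s.root}.ncard = s.size := by
  simp only [labB, Bool.and_eq_true, List.all_eq_true, Nat.beq_eq] at hlab
  obtain ⟨hin, hnd⟩ := hlab
  have hroot : ∀ s ∈ subs, s.root ∈ s.tree.codes := by
    intro s hs
    simp only [Obj.partB, Bool.and_eq_true, List.all_eq_true] at hpart
    exact OTr.root_mem (hpart.1 s hs)
  have hU : ∀ s ∈ subs, ∀ c ∈ s.tree.codes, c ∈ U.codes :=
    fun s hs c hc => OTr.mem_codes_of_memB (hin s hs c hc).1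
  obtain ⟨h1, h2⟩ := Obj.part_spec hgK hpart fun s hs => hgood _ (hU s hs _ (hroot s hs))
  have inj : ∀ s ∈ subs, ∀ s' ∈ subs, lab s.root = lab s'.root → s = s' := fun s hs s' hs' he =>
    List.inj_on_of_nodup_map (nodup_of_distinctB hnd) hs hs' he
  refine ⟨?_, ?_⟩
  · rintro _ ⟨a, ha, rfl⟩ _ ⟨b, hb, rfl⟩ hab
    obtain ⟨s, hs, hsa, horb⟩ := h2 a ha
    obtain ⟨s', hs', hsb, horb'⟩ := h2 b hb
    rw [hL a (hgood a ha), hL b (hgood b hb), (hin s hs a hsa).2, (hin s' hs' b hsb).2] at hab
    obtain rfl := inj s hs s' hs' hab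
    obtain ⟨u, hu, hua⟩ := mem_orbit_subgroup.mp horb
    obtain ⟨v, hv, hvb⟩ := mem_orbit_subgroup.mp horb'
    exact ⟨v * u⁻¹, mul_mem hv (inv_mem hu), by rw [mul_smul, ← hua, inv_smul_smul, hvb]⟩
  · intro s hs
    rw [← (h1 s hs).2, (h1 s hs).1]
    congr 1
    ext X
    constructor
    · rintro ⟨⟨a, ha, rfl⟩, hX⟩
      obtain ⟨s', hs', hsa, -⟩ := h2 a ha
      rw [hL a (hgood a ha), (hin s' hs' a hsa).2] at hX
      obtain rfl := inj s' hs' s hs hX
      exact ⟨a, hsa, rfl⟩
    · rintro ⟨a, ha, rfl⟩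
      exact ⟨⟨a, hU s hs a ha, rfl⟩, by rw [hL a (hgood a (hU s hs a ha)), (hin s hs a ha).2]⟩

/-- Transfer of a count along a group element. -/
theorem ncard_setOf_smul {γ : Type*} [MulAction G γ] (g : G) {P Q : γ → Prop}
    (h : ∀ X, Q (g • X) ↔ P X) : {X | P X}.ncard = {X | Q X}.ncard := by
  rw [← Set.ncard_smul_set g {X | P X}]
  congr 1
  ext Y
  rw [Set.mem_smul_set_iff_inv_smul_mem, Set.mem_ofPred_eq, Set.mem_ofPred_eq, ← h, smul_inv_smul]

theorem card_stab_mul [Finite G] {H : Subgroup G} {x : β} :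
    Nat.card H = (MulAction.orbit H x).ncard * Nat.card ↥(H ⊓ MulAction.stabilizer G x) := by
  have h := Nat.card_congr (MulAction.orbitProdStabilizerEquivGroup H x)
  rw [Nat.card_prod, Nat.card_coe_set_eq] at h
  rw [← h]
  congr 1
  exact Nat.card_congr
    { toFun := fun a => ⟨(a : H), Subgroup.mem_inf.mpr ⟨(a : H).2, a.2⟩⟩
      invFun := fun a => ⟨⟨(a : G), (Subgroup.mem_inf.mp a.2).1⟩, (Subgroup.mem_inf.mp a.2).2⟩
      left_inv := fun a => rfl
      right_inv := fun a => rfl }

end Cfsg.Agent.Compute
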