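/-
Kernel checks of a separated partition.
-/
import Cfsg.Agent.Compute.CfgOctInData
import Cfsg.Agent.Compute.CfgOctData
import Cfsg.Agent.Compute.LabelDefs
import Cfsg.Agent.Compute.Labels
import Cfsg.Agent.Compute.Objects

set_option autoImplicit false

namespace Cfsg.Agent.Compute

open Cfsg
open scoped Pointwise

/-- The invariant separating the suborbits. -/
noncomputable def cfgOctInOctLab (c : ℕ) : ℕ := Nat.add (interN cfgOctRoot c) (bitN c 23 16)

theorem cfgOctIn_labOct : labB cfgOctTree cfgOctInOctLab cfgOctInOctSubs = true := by
  decide +kernel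

theorem cfgOctIn_partOct : maskObj.partB cfgOctInGens cfgOctTree.codes cfgOctInOctSubs = true := by
  decide +kernel

end Cfsg.Agent.Compute
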