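/-
Kernel checks of a separated partition.
-/
import Cfsg.Agent.Compute.CfgPQPairData
import Cfsg.Agent.Compute.CfgPairData
import Cfsg.Agent.Compute.LabelDefs
import Cfsg.Agent.Compute.Labels
import Cfsg.Agent.Compute.Objects

set_option autoImplicit false

namespace Cfsg.Agent.Compute

open Cfsg
open scoped Pointwise

/-- The invariant separating the suborbits. -/
noncomputable def cfgPQPairPairLab (c : ℕ) : ℕ := Nat.add (Nat.add (interN cfgPQPairRoot c) (extN (Nat.lor (Nat.lor cfgPQPairRoot 0x800001) c) 16)) (Nat.add (bitN c 23 4) (bitN c 0 8))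

theorem cfgPQPair_labPair : labB cfgPairTree cfgPQPairPairLab cfgPQPairPairSubs = true := by
  decide +kernel

theorem cfgPQPair_partPair : maskObj.partB cfgPQPairGens cfgPairTree.codes cfgPQPairPairSubs = true := by
  decide +kernel

end Cfsg.Agent.Compute
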