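/-
Kernel checks of a stabiliser configuration.
-/
import Cfsg.Agent.Compute.CfgOctInData
import Cfsg.Agent.Compute.Config
import Cfsg.Agent.Compute.Objects
import Cfsg.Agent.Compute.CfgOctData

set_option autoImplicit false

namespace Cfsg.Agent.Compute

open Cfsg
open scoped Pointwise

theorem cfgOctIn_stab : ptObj.stabB cfgOctChain cfgOctInChain cfgOctGens cfgOctInTree cfgOctInRoot 8 = true := by
  decide +kernel

theorem cfgOctIn_genCheck : rep24.genB cfgOctInChain cfgOctInGens cfgOctInSlp = true := by
  decide +kernel

end Cfsg.Agent.Compute
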