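/-
Kernel checks of a stabiliser configuration.
-/
import Cfsg.Agent.Compute.CfgPQPairData
import Cfsg.Agent.Compute.Config
import Cfsg.Agent.Compute.Objects
import Cfsg.Agent.Compute.CfgPQData

set_option autoImplicit false

namespace Cfsg.Agent.Compute

open Cfsg
open scoped Pointwise

theorem cfgPQPair_stab : maskObj.stabB cfgPQChain cfgPQPairChain cfgPQGens cfgPQPairTree cfgPQPairRoot 231 = true := by
  decide +kernel

theorem cfgPQPair_genCheck : rep24.genB cfgPQPairChain cfgPQPairGens cfgPQPairSlp = true := by
  decide +kernel

end Cfsg.Agent.Compute
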