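/-
Kernel checks of the configuration certificates.
-/
import Cfsg.Agent.Compute.CfgOctData
import Cfsg.Agent.Compute.CfgSextData
import Cfsg.Agent.Compute.Config
import Cfsg.Agent.Compute.M24Data
import Cfsg.Agent.Compute.Objects

set_option autoImplicit false

namespace Cfsg.Agent.Compute

open Cfsg
open scoped Pointwise

theorem cfgSext_partOct : maskObj.partB cfgSextGens cfgOctTree.codes cfgSextOctSubs = true := by
  decide +kernel

theorem cfgSext_goodOct : cfgSextOctSubs.all (fun s => Nat.blt s.root (Nat.shiftLeft 1 24)) = true := by
  decide +kernel

end Cfsg.Agent.Compute
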