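/-
Kernel checks of the configuration certificates.
-/
import Cfsg.Agent.Compute.CfgOctData
import Cfsg.Agent.Compute.CfgTrioData
import Cfsg.Agent.Compute.Config
import Cfsg.Agent.Compute.M24Data
import Cfsg.Agent.Compute.Objects

set_option autoImplicit false

namespace Cfsg.Agent.Compute

open Cfsg
open scoped Pointwise

theorem cfgTrio_partOct : maskObj.partB cfgTrioGens cfgOctTree.codes cfgTrioOctSubs = true := by
  decide +kernel

theorem cfgTrio_goodOct : cfgTrioOctSubs.all (fun s => Nat.blt s.root (Nat.shiftLeft 1 24)) = true := by
  decide +kernel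

end Cfsg.Agent.Compute
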