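/-
Kernel checks of the configuration certificates.
-/
import Cfsg.Agent.Compute.CfgSextData
import Cfsg.Agent.Compute.Config
import Cfsg.Agent.Compute.M24Data
import Cfsg.Agent.Compute.Objects

set_option autoImplicit false

namespace Cfsg.Agent.Compute

open Cfsg
open scoped Pointwise

theorem cfgSext_stab : (famObj 6).stabB m24aChain cfgSextChain m24Gens cfgSextTree cfgSextRoot 1771 = true := by
  decide +kernel

theorem cfgSext_good : goodFamB 6 cfgSextRoot = true := by
  decide +kernel

theorem cfgSext_genCheck : rep24.genB cfgSextChain cfgSextGens cfgSextSlp = true := by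
  decide +kernel

end Cfsg.Agent.Compute
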