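/-
Transitivity on tuples and simplicity criteria for doubly transitive permutation groups.
-/
import Mathlib

set_option autoImplicit false

namespace Cfsg.Agent.Compute

open scoped Pointwise

variable {α : Type*}

/-- Every repetition-free list in `S` of the length of `b` is the image of `b` under `H`. -/
def TupleTrans (H : Subgroup (Equiv.Perm α)) (S : Set α) (b : List α) : Prop :=
  ∀ x : List α, x.Nodup → (∀ p ∈ x, p ∈ S) → x.length = b.length → ∃ g ∈ H, b.map g = x

theorem tupleTrans_nil (H : Subgroup (Equiv.Perm α)) (S : Set α) : TupleTrans H S [] :=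
  fun x _ _ h => ⟨1, one_mem _, by simp at h; simp [h]⟩

theorem tupleTrans_cons {H K : Subgroup (Equiv.Perm α)} {S : Set α} {b : α} {bs : List α}
    (hK : K ≤ H) (hfix : ∀ g ∈ K, g b = b) (hinv : ∀ g ∈ H, ∀ p, g p ∈ S ↔ p ∈ S)
    (horb : ∀ p ∈ S, ∃ g ∈ H, g b = p) (hrest : TupleTrans K (S \ {b}) bs) :
    TupleTrans H S (b :: bs) := by
  intro x hnd hS hlen
  match x, hlen with
  | [], h => simp at h
  | p :: xs, h =>
    obtain ⟨g, hg, hgb⟩ := horb p (hS p (by simp))
    have hnd' : (xs.map g.symm).Nodup := (List.nodup_cons.mp hnd).2.map g.symm.injective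
    have hS' : ∀ q ∈ xs.map g.symm, q ∈ S \ {b} := by
      intro q hq
      obtain ⟨r, hr, rfl⟩ := List.mem_map.mp hq
      refine ⟨?_, ?_⟩
      · rw [← hinv g hg, Equiv.apply_symm_apply]; exact hS r (by simp [hr])
      · intro he
        rw [Set.mem_singleton_iff, Equiv.symm_apply_eq, hgb] at he
        exact (List.nodup_cons.mp hnd).1 (he ▸ hr)
    obtain ⟨k, hk, hkx⟩ := hrest (xs.map g.symm) hnd' hS' (by simpa using h)
    refine ⟨g * k, mul_mem hg (hK hk), ?_⟩
    rw [List.map_cons, Equiv.Perm.mul_apply, hfix k hk, hgb, Equiv.Perm.coe_mul, ← List.map_map,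
      hkx, List.map_map, Equiv.self_comp_symm, List.map_id]

theorem TupleTrans.mono {H K : Subgroup (Equiv.Perm α)} {S : Set α} {b : List α}
    (h : TupleTrans H S b) (hle : H ≤ K) : TupleTrans K S b :=
  fun x h1 h2 h3 => let ⟨g, hg, hgx⟩ := h x h1 h2 h3; ⟨g, hle hg, hgx⟩

theorem TupleTrans.conj {H : Subgroup (Equiv.Perm α)} {S : Set α} {b : List α}
    (h : TupleTrans H S b) {x y : List α} (hx : x.Nodup) (hy : y.Nodup)
    (hxS : ∀ p ∈ x, p ∈ S) (hyS : ∀ p ∈ y, p ∈ S) (hxl : x.length = b.length)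
    (hyl : y.length = b.length) : ∃ g ∈ H, x.map g = y := by
  obtain ⟨g, hg, rfl⟩ := h x hx hxS hxl
  obtain ⟨k, hk, rfl⟩ := h y hy hyS hyl
  refine ⟨k * g⁻¹, mul_mem hk (inv_mem hg), ?_⟩
  simp [List.map_map, Function.comp_def]

theorem isMultiplyPretransitive_of_tupleTrans {H : Subgroup (Equiv.Perm α)} {b : List α}
    (h : TupleTrans H Set.univ b) : MulAction.IsMultiplyPretransitive H α b.length := by
  constructor
  intro x y
  obtain ⟨g, hg, hgx⟩ := h.conj (x := List.ofFn x) (y := List.ofFn y)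
    (List.nodup_ofFn.mpr x.injective) (List.nodup_ofFn.mpr y.injective) (by simp) (by simp)
    (by simp) (by simp)
  refine ⟨⟨g, hg⟩, ?_⟩
  ext i
  have := congrArg (fun l => l[(i : ℕ)]?) hgx
  simp only [List.getElem?_map, List.getElem?_ofFn, i.2, dite_true, Option.map_some,
    Option.some.injEq] at this
  exact this

/-- A nontrivial normal subgroup of a doubly transitive group is transitive. -/
theorem exists_mem_normal_apply {H : Subgroup (Equiv.Perm α)} {S : Set α} {a b : α}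
    (ha : a ∈ S) (h2 : TupleTrans H S [a, b])
    (hinv : ∀ g ∈ H, ∀ p, g p ∈ S ↔ p ∈ S)
    (hfaith : ∀ g ∈ H, (∀ p ∈ S, g p = p) → g = 1)
    {N : Subgroup H} [N.Normal] (hN : N ≠ ⊥) {q : α} (hq : q ∈ S) :
    ∃ n ∈ N, (n : Equiv.Perm α) a = q := by
  by_cases hqa : q = a
  · exact ⟨1, one_mem _, by simp [hqa]⟩
  obtain ⟨⟨n, hn⟩, hn1'⟩ := Subgroup.ne_bot_iff_exists_ne_one.mp hN
  have hn1 : n ≠ 1 := fun e => hn1' (Subtype.ext e)
  obtain ⟨c, hc, hmove⟩ : ∃ c ∈ S, ((n : H) : Equiv.Perm α) c ≠ c := by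
    by_contra hno
    push Not at hno
    exact hn1 (Subtype.ext (hfaith _ (n : H).2 hno))
  obtain ⟨g, hg, hgx⟩ := h2.conj (x := [c, ((n : H) : Equiv.Perm α) c]) (y := [a, q])
    (by simp [Ne.symm hmove]) (by simp [Ne.symm hqa])
    (by simp [hc, (hinv _ (n : H).2 c).mpr hc]) (by simp [ha, hq]) rfl rfl
  simp only [List.map_cons, List.map_nil, List.cons.injEq, and_true] at hgx
  refine ⟨⟨g, hg⟩ * (n : H) * ⟨g, hg⟩⁻¹, Subgroup.Normal.conj_mem inferInstance _ hn _, ?_⟩
  simp [← hgx.1, ← hgx.2]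

/-- A doubly transitive group of degree divisible by a prime `p`, with Sylow `p`-subgroups of
order `p` and generated by the conjugates of one element of order `p`, is simple. -/
theorem isSimpleGroup_of_two_trans_prime [Finite α] {H : Subgroup (Equiv.Perm α)} {S : Set α}
    {a b : α} (ha : a ∈ S) (h2 : TupleTrans H S [a, b])
    (hinv : ∀ g ∈ H, ∀ p, g p ∈ S ↔ p ∈ S)
    (hfaith : ∀ g ∈ H, (∀ p ∈ S, g p = p) → g = 1)
    {p : ℕ} (hp : p.Prime) (hdvd : p ∣ S.ncard) (hsq : ¬ p * p ∣ Nat.card H)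
    {x : H} (hx : orderOf x = p) (hgen : Subgroup.normalClosure ({x} : Set H) = ⊤) :
    IsSimpleGroup H := by
  have := Fact.mk hp
  have hne : Nontrivial H := ⟨⟨x, 1, fun h => hp.one_lt.ne (by rw [← hx, h, orderOf_one])⟩⟩
  refine { exists_pair_ne := hne.exists_pair_ne, eq_bot_or_eq_top_of_normal := fun N hN => ?_ }
  by_cases hN1 : N = ⊥
  · exact Or.inl hN1
  refine Or.inr (eq_top_iff.mpr ?_)
  rw [← hgen]
  refine Subgroup.normalClosure_le_normal ?_
  rw [Set.singleton_subset_iff]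
  have horb : MulAction.orbit N a = S := by
    ext q
    constructor
    · rintro ⟨n, rfl⟩
      exact (hinv _ (n : H).2 a).mpr ha
    · intro hq
      obtain ⟨n, hn, hna⟩ := exists_mem_normal_apply ha h2 hinv hfaith hN1 hq
      exact ⟨⟨n, hn⟩, hna⟩
  have hpN : p ∣ Nat.card N := by
    refine hdvd.trans ?_
    rw [← horb]
    exact ⟨_, by
      rw [← Nat.card_congr (MulAction.orbitProdStabilizerEquivGroup N a), Nat.card_prod,
        Nat.card_coe_set_eq]⟩
  obtain ⟨y, hy⟩ := exists_prime_orderOf_dvd_card' p hpN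
  have hy' : orderOf (y : H) = p := by rw [Subgroup.orderOf_coe, hy]
  have hcard : ∀ z : H, orderOf z = p → ∃ P : Sylow p H, (P : Subgroup H) = Subgroup.zpowers z := by
    intro z hz
    have hfac : (Nat.card H).factorization p = 1 := by
      have h1 : p ∣ Nat.card H := hz ▸ orderOf_dvd_natCard z
      have hge := hp.factorization_pos_of_dvd Nat.card_pos.ne' h1
      by_contra hne1
      exact hsq (pow_two p ▸ (hp.pow_dvd_iff_le_factorization Nat.card_pos.ne').mpr (by omega))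
    exact ⟨Sylow.ofCard (Subgroup.zpowers z) (by rw [Nat.card_zpowers, hz, hfac, pow_one]), rfl⟩
  obtain ⟨P, hP⟩ := hcard _ hy'
  obtain ⟨Q, hQ⟩ := hcard _ hx
  obtain ⟨g, rfl⟩ := MulAction.exists_smul_eq H P Q
  have hxmem : x ∈ ((g • P : Sylow p H) : Subgroup H) := hQ ▸ Subgroup.mem_zpowers x
  rw [Sylow.coe_subgroup_smul, hP] at hxmem
  have hle : Subgroup.zpowers (y : H) ≤ N := Subgroup.zpowers_le.mpr y.2
  rw [Subgroup.mem_pointwise_smul_iff_inv_smul_mem] at hxmem
  have hconj := hN.conj_mem _ (hle hxmem) g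
  simpa [mul_assoc] using hconj

/-- A doubly transitive group with simple point stabiliser whose degree is not a prime power is
simple. -/
theorem isSimpleGroup_of_two_trans_stabilizer [Finite α] {H : Subgroup (Equiv.Perm α)} {S : Set α}
    {a b : α} (ha : a ∈ S) (h2 : TupleTrans H S [a, b])
    (hinv : ∀ g ∈ H, ∀ p, g p ∈ S ↔ p ∈ S)
    (hfaith : ∀ g ∈ H, (∀ p ∈ S, g p = p) → g = 1)
    (hstab : IsSimpleGroup ↥(H ⊓ MulAction.stabilizer (Equiv.Perm α) a))
    (hdeg : ¬ IsPrimePow S.ncard) (hdeg1 : 1 < S.ncard) :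
    IsSimpleGroup H := by
  have hne : Nontrivial H := by
    obtain ⟨u, hu⟩ := hstab.toNontrivial.exists_pair_ne
    obtain ⟨v, hv⟩ := hu
    refine ⟨⟨⟨u, u.2.1⟩, ⟨v, v.2.1⟩, fun h => hv ?_⟩⟩
    exact Subtype.ext (Subtype.mk.inj h)
  refine { exists_pair_ne := hne.exists_pair_ne, eq_bot_or_eq_top_of_normal := fun N hN => ?_ }
  by_cases hN1 : N = ⊥
  · exact Or.inl hN1
  right
  set K := H ⊓ MulAction.stabilizer (Equiv.Perm α) a with hK
  let M : Subgroup K := N.comap (Subgroup.inclusion (inf_le_left : K ≤ H))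
  have hM : M.Normal := hN.comap _
  have htrans := fun q (hq : q ∈ S) => exists_mem_normal_apply ha h2 hinv hfaith hN1 hq
  rcases hstab.eq_bot_or_eq_top_of_normal M hM with hM1 | hM1
  · exfalso
    -- `N` is regular on `S`
    have hreg : ∀ n ∈ N, (n : Equiv.Perm α) a = a → n = 1 := by
      intro n hn hna
      have hmem : (⟨(n : Equiv.Perm α), Subgroup.mem_inf.mpr ⟨n.2, hna⟩⟩ : K) ∈ M := hn
      rw [hM1, Subgroup.mem_bot] at hmem
      exact Subtype.ext (congrArg (fun z : K => (z : Equiv.Perm α)) hmem)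
    have hcard : Nat.card N = S.ncard := by
      rw [← Nat.card_coe_set_eq]
      refine Nat.card_congr (Equiv.ofBijective
        (fun n : N => (⟨((n : H) : Equiv.Perm α) a, (hinv _ (n : H).2 a).mpr ha⟩ : S)) ⟨?_, ?_⟩)
      · intro m n hmn
        have h := congrArg Subtype.val hmn
        have := hreg ((n : H)⁻¹ * (m : H)) (mul_mem (inv_mem n.2) m.2)
          (show ((n : H) : Equiv.Perm α)⁻¹ (((m : H) : Equiv.Perm α) a) = a by
            simp at h; simp [h])
        exact Subtype.ext (inv_mul_eq_one.mp this).symm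
      · rintro ⟨q, hq⟩
        obtain ⟨n, hn, hna⟩ := htrans q hq
        exact ⟨⟨n, hn⟩, Subtype.ext hna⟩
    have hconj : ∀ m ∈ N, ∀ n ∈ N, m ≠ 1 → n ≠ 1 → orderOf m = orderOf n := by
      intro m hm n hn hm1 hn1
      have hma : (m : Equiv.Perm α) a ≠ a := fun h => hm1 (hreg m hm h)
      have hna : (n : Equiv.Perm α) a ≠ a := fun h => hn1 (hreg n hn h)
      obtain ⟨g, hg, hgx⟩ := h2.conj (x := [a, (m : Equiv.Perm α) a])
        (y := [a, (n : Equiv.Perm α) a]) (by simp [Ne.symm hma]) (by simp [Ne.symm hna])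
        (by simp [ha, (hinv _ m.2 a).mpr ha]) (by simp [ha, (hinv _ n.2 a).mpr ha]) rfl rfl
      simp only [List.map_cons, List.map_nil, List.cons.injEq, and_true] at hgx
      let gH : H := ⟨g, hg⟩
      have hga : g⁻¹ a = a := by rw [Equiv.Perm.inv_eq_iff_eq, hgx.1]
      have hmem : n⁻¹ * (gH * m * gH⁻¹) ∈ N :=
        mul_mem (inv_mem hn) (hN.conj_mem m hm gH)
      have := hreg _ hmem (show (n : Equiv.Perm α)⁻¹ (g ((m : Equiv.Perm α) (g⁻¹ a))) = a by
        rw [hga, hgx.2]; simp)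
      rw [inv_mul_eq_one.mp this]
      exact (MulEquiv.orderOf_eq (MulAut.conj gH) m).symm
    have hN2 : 1 < Nat.card N := hcard ▸ hdeg1
    obtain ⟨p, hp, hpd⟩ := Nat.exists_prime_and_dvd hN2.ne'
    have := Fact.mk hp
    obtain ⟨y, hy⟩ := exists_prime_orderOf_dvd_card' p hpd
    have hy1 : (y : H) ≠ 1 := by
      intro h; rw [← Subgroup.orderOf_coe, h, orderOf_one] at hy; exact hp.one_lt.ne hy
    have hP : IsPGroup p N := fun z => by
      by_cases hz : (z : H) = 1
      · exact ⟨0, Subtype.ext (by simp [hz])⟩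
      · refine ⟨1, ?_⟩
        have := hconj z z.2 y y.2 hz hy1
        rw [Subgroup.orderOf_coe, Subgroup.orderOf_coe, hy] at this
        rw [pow_one, ← this, pow_orderOf_eq_one]
    obtain ⟨k, hk⟩ := IsPGroup.iff_card.mp hP
    apply hdeg
    rw [← hcard, hk]
    exact hp.isPrimePow.pow (by rintro rfl; simp [hk] at hN2)
  · -- `N` contains the stabiliser and is transitive
    refine eq_top_iff.mpr fun g _ => ?_
    obtain ⟨n, hn, hna⟩ := htrans _ ((hinv _ g.2 a).mpr ha)
    have hfix : ((n : Equiv.Perm α)⁻¹ * (g : Equiv.Perm α)) a = a := by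
      simp [← hna]
    have hmem : (⟨_, Subgroup.mem_inf.mpr ⟨mul_mem (inv_mem n.2) g.2, hfix⟩⟩ : K) ∈ M :=
      hM1 ▸ Subgroup.mem_top _
    have h2 : n⁻¹ * g ∈ N := hmem
    have := mul_mem hn h2
    rwa [mul_inv_cancel_left] at this

end Cfsg.Agent.Compute
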