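/-
Invariant masks and transitivity on tuples read off a checked chain on the 24 points.
-/
import Cfsg.Agent.Compute.M24Base
import Cfsg.Agent.Compute.Simple

set_option autoImplicit false

namespace Cfsg.Agent.Compute

open Cfsg
open scoped Pointwise

/-- The points outside a mask. -/
def maskSet (excl : ℕ) : Set GolayPt := {p | excl.testBit (ptIdx p) = false}

theorem maskSet_zero : maskSet 0 = Set.univ := by
  ext p; simp [maskSet]

/-- The elements preserving a mask. -/
def maskStab (m : ℕ) : Subgroup (Equiv.Perm GolayPt) :=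
  MulAction.stabilizer (Equiv.Perm GolayPt) (suppM m)

theorem testBit_of_mem_maskStab {m : ℕ} {g : Equiv.Perm GolayPt} (hg : g ∈ maskStab m)
    (p : GolayPt) : m.testBit (ptIdx (g p)) = m.testBit (ptIdx p) := by
  have h : g p ∈ suppM m ↔ p ∈ suppM m := by
    conv_lhs => rw [← MulAction.mem_stabilizer_iff.mp hg]
    exact Finset.smul_mem_smul_finset_iff g
  simp only [mem_suppM] at h
  rw [Bool.eq_iff_iff]; exact h

/-- The generators preserve a mask. -/
noncomputable def gensFixB (gens : List ℕ) (m : ℕ) : Bool :=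
  gens.all (fun g => rep24.okb g && Nat.beq (imgMask g m) m)

theorem le_maskStab {Ls : List Level} {m : ℕ} (h : gensFixB (topGens Ls) m = true) :
    rep24.chainGroup Ls ≤ maskStab m := by
  rw [Rep.chainGroup, Rep.span, Subgroup.closure_le]
  rintro _ ⟨g, hg, rfl⟩
  have := List.all_eq_true.mp h g hg
  simp only [Bool.and_eq_true, Nat.beq_eq] at this
  change rep24.den g • suppM m = suppM m
  rw [smul_suppM (rep24.okb_sound _ this.1), this.2]

theorem maskSet_invariant {Ls : List Level} {m : ℕ} (h : gensFixB (topGens Ls) m = true) :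
    ∀ g ∈ rep24.chainGroup Ls, ∀ p, g p ∈ maskSet m ↔ p ∈ maskSet m := fun g hg p => by
  simp only [maskSet, Set.mem_ofPred_eq, testBit_of_mem_maskStab (le_maskStab h hg)]

theorem maskSet_diff {m b : ℕ} (hb : b < 24) :
    maskSet m \ {rep24.pt b} = maskSet (m ||| 2 ^ b) := by
  ext p
  have h : (p = rep24.pt b) ↔ b = ptIdx p := by
    constructor
    · rintro rfl; rw [ptIdx_rep24 hb]
    · intro h; rw [h, rep24_pt_ptIdx]
  simp [maskSet, Nat.testBit_or, Nat.testBit_two_pow, h]

/-- One step of transitivity on tuples. -/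
theorem tupleTrans_step {L : Level} {Ls : List Level} {m b : ℕ} {bs : List GolayPt}
    (hc : rep24.checkChain (L :: Ls) = true) (hb : L.base = b)
    (hcov : coverB L m = true) (hfix : gensFixB L.gens m = true)
    (hrest : TupleTrans (rep24.chainGroup Ls) (maskSet (m ||| 2 ^ b)) bs) :
    TupleTrans (rep24.chainGroup (L :: Ls)) (maskSet m) (rep24.pt b :: bs) := by
  have h := rep24.levelOK_of_check (by
    rw [rep24.checkChain_cons, Bool.and_eq_true] at hc; exact hc.1)
  have hb24 : b < 24 := hb ▸ h.base_lt
  refine tupleTrans_cons (Rep.chainGroup_next_le hc) ?_ (maskSet_invariant hfix) ?_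
    (by rw [maskSet_diff hb24]; exact hrest)
  · intro g hg
    have := MulAction.mem_stabilizer_iff.mp (Rep.next_fixes h hg)
    rwa [hb] at this
  · intro p hp
    obtain ⟨j, hj, hpj⟩ := orbit_of_cover hcov p (by
      have hp' : m.testBit (ptIdx p) = false := hp
      simp [hp'])
    refine ⟨_, h.entry_mem j, ?_⟩
    rw [hpj, ← hb]
    exact rep24.act_spec _ _ (h.entry_all j).1 h.base_lt

end Cfsg.Agent.Compute
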