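/-
Kernel checks used for the small Mathieu groups.
-/
import Cfsg.Agent.Compute.MaskSet
import Cfsg.Agent.Compute.NormalSlp
import Cfsg.Agent.Compute.M24NclData

set_option autoImplicit false

namespace Cfsg.Agent.Compute

/-- Complement of the dodecad of squares, as a mask. -/
noncomputable def coDodecad : ℕ := Nat.xor (2 ^ 24 - 1) dodecadMask

theorem dodecad_eq : cw (golayCoeff.getD 0 0) = dodecadMask := by decide +kernel

theorem coverC0 : coverB m12L0 coDodecad = true := by decide +kernel
theorem coverC1 : coverB m12L1 (Nat.lor coDodecad 0x1) = true := by decide +kernel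
theorem coverC2 : coverB m12L2 (Nat.lor coDodecad 0x3) = true := by decide +kernel
theorem coverC3 : coverB m12L3 (Nat.lor coDodecad 0x7) = true := by decide +kernel
theorem coverC4 : coverB m12L4 (Nat.lor coDodecad 0xf) = true := by decide +kernel

theorem fixC0 : gensFixB m12L0.gens coDodecad = true := by decide +kernel
theorem fixC1 : gensFixB m12L1.gens (Nat.lor coDodecad 0x1) = true := by decide +kernel
theorem fixC2 : gensFixB m12L2.gens (Nat.lor coDodecad 0x3) = true := by decide +kernel
theorem fixC3 : gensFixB m12L3.gens (Nat.lor coDodecad 0x7) = true := by decide +kernel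
theorem fixC4 : gensFixB m12L4.gens (Nat.lor coDodecad 0xf) = true := by decide +kernel

theorem fixA0 : gensFixB m24aL0.gens 0 = true := by decide +kernel
theorem fixA1 : gensFixB m24aL1.gens 0x800000 = true := by decide +kernel
theorem fixA2 : gensFixB m24aL2.gens 0x800001 = true := by decide +kernel
theorem fixA3 : gensFixB m24aL3.gens 0x800003 = true := by decide +kernel
theorem fixA4 : gensFixB m24aL4.gens 0x800007 = true := by decide +kernel

theorem dodecad_tail_check :
    (rep24.chainElems [m24bL5, m24bL6]).all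
      (fun c => !(Nat.beq (imgMask c dodecadMask) dodecadMask) || Nat.beq c rep24.one) = true := by
  decide +kernel

theorem m23Ncl_check :
    rep24.nclCheck m24aL1.gens m23Ncl [rep24.one, m23Elt] m24aL1.gens = true := by decide +kernel

theorem m22Ncl_check :
    rep24.nclCheck m24aL2.gens m22Ncl [rep24.one, m22Elt] m24aL2.gens = true := by decide +kernel

theorem m11Ncl_check :
    rep24.nclCheck m12L1.gens m11Ncl [rep24.one, m11Elt] m12L1.gens = true := by decide +kernel

theorem m23Elt_check : rep24.okb m23Elt = true ∧ rep24.sift m24aChain.tail m23Elt = rep24.one ∧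
    Nat.beq (rep24.powCode m23Elt 23) rep24.one = true ∧ rep24.act m23Elt 0 ≠ 0 := by
  decide +kernel

theorem m22Elt_check : rep24.okb m22Elt = true ∧ rep24.sift m24aChain.tail.tail m22Elt = rep24.one ∧
    Nat.beq (rep24.powCode m22Elt 11) rep24.one = true ∧
    (rep24.act m22Elt 1 ≠ 1 ∨ rep24.act m22Elt 2 ≠ 2) := by
  decide +kernel

theorem m11Elt_check : rep24.okb m11Elt = true ∧ rep24.sift m12Chain.tail m11Elt = rep24.one ∧
    Nat.beq (rep24.powCode m11Elt 11) rep24.one = true ∧
    (rep24.act m11Elt 1 ≠ 1 ∨ rep24.act m11Elt 2 ≠ 2) := by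
  decide +kernel

theorem gens_okb : (m24aL1.gens ++ m24aL2.gens ++ m12L1.gens).all rep24.okb = true := by
  decide +kernel

theorem bases_other : m24bL0.base = 0 ∧ m24bL1.base = 1 ∧ m24bL2.base = 2 ∧ m24bL3.base = 3 ∧
    m24bL4.base = 4 ∧ m12L0.base = 0 ∧ m12L1.base = 1 ∧ m12L2.base = 2 ∧ m12L3.base = 3 ∧
    m12L4.base = 4 := by
  decide +kernel

end Cfsg.Agent.Compute
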