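/-
Orders, transitivity and simplicity of the five Mathieu groups of the Prelude.
-/
import Cfsg.Prelude.Def_Spor_Mathieu
import Cfsg.Agent.Compute.MathieuChecks

set_option autoImplicit false

namespace Cfsg.Agent.Compute

open Cfsg
open scoped Pointwise

theorem rep24_pt23 : rep24.pt 23 = none := by
  rw [rep24_pt (by norm_num)]; decide

theorem rep24_pt0 : rep24.pt 0 = some 0 := by
  rw [rep24_pt (by norm_num)]; decide

theorem squareDodecad_eq : Spor.squareDodecad = suppM dodecadMask := by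
  rw [Spor.squareDodecad, ← dodecad_eq, ← support₂_decW]
  congr 1
  funext p
  exact qrWord_eq 0 p

theorem m23_eq : Spor.M23 = rep24.chainGroup m24aChain.tail := by
  rw [Spor.M23, m24_eq, ← rep24_pt23]
  exact Rep.chainGroup_inf_stabilizer m24a_check bases_m24a.1

theorem m22_eq : Spor.M22 = rep24.chainGroup m24aChain.tail.tail := by
  rw [Spor.M22, m23_eq, ← rep24_pt0]
  exact Rep.chainGroup_inf_stabilizer (Rep.checkChain_tail m24a_check) bases_m24a.2.1

theorem m24b_eq : M24 = rep24.chainGroup m24bChain := by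
  refine (Subgroup.eq_of_le_of_card_ge ?_ ?_).symm
  · rw [Rep.chainGroup, Rep.span, Subgroup.closure_le]
    rintro _ ⟨g, hg, rfl⟩
    exact (mem_M24_of_check (List.all_eq_true.mp strongGens_check g
      (List.mem_append_left _ (List.mem_append_right _ hg)))).2
  · rw [card_m24, Rep.card_chainGroup _ m24b_check]
    decide +kernel

theorem m12_gens_le : rep24.chainGroup m12Chain ≤ M24 ⊓ maskStab dodecadMask := by
  refine le_inf ?_ ?_
  · rw [Rep.chainGroup, Rep.span, Subgroup.closure_le]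
    rintro _ ⟨g, hg, rfl⟩
    exact (mem_M24_of_check (List.all_eq_true.mp strongGens_check g
      (List.mem_append_right _ hg))).2
  · rw [Rep.chainGroup, Rep.span, Subgroup.closure_le]
    rintro _ ⟨g, hg, rfl⟩
    have h := List.all_eq_true.mp m12Gens_fix_check g hg
    rw [Nat.beq_eq] at h
    have hok := (mem_M24_of_check (List.all_eq_true.mp strongGens_check g
      (List.mem_append_right _ hg))).1
    change rep24.den g • suppM dodecadMask = suppM dodecadMask
    rw [smul_suppM hok, h]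

theorem testBit_coDodecad (p : GolayPt) :
    coDodecad.testBit (ptIdx p) = !dodecadMask.testBit (ptIdx p) := by
  rw [coDodecad, show Nat.xor (2 ^ 24 - 1) dodecadMask = (2 ^ 24 - 1) ^^^ dodecadMask from rfl,
    Nat.testBit_xor, Nat.testBit_two_pow_sub_one, decide_eq_true (ptIdx_lt p)]
  cases dodecadMask.testBit (ptIdx p) <;> rfl

theorem coDodecad_or_invariant {g : Equiv.Perm GolayPt} {F : ℕ} (hg : g ∈ maskStab dodecadMask)
    (hF : ∀ p, F.testBit (ptIdx p) = true → g p = p) (p : GolayPt) :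
    (Nat.lor coDodecad F).testBit (ptIdx (g p)) = (Nat.lor coDodecad F).testBit (ptIdx p) := by
  have h1 := testBit_of_mem_maskStab hg p
  have h2 := testBit_invariant_of_fixed hF p
  change (coDodecad ||| F).testBit _ = (coDodecad ||| F).testBit _
  simp only [Nat.testBit_or, testBit_coDodecad, h1, h2]

theorem tail_dodecad {g : Equiv.Perm GolayPt} (hg : g ∈ rep24.chainGroup [m24bL5, m24bL6])
    (hD : g ∈ maskStab dodecadMask) : g = 1 := by
  have hc := Rep.checkChain_tail (Rep.checkChain_tail (Rep.checkChain_tail (Rep.checkChain_tail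
    (Rep.checkChain_tail m24b_check))))
  obtain ⟨c, hc1, hc2, rfl⟩ := rep24.exists_elem _ hc hg
  have h := List.all_eq_true.mp dodecad_tail_check c hc1
  have himg : suppM (imgMask c dodecadMask) = suppM dodecadMask := by
    rw [← smul_suppM hc2]; exact hD
  have hlt : imgMask c dodecadMask < 2 ^ 24 := by
    refine Nat.lt_pow_two_of_testBit _ fun j hj => ?_
    by_contra hb
    rw [Bool.not_eq_false] at hb
    obtain ⟨i, hi, -, hij⟩ := (testBit_imgMask_aux c dodecadMask j 24).mp hb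
    have : rep24.act c i < 24 := rep24.act_lt c i hc2 hi
    exact absurd (hij ▸ this : j < 24) (by omega)
  have heq := (suppM_eq_iff hlt (by rw [dodecadMask]; norm_num)).mp himg
  rw [Bool.or_eq_true, Bool.not_eq_true', Nat.beq_eq] at h
  rcases h with h | h
  · rw [Bool.eq_false_iff] at h
    exact absurd (by rw [Nat.beq_eq]; exact heq) h
  · rw [h, rep24.den_one]

theorem m12_eq : M24 ⊓ maskStab dodecadMask = rep24.chainGroup m12Chain := by
  obtain ⟨d0, d1, d2, d3, d4, c0, c1, c2, c3, c4⟩ := bases_other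
  have hc0 := m12_check
  have hc1 := Rep.checkChain_tail hc0
  have hc2 := Rep.checkChain_tail hc1
  have hc3 := Rep.checkChain_tail hc2
  have hc4 := Rep.checkChain_tail hc3
  have e0 := m24b_eq
  have k0 := m24b_check
  have k1 := Rep.checkChain_tail k0
  have k2 := Rep.checkChain_tail k1
  have k3 := Rep.checkChain_tail k2
  have k4 := Rep.checkChain_tail k3
  let H0 := M24 ⊓ maskStab dodecadMask
  let H1 := H0 ⊓ MulAction.stabilizer (Equiv.Perm GolayPt) (rep24.pt 0)
  let H2 := H1 ⊓ MulAction.stabilizer (Equiv.Perm GolayPt) (rep24.pt 1)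
  let H3 := H2 ⊓ MulAction.stabilizer (Equiv.Perm GolayPt) (rep24.pt 2)
  let H4 := H3 ⊓ MulAction.stabilizer (Equiv.Perm GolayPt) (rep24.pt 3)
  let H5 := H4 ⊓ MulAction.stabilizer (Equiv.Perm GolayPt) (rep24.pt 4)
  have l0 : rep24.chainGroup m12Chain ≤ H0 := m12_gens_le
  have l1 : rep24.chainGroup _ ≤ H1 := Rep.chain_step hc0 l0 c0
  have l2 : rep24.chainGroup _ ≤ H2 := Rep.chain_step hc1 l1 c1
  have l3 : rep24.chainGroup _ ≤ H3 := Rep.chain_step hc2 l2 c2
  have l4 : rep24.chainGroup _ ≤ H4 := Rep.chain_step hc3 l3 c3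
  have u5 : H5 ≤ rep24.chainGroup [] := by
    intro g hg
    obtain ⟨⟨⟨⟨⟨⟨hM, hD⟩, g0⟩, g1⟩, g2⟩, g3⟩, g4⟩ := hg
    rw [e0] at hM
    have m1 : g ∈ rep24.chainGroup _ := Rep.chainGroup_inf_stabilizer k0 d0 ▸ Subgroup.mem_inf.mpr ⟨hM, g0⟩
    have m2 : g ∈ rep24.chainGroup _ := Rep.chainGroup_inf_stabilizer k1 d1 ▸ Subgroup.mem_inf.mpr ⟨m1, g1⟩
    have m3 : g ∈ rep24.chainGroup _ := Rep.chainGroup_inf_stabilizer k2 d2 ▸ Subgroup.mem_inf.mpr ⟨m2, g2⟩
    have m4 : g ∈ rep24.chainGroup _ := Rep.chainGroup_inf_stabilizer k3 d3 ▸ Subgroup.mem_inf.mpr ⟨m3, g3⟩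
    have m5 : g ∈ rep24.chainGroup _ := Rep.chainGroup_inf_stabilizer k4 d4 ▸ Subgroup.mem_inf.mpr ⟨m4, g4⟩
    rw [tail_dodecad m5 hD]
    exact one_mem _
  have f0 : ∀ g ∈ H0, ∀ p, (0 : ℕ).testBit (ptIdx p) = true → g p = p := by
    intro g _ p h; simp at h
  have f1 : ∀ g ∈ H1, ∀ p, (0x1 : ℕ).testBit (ptIdx p) = true → g p = p := fixes_grow f0
  have f2 : ∀ g ∈ H2, ∀ p, (0x3 : ℕ).testBit (ptIdx p) = true → g p = p := fixes_grow f1
  have f3 : ∀ g ∈ H3, ∀ p, (0x7 : ℕ).testBit (ptIdx p) = true → g p = p := fixes_grow f2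
  have f4 : ∀ g ∈ H4, ∀ p, (0xf : ℕ).testBit (ptIdx p) = true → g p = p := fixes_grow f3
  have u4 : H4 ≤ rep24.chainGroup _ :=
    Rep.le_chainGroup_cons hc4 l4
      (horb_of_invariant (c4 ▸ by norm_num) coverC4 (c4 ▸ by decide +kernel)
        (fun g hg => coDodecad_or_invariant hg.1.1.1.1.2 (f4 g hg))) (c4 ▸ u5)
  have u3 : H3 ≤ rep24.chainGroup _ :=
    Rep.le_chainGroup_cons hc3 l3
      (horb_of_invariant (c3 ▸ by norm_num) coverC3 (c3 ▸ by decide +kernel)
        (fun g hg => coDodecad_or_invariant hg.1.1.1.2 (f3 g hg))) (c3 ▸ u4)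
  have u2 : H2 ≤ rep24.chainGroup _ :=
    Rep.le_chainGroup_cons hc2 l2
      (horb_of_invariant (c2 ▸ by norm_num) coverC2 (c2 ▸ by decide +kernel)
        (fun g hg => coDodecad_or_invariant hg.1.1.2 (f2 g hg))) (c2 ▸ u3)
  have u1 : H1 ≤ rep24.chainGroup _ :=
    Rep.le_chainGroup_cons hc1 l1
      (horb_of_invariant (c1 ▸ by norm_num) coverC1 (c1 ▸ by decide +kernel)
        (fun g hg => coDodecad_or_invariant hg.1.2 (f1 g hg))) (c1 ▸ u2)
  refine le_antisymm (Rep.le_chainGroup_cons hc0 l0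
    (horb_of_invariant (c0 ▸ by norm_num) coverC0 (c0 ▸ by decide +kernel) ?_) (c0 ▸ u1)) l0
  intro g hg p
  have := coDodecad_or_invariant hg.2 (f0 g hg) p
  simpa using this

theorem sporM12_eq : Spor.M12 = rep24.chainGroup m12Chain := by
  rw [Spor.M12, squareDodecad_eq]; exact m12_eq

theorem m11_eq : Spor.M11 = rep24.chainGroup m12Chain.tail := by
  rw [Spor.M11, sporM12_eq, ← rep24_pt0]
  exact Rep.chainGroup_inf_stabilizer m12_check bases_other.2.2.2.2.2.1

theorem card_m23 : Nat.card Spor.M23 = 10200960 := by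
  rw [m23_eq]
  exact (Rep.card_chainGroup _ (Rep.checkChain_tail m24a_check)).trans (by decide +kernel)

theorem card_m22 : Nat.card Spor.M22 = 443520 := by
  rw [m22_eq]
  exact (Rep.card_chainGroup _ (Rep.checkChain_tail (Rep.checkChain_tail m24a_check))).trans (by decide +kernel)

theorem card_m12 : Nat.card Spor.M12 = 95040 := by
  rw [sporM12_eq, Rep.card_chainGroup _ m12_check]
  decide +kernel

theorem card_m11 : Nat.card Spor.M11 = 7920 := by
  rw [m11_eq]
  exact (Rep.card_chainGroup _ (Rep.checkChain_tail m12_check)).trans (by decide +kernel)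

theorem m22_tupleTrans :
    TupleTrans Spor.M22 (maskSet 0x800001) [rep24.pt 1, rep24.pt 2, rep24.pt 3] := by
  rw [m22_eq]
  obtain ⟨b0, b1, b2, b3, b4, b5, b6⟩ := bases_m24a
  have h2 := Rep.checkChain_tail (Rep.checkChain_tail m24a_check)
  exact tupleTrans_step h2 b2 cover2 fixA2 (tupleTrans_step (Rep.checkChain_tail h2) b3 cover3
    fixA3 (tupleTrans_step (Rep.checkChain_tail (Rep.checkChain_tail h2)) b4 cover4 fixA4
      (tupleTrans_nil _ _)))

theorem m23_tupleTrans :
    TupleTrans Spor.M23 (maskSet 0x800000) [rep24.pt 0, rep24.pt 1, rep24.pt 2, rep24.pt 3] := by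
  rw [m23_eq]
  refine tupleTrans_step (Rep.checkChain_tail m24a_check) bases_m24a.2.1 cover1 fixA1 ?_
  exact m22_eq ▸ m22_tupleTrans

theorem m24_tupleTrans : TupleTrans M24 Set.univ
    [rep24.pt 23, rep24.pt 0, rep24.pt 1, rep24.pt 2, rep24.pt 3] := by
  rw [m24_eq, ← maskSet_zero]
  refine tupleTrans_step m24a_check bases_m24a.1 cover0 fixA0 ?_
  exact m23_eq ▸ m23_tupleTrans

theorem m11_tupleTrans : TupleTrans Spor.M11 (maskSet (Nat.lor coDodecad 0x1))
    [rep24.pt 1, rep24.pt 2, rep24.pt 3, rep24.pt 4] := by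
  rw [m11_eq]
  obtain ⟨d0, d1, d2, d3, d4, c0, c1, c2, c3, c4⟩ := bases_other
  have h1 := Rep.checkChain_tail m12_check
  exact tupleTrans_step h1 c1 coverC1 fixC1 (tupleTrans_step (Rep.checkChain_tail h1) c2 coverC2
    fixC2 (tupleTrans_step (Rep.checkChain_tail (Rep.checkChain_tail h1)) c3 coverC3 fixC3
      (tupleTrans_step (Rep.checkChain_tail (Rep.checkChain_tail (Rep.checkChain_tail h1))) c4
        coverC4 fixC4 (tupleTrans_nil _ _))))

theorem m12_tupleTrans : TupleTrans Spor.M12 (maskSet coDodecad)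
    [rep24.pt 0, rep24.pt 1, rep24.pt 2, rep24.pt 3, rep24.pt 4] := by
  rw [sporM12_eq]
  refine tupleTrans_step m12_check bases_other.2.2.2.2.2.1 coverC0 fixC0 ?_
  exact m11_eq ▸ m11_tupleTrans

theorem mem_maskSet_coDodecad (p : GolayPt) :
    p ∈ maskSet coDodecad ↔ p ∈ suppM dodecadMask := by
  simp [maskSet, mem_suppM, testBit_coDodecad]

theorem m12_eq_one_of_fixes {g : Equiv.Perm GolayPt} (hg : g ∈ Spor.M12)
    (h : ∀ p ∈ maskSet coDodecad, g p = p) : g = 1 := by
  obtain ⟨d0, d1, d2, d3, d4, c0, c1, c2, c3, c4⟩ := bases_other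
  rw [sporM12_eq] at hg
  have hb : ∀ i : Fin 5, rep24.pt i ∈ maskSet coDodecad := by
    intro i
    rw [mem_maskSet_coDodecad, mem_suppM, ptIdx_rep24 (by omega)]
    revert i; decide +kernel
  have k0 := m12_check
  have k1 := Rep.checkChain_tail k0
  have k2 := Rep.checkChain_tail k1
  have k3 := Rep.checkChain_tail k2
  have k4 := Rep.checkChain_tail k3
  have m1 : g ∈ rep24.chainGroup _ := Rep.chainGroup_inf_stabilizer k0 c0 ▸ Subgroup.mem_inf.mpr ⟨hg, h _ (hb 0)⟩
  have m2 : g ∈ rep24.chainGroup _ := Rep.chainGroup_inf_stabilizer k1 c1 ▸ Subgroup.mem_inf.mpr ⟨m1, h _ (hb 1)⟩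
  have m3 : g ∈ rep24.chainGroup _ := Rep.chainGroup_inf_stabilizer k2 c2 ▸ Subgroup.mem_inf.mpr ⟨m2, h _ (hb 2)⟩
  have m4 : g ∈ rep24.chainGroup _ := Rep.chainGroup_inf_stabilizer k3 c3 ▸ Subgroup.mem_inf.mpr ⟨m3, h _ (hb 3)⟩
  have m5 : g ∈ rep24.chainGroup _ := Rep.chainGroup_inf_stabilizer k4 c4 ▸ Subgroup.mem_inf.mpr ⟨m4, h _ (hb 4)⟩
  simpa [Rep.chainGroup, Rep.span, topGens] using m5

theorem ncard_maskSet (m : ℕ) : (maskSet m).ncard = 24 - popBits 24 m := by
  have h : maskSet m = ((suppM m)ᶜ : Finset GolayPt) := by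
    ext p; simp [maskSet, mem_suppM]
  rw [h, Set.ncard_coe_finset, Finset.card_compl, card_suppM]
  rfl

theorem m23_invariant : ∀ g ∈ Spor.M23, ∀ p, g p ∈ maskSet 0x800000 ↔ p ∈ maskSet 0x800000 := by
  rw [m23_eq]; exact maskSet_invariant fixA1

theorem m22_invariant : ∀ g ∈ Spor.M22, ∀ p, g p ∈ maskSet 0x800001 ↔ p ∈ maskSet 0x800001 := by
  rw [m22_eq]; exact maskSet_invariant fixA2

theorem m11_invariant : ∀ g ∈ Spor.M11, ∀ p,
    g p ∈ maskSet (Nat.lor coDodecad 0x1) ↔ p ∈ maskSet (Nat.lor coDodecad 0x1) := by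
  rw [m11_eq]; exact maskSet_invariant fixC1

theorem testBit_single {p : GolayPt} {b : ℕ} (h : (2 ^ b : ℕ).testBit (ptIdx p) = true) :
    p = rep24.pt b := by
  rw [Nat.testBit_two_pow, decide_eq_true_iff] at h
  rw [h, rep24_pt_ptIdx]

theorem m23_faithful : ∀ g ∈ Spor.M23, (∀ p ∈ maskSet 0x800000, g p = p) → g = 1 := by
  intro g hg h
  refine Equiv.ext fun p => ?_
  by_cases hp : (0x800000 : ℕ).testBit (ptIdx p) = true
  · rw [testBit_single (b := 23) hp, rep24_pt23]
    exact hg.2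
  · exact h p (by simpa [maskSet] using hp)

theorem m22_faithful : ∀ g ∈ Spor.M22, (∀ p ∈ maskSet 0x800001, g p = p) → g = 1 := by
  intro g hg h
  refine Equiv.ext fun p => ?_
  by_cases hp : (0x800001 : ℕ).testBit (ptIdx p) = true
  · rw [show (0x800001 : ℕ) = 2 ^ 23 ||| 2 ^ 0 by rfl, Nat.testBit_or, Bool.or_eq_true] at hp
    rcases hp with hp | hp
    · rw [testBit_single hp, rep24_pt23]; exact hg.1.2
    · rw [testBit_single hp, rep24_pt0]; exact hg.2
  · exact h p (by simpa [maskSet] using hp)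

theorem m11_faithful :
    ∀ g ∈ Spor.M11, (∀ p ∈ maskSet (Nat.lor coDodecad 0x1), g p = p) → g = 1 := by
  intro g hg h
  refine m12_eq_one_of_fixes hg.1 fun p hp => ?_
  by_cases h0 : (2 ^ 0 : ℕ).testBit (ptIdx p) = true
  · rw [testBit_single h0, rep24_pt0]; exact hg.2
  · refine h p ?_
    change (coDodecad ||| 2 ^ 0).testBit (ptIdx p) = false
    have hp' : coDodecad.testBit (ptIdx p) = false := hp
    simp only [Nat.testBit_or, hp', Bool.false_or]
    simpa using h0

theorem orderOf_subgroup {G : Type*} [Group G] {H : Subgroup G} {x : G} (hx : x ∈ H) :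
    orderOf (⟨x, hx⟩ : H) = orderOf x := by
  rw [← Subgroup.orderOf_coe]

theorem m24_tupleTrans2 : TupleTrans M24 Set.univ [rep24.pt 23, rep24.pt 0] := by
  rw [m24_eq, ← maskSet_zero]
  exact tupleTrans_step m24a_check bases_m24a.1 cover0 fixA0
    (tupleTrans_step (Rep.checkChain_tail m24a_check) bases_m24a.2.1 cover1 fixA1 (tupleTrans_nil _ _))

theorem m23_tupleTrans2 : TupleTrans Spor.M23 (maskSet 0x800000) [rep24.pt 0, rep24.pt 1] := by
  rw [m23_eq]
  exact tupleTrans_step (Rep.checkChain_tail m24a_check) bases_m24a.2.1 cover1 fixA1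
    (tupleTrans_step (Rep.checkChain_tail (Rep.checkChain_tail m24a_check)) bases_m24a.2.2.1
      cover2 fixA2 (tupleTrans_nil _ _))

theorem m22_tupleTrans2 : TupleTrans Spor.M22 (maskSet 0x800001) [rep24.pt 1, rep24.pt 2] := by
  rw [m22_eq]
  have h2 := Rep.checkChain_tail (Rep.checkChain_tail m24a_check)
  exact tupleTrans_step h2 bases_m24a.2.2.1 cover2 fixA2
    (tupleTrans_step (Rep.checkChain_tail h2) bases_m24a.2.2.2.1 cover3 fixA3 (tupleTrans_nil _ _))

theorem m12_tupleTrans2 : TupleTrans Spor.M12 (maskSet coDodecad) [rep24.pt 0, rep24.pt 1] := by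
  rw [sporM12_eq]
  obtain ⟨d0, d1, d2, d3, d4, c0, c1, c2, c3, c4⟩ := bases_other
  exact tupleTrans_step m12_check c0 coverC0 fixC0
    (tupleTrans_step (Rep.checkChain_tail m12_check) c1 coverC1 fixC1 (tupleTrans_nil _ _))

theorem m11_tupleTrans2 : TupleTrans Spor.M11 (maskSet (Nat.lor coDodecad 0x1))
    [rep24.pt 1, rep24.pt 2] := by
  rw [m11_eq]
  obtain ⟨d0, d1, d2, d3, d4, c0, c1, c2, c3, c4⟩ := bases_other
  have h1 := Rep.checkChain_tail m12_check
  exact tupleTrans_step h1 c1 coverC1 fixC1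
    (tupleTrans_step (Rep.checkChain_tail h1) c2 coverC2 fixC2 (tupleTrans_nil _ _))

theorem gens_okb1 : m24aL1.gens.all rep24.okb = true ∧ m24aL2.gens.all rep24.okb = true ∧
    m12L1.gens.all rep24.okb = true := by
  have := gens_okb
  simp only [List.all_append, Bool.and_eq_true] at this
  exact ⟨this.1.1, this.1.2, this.2⟩

theorem pt_mem_maskSet {m b : ℕ} (hb : b < 24) (h : m.testBit b = false) :
    rep24.pt b ∈ maskSet m := by
  change m.testBit _ = false
  rw [ptIdx_rep24 hb, h]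

theorem isSimpleGroup_m23 : IsSimpleGroup Spor.M23 := by
  have hc := Rep.checkChain_tail m24a_check
  obtain ⟨hok, hs, hp, hm⟩ := m23Elt_check
  have hx : rep24.den m23Elt ∈ Spor.M23 :=
    m23_eq ▸ rep24.mem_of_sift _ hc (rep24.okb_sound _ hok) hs
  refine isSimpleGroup_of_two_trans_prime (pt_mem_maskSet (by norm_num) (by decide +kernel))
    m23_tupleTrans2 m23_invariant m23_faithful (p := 23) (by norm_num) ?_ ?_
    (x := ⟨_, hx⟩) ?_ (Rep.normalClosure_eq_top m23_eq gens_okb1.1 hok hx m23Ncl_check)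
  · rw [ncard_maskSet, show popBits 24 0x800000 = 1 by decide +kernel]
  · rw [card_m23]; norm_num
  · rw [orderOf_subgroup]
    exact Rep.orderOf_eq_prime hok (by norm_num) hp (i := 0) (by decide +kernel) hm

theorem isSimpleGroup_m22 : IsSimpleGroup Spor.M22 := by
  have hc := Rep.checkChain_tail (Rep.checkChain_tail m24a_check)
  obtain ⟨hok, hs, hp, hm⟩ := m22Elt_check
  have hx : rep24.den m22Elt ∈ Spor.M22 :=
    m22_eq ▸ rep24.mem_of_sift _ hc (rep24.okb_sound _ hok) hs
  refine isSimpleGroup_of_two_trans_prime (pt_mem_maskSet (by norm_num) (by decide +kernel))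
    m22_tupleTrans2 m22_invariant m22_faithful (p := 11) (by norm_num) ?_ ?_
    (x := ⟨_, hx⟩) ?_ (Rep.normalClosure_eq_top m22_eq gens_okb1.2.1 hok hx m22Ncl_check)
  · rw [ncard_maskSet, show popBits 24 0x800001 = 2 by decide +kernel]
    norm_num
  · rw [card_m22]; norm_num
  · rw [orderOf_subgroup]
    rcases hm with hm | hm
    · exact Rep.orderOf_eq_prime hok (by norm_num) hp (i := 1) (by decide +kernel) hm
    · exact Rep.orderOf_eq_prime hok (by norm_num) hp (i := 2) (by decide +kernel) hm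

theorem isSimpleGroup_m11 : IsSimpleGroup Spor.M11 := by
  have hc := Rep.checkChain_tail m12_check
  obtain ⟨hok, hs, hp, hm⟩ := m11Elt_check
  have hx : rep24.den m11Elt ∈ Spor.M11 :=
    m11_eq ▸ rep24.mem_of_sift _ hc (rep24.okb_sound _ hok) hs
  refine isSimpleGroup_of_two_trans_prime (pt_mem_maskSet (by norm_num) (by decide +kernel))
    m11_tupleTrans2 m11_invariant m11_faithful (p := 11) (by norm_num) ?_ ?_
    (x := ⟨_, hx⟩) ?_ (Rep.normalClosure_eq_top m11_eq gens_okb1.2.2 hok hx m11Ncl_check)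
  · rw [ncard_maskSet, show popBits 24 (Nat.lor coDodecad 0x1) = 13 by decide +kernel]
  · rw [card_m11]; norm_num
  · rw [orderOf_subgroup]
    rcases hm with hm | hm
    · exact Rep.orderOf_eq_prime hok (by norm_num) hp (i := 1) (by decide +kernel) hm
    · exact Rep.orderOf_eq_prime hok (by norm_num) hp (i := 2) (by decide +kernel) hm

theorem isSimpleGroup_m12 : IsSimpleGroup Spor.M12 := by
  refine isSimpleGroup_of_two_trans_stabilizer (a := rep24.pt 0)
    (pt_mem_maskSet (by norm_num) (by decide +kernel)) m12_tupleTrans2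
    (by rw [sporM12_eq]; exact maskSet_invariant fixC0) (fun g hg h => m12_eq_one_of_fixes hg h)
    ?_ ?_ ?_
  · rw [rep24_pt0]; exact isSimpleGroup_m11
  · rw [ncard_maskSet, show popBits 24 coDodecad = 12 by decide +kernel]
    rw [isPrimePow_nat_iff]
    rintro ⟨p, k, hp, hk, he⟩
    have h2 : 2 ∣ p ^ k := he ▸ by norm_num
    have h3 : 3 ∣ p ^ k := he ▸ by norm_num
    have e2 := (Nat.prime_dvd_prime_iff_eq Nat.prime_two hp).mp (Nat.prime_two.dvd_of_dvd_pow h2)
    have e3 := (Nat.prime_dvd_prime_iff_eq Nat.prime_three hp).mp (Nat.prime_three.dvd_of_dvd_pow h3)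
    omega
  · rw [ncard_maskSet, show popBits 24 coDodecad = 12 by decide +kernel]
    norm_num

theorem isSimpleGroup_m24 : IsSimpleGroup M24 := by
  refine isSimpleGroup_of_two_trans_stabilizer (a := rep24.pt 23) (S := Set.univ)
    (Set.mem_univ _) m24_tupleTrans2 (by simp)
    (fun g _ h => Equiv.ext fun p => h p (Set.mem_univ _)) ?_ ?_ ?_
  · rw [rep24_pt23]; exact isSimpleGroup_m23
  · rw [Set.ncard_univ, show Nat.card GolayPt = 24 by simp]
    rw [isPrimePow_nat_iff]
    rintro ⟨p, k, hp, hk, he⟩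
    have h2 : 2 ∣ p ^ k := he ▸ by norm_num
    have h3 : 3 ∣ p ^ k := he ▸ by norm_num
    have e2 := (Nat.prime_dvd_prime_iff_eq Nat.prime_two hp).mp (Nat.prime_two.dvd_of_dvd_pow h2)
    have e3 := (Nat.prime_dvd_prime_iff_eq Nat.prime_three hp).mp (Nat.prime_three.dvd_of_dvd_pow h3)
    omega
  · rw [Set.ncard_univ, show Nat.card GolayPt = 24 by simp]
    norm_num

end Cfsg.Agent.Compute
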