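/-
Stabilisers, orbits and generators of M24: conjugation to the standard points, octads, dodecads.
-/
import Cfsg.Agent.Compute.Mathieu
import Cfsg.Agent.Compute.OctadData

set_option autoImplicit false

namespace Cfsg.Agent.Compute

open Cfsg
open scoped Pointwise

/-- A subgroup of `H` described by a predicate, carried onto `K'` by conjugation by `g`. -/
noncomputable def subEquivConj {G : Type*} [Group G] {H : Subgroup G} (S : Subgroup H)
    (K' : Subgroup G) (g : G) (h : ∀ a : G, (∃ ha : a ∈ H, (⟨a, ha⟩ : H) ∈ S) ↔ g * a * g⁻¹ ∈ K') :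
    S ≃* K' where
  toFun a := ⟨g * (a : H) * g⁻¹, (h _).mp ⟨(a : H).2, a.2⟩⟩
  invFun b := ⟨⟨g⁻¹ * b * g, ((h _).mpr (by simp [mul_assoc])).choose⟩,
    ((h (g⁻¹ * b * g)).mpr (by simp [mul_assoc])).choose_spec⟩
  left_inv a := by
    apply Subtype.ext; apply Subtype.ext
    simp [mul_assoc]
  right_inv b := by
    apply Subtype.ext
    simp [mul_assoc]
  map_mul' a b := by
    apply Subtype.ext
    simp [mul_assoc]

theorem conj_apply_eq_iff {g a : Equiv.Perm GolayPt} {p p' : GolayPt} (hg : g p = p') :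
    (g * a * g⁻¹) p' = p' ↔ a p = p := by
  subst hg
  simp

theorem conj_mem_M24_iff {g a : Equiv.Perm GolayPt} (hg : g ∈ M24) :
    g * a * g⁻¹ ∈ M24 ↔ a ∈ M24 := by
  rw [Subgroup.mul_mem_cancel_right _ (inv_mem hg), Subgroup.mul_mem_cancel_left _ hg]

theorem conj_smul_eq_iff {g a : Equiv.Perm GolayPt} {s s' : Finset GolayPt} (hg : g • s = s') :
    (g * a * g⁻¹) • s' = s' ↔ a • s = s := by
  subst hg
  simp [mul_smul]

theorem exists_move5 (x : List GolayPt) (hnd : x.Nodup) (hlen : x.length ≤ 5) :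
    ∃ g ∈ M24, x.map g = ([rep24.pt 23, rep24.pt 0, rep24.pt 1, rep24.pt 2, rep24.pt 3]).take x.length := by
  classical
  obtain ⟨t, ht, htc⟩ := Finset.exists_superset_card_eq (s := x.toFinset) (n := 5)
    (by rw [List.toFinset_card_of_nodup hnd]; exact hlen) (by simp)
  have hsub : x.toFinset ⊆ t := ht
  let y := x ++ (t \ x.toFinset).toList
  have hy : y.Nodup := List.nodup_append.mpr ⟨hnd, Finset.nodup_toList _, by
    intro a ha b hb hab
    simp only [Finset.mem_toList, Finset.mem_sdiff, List.mem_toFinset] at hb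
    exact hb.2 (hab ▸ ha)⟩
  have hyl : y.length = 5 := by
    have h1 := Finset.card_sdiff_add_card_inter t x.toFinset
    rw [Finset.inter_eq_right.mpr hsub, List.toFinset_card_of_nodup hnd, htc] at h1
    simp only [y, List.length_append, Finset.length_toList]
    omega
  obtain ⟨g, hg, hgy⟩ := m24_tupleTrans.conj hy
    (y := [rep24.pt 23, rep24.pt 0, rep24.pt 1, rep24.pt 2, rep24.pt 3])
    (by rw [rep24_pt (i := 23) (by norm_num), rep24_pt (i := 0) (by norm_num),
      rep24_pt (i := 1) (by norm_num), rep24_pt (i := 2) (by norm_num),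
      rep24_pt (i := 3) (by norm_num)]; decide)
    (fun _ _ => trivial) (fun _ _ => trivial) hyl rfl
  refine ⟨g, hg, ?_⟩
  rw [← hgy, List.map_append, List.take_left' (by simp)]

theorem m24_isMultiplyPretransitive : MulAction.IsMultiplyPretransitive M24 GolayPt 5 :=
  isMultiplyPretransitive_of_tupleTrans m24_tupleTrans

/-- Stabiliser of a point is M23. -/
theorem nonempty_stab1 (p : GolayPt) :
    Nonempty (MulAction.stabilizer M24 p ≃* Spor.M23) := by
  obtain ⟨g, hg, hgp⟩ := exists_move5 [p] (by simp) (by simp)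
  simp only [List.map_cons, List.map_nil, List.take_succ_cons, List.length_cons, List.length_nil,
    List.take_zero, List.cons.injEq, and_true] at hgp
  rw [rep24_pt23] at hgp
  refine ⟨subEquivConj _ _ g fun a => ?_⟩
  simp only [Spor.M23, Subgroup.mem_inf, conj_mem_M24_iff hg, MulAction.mem_stabilizer_iff,
    Equiv.Perm.smul_def, conj_apply_eq_iff hgp]
  exact ⟨fun ⟨ha, h⟩ => ⟨ha, h⟩, fun ⟨ha, h⟩ => ⟨ha, h⟩⟩

/-- Stabiliser of two points is M22. -/
theorem nonempty_stab2 (p q : GolayPt) (hpq : p ≠ q) :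
    Nonempty (↥(MulAction.stabilizer M24 p ⊓ MulAction.stabilizer M24 q) ≃* Spor.M22) := by
  obtain ⟨g, hg, hgp⟩ := exists_move5 [p, q] (by simp [hpq]) (by simp)
  simp only [List.map_cons, List.map_nil, List.take_succ_cons, List.length_cons, List.length_nil,
    List.take_zero, List.cons.injEq, and_true] at hgp
  rw [rep24_pt23, rep24_pt0] at hgp
  refine ⟨subEquivConj _ _ g fun a => ?_⟩
  simp only [Spor.M22, Spor.M23, Subgroup.mem_inf, conj_mem_M24_iff hg,
    MulAction.mem_stabilizer_iff, Equiv.Perm.smul_def, conj_apply_eq_iff hgp.1,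
    conj_apply_eq_iff hgp.2]
  exact ⟨fun ⟨ha, h1, h2⟩ => ⟨⟨ha, h1⟩, h2⟩, fun ⟨⟨ha, h1⟩, h2⟩ => ⟨ha, h1, h2⟩⟩

theorem squareDodecad_mem : Spor.squareDodecad ∈ dodecads :=
  ⟨⟨qrWord 0, Submodule.subset_span (Set.mem_union_left _ ⟨0, rfl⟩), rfl⟩, by
    rw [squareDodecad_eq, card_suppM]; decide +kernel⟩

theorem smul_mem_wordsOfWeight {g : Equiv.Perm GolayPt} (hg : g ∈ M24) {n : ℕ}
    {s : Finset GolayPt} (hs : s ∈ wordsOfWeight (golayCode : Set (GolayPt → ZMod 2)) n) :
    g • s ∈ wordsOfWeight (golayCode : Set (GolayPt → ZMod 2)) n := by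
  obtain ⟨hs1, hs2⟩ := hs
  refine ⟨?_, ?_⟩
  · exact (MulAction.mem_stabilizer_iff.mp hg) ▸ Set.smul_mem_smul_set hs1
  · rw [Finset.card_smul_finset]; exact hs2

theorem card_stab_squareDodecad :
    Nat.card (MulAction.stabilizer M24 Spor.squareDodecad) = 95040 := by
  rw [← card_m12]
  refine Nat.card_congr (subEquivConj _ _ 1 fun a => ?_).toEquiv
  simp only [one_mul, inv_one, mul_one, Spor.M12, Subgroup.mem_inf]
  exact ⟨fun ⟨ha, h⟩ => ⟨ha, h⟩, fun ⟨ha, h⟩ => ⟨ha, h⟩⟩

theorem exists_move_dodecad {d : Finset GolayPt} (hd : d ∈ dodecads) :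
    ∃ g ∈ M24, g • d = Spor.squareDodecad := by
  have h1 := Nat.card_congr (MulAction.orbitProdStabilizerEquivGroup M24 Spor.squareDodecad)
  rw [Nat.card_prod, card_m24, card_stab_squareDodecad] at h1
  have h2 : MulAction.orbit M24 Spor.squareDodecad = dodecads := by
    refine Set.eq_of_subset_of_ncard_le ?_ ?_ (Set.toFinite _)
    · rintro _ ⟨g, rfl⟩
      exact smul_mem_wordsOfWeight g.2 squareDodecad_mem
    · rw [← Nat.card_coe_set_eq (MulAction.orbit M24 Spor.squareDodecad), dodecads,
        ncard_wordsOfWeight, length_dodecads]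
      omega
  rw [← h2] at hd
  obtain ⟨g, hgd⟩ := hd
  refine ⟨(g : Equiv.Perm GolayPt)⁻¹, inv_mem g.2, ?_⟩
  rw [inv_smul_eq_iff]; exact hgd.symm

/-- Stabiliser of a dodecad is M12. -/
theorem nonempty_stab_dodecad {d : Finset GolayPt} (hd : d ∈ dodecads) :
    ∃ g ∈ M24, g • d = Spor.squareDodecad ∧
      Nonempty (MulAction.stabilizer M24 d ≃* Spor.M12) := by
  obtain ⟨g, hg, hgd⟩ := exists_move_dodecad hd
  refine ⟨g, hg, hgd, ⟨subEquivConj _ _ g fun a => ?_⟩⟩
  simp only [Spor.M12, Subgroup.mem_inf, conj_mem_M24_iff hg, MulAction.mem_stabilizer_iff,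
    conj_smul_eq_iff hgd]
  exact ⟨fun ⟨ha, h⟩ => ⟨ha, h⟩, fun ⟨ha, h⟩ => ⟨ha, h⟩⟩

theorem mem_maskSet_squareDodecad (p : GolayPt) :
    p ∈ maskSet coDodecad ↔ p ∈ Spor.squareDodecad := by
  rw [squareDodecad_eq]; exact mem_maskSet_coDodecad p

theorem exists_move_dodecad_point {d : Finset GolayPt} (hd : d ∈ dodecads) {p : GolayPt}
    (hp : p ∈ d) : ∃ g ∈ M24, g • d = Spor.squareDodecad ∧ g p = rep24.pt 0 := by
  obtain ⟨g, hg, hgd⟩ := exists_move_dodecad hd
  have hgp : g p ∈ maskSet coDodecad := by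
    rw [mem_maskSet_squareDodecad, ← hgd]
    exact Finset.smul_mem_smul_finset hp
  obtain ⟨k, hk, hkx⟩ := m12_tupleTrans2 [g p, if g p = rep24.pt 1 then rep24.pt 0 else rep24.pt 1]
    (by split_ifs with h
        · simp [h, rep24_pt (i := 0) (show 0 < 24 by norm_num),
            rep24_pt (i := 1) (show 1 < 24 by norm_num)]
        · simp [h])
    (by
      intro q hq
      simp only [List.mem_cons, List.not_mem_nil, or_false] at hq
      rcases hq with rfl | rfl
      · exact hgp
      · split_ifs <;> exact pt_mem_maskSet (by norm_num) (by decide +kernel))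
    rfl
  simp only [List.map_cons, List.map_nil, List.cons.injEq, and_true] at hkx
  refine ⟨k⁻¹ * g, mul_mem (inv_mem hk.1) hg, ?_, ?_⟩
  · rw [mul_smul, hgd, inv_smul_eq_iff]
    exact (MulAction.mem_stabilizer_iff.mp hk.2).symm
  · rw [Equiv.Perm.mul_apply, Equiv.Perm.inv_eq_iff_eq, hkx.1]

/-- Stabiliser of a dodecad and one of its points is M11. -/
theorem nonempty_stab_dodecad_point {d : Finset GolayPt} (hd : d ∈ dodecads) {p : GolayPt}
    (hp : p ∈ d) :
    Nonempty (↥(MulAction.stabilizer M24 d ⊓ MulAction.stabilizer M24 p) ≃* Spor.M11) := by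
  obtain ⟨g, hg, hgd, hgp⟩ := exists_move_dodecad_point hd hp
  rw [rep24_pt0] at hgp
  refine ⟨subEquivConj _ _ g fun a => ?_⟩
  simp only [Spor.M11, Spor.M12, Subgroup.mem_inf, conj_mem_M24_iff hg,
    MulAction.mem_stabilizer_iff, conj_smul_eq_iff hgd, Equiv.Perm.smul_def, conj_apply_eq_iff hgp]
  exact ⟨fun ⟨ha, h1, h2⟩ => ⟨⟨ha, h1⟩, h2⟩, fun ⟨⟨ha, h1⟩, h2⟩ => ⟨ha, h1, h2⟩⟩

theorem baseOctad_mem : suppM baseOctad ∈ octads :=
  suppM_cw_mem_octads baseOctad_facts.1 baseOctad_facts.2.1

theorem five_le_baseOctad_inter : 5 ≤ (suppM baseOctad ∩ suppM 0x80000f).card := by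
  rw [← suppM_and, card_suppM]; exact baseOctad_facts.2.2

theorem basePts_mem_baseOctad :
    ∀ p ∈ [rep24.pt 23, rep24.pt 0, rep24.pt 1, rep24.pt 2, rep24.pt 3],
      p ∈ suppM baseOctad := by
  intro p hp
  have h : ∀ b : Fin 24, b.val ∈ [23, 0, 1, 2, 3] → baseOctad.testBit b = true := by decide +kernel
  simp only [List.mem_cons, List.not_mem_nil, or_false] at hp
  rw [mem_suppM]
  rcases hp with rfl | rfl | rfl | rfl | rfl <;>
    rw [ptIdx_rep24 (by norm_num)]
  exacts [h 23 (by decide), h 0 (by decide), h 1 (by decide), h 2 (by decide), h 3 (by decide)]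

theorem exists_move_octad {o : Finset GolayPt} (ho : o ∈ octads) :
    ∃ g ∈ M24, g • o = suppM baseOctad := by
  classical
  obtain ⟨t, ht, htc⟩ := Finset.exists_subset_card_eq (s := o) (n := 5) (by rw [ho.2]; norm_num)
  obtain ⟨g, hg, hgt⟩ := exists_move5 t.toList (Finset.nodup_toList t) (by simp [htc])
  rw [Finset.length_toList, htc] at hgt
  refine ⟨g, hg, octad_eq_of_inter (smul_mem_wordsOfWeight hg ho) baseOctad_mem ?_⟩
  calc 5 = (g • t).card := by rw [Finset.card_smul_finset, htc]
    _ ≤ _ := Finset.card_le_card fun x hx => by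
      obtain ⟨y, hy, rfl⟩ := Finset.mem_smul_finset.mp hx
      rw [Finset.mem_inter]
      refine ⟨Finset.smul_mem_smul_finset (ht hy), basePts_mem_baseOctad _ ?_⟩
      have : g y ∈ t.toList.map g := List.mem_map.mpr ⟨y, Finset.mem_toList.mpr hy, rfl⟩
      rw [hgt] at this
      exact this

theorem isSteinerSystem_octads : IsSteinerSystem 5 8 octads := by
  refine ⟨fun b hb => hb.2, fun s hs => ?_⟩
  obtain ⟨g, hg, hgs⟩ := exists_move5 s.toList (Finset.nodup_toList s) (by simp [hs])
  rw [Finset.length_toList, hs] at hgs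
  have hsub : g • s ⊆ suppM baseOctad := by
    intro x hx
    obtain ⟨y, hy, rfl⟩ := Finset.mem_smul_finset.mp hx
    refine basePts_mem_baseOctad _ ?_
    have : g y ∈ s.toList.map g := List.mem_map.mpr ⟨y, Finset.mem_toList.mpr hy, rfl⟩
    rw [hgs] at this
    exact this
  refine ⟨g⁻¹ • suppM baseOctad,
    ⟨smul_mem_wordsOfWeight (inv_mem hg) baseOctad_mem, ?_⟩, ?_⟩
  · rwa [Finset.subset_smul_finset_iff, inv_inv]
  · rintro b ⟨hb, hsb⟩
    refine octad_eq_of_inter hb (smul_mem_wordsOfWeight (inv_mem hg) baseOctad_mem) ?_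
    rw [← hs]
    refine Finset.card_le_card (Finset.subset_inter hsb ?_)
    rwa [Finset.subset_smul_finset_iff, inv_inv]

theorem octadBasis_check : allBelow 12 (fun i => (octadBasis.getD i []).all (fun k =>
    Nat.blt k 4096 && Nat.beq (popBits 24 (cw k)) 8) &&
      Nat.beq ((octadBasis.getD i []).foldr Nat.xor 0) (Nat.shiftLeft 1 i)) = true := by
  decide +kernel

/-- A permutation preserving the octads preserves the code. -/
theorem setSystemAut_octads : M24 = setSystemAut octads := by
  apply le_antisymm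
  · intro g hg
    refine MulAction.mem_stabilizer_iff.mpr ?_
    refine Set.eq_of_subset_of_ncard_le ?_ ?_ (Set.toFinite _)
    · rintro _ ⟨s, hs, rfl⟩; exact smul_mem_wordsOfWeight hg hs
    · exact le_of_eq (Set.ncard_smul_set _ _).symm
  · intro g hg
    have hfix : g • octads = octads := MulAction.mem_stabilizer_iff.mp hg
    have hoct : ∀ k, k < 4096 → popBits 24 (cw k) = 8 → decW (cw k) ∘ g.symm ∈ golayCode := by
      intro k hk hw
      have h : g • suppM (cw k) ∈ octads :=
        hfix ▸ Set.smul_mem_smul_set (suppM_cw_mem_octads hk hw)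
      obtain ⟨w, hw', he⟩ := h.1
      rw [← support₂_decW, smul_support₂] at he
      rw [← support₂_injective he]; exact hw'
    refine (mem_M24_iff_words g).mpr ?_
    have hbase : ∀ i, i < 12 → decW (cw (2 ^ i)) ∘ g.symm ∈ golayCode := by
      intro i hi
      have h := allBelow_eq_true.mp octadBasis_check i hi
      simp only [Bool.and_eq_true, List.all_eq_true, Nat.blt_eq, Nat.beq_eq] at h
      obtain ⟨hks, hsum⟩ := h
      rw [show (2 : ℕ) ^ i = Nat.shiftLeft 1 i from (Nat.one_shiftLeft i).symm, ← hsum]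
      clear hsum
      generalize octadBasis.getD i [] = l at hks
      induction l with
      | nil =>
          have : cw 0 = 0 := by decide +kernel
          simp only [List.foldr_nil]
          rw [this, decW_zero]
          exact Submodule.zero_mem _
      | cons k l ih =>
          simp only [List.foldr_cons]
          rw [show Nat.xor k (l.foldr Nat.xor 0) = k ^^^ l.foldr Nat.xor 0 from rfl, cw_xor, decW_xor,
            Pi.add_comp]
          exact Submodule.add_mem _ (hoct k (hks k (by simp)).1 (hks k (by simp)).2)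
            (ih fun k' hk' => hks k' (by simp [hk']))
    intro w hw
    obtain ⟨k, hk, rfl⟩ := (mem_golayCode_iff w).mp hw
    suffices ∀ n, n ≤ 12 → ∀ k, k < 2 ^ n → decW (cw k) ∘ g.symm ∈ golayCode from
      this 12 le_rfl k hk
    intro n
    induction n with
    | zero =>
        intro _ k hk
        obtain rfl : k = 0 := by simpa using hk
        have : cw 0 = 0 := by decide +kernel
        rw [this, decW_zero]
        exact Submodule.zero_mem _
    | succ n ih =>
        intro hn k hk
        by_cases h : k < 2 ^ n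
        · exact ih (by omega) k h
        · have hlt : k ^^^ 2 ^ n < 2 ^ n := by
            refine Nat.lt_pow_two_of_testBit _ fun j hj => ?_
            rw [Nat.testBit_xor, Nat.testBit_two_pow]
            rcases eq_or_lt_of_le hj with rfl | hj'
            · rw [Nat.testBit_eq_decide_div_mod_eq]
              have : k / 2 ^ n = 1 :=
                Nat.div_eq_of_lt_le (by omega) (by rw [pow_succ] at hk; omega)
              simp [this]
            · have : k.testBit j = false := Nat.testBit_lt_two_pow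
                (lt_of_lt_of_le hk (Nat.pow_le_pow_right (by norm_num) hj'))
              simp [this, Nat.ne_of_lt hj']
          have hk' : k = (k ^^^ 2 ^ n) ^^^ 2 ^ n := by simp
          rw [hk', cw_xor, decW_xor, Pi.add_comp]
          exact Submodule.add_mem _ (ih (by omega) _ hlt) (hbase n (by omega))

/-- Recognise a permutation from a code. -/
theorem den_eq_of_apply {c : ℕ} (hc : rep24.okb c = true) (σ : Equiv.Perm GolayPt)
    (h : ∀ i : Fin 24, ptIdx (σ (e24 i)) = getField 5 c i) : rep24.den c = σ := by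
  refine Equiv.ext fun p => ptIdx_injective ?_
  rw [ptIdx_den (rep24.okb_sound _ hc)]
  have := h ⟨ptIdx p, ptIdx_lt p⟩
  rw [← rep24_pt (ptIdx_lt p), rep24_pt_ptIdx] at this
  exact this.symm

theorem den_shift : rep24.den (m24Gens.getD 0 0) = Equiv.optionCongr (Equiv.addRight (1 : ZMod 23)) :=
  den_eq_of_apply (by decide +kernel) _ (by decide +kernel)

theorem den_projInv : rep24.den (m24Gens.getD 1 0) = projInv :=
  den_eq_of_apply (by decide +kernel) _ (by decide +kernel)

theorem cubeTwist_code : ∀ i : Fin 24, ptIdx (cubeTwistFun (e24 i)) = getField 5 (m24Gens.getD 2 0) i := by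
  decide +kernel

theorem den_cubeTwist : rep24.den (m24Gens.getD 2 0) = cubeTwist :=
  den_eq_of_apply (by decide +kernel) _ fun i => by
    rw [← cubeTwist_code i]; rfl

theorem m24Gens_eq : m24Gens = [m24Gens.getD 0 0, m24Gens.getD 1 0, m24Gens.getD 2 0] := rfl

theorem m24_eq_closure : Subgroup.closure
    {Equiv.optionCongr (Equiv.addRight (1 : ZMod 23)), projInv, cubeTwist} = M24 := by
  rw [← den_shift, ← den_projInv, ← den_cubeTwist]
  apply le_antisymm
  · rw [Subgroup.closure_le]
    intro σ hσ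
    simp only [Set.mem_insert_iff, Set.mem_singleton_iff] at hσ
    have h : ∀ g ∈ m24Gens, rep24.den g ∈ M24 := fun g hg =>
      (mem_M24_of_check (List.all_eq_true.mp m24Gens_check g hg)).2
    rcases hσ with rfl | rfl | rfl <;> refine h _ ?_ <;> decide +kernel
  · rw [m24_eq]
    rw [Rep.chainGroup, Rep.span, Subgroup.closure_le]
    rintro _ ⟨t, ht, rfl⟩
    refine (rep24.slp_sound _ _ _ _ ?_ m24Slp_check t ht).2
    intro c hc
    have hok : (rep24.one :: m24Gens).all rep24.okb = true := by decide +kernel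
    refine ⟨rep24.okb_sound _ (List.all_eq_true.mp hok c hc), ?_⟩
    rw [m24Gens_eq] at hc
    simp only [List.mem_cons, List.not_mem_nil, or_false] at hc
    rcases hc with rfl | rfl | rfl | rfl
    · rw [rep24.den_one]; exact one_mem _
    all_goals exact Subgroup.subset_closure (by simp)

end Cfsg.Agent.Compute
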