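/-
Octads, dodecads, sextets, trios, pairs and triples as certified orbits of M24, with their
stabilisers.
-/
import Cfsg.Prelude.Def_SporadicCombinatorics
import Cfsg.Agent.Compute.MathieuActions
import Cfsg.Agent.Compute.Objects
import Cfsg.Agent.Compute.Config
import Cfsg.Agent.Compute.CfgOctCheckStab
import Cfsg.Agent.Compute.CfgSextCheckStab
import Cfsg.Agent.Compute.CfgTrioCheckStab
import Cfsg.Agent.Compute.CfgPairCheckStab
import Cfsg.Agent.Compute.CfgTripleCheckStab
import Cfsg.Agent.Compute.CfgDPairCheckStab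

set_option autoImplicit false

namespace Cfsg.Agent.Compute

open Cfsg
open scoped Pointwise

/-- The tetrad 23, 0, 1, 2. -/
def baseTetrad : ℕ := 0x800007

theorem octRoot_eq : cfgOctRoot = baseOctad := by decide +kernel

theorem roots_lt : cfgOctRoot < 2 ^ 24 ∧ cfgPairRoot < 2 ^ 24 ∧ cfgTripleRoot < 2 ^ 24 := by
  decide +kernel

theorem m24Gens_span : rep24.span m24Gens = rep24.chainGroup m24aChain := by
  refine Rep.span_of_genB m24a_check (steps := m24Slp) ?_
  decide +kernel

theorem octStab_spec : rep24.checkChain cfgOctChain = true ∧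
    M24 ⊓ MulAction.stabilizer (Equiv.Perm GolayPt) (suppM cfgOctRoot) = rep24.chainGroup cfgOctChain ∧
    MulAction.orbit M24 (suppM cfgOctRoot) = suppM '' {c | c ∈ cfgOctTree.codes} ∧
    (MulAction.orbit M24 (suppM cfgOctRoot)).ncard = 759 := by
  rw [m24_eq]; exact Obj.stab_spec (O := maskObj) m24a_check m24Gens_span cfgOct_stab roots_lt.1

theorem pairStab_spec : rep24.checkChain cfgPairChain = true ∧
    M24 ⊓ MulAction.stabilizer (Equiv.Perm GolayPt) (suppM cfgPairRoot) = rep24.chainGroup cfgPairChain ∧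
    MulAction.orbit M24 (suppM cfgPairRoot) = suppM '' {c | c ∈ cfgPairTree.codes} ∧
    (MulAction.orbit M24 (suppM cfgPairRoot)).ncard = 276 := by
  rw [m24_eq]; exact Obj.stab_spec (O := maskObj) m24a_check m24Gens_span cfgPair_stab roots_lt.2.1

theorem tripleStab_spec : rep24.checkChain cfgTripleChain = true ∧
    M24 ⊓ MulAction.stabilizer (Equiv.Perm GolayPt) (suppM cfgTripleRoot) = rep24.chainGroup cfgTripleChain ∧
    MulAction.orbit M24 (suppM cfgTripleRoot) = suppM '' {c | c ∈ cfgTripleTree.codes} ∧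
    (MulAction.orbit M24 (suppM cfgTripleRoot)).ncard = 2024 := by
  rw [m24_eq]; exact Obj.stab_spec (O := maskObj) m24a_check m24Gens_span cfgTriple_stab roots_lt.2.2

theorem sextStab_spec : rep24.checkChain cfgSextChain = true ∧
    M24 ⊓ MulAction.stabilizer (Equiv.Perm GolayPt) (decFam 6 cfgSextRoot) = rep24.chainGroup cfgSextChain ∧
    MulAction.orbit M24 (decFam 6 cfgSextRoot) = decFam 6 '' {c | c ∈ cfgSextTree.codes} ∧
    (MulAction.orbit M24 (decFam 6 cfgSextRoot)).ncard = 1771 := by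
  rw [m24_eq]; exact Obj.stab_spec (O := famObj 6) m24a_check m24Gens_span cfgSext_stab (goodFam_of_check cfgSext_good)

theorem trioStab_spec : rep24.checkChain cfgTrioChain = true ∧
    M24 ⊓ MulAction.stabilizer (Equiv.Perm GolayPt) (decFam 3 cfgTrioRoot) = rep24.chainGroup cfgTrioChain ∧
    MulAction.orbit M24 (decFam 3 cfgTrioRoot) = decFam 3 '' {c | c ∈ cfgTrioTree.codes} ∧
    (MulAction.orbit M24 (decFam 3 cfgTrioRoot)).ncard = 3795 := by
  rw [m24_eq]; exact Obj.stab_spec (O := famObj 3) m24a_check m24Gens_span cfgTrio_stab (goodFam_of_check cfgTrio_good)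

theorem dpairStab_spec : rep24.checkChain cfgDPairChain = true ∧
    M24 ⊓ MulAction.stabilizer (Equiv.Perm GolayPt) (decFam 2 cfgDPairRoot) = rep24.chainGroup cfgDPairChain ∧
    MulAction.orbit M24 (decFam 2 cfgDPairRoot) = decFam 2 '' {c | c ∈ cfgDPairTree.codes} ∧
    (MulAction.orbit M24 (decFam 2 cfgDPairRoot)).ncard = 1288 := by
  rw [m24_eq]; exact Obj.stab_spec (O := famObj 2) m24a_check m24Gens_span cfgDPair_stab (goodFam_of_check cfgDPair_good)

theorem octads_eq_orbit : octads = MulAction.orbit M24 (suppM cfgOctRoot) := by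
  rw [octRoot_eq]
  apply Set.Subset.antisymm
  · intro o ho
    obtain ⟨g, hg, hgo⟩ := exists_move_octad ho
    exact ⟨⟨g⁻¹, inv_mem hg⟩, by change g⁻¹ • suppM baseOctad = o; rw [← hgo, inv_smul_smul]⟩
  · rintro _ ⟨g, rfl⟩
    exact smul_mem_wordsOfWeight g.2 baseOctad_mem

theorem suppM_or (a b : ℕ) : suppM (a ||| b) = suppM a ∪ suppM b := by
  ext p; simp [mem_suppM, Nat.testBit_or]

theorem compl_suppM (a : ℕ) : (suppM a)ᶜ = suppM ((2 ^ 24 - 1) ^^^ a) := by
  ext p
  rw [Finset.mem_compl, mem_suppM, mem_suppM, Nat.testBit_xor, Nat.testBit_two_pow_sub_one,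
    decide_eq_true (ptIdx_lt p)]
  cases a.testBit (ptIdx p) <;> simp

theorem exists_cw_of_mem {n : ℕ} {s : Finset GolayPt}
    (hs : s ∈ wordsOfWeight (golayCode : Set (GolayPt → ZMod 2)) n) :
    ∃ k, k < 4096 ∧ popBits 24 (cw k) = n ∧ s = suppM (cw k) := by
  rw [wordsOfWeight_eq] at hs
  obtain ⟨k, hk, rfl⟩ := hs
  simp [idxOfWeight] at hk
  exact ⟨k, hk.1, hk.2, rfl⟩

theorem mem_octads_of_check {m : ℕ} (h : (Nat.beq (popBits 24 m) 8 && inCodeB m) = true) :
    suppM m ∈ octads := by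
  rw [Bool.and_eq_true, Nat.beq_eq] at h
  obtain ⟨k, hk, rfl⟩ := of_inCodeB h.2
  exact suppM_cw_mem_octads hk h.1

/-- Boolean test of a sextet code. -/
noncomputable def sextetB (c : ℕ) : Bool :=
  (masksOf 6 c).all (fun a => Nat.beq (popBits 24 a) 4 && (masksOf 6 c).all (fun b => Nat.beq a b ||
    (Nat.beq (popBits 24 (Nat.lor a b)) 8 && inCodeB (Nat.lor a b)))) && goodFamB 6 c

theorem mem_sextets_of_check {c : ℕ} (h : sextetB c = true) : decFam 6 c ∈ sextets := by
  simp only [sextetB, Bool.and_eq_true, List.all_eq_true, Nat.beq_eq, Bool.or_eq_true] at h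
  obtain ⟨l, hl, hlt, hp, hc⟩ := goodFam_of_check h.2
  have hm : masksOf 6 c = l := by rw [hc, ← hl]; exact masksOf_packMasks l hlt
  refine ⟨?_, ?_, ?_⟩
  · rw [decFam, hm, List.toFinset_card_of_nodup, List.length_map, hl]
    refine (List.nodup_map_iff_inj_on (hp.imp fun h => Nat.ne_of_lt h)).mpr ?_
    exact fun a ha b hb hab => (suppM_eq_iff (hlt a ha) (hlt b hb)).mp hab
  · intro t ht
    obtain ⟨a, ha, rfl⟩ := mem_decFam.mp ht
    rw [card_suppM]; exact (h.1 a ha).1
  · intro t ht u hu hne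
    obtain ⟨a, ha, rfl⟩ := mem_decFam.mp ht
    obtain ⟨b, hb, rfl⟩ := mem_decFam.mp hu
    rcases (h.1 a ha).2 b hb with hab | hab
    · exact absurd (by rw [hab]) hne
    · rw [← suppM_or]
      exact mem_octads_of_check (by rw [Bool.and_eq_true, Nat.beq_eq]; exact hab)

theorem sextRoot_check : sextetB cfgSextRoot = true := by decide +kernel

theorem baseTetrad_facts : baseTetrad ∈ masksOf 6 cfgSextRoot ∧ popBits 24 baseTetrad = 4 ∧
    baseTetrad < 2 ^ 24 := by decide +kernel

theorem tetrad_scan : (idxOfWeight 8).all (fun k =>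
    !(Nat.beq (Nat.land (cw k) baseTetrad) baseTetrad) ||
      memB (Nat.xor (cw k) baseTetrad) (masksOf 6 cfgSextRoot)) = true := by decide +kernel

theorem sextet_eq_root {S : Finset (Finset GolayPt)} (hS : S ∈ sextets)
    (ht : suppM baseTetrad ∈ S) : S = decFam 6 cfgSextRoot := by
  obtain ⟨hcard, h4, hoct⟩ := hS
  refine Finset.eq_of_subset_of_card_le (fun u hu => ?_) ?_
  · by_cases hut : u = suppM baseTetrad
    · rw [hut]; exact mem_decFam.mpr ⟨_, baseTetrad_facts.1, rfl⟩
    obtain ⟨k, hk, hw, hs⟩ := exists_cw_of_mem (hoct _ ht u hu fun h => hut h.symm)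
    have hdisj : Disjoint (suppM baseTetrad) u := by
      rw [← Finset.card_union_eq_card_add_card, hs, card_suppM, hw, h4 u hu, h4 _ ht]
    have hsub : suppM (cw k &&& baseTetrad) = suppM baseTetrad := by
      rw [suppM_and, ← hs]; exact Finset.inter_eq_right.mpr Finset.subset_union_left
    have hlt : cw k &&& baseTetrad < 2 ^ 24 :=
      lt_of_le_of_lt Nat.and_le_right baseTetrad_facts.2.2
    have heq := (suppM_eq_iff hlt baseTetrad_facts.2.2).mp hsub
    have h := List.all_eq_true.mp tetrad_scan k (by simp [idxOfWeight, hk, hw])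
    rw [Bool.or_eq_true, Bool.not_eq_true', memB_eq_true] at h
    rcases h with h | h
    · rw [Bool.eq_false_iff] at h
      exact absurd (by rw [Nat.beq_eq]; exact heq) h
    · refine mem_decFam.mpr ⟨_, h, ?_⟩
      ext p
      have hp : p ∈ suppM baseTetrad ∪ u ↔ p ∈ suppM (cw k) := by rw [hs]
      have hd : p ∈ suppM baseTetrad → p ∉ u := fun a b => Finset.disjoint_left.mp hdisj a b
      rw [mem_suppM, show Nat.xor (cw k) baseTetrad = cw k ^^^ baseTetrad from rfl, Nat.testBit_xor]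
      simp only [Finset.mem_union, mem_suppM] at hp hd
      cases h1 : (cw k).testBit (ptIdx p) <;> cases h2 : baseTetrad.testBit (ptIdx p) <;>
        simp_all
  · rw [(mem_sextets_of_check sextRoot_check).1, hcard]

theorem smul_mem_sextets {g : Equiv.Perm GolayPt} (hg : g ∈ M24) {S : Finset (Finset GolayPt)}
    (hS : S ∈ sextets) : g • S ∈ sextets := by
  obtain ⟨hc, h4, hoct⟩ := hS
  refine ⟨by rw [Finset.card_smul_finset]; exact hc, ?_, ?_⟩
  · intro t ht
    obtain ⟨t', ht', rfl⟩ := Finset.mem_smul_finset.mp ht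
    rw [Finset.card_smul_finset]; exact h4 t' ht'
  · intro t ht u hu hne
    obtain ⟨t', ht', rfl⟩ := Finset.mem_smul_finset.mp ht
    obtain ⟨u', hu', rfl⟩ := Finset.mem_smul_finset.mp hu
    rw [← Finset.smul_finset_union]
    exact smul_mem_wordsOfWeight hg (hoct t' ht' u' hu' fun h => hne (by rw [h]))

theorem exists_move_tetrad {t : Finset GolayPt} (ht : t.card = 4) :
    ∃ g ∈ M24, g • t = suppM baseTetrad := by
  classical
  obtain ⟨g, hg, hgt⟩ := exists_move5 t.toList (Finset.nodup_toList t) (by simp [ht])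
  rw [Finset.length_toList, ht] at hgt
  refine ⟨g, hg, Finset.eq_of_subset_of_card_le ?_ ?_⟩
  · intro x hx
    obtain ⟨y, hy, rfl⟩ := Finset.mem_smul_finset.mp hx
    have : g y ∈ t.toList.map g := List.mem_map.mpr ⟨y, Finset.mem_toList.mpr hy, rfl⟩
    rw [hgt] at this
    simp only [List.take_succ_cons, List.take_zero, List.mem_cons, List.not_mem_nil, or_false] at this
    rw [Equiv.Perm.smul_def, mem_suppM]
    rcases this with h | h | h | h <;> rw [h, ptIdx_rep24 (by norm_num)] <;> decide +kernel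
  · rw [card_suppM, baseTetrad_facts.2.1, Finset.card_smul_finset, ht]

theorem existsUnique_sextet {t : Finset GolayPt} (ht : t.card = 4) :
    ∃! S : Finset (Finset GolayPt), S ∈ sextets ∧ t ∈ S := by
  obtain ⟨g, hg, hgt⟩ := exists_move_tetrad ht
  refine ⟨g⁻¹ • decFam 6 cfgSextRoot,
    ⟨smul_mem_sextets (inv_mem hg) (mem_sextets_of_check sextRoot_check), ?_⟩, ?_⟩
  · rw [← inv_smul_smul g t, hgt]
    exact Finset.smul_mem_smul_finset (mem_decFam.mpr ⟨_, baseTetrad_facts.1, rfl⟩)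
  · rintro S ⟨hS, htS⟩
    rw [eq_inv_smul_iff]
    exact sextet_eq_root (smul_mem_sextets hg hS) (hgt ▸ Finset.smul_mem_smul_finset htS)

theorem sextets_eq_orbit : sextets = MulAction.orbit M24 (decFam 6 cfgSextRoot) := by
  apply Set.Subset.antisymm
  · intro S hS
    obtain ⟨t, ht⟩ := Finset.card_pos.mp (by rw [hS.1]; norm_num : 0 < S.card)
    obtain ⟨g, hg, hgt⟩ := exists_move_tetrad (hS.2.1 t ht)
    refine ⟨⟨g⁻¹, inv_mem hg⟩, ?_⟩
    change g⁻¹ • decFam 6 cfgSextRoot = S
    rw [inv_smul_eq_iff]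
    exact (sextet_eq_root (smul_mem_sextets hg hS) (hgt ▸ Finset.smul_mem_smul_finset ht)).symm
  · rintro _ ⟨g, rfl⟩
    exact smul_mem_sextets g.2 (mem_sextets_of_check sextRoot_check)

theorem compl_union_octad {o o' : Finset GolayPt} (ho : o ∈ octads) (ho' : o' ∈ octads)
    (hd : Disjoint o o') : (o ∪ o')ᶜ ∈ octads := by
  obtain ⟨a, ha, hwa, rfl⟩ := exists_cw_of_mem ho
  obtain ⟨b, hb, hwb, rfl⟩ := exists_cw_of_mem ho'
  have h1 : cw (golayCoeff.getD 23 0) = 2 ^ 24 - 1 := by decide +kernel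
  have hab : cw a ||| cw b = cw a ^^^ cw b := by
    refine Nat.eq_of_testBit_eq fun i => ?_
    rw [Nat.testBit_or, Nat.testBit_xor]
    by_cases hi : i < 24
    · have h : e24 ⟨i, hi⟩ ∈ suppM (cw a) → e24 ⟨i, hi⟩ ∉ suppM (cw b) :=
        fun x => Finset.disjoint_left.mp hd x
      simp only [mem_suppM, ptIdx_e24] at h
      cases h' : (cw a).testBit i <;> cases h'' : (cw b).testBit i <;> simp_all
    · rw [Nat.testBit_lt_two_pow (lt_of_lt_of_le (cw_lt ha)
        (Nat.pow_le_pow_right (by norm_num) (by omega)))]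
      simp
  have he : ((suppM (cw a) ∪ suppM (cw b))ᶜ : Finset GolayPt) =
      suppM (cw (golayCoeff.getD 23 0 ^^^ (a ^^^ b))) := by
    rw [← suppM_or, compl_suppM, cw_xor, cw_xor, h1, hab]
  refine ⟨(mem_supports_iff _).mpr ⟨_, ?_, he⟩, ?_⟩
  · exact Nat.xor_lt_two_pow (n := 12) (coeff_lt ⟨23, by norm_num⟩)
      (Nat.xor_lt_two_pow (n := 12) ha hb)
  · rw [Finset.card_compl, Finset.card_union_of_disjoint hd, card_suppM, card_suppM, hwa, hwb]
    rfl

theorem trio_scan : (idxOfWeight 8).all (fun k =>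
    !(Nat.beq (Nat.land (cw k) cfgOctRoot) 0) ||
      cfgTrioTree.memB (packMasks (sortNat [cfgOctRoot, cw k,
        Nat.xor (2 ^ 24 - 1) (Nat.lor cfgOctRoot (cw k))]))) = true := by decide +kernel

theorem smul_mem_trios {g : Equiv.Perm GolayPt} (hg : g ∈ M24) {T : Finset (Finset GolayPt)}
    (hT : T ∈ trios) : g • T ∈ trios := by
  obtain ⟨hc, hoct, hd⟩ := hT
  refine ⟨by rw [Finset.card_smul_finset]; exact hc, ?_, ?_⟩
  · intro o ho
    obtain ⟨o', ho', rfl⟩ := Finset.mem_smul_finset.mp ho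
    exact smul_mem_wordsOfWeight hg (hoct o' ho')
  · intro o ho o₂ ho₂ hne
    obtain ⟨a, ha, rfl⟩ := Finset.mem_smul_finset.mp ho
    obtain ⟨b, hb, rfl⟩ := Finset.mem_smul_finset.mp ho₂
    have h := Finset.disjoint_left.mp (hd a ha b hb fun h => hne (by rw [h]))
    refine Finset.disjoint_left.mpr fun x hx hy => ?_
    rw [← Finset.inv_smul_mem_iff] at hx hy
    exact h hx hy

theorem trio_mem_orbit_of_root {T : Finset (Finset GolayPt)} (hT : T ∈ trios)
    (ho : suppM cfgOctRoot ∈ T) : T ∈ decFam 3 '' {c | c ∈ cfgTrioTree.codes} := by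
  classical
  obtain ⟨hc, hoct, hd⟩ := hT
  obtain ⟨b, hb⟩ := Finset.card_pos.mp
    (by rw [Finset.card_erase_of_mem ho, hc]; norm_num : 0 < (T.erase (suppM cfgOctRoot)).card)
  obtain ⟨hbne, hbT⟩ := Finset.mem_erase.mp hb
  obtain ⟨k, hk, hw, rfl⟩ := exists_cw_of_mem (hoct b hbT)
  have hdb := hd _ ho _ hbT (Ne.symm hbne)
  have hzero : cw k &&& cfgOctRoot = 0 := by
    have h : suppM (cw k &&& cfgOctRoot) = suppM 0 := by
      rw [suppM_and, Finset.inter_comm, Finset.disjoint_iff_inter_eq_empty.mp hdb]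
      ext p; simp [mem_suppM]
    exact (suppM_eq_iff (lt_of_le_of_lt Nat.and_le_right roots_lt.1) (by norm_num)).mp h
  have h := List.all_eq_true.mp trio_scan k (by simp [idxOfWeight, hk, hw])
  rw [Bool.or_eq_true, Bool.not_eq_true'] at h
  rcases h with h | h
  · rw [Bool.eq_false_iff] at h
    exact absurd (by rw [Nat.beq_eq]; exact hzero) h
  refine ⟨_, OTr.mem_codes_of_memB h, ?_⟩
  set m3 := Nat.xor (2 ^ 24 - 1) (Nat.lor cfgOctRoot (cw k)) with hm3
  have hthird : suppM m3 = (suppM cfgOctRoot ∪ suppM (cw k))ᶜ := by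
    rw [← suppM_or, compl_suppM]; rfl
  have hlt : ∀ a ∈ sortNat [cfgOctRoot, cw k, m3], a < 2 ^ 24 := by
    intro a ha
    rw [(sortNat_perm _).mem_iff] at ha
    simp only [List.mem_cons, List.not_mem_nil, or_false] at ha
    rcases ha with rfl | rfl | rfl
    · exact roots_lt.1
    · exact cw_lt hk
    · exact Nat.xor_lt_two_pow (by norm_num) (Nat.or_lt_two_pow roots_lt.1 (cw_lt hk))
  have hlen : (sortNat [cfgOctRoot, cw k, m3]).length = 3 := by rw [(sortNat_perm _).length_eq]; rfl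
  have hm : masksOf 3 (packMasks (sortNat [cfgOctRoot, cw k, m3])) =
      sortNat [cfgOctRoot, cw k, m3] := hlen ▸ masksOf_packMasks _ hlt
  refine (Finset.eq_of_subset_of_card_le (fun t ht => ?_) ?_).symm
  · refine mem_decFam.mpr ?_
    rw [hm]
    by_cases h1 : t = suppM cfgOctRoot
    · exact ⟨cfgOctRoot, (sortNat_perm _).mem_iff.mpr (by simp), h1.symm⟩
    by_cases h2 : t = suppM (cw k)
    · exact ⟨cw k, (sortNat_perm _).mem_iff.mpr (by simp), h2.symm⟩
    refine ⟨m3, (sortNat_perm _).mem_iff.mpr (by simp), (Finset.eq_of_subset_of_card_le ?_ ?_).symm⟩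
    · rw [hthird]
      intro x hx
      rw [Finset.mem_compl, Finset.mem_union, not_or]
      exact ⟨fun hx' => Finset.disjoint_left.mp (hd t ht _ ho h1) hx hx',
        fun hx' => Finset.disjoint_left.mp (hd t ht _ hbT h2) hx hx'⟩
    · rw [hthird, (hoct t ht).2, Finset.card_compl, Finset.card_union_of_disjoint hdb,
        (hoct _ ho).2, (hoct _ hbT).2]
      simp
  · rw [hc, decFam, hm]
    exact (List.toFinset_card_le _).trans (by rw [List.length_map, hlen])

theorem trioRoot_facts : (masksOf 3 cfgTrioRoot).all (fun a => Nat.beq (popBits 24 a) 8 && inCodeB a &&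
    (masksOf 3 cfgTrioRoot).all (fun b => Nat.beq a b || Nat.beq (Nat.land a b) 0)) = true := by
  decide +kernel

theorem trioRoot_mem : decFam 3 cfgTrioRoot ∈ trios := by
  have h := trioRoot_facts
  simp only [List.all_eq_true, Bool.and_eq_true, Bool.or_eq_true, Nat.beq_eq] at h
  obtain ⟨l, hl, hlt, hp, hc⟩ := goodFam_of_check cfgTrio_good
  have hm : masksOf 3 cfgTrioRoot = l := by rw [hc, ← hl]; exact masksOf_packMasks l hlt
  refine ⟨?_, ?_, ?_⟩
  · rw [decFam, hm, List.toFinset_card_of_nodup, List.length_map, hl]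
    refine (List.nodup_map_iff_inj_on (hp.imp fun h => Nat.ne_of_lt h)).mpr ?_
    exact fun a ha b hb hab => (suppM_eq_iff (hlt a ha) (hlt b hb)).mp hab
  · intro t ht
    obtain ⟨a, ha, rfl⟩ := mem_decFam.mp ht
    exact mem_octads_of_check (by rw [Bool.and_eq_true, Nat.beq_eq]; exact (h a ha).1)
  · intro t ht u hu hne
    obtain ⟨a, ha, rfl⟩ := mem_decFam.mp ht
    obtain ⟨b, hb, rfl⟩ := mem_decFam.mp hu
    rcases (h a ha).2 b hb with hab | hab
    · exact absurd (by rw [hab]) hne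
    · rw [Finset.disjoint_iff_inter_eq_empty, ← suppM_and, show a &&& b = 0 from hab]
      ext p; simp [mem_suppM]

theorem trios_eq_orbit : trios = MulAction.orbit M24 (decFam 3 cfgTrioRoot) := by
  apply Set.Subset.antisymm
  · intro T hT
    obtain ⟨o, ho⟩ := Finset.card_pos.mp (by rw [hT.1]; norm_num : 0 < T.card)
    obtain ⟨g, hg, hgo⟩ := exists_move_octad (hT.2.1 o ho)
    have h := trio_mem_orbit_of_root (smul_mem_trios hg hT)
      (by rw [octRoot_eq, ← hgo]; exact Finset.smul_mem_smul_finset ho)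
    rw [← trioStab_spec.2.2.1] at h
    obtain ⟨u, hu⟩ := h
    refine ⟨⟨g⁻¹ * u, mul_mem (inv_mem hg) u.2⟩, ?_⟩
    change (g⁻¹ * (u : Equiv.Perm GolayPt)) • decFam 3 cfgTrioRoot = T
    rw [mul_smul, show (u : Equiv.Perm GolayPt) • decFam 3 cfgTrioRoot = g • T from hu, inv_smul_smul]
  · rintro _ ⟨g, rfl⟩
    exact smul_mem_trios g.2 trioRoot_mem

theorem ncard_sextets : sextets.ncard = 1771 := by rw [sextets_eq_orbit]; exact sextStab_spec.2.2.2

theorem ncard_trios : trios.ncard = 3795 := by rw [trios_eq_orbit]; exact trioStab_spec.2.2.2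

theorem exists_move_sextet {S : Finset (Finset GolayPt)} (hS : S ∈ sextets) :
    ∃ g ∈ M24, g • S = decFam 6 cfgSextRoot := by
  rw [sextets_eq_orbit] at hS
  obtain ⟨u, rfl⟩ := hS
  exact ⟨(u : Equiv.Perm GolayPt)⁻¹, inv_mem u.2, inv_smul_smul _ _⟩

theorem exists_move_trio {T : Finset (Finset GolayPt)} (hT : T ∈ trios) :
    ∃ g ∈ M24, g • T = decFam 3 cfgTrioRoot := by
  rw [trios_eq_orbit] at hT
  obtain ⟨u, rfl⟩ := hT
  exact ⟨(u : Equiv.Perm GolayPt)⁻¹, inv_mem u.2, inv_smul_smul _ _⟩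

end Cfsg.Agent.Compute
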