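/-
Suborbit statements at an arbitrary representative from certificates at the standard one.
-/
import Cfsg.Agent.Compute.Config

set_option autoImplicit false

namespace Cfsg.Agent.Compute

open scoped Pointwise

variable {G : Type*} [Group G] {Ω : Type*} [MulAction G Ω] {R : Rep G Ω}
variable {β γ : Type*} [MulAction G β] [MulAction G γ] {O : Obj R γ}

theorem smul_mem_orbit_subgroup {H : Subgroup G} {x : β} :
    ∀ h ∈ H, ∀ X ∈ MulAction.orbit H x, h • X ∈ MulAction.orbit H x := by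
  intro h hh X hX
  obtain ⟨u, rfl⟩ := hX
  exact ⟨⟨h, hh⟩ * u, mul_smul _ _ _⟩

/-- The suborbit representative at `x`, where `g • x` is standard. -/
noncomputable def subRep (O : Obj R γ) (g : G) (s : SubCert) : γ := g⁻¹ • O.dec s.root

theorem suborbits_transport [Finite G] {H : Subgroup G} {g : G} (hg : g ∈ H) {x x₀ : β}
    (hx : g • x = x₀) {K : List Level} (hK : H ⊓ MulAction.stabilizer G x₀ = R.chainGroup K)
    {gK : List ℕ} (hgK : R.span gK = R.chainGroup K) {U : Set γ} {codes : List ℕ} (hU : U = O.dec '' {c | c ∈ codes})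
    (hUinv : ∀ h ∈ H, ∀ X ∈ U, h • X ∈ U) {subs : List SubCert}
    (hpart : O.partB gK codes subs = true) (hgood : ∀ s ∈ subs, O.Good s.root)
    (hroot : ∀ s ∈ subs, O.dec s.root ∈ U) :
    (∀ s ∈ subs, subRep O g s ∈ U ∧
      (MulAction.orbit ↥(MulAction.stabilizer H x) (subRep O g s)).ncard = s.size ∧
      MulAction.orbit ↥(MulAction.stabilizer H x) (subRep O g s) ⊆ U) ∧
    ∀ X ∈ U, ∃ s ∈ subs, X ∈ MulAction.orbit ↥(MulAction.stabilizer H x) (subRep O g s) := by
  obtain ⟨h1, h2⟩ := Obj.part_spec hgK hpart hgood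
  have key : ∀ s, MulAction.orbit ↥(MulAction.stabilizer H x) (subRep O g s) =
      g⁻¹ • MulAction.orbit ↥(R.chainGroup K) (O.dec s.root) := by
    intro s
    rw [subRep, orbit_stabilizer_conj hg hx, smul_inv_smul, hK]
  refine ⟨fun s hs => ⟨hUinv _ (inv_mem hg) _ (hroot s hs), ?_, ?_⟩, fun X hX => ?_⟩
  · rw [key, Set.ncard_smul_set]; exact (h1 s hs).2
  · rw [key]
    rintro _ ⟨Y, hY, rfl⟩
    refine hUinv _ (inv_mem hg) _ ?_
    obtain ⟨k, hk, rfl⟩ := mem_orbit_subgroup.mp hY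
    rw [← hK] at hk
    exact hUinv _ (Subgroup.mem_inf.mp hk).1 _ (hroot s hs)
  · have hgX := hUinv g hg X hX
    rw [hU] at hgX
    obtain ⟨c, hc, hcX⟩ := hgX
    obtain ⟨s, hs, -, horb⟩ := h2 c hc
    refine ⟨s, hs, ?_⟩
    rw [key, Set.mem_inv_smul_set_iff, ← hcX]
    exact horb

theorem stabilizer_orbit_eq {H : Subgroup G} (x : β) (X : γ) :
    MulAction.orbit ↥(MulAction.stabilizer H x) X =
      MulAction.orbit ↥(H ⊓ MulAction.stabilizer G x) X := by
  rw [orbit_stabilizer_conj (one_mem H) (one_smul G x), inv_one, one_smul, one_smul]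

/-- Maximality at `x` from certified suborbits. -/
theorem isCoatom_of_transport [Finite G] {H : Subgroup G} {g : G} (hg : g ∈ H) {x x₀ : γ}
    (hx : g • x = x₀) {K : List Level} (hK : H ⊓ MulAction.stabilizer G x₀ = R.chainGroup K)
    {gK : List ℕ} (hgK : R.span gK = R.chainGroup K) {codes : List ℕ} (hU : MulAction.orbit H x₀ = O.dec '' {c | c ∈ codes}) {n : ℕ}
    (hn : (MulAction.orbit H x₀).ncard = n) (hn2 : 1 < n) {r : ℕ} (subs : Fin (r + 1) → SubCert)
    (hpart : O.partB gK codes (List.ofFn subs) = true) (hgood : ∀ i, O.Good (subs i).root)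
    (hroot : ∀ i, O.dec (subs i).root ∈ MulAction.orbit H x₀)
    (h0 : O.dec (subs 0).root = x₀) (hsum : ∑ i, (subs i).size = n)
    (hdiv : ∀ T : Finset (Fin (r + 1)), 0 ∈ T → (∑ i ∈ T, (subs i).size) ∣ n →
      T = {0} ∨ T = Finset.univ) :
    IsCoatom (MulAction.stabilizer H x) := by
  have hxx : MulAction.orbit H x₀ = MulAction.orbit H x := by
    rw [MulAction.orbit_eq_iff, ← hx]
    exact ⟨⟨g, hg⟩, rfl⟩
  have hmem : ∀ s ∈ List.ofFn subs, ∃ i, subs i = s := fun s hs => List.mem_ofFn.mp hs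
  obtain ⟨h1, h2⟩ := suborbits_transport (x := x) hg hx hK hgK hU
    (fun h hh X hX => by
      obtain ⟨u, rfl⟩ := hX
      exact ⟨⟨h, hh⟩ * u, mul_smul _ _ _⟩) hpart
    (fun s hs => by obtain ⟨i, rfl⟩ := hmem s hs; exact hgood i)
    (fun s hs => by obtain ⟨i, rfl⟩ := hmem s hs; exact hroot i)
  refine isCoatom_stabilizer_of_suborbits H x
    (fun i => MulAction.orbit ↥(MulAction.stabilizer H x) (subRep O g (subs i)))
    (fun i => (subs i).size) (hxx ▸ hn) hn2 ?_ ?_ ?_ ?_ ?_ hsum hdiv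
  · have e : subRep O g (subs 0) = x := by rw [subRep, h0, ← hx, inv_smul_smul]
    refine Set.eq_singleton_iff_unique_mem.mpr ⟨by rw [e]; exact MulAction.mem_orbit_self x, ?_⟩
    rintro _ ⟨k, rfl⟩
    change k • subRep O g (subs 0) = x
    rw [e]; exact k.2
  · intro X hX
    obtain ⟨s, hs, hXs⟩ := h2 X (hxx ▸ hX)
    obtain ⟨i, rfl⟩ := hmem s hs
    exact Set.mem_iUnion.mpr ⟨i, hXs⟩
  · intro i
    exact hxx ▸ (h1 _ (List.mem_ofFn.mpr ⟨i, rfl⟩)).2.2
  · intro i
    exact ⟨_, stabilizer_orbit_eq x _⟩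
  · intro i
    exact (h1 _ (List.mem_ofFn.mpr ⟨i, rfl⟩)).2.1

end Cfsg.Agent.Compute
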