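/-
The suborbit certificates as statements.
-/
import Cfsg.Agent.Compute.MathieuSets
import Cfsg.Agent.Compute.SuborbitTransport
import Cfsg.Agent.Compute.CfgOctCheckOct
import Cfsg.Agent.Compute.CfgOctCheckTrio
import Cfsg.Agent.Compute.CfgOctCheckSext
import Cfsg.Agent.Compute.CfgSextCheckOct
import Cfsg.Agent.Compute.CfgSextCheckTrio
import Cfsg.Agent.Compute.CfgSextCheckSext
import Cfsg.Agent.Compute.CfgTrioCheckOct
import Cfsg.Agent.Compute.CfgTrioCheckTrio
import Cfsg.Agent.Compute.CfgTrioCheckSext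
import Cfsg.Agent.Compute.CfgTripleCheckTriple
import Cfsg.Agent.Compute.CfgTripleCheckSext
import Cfsg.Agent.Compute.CfgDPairCheckDPair
import Cfsg.Agent.Compute.CfgDPairCheckSext
import Cfsg.Agent.Compute.CfgPairCheckPair

set_option autoImplicit false

namespace Cfsg.Agent.Compute

open Cfsg
open scoped Pointwise

theorem span_Oct : rep24.span cfgOctGens = rep24.chainGroup cfgOctChain :=
  Rep.span_of_genB octStab_spec.1 cfgOct_genCheck

theorem span_Sext : rep24.span cfgSextGens = rep24.chainGroup cfgSextChain :=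
  Rep.span_of_genB sextStab_spec.1 cfgSext_genCheck

theorem span_Trio : rep24.span cfgTrioGens = rep24.chainGroup cfgTrioChain :=
  Rep.span_of_genB trioStab_spec.1 cfgTrio_genCheck

theorem span_Pair : rep24.span cfgPairGens = rep24.chainGroup cfgPairChain :=
  Rep.span_of_genB pairStab_spec.1 cfgPair_genCheck

theorem span_Triple : rep24.span cfgTripleGens = rep24.chainGroup cfgTripleChain :=
  Rep.span_of_genB tripleStab_spec.1 cfgTriple_genCheck

theorem span_DPair : rep24.span cfgDPairGens = rep24.chainGroup cfgDPairChain :=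
  Rep.span_of_genB dpairStab_spec.1 cfgDPair_genCheck

theorem cfgOct_rootsOct : cfgOctOctSubs.all (fun s => cfgOctTree.memB s.root) = true := by
  decide +kernel

theorem good_OctOct : ∀ s ∈ cfgOctOctSubs, (maskObj).Good s.root :=
  fun s hs => by
    have h := List.all_eq_true.mp cfgOct_goodOct s hs
    rw [Nat.blt_eq] at h; exact lt_of_lt_of_eq h (by norm_num [Nat.shiftLeft_eq])

theorem root_OctOct : ∀ s ∈ cfgOctOctSubs,
    (maskObj).dec s.root ∈ MulAction.orbit M24 (suppM cfgOctRoot) := fun s hs => by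
  rw [octStab_spec.2.2.1]
  exact ⟨_, OTr.mem_codes_of_memB (List.all_eq_true.mp cfgOct_rootsOct s hs), rfl⟩

/-- Suborbits of the stabiliser of a Oct representative on Oct objects. -/
theorem subs_OctOct {g : Equiv.Perm GolayPt} (hg : g ∈ M24) {x : Finset GolayPt}
    (hx : g • x = suppM cfgOctRoot) :
    (∀ s ∈ cfgOctOctSubs, subRep (maskObj) g s ∈ octads ∧
      (MulAction.orbit ↥(MulAction.stabilizer M24 x) (subRep (maskObj) g s)).ncard = s.size ∧
      MulAction.orbit ↥(MulAction.stabilizer M24 x) (subRep (maskObj) g s) ⊆ octads) ∧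
    ∀ X ∈ octads, ∃ s ∈ cfgOctOctSubs,
      X ∈ MulAction.orbit ↥(MulAction.stabilizer M24 x) (subRep (maskObj) g s) :=
  suborbits_transport (O := maskObj) hg hx octStab_spec.2.1 span_Oct (octads_eq_orbit.trans octStab_spec.2.2.1) (fun h hh X hX => smul_mem_wordsOfWeight hh hX) cfgOct_partOct good_OctOct
    (fun s hs => octads_eq_orbit ▸ root_OctOct s hs)

theorem cfgOct_rootsTrio : cfgOctTrioSubs.all (fun s => cfgTrioTree.memB s.root) = true := by
  decide +kernel

theorem good_OctTrio : ∀ s ∈ cfgOctTrioSubs, (famObj 3).Good s.root :=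
  fun s hs => goodFam_of_check (List.all_eq_true.mp cfgOct_goodTrio s hs)

theorem root_OctTrio : ∀ s ∈ cfgOctTrioSubs,
    (famObj 3).dec s.root ∈ MulAction.orbit M24 (decFam 3 cfgTrioRoot) := fun s hs => by
  rw [trioStab_spec.2.2.1]
  exact ⟨_, OTr.mem_codes_of_memB (List.all_eq_true.mp cfgOct_rootsTrio s hs), rfl⟩

/-- Suborbits of the stabiliser of a Oct representative on Trio objects. -/
theorem subs_OctTrio {g : Equiv.Perm GolayPt} (hg : g ∈ M24) {x : Finset GolayPt}
    (hx : g • x = suppM cfgOctRoot) :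
    (∀ s ∈ cfgOctTrioSubs, subRep (famObj 3) g s ∈ trios ∧
      (MulAction.orbit ↥(MulAction.stabilizer M24 x) (subRep (famObj 3) g s)).ncard = s.size ∧
      MulAction.orbit ↥(MulAction.stabilizer M24 x) (subRep (famObj 3) g s) ⊆ trios) ∧
    ∀ X ∈ trios, ∃ s ∈ cfgOctTrioSubs,
      X ∈ MulAction.orbit ↥(MulAction.stabilizer M24 x) (subRep (famObj 3) g s) :=
  suborbits_transport (O := famObj 3) hg hx octStab_spec.2.1 span_Oct (trios_eq_orbit.trans trioStab_spec.2.2.1) (fun h hh X hX => smul_mem_trios hh hX) cfgOct_partTrio good_OctTrio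
    (fun s hs => trios_eq_orbit ▸ root_OctTrio s hs)

theorem cfgOct_rootsSext : cfgOctSextSubs.all (fun s => cfgSextTree.memB s.root) = true := by
  decide +kernel

theorem good_OctSext : ∀ s ∈ cfgOctSextSubs, (famObj 6).Good s.root :=
  fun s hs => goodFam_of_check (List.all_eq_true.mp cfgOct_goodSext s hs)

theorem root_OctSext : ∀ s ∈ cfgOctSextSubs,
    (famObj 6).dec s.root ∈ MulAction.orbit M24 (decFam 6 cfgSextRoot) := fun s hs => by
  rw [sextStab_spec.2.2.1]
  exact ⟨_, OTr.mem_codes_of_memB (List.all_eq_true.mp cfgOct_rootsSext s hs), rfl⟩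

/-- Suborbits of the stabiliser of a Oct representative on Sext objects. -/
theorem subs_OctSext {g : Equiv.Perm GolayPt} (hg : g ∈ M24) {x : Finset GolayPt}
    (hx : g • x = suppM cfgOctRoot) :
    (∀ s ∈ cfgOctSextSubs, subRep (famObj 6) g s ∈ sextets ∧
      (MulAction.orbit ↥(MulAction.stabilizer M24 x) (subRep (famObj 6) g s)).ncard = s.size ∧
      MulAction.orbit ↥(MulAction.stabilizer M24 x) (subRep (famObj 6) g s) ⊆ sextets) ∧
    ∀ X ∈ sextets, ∃ s ∈ cfgOctSextSubs,
      X ∈ MulAction.orbit ↥(MulAction.stabilizer M24 x) (subRep (famObj 6) g s) :=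
  suborbits_transport (O := famObj 6) hg hx octStab_spec.2.1 span_Oct (sextets_eq_orbit.trans sextStab_spec.2.2.1) (fun h hh X hX => smul_mem_sextets hh hX) cfgOct_partSext good_OctSext
    (fun s hs => sextets_eq_orbit ▸ root_OctSext s hs)

theorem cfgSext_rootsOct : cfgSextOctSubs.all (fun s => cfgOctTree.memB s.root) = true := by
  decide +kernel

theorem good_SextOct : ∀ s ∈ cfgSextOctSubs, (maskObj).Good s.root :=
  fun s hs => by
    have h := List.all_eq_true.mp cfgSext_goodOct s hs
    rw [Nat.blt_eq] at h; exact lt_of_lt_of_eq h (by norm_num [Nat.shiftLeft_eq])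

theorem root_SextOct : ∀ s ∈ cfgSextOctSubs,
    (maskObj).dec s.root ∈ MulAction.orbit M24 (suppM cfgOctRoot) := fun s hs => by
  rw [octStab_spec.2.2.1]
  exact ⟨_, OTr.mem_codes_of_memB (List.all_eq_true.mp cfgSext_rootsOct s hs), rfl⟩

/-- Suborbits of the stabiliser of a Sext representative on Oct objects. -/
theorem subs_SextOct {g : Equiv.Perm GolayPt} (hg : g ∈ M24) {x : Finset (Finset GolayPt)}
    (hx : g • x = decFam 6 cfgSextRoot) :
    (∀ s ∈ cfgSextOctSubs, subRep (maskObj) g s ∈ octads ∧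
      (MulAction.orbit ↥(MulAction.stabilizer M24 x) (subRep (maskObj) g s)).ncard = s.size ∧
      MulAction.orbit ↥(MulAction.stabilizer M24 x) (subRep (maskObj) g s) ⊆ octads) ∧
    ∀ X ∈ octads, ∃ s ∈ cfgSextOctSubs,
      X ∈ MulAction.orbit ↥(MulAction.stabilizer M24 x) (subRep (maskObj) g s) :=
  suborbits_transport (O := maskObj) hg hx sextStab_spec.2.1 span_Sext (octads_eq_orbit.trans octStab_spec.2.2.1) (fun h hh X hX => smul_mem_wordsOfWeight hh hX) cfgSext_partOct good_SextOct
    (fun s hs => octads_eq_orbit ▸ root_SextOct s hs)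

theorem cfgSext_rootsTrio : cfgSextTrioSubs.all (fun s => cfgTrioTree.memB s.root) = true := by
  decide +kernel

theorem good_SextTrio : ∀ s ∈ cfgSextTrioSubs, (famObj 3).Good s.root :=
  fun s hs => goodFam_of_check (List.all_eq_true.mp cfgSext_goodTrio s hs)

theorem root_SextTrio : ∀ s ∈ cfgSextTrioSubs,
    (famObj 3).dec s.root ∈ MulAction.orbit M24 (decFam 3 cfgTrioRoot) := fun s hs => by
  rw [trioStab_spec.2.2.1]
  exact ⟨_, OTr.mem_codes_of_memB (List.all_eq_true.mp cfgSext_rootsTrio s hs), rfl⟩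

/-- Suborbits of the stabiliser of a Sext representative on Trio objects. -/
theorem subs_SextTrio {g : Equiv.Perm GolayPt} (hg : g ∈ M24) {x : Finset (Finset GolayPt)}
    (hx : g • x = decFam 6 cfgSextRoot) :
    (∀ s ∈ cfgSextTrioSubs, subRep (famObj 3) g s ∈ trios ∧
      (MulAction.orbit ↥(MulAction.stabilizer M24 x) (subRep (famObj 3) g s)).ncard = s.size ∧
      MulAction.orbit ↥(MulAction.stabilizer M24 x) (subRep (famObj 3) g s) ⊆ trios) ∧
    ∀ X ∈ trios, ∃ s ∈ cfgSextTrioSubs,
      X ∈ MulAction.orbit ↥(MulAction.stabilizer M24 x) (subRep (famObj 3) g s) :=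
  suborbits_transport (O := famObj 3) hg hx sextStab_spec.2.1 span_Sext (trios_eq_orbit.trans trioStab_spec.2.2.1) (fun h hh X hX => smul_mem_trios hh hX) cfgSext_partTrio good_SextTrio
    (fun s hs => trios_eq_orbit ▸ root_SextTrio s hs)

theorem cfgSext_rootsSext : cfgSextSextSubs.all (fun s => cfgSextTree.memB s.root) = true := by
  decide +kernel

theorem good_SextSext : ∀ s ∈ cfgSextSextSubs, (famObj 6).Good s.root :=
  fun s hs => goodFam_of_check (List.all_eq_true.mp cfgSext_goodSext s hs)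

theorem root_SextSext : ∀ s ∈ cfgSextSextSubs,
    (famObj 6).dec s.root ∈ MulAction.orbit M24 (decFam 6 cfgSextRoot) := fun s hs => by
  rw [sextStab_spec.2.2.1]
  exact ⟨_, OTr.mem_codes_of_memB (List.all_eq_true.mp cfgSext_rootsSext s hs), rfl⟩

/-- Suborbits of the stabiliser of a Sext representative on Sext objects. -/
theorem subs_SextSext {g : Equiv.Perm GolayPt} (hg : g ∈ M24) {x : Finset (Finset GolayPt)}
    (hx : g • x = decFam 6 cfgSextRoot) :
    (∀ s ∈ cfgSextSextSubs, subRep (famObj 6) g s ∈ sextets ∧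
      (MulAction.orbit ↥(MulAction.stabilizer M24 x) (subRep (famObj 6) g s)).ncard = s.size ∧
      MulAction.orbit ↥(MulAction.stabilizer M24 x) (subRep (famObj 6) g s) ⊆ sextets) ∧
    ∀ X ∈ sextets, ∃ s ∈ cfgSextSextSubs,
      X ∈ MulAction.orbit ↥(MulAction.stabilizer M24 x) (subRep (famObj 6) g s) :=
  suborbits_transport (O := famObj 6) hg hx sextStab_spec.2.1 span_Sext (sextets_eq_orbit.trans sextStab_spec.2.2.1) (fun h hh X hX => smul_mem_sextets hh hX) cfgSext_partSext good_SextSext
    (fun s hs => sextets_eq_orbit ▸ root_SextSext s hs)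

theorem cfgTrio_rootsOct : cfgTrioOctSubs.all (fun s => cfgOctTree.memB s.root) = true := by
  decide +kernel

theorem good_TrioOct : ∀ s ∈ cfgTrioOctSubs, (maskObj).Good s.root :=
  fun s hs => by
    have h := List.all_eq_true.mp cfgTrio_goodOct s hs
    rw [Nat.blt_eq] at h; exact lt_of_lt_of_eq h (by norm_num [Nat.shiftLeft_eq])

theorem root_TrioOct : ∀ s ∈ cfgTrioOctSubs,
    (maskObj).dec s.root ∈ MulAction.orbit M24 (suppM cfgOctRoot) := fun s hs => by
  rw [octStab_spec.2.2.1]
  exact ⟨_, OTr.mem_codes_of_memB (List.all_eq_true.mp cfgTrio_rootsOct s hs), rfl⟩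

/-- Suborbits of the stabiliser of a Trio representative on Oct objects. -/
theorem subs_TrioOct {g : Equiv.Perm GolayPt} (hg : g ∈ M24) {x : Finset (Finset GolayPt)}
    (hx : g • x = decFam 3 cfgTrioRoot) :
    (∀ s ∈ cfgTrioOctSubs, subRep (maskObj) g s ∈ octads ∧
      (MulAction.orbit ↥(MulAction.stabilizer M24 x) (subRep (maskObj) g s)).ncard = s.size ∧
      MulAction.orbit ↥(MulAction.stabilizer M24 x) (subRep (maskObj) g s) ⊆ octads) ∧
    ∀ X ∈ octads, ∃ s ∈ cfgTrioOctSubs,
      X ∈ MulAction.orbit ↥(MulAction.stabilizer M24 x) (subRep (maskObj) g s) :=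
  suborbits_transport (O := maskObj) hg hx trioStab_spec.2.1 span_Trio (octads_eq_orbit.trans octStab_spec.2.2.1) (fun h hh X hX => smul_mem_wordsOfWeight hh hX) cfgTrio_partOct good_TrioOct
    (fun s hs => octads_eq_orbit ▸ root_TrioOct s hs)

theorem cfgTrio_rootsTrio : cfgTrioTrioSubs.all (fun s => cfgTrioTree.memB s.root) = true := by
  decide +kernel

theorem good_TrioTrio : ∀ s ∈ cfgTrioTrioSubs, (famObj 3).Good s.root :=
  fun s hs => goodFam_of_check (List.all_eq_true.mp cfgTrio_goodTrio s hs)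

theorem root_TrioTrio : ∀ s ∈ cfgTrioTrioSubs,
    (famObj 3).dec s.root ∈ MulAction.orbit M24 (decFam 3 cfgTrioRoot) := fun s hs => by
  rw [trioStab_spec.2.2.1]
  exact ⟨_, OTr.mem_codes_of_memB (List.all_eq_true.mp cfgTrio_rootsTrio s hs), rfl⟩

/-- Suborbits of the stabiliser of a Trio representative on Trio objects. -/
theorem subs_TrioTrio {g : Equiv.Perm GolayPt} (hg : g ∈ M24) {x : Finset (Finset GolayPt)}
    (hx : g • x = decFam 3 cfgTrioRoot) :
    (∀ s ∈ cfgTrioTrioSubs, subRep (famObj 3) g s ∈ trios ∧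
      (MulAction.orbit ↥(MulAction.stabilizer M24 x) (subRep (famObj 3) g s)).ncard = s.size ∧
      MulAction.orbit ↥(MulAction.stabilizer M24 x) (subRep (famObj 3) g s) ⊆ trios) ∧
    ∀ X ∈ trios, ∃ s ∈ cfgTrioTrioSubs,
      X ∈ MulAction.orbit ↥(MulAction.stabilizer M24 x) (subRep (famObj 3) g s) :=
  suborbits_transport (O := famObj 3) hg hx trioStab_spec.2.1 span_Trio (trios_eq_orbit.trans trioStab_spec.2.2.1) (fun h hh X hX => smul_mem_trios hh hX) cfgTrio_partTrio good_TrioTrio
    (fun s hs => trios_eq_orbit ▸ root_TrioTrio s hs)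

theorem cfgTrio_rootsSext : cfgTrioSextSubs.all (fun s => cfgSextTree.memB s.root) = true := by
  decide +kernel

theorem good_TrioSext : ∀ s ∈ cfgTrioSextSubs, (famObj 6).Good s.root :=
  fun s hs => goodFam_of_check (List.all_eq_true.mp cfgTrio_goodSext s hs)

theorem root_TrioSext : ∀ s ∈ cfgTrioSextSubs,
    (famObj 6).dec s.root ∈ MulAction.orbit M24 (decFam 6 cfgSextRoot) := fun s hs => by
  rw [sextStab_spec.2.2.1]
  exact ⟨_, OTr.mem_codes_of_memB (List.all_eq_true.mp cfgTrio_rootsSext s hs), rfl⟩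

/-- Suborbits of the stabiliser of a Trio representative on Sext objects. -/
theorem subs_TrioSext {g : Equiv.Perm GolayPt} (hg : g ∈ M24) {x : Finset (Finset GolayPt)}
    (hx : g • x = decFam 3 cfgTrioRoot) :
    (∀ s ∈ cfgTrioSextSubs, subRep (famObj 6) g s ∈ sextets ∧
      (MulAction.orbit ↥(MulAction.stabilizer M24 x) (subRep (famObj 6) g s)).ncard = s.size ∧
      MulAction.orbit ↥(MulAction.stabilizer M24 x) (subRep (famObj 6) g s) ⊆ sextets) ∧
    ∀ X ∈ sextets, ∃ s ∈ cfgTrioSextSubs,
      X ∈ MulAction.orbit ↥(MulAction.stabilizer M24 x) (subRep (famObj 6) g s) :=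
  suborbits_transport (O := famObj 6) hg hx trioStab_spec.2.1 span_Trio (sextets_eq_orbit.trans sextStab_spec.2.2.1) (fun h hh X hX => smul_mem_sextets hh hX) cfgTrio_partSext good_TrioSext
    (fun s hs => sextets_eq_orbit ▸ root_TrioSext s hs)

theorem cfgTriple_rootsTriple : cfgTripleTripleSubs.all (fun s => cfgTripleTree.memB s.root) = true := by
  decide +kernel

theorem good_TripleTriple : ∀ s ∈ cfgTripleTripleSubs, (maskObj).Good s.root :=
  fun s hs => by
    have h := List.all_eq_true.mp cfgTriple_goodTriple s hs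
    rw [Nat.blt_eq] at h; exact lt_of_lt_of_eq h (by norm_num [Nat.shiftLeft_eq])

theorem root_TripleTriple : ∀ s ∈ cfgTripleTripleSubs,
    (maskObj).dec s.root ∈ MulAction.orbit M24 (suppM cfgTripleRoot) := fun s hs => by
  rw [tripleStab_spec.2.2.1]
  exact ⟨_, OTr.mem_codes_of_memB (List.all_eq_true.mp cfgTriple_rootsTriple s hs), rfl⟩

/-- Suborbits of the stabiliser of a Triple representative on Triple objects. -/
theorem subs_TripleTriple {g : Equiv.Perm GolayPt} (hg : g ∈ M24) {x : Finset GolayPt}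
    (hx : g • x = suppM cfgTripleRoot) :
    (∀ s ∈ cfgTripleTripleSubs, subRep (maskObj) g s ∈ MulAction.orbit M24 (suppM cfgTripleRoot) ∧
      (MulAction.orbit ↥(MulAction.stabilizer M24 x) (subRep (maskObj) g s)).ncard = s.size ∧
      MulAction.orbit ↥(MulAction.stabilizer M24 x) (subRep (maskObj) g s) ⊆ MulAction.orbit M24 (suppM cfgTripleRoot)) ∧
    ∀ X ∈ MulAction.orbit M24 (suppM cfgTripleRoot), ∃ s ∈ cfgTripleTripleSubs,
      X ∈ MulAction.orbit ↥(MulAction.stabilizer M24 x) (subRep (maskObj) g s) :=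
  suborbits_transport (O := maskObj) hg hx tripleStab_spec.2.1 span_Triple tripleStab_spec.2.2.1 smul_mem_orbit_subgroup cfgTriple_partTriple good_TripleTriple
    root_TripleTriple

theorem cfgTriple_rootsSext : cfgTripleSextSubs.all (fun s => cfgSextTree.memB s.root) = true := by
  decide +kernel

theorem good_TripleSext : ∀ s ∈ cfgTripleSextSubs, (famObj 6).Good s.root :=
  fun s hs => goodFam_of_check (List.all_eq_true.mp cfgTriple_goodSext s hs)

theorem root_TripleSext : ∀ s ∈ cfgTripleSextSubs,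
    (famObj 6).dec s.root ∈ MulAction.orbit M24 (decFam 6 cfgSextRoot) := fun s hs => by
  rw [sextStab_spec.2.2.1]
  exact ⟨_, OTr.mem_codes_of_memB (List.all_eq_true.mp cfgTriple_rootsSext s hs), rfl⟩

/-- Suborbits of the stabiliser of a Triple representative on Sext objects. -/
theorem subs_TripleSext {g : Equiv.Perm GolayPt} (hg : g ∈ M24) {x : Finset GolayPt}
    (hx : g • x = suppM cfgTripleRoot) :
    (∀ s ∈ cfgTripleSextSubs, subRep (famObj 6) g s ∈ sextets ∧
      (MulAction.orbit ↥(MulAction.stabilizer M24 x) (subRep (famObj 6) g s)).ncard = s.size ∧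
      MulAction.orbit ↥(MulAction.stabilizer M24 x) (subRep (famObj 6) g s) ⊆ sextets) ∧
    ∀ X ∈ sextets, ∃ s ∈ cfgTripleSextSubs,
      X ∈ MulAction.orbit ↥(MulAction.stabilizer M24 x) (subRep (famObj 6) g s) :=
  suborbits_transport (O := famObj 6) hg hx tripleStab_spec.2.1 span_Triple (sextets_eq_orbit.trans sextStab_spec.2.2.1) (fun h hh X hX => smul_mem_sextets hh hX) cfgTriple_partSext good_TripleSext
    (fun s hs => sextets_eq_orbit ▸ root_TripleSext s hs)

theorem cfgDPair_rootsDPair : cfgDPairDPairSubs.all (fun s => cfgDPairTree.memB s.root) = true := by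
  decide +kernel

theorem good_DPairDPair : ∀ s ∈ cfgDPairDPairSubs, (famObj 2).Good s.root :=
  fun s hs => goodFam_of_check (List.all_eq_true.mp cfgDPair_goodDPair s hs)

theorem root_DPairDPair : ∀ s ∈ cfgDPairDPairSubs,
    (famObj 2).dec s.root ∈ MulAction.orbit M24 (decFam 2 cfgDPairRoot) := fun s hs => by
  rw [dpairStab_spec.2.2.1]
  exact ⟨_, OTr.mem_codes_of_memB (List.all_eq_true.mp cfgDPair_rootsDPair s hs), rfl⟩

/-- Suborbits of the stabiliser of a DPair representative on DPair objects. -/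
theorem subs_DPairDPair {g : Equiv.Perm GolayPt} (hg : g ∈ M24) {x : Finset (Finset GolayPt)}
    (hx : g • x = decFam 2 cfgDPairRoot) :
    (∀ s ∈ cfgDPairDPairSubs, subRep (famObj 2) g s ∈ MulAction.orbit M24 (decFam 2 cfgDPairRoot) ∧
      (MulAction.orbit ↥(MulAction.stabilizer M24 x) (subRep (famObj 2) g s)).ncard = s.size ∧
      MulAction.orbit ↥(MulAction.stabilizer M24 x) (subRep (famObj 2) g s) ⊆ MulAction.orbit M24 (decFam 2 cfgDPairRoot)) ∧
    ∀ X ∈ MulAction.orbit M24 (decFam 2 cfgDPairRoot), ∃ s ∈ cfgDPairDPairSubs,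
      X ∈ MulAction.orbit ↥(MulAction.stabilizer M24 x) (subRep (famObj 2) g s) :=
  suborbits_transport (O := famObj 2) hg hx dpairStab_spec.2.1 span_DPair dpairStab_spec.2.2.1 smul_mem_orbit_subgroup cfgDPair_partDPair good_DPairDPair
    root_DPairDPair

theorem cfgDPair_rootsSext : cfgDPairSextSubs.all (fun s => cfgSextTree.memB s.root) = true := by
  decide +kernel

theorem good_DPairSext : ∀ s ∈ cfgDPairSextSubs, (famObj 6).Good s.root :=
  fun s hs => goodFam_of_check (List.all_eq_true.mp cfgDPair_goodSext s hs)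

theorem root_DPairSext : ∀ s ∈ cfgDPairSextSubs,
    (famObj 6).dec s.root ∈ MulAction.orbit M24 (decFam 6 cfgSextRoot) := fun s hs => by
  rw [sextStab_spec.2.2.1]
  exact ⟨_, OTr.mem_codes_of_memB (List.all_eq_true.mp cfgDPair_rootsSext s hs), rfl⟩

/-- Suborbits of the stabiliser of a DPair representative on Sext objects. -/
theorem subs_DPairSext {g : Equiv.Perm GolayPt} (hg : g ∈ M24) {x : Finset (Finset GolayPt)}
    (hx : g • x = decFam 2 cfgDPairRoot) :
    (∀ s ∈ cfgDPairSextSubs, subRep (famObj 6) g s ∈ sextets ∧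
      (MulAction.orbit ↥(MulAction.stabilizer M24 x) (subRep (famObj 6) g s)).ncard = s.size ∧
      MulAction.orbit ↥(MulAction.stabilizer M24 x) (subRep (famObj 6) g s) ⊆ sextets) ∧
    ∀ X ∈ sextets, ∃ s ∈ cfgDPairSextSubs,
      X ∈ MulAction.orbit ↥(MulAction.stabilizer M24 x) (subRep (famObj 6) g s) :=
  suborbits_transport (O := famObj 6) hg hx dpairStab_spec.2.1 span_DPair (sextets_eq_orbit.trans sextStab_spec.2.2.1) (fun h hh X hX => smul_mem_sextets hh hX) cfgDPair_partSext good_DPairSext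
    (fun s hs => sextets_eq_orbit ▸ root_DPairSext s hs)

theorem cfgPair_rootsPair : cfgPairPairSubs.all (fun s => cfgPairTree.memB s.root) = true := by
  decide +kernel

theorem good_PairPair : ∀ s ∈ cfgPairPairSubs, (maskObj).Good s.root :=
  fun s hs => by
    have h := List.all_eq_true.mp cfgPair_goodPair s hs
    rw [Nat.blt_eq] at h; exact lt_of_lt_of_eq h (by norm_num [Nat.shiftLeft_eq])

theorem root_PairPair : ∀ s ∈ cfgPairPairSubs,
    (maskObj).dec s.root ∈ MulAction.orbit M24 (suppM cfgPairRoot) := fun s hs => by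
  rw [pairStab_spec.2.2.1]
  exact ⟨_, OTr.mem_codes_of_memB (List.all_eq_true.mp cfgPair_rootsPair s hs), rfl⟩

/-- Suborbits of the stabiliser of a Pair representative on Pair objects. -/
theorem subs_PairPair {g : Equiv.Perm GolayPt} (hg : g ∈ M24) {x : Finset GolayPt}
    (hx : g • x = suppM cfgPairRoot) :
    (∀ s ∈ cfgPairPairSubs, subRep (maskObj) g s ∈ MulAction.orbit M24 (suppM cfgPairRoot) ∧
      (MulAction.orbit ↥(MulAction.stabilizer M24 x) (subRep (maskObj) g s)).ncard = s.size ∧
      MulAction.orbit ↥(MulAction.stabilizer M24 x) (subRep (maskObj) g s) ⊆ MulAction.orbit M24 (suppM cfgPairRoot)) ∧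
    ∀ X ∈ MulAction.orbit M24 (suppM cfgPairRoot), ∃ s ∈ cfgPairPairSubs,
      X ∈ MulAction.orbit ↥(MulAction.stabilizer M24 x) (subRep (maskObj) g s) :=
  suborbits_transport (O := maskObj) hg hx pairStab_spec.2.1 span_Pair pairStab_spec.2.2.1 smul_mem_orbit_subgroup cfgPair_partPair good_PairPair
    root_PairPair

theorem first_Oct : cfgOctOctSub0.root = cfgOctRoot := by decide +kernel

theorem size_Oct : ∀ i : Fin 4, (![cfgOctOctSub0, cfgOctOctSub1, cfgOctOctSub2, cfgOctOctSub3] i).size =
    ![1, 30, 280, 448] i := by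
  decide +kernel

/-- The stabiliser of a Oct object is maximal in M24. -/
theorem isCoatom_Oct {g : Equiv.Perm GolayPt} (hg : g ∈ M24) {x : Finset GolayPt}
    (hx : g • x = suppM cfgOctRoot) : IsCoatom (MulAction.stabilizer M24 x) := by
  have hmem : ∀ i : Fin 4, ![cfgOctOctSub0, cfgOctOctSub1, cfgOctOctSub2, cfgOctOctSub3] i ∈ cfgOctOctSubs := by
    intro i; fin_cases i <;> simp [cfgOctOctSubs]
  refine isCoatom_of_transport (O := maskObj) hg hx octStab_spec.2.1 span_Oct octStab_spec.2.2.1 octStab_spec.2.2.2 (by norm_num)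
    ![cfgOctOctSub0, cfgOctOctSub1, cfgOctOctSub2, cfgOctOctSub3] cfgOct_partOct (fun i => good_OctOct _ (hmem i)) (fun i => root_OctOct _ (hmem i))
    (congrArg _ first_Oct) ?_ ?_
  · simp only [size_Oct]; decide
  · simp only [size_Oct]; decide

theorem first_Sext : cfgSextSextSub0.root = cfgSextRoot := by decide +kernel

theorem size_Sext : ∀ i : Fin 4, (![cfgSextSextSub0, cfgSextSextSub1, cfgSextSextSub2, cfgSextSextSub3] i).size =
    ![1, 90, 240, 1440] i := by
  decide +kernel

/-- The stabiliser of a Sext object is maximal in M24. -/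
theorem isCoatom_Sext {g : Equiv.Perm GolayPt} (hg : g ∈ M24) {x : Finset (Finset GolayPt)}
    (hx : g • x = decFam 6 cfgSextRoot) : IsCoatom (MulAction.stabilizer M24 x) := by
  have hmem : ∀ i : Fin 4, ![cfgSextSextSub0, cfgSextSextSub1, cfgSextSextSub2, cfgSextSextSub3] i ∈ cfgSextSextSubs := by
    intro i; fin_cases i <;> simp [cfgSextSextSubs]
  refine isCoatom_of_transport (O := famObj 6) hg hx sextStab_spec.2.1 span_Sext sextStab_spec.2.2.1 sextStab_spec.2.2.2 (by norm_num)
    ![cfgSextSextSub0, cfgSextSextSub1, cfgSextSextSub2, cfgSextSextSub3] cfgSext_partSext (fun i => good_SextSext _ (hmem i)) (fun i => root_SextSext _ (hmem i))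
    (congrArg _ first_Sext) ?_ ?_
  · simp only [size_Sext]; decide
  · simp only [size_Sext]; decide

theorem first_Trio : cfgTrioTrioSub0.root = cfgTrioRoot := by decide +kernel

theorem size_Trio : ∀ i : Fin 5, (![cfgTrioTrioSub0, cfgTrioTrioSub1, cfgTrioTrioSub2, cfgTrioTrioSub3, cfgTrioTrioSub4] i).size =
    ![1, 42, 56, 1008, 2688] i := by
  decide +kernel

/-- The stabiliser of a Trio object is maximal in M24. -/
theorem isCoatom_Trio {g : Equiv.Perm GolayPt} (hg : g ∈ M24) {x : Finset (Finset GolayPt)}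
    (hx : g • x = decFam 3 cfgTrioRoot) : IsCoatom (MulAction.stabilizer M24 x) := by
  have hmem : ∀ i : Fin 5, ![cfgTrioTrioSub0, cfgTrioTrioSub1, cfgTrioTrioSub2, cfgTrioTrioSub3, cfgTrioTrioSub4] i ∈ cfgTrioTrioSubs := by
    intro i; fin_cases i <;> simp [cfgTrioTrioSubs]
  refine isCoatom_of_transport (O := famObj 3) hg hx trioStab_spec.2.1 span_Trio trioStab_spec.2.2.1 trioStab_spec.2.2.2 (by norm_num)
    ![cfgTrioTrioSub0, cfgTrioTrioSub1, cfgTrioTrioSub2, cfgTrioTrioSub3, cfgTrioTrioSub4] cfgTrio_partTrio (fun i => good_TrioTrio _ (hmem i)) (fun i => root_TrioTrio _ (hmem i))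
    (congrArg _ first_Trio) ?_ ?_
  · simp only [size_Trio]; decide
  · simp only [size_Trio]; decide

theorem first_Pair : cfgPairPairSub0.root = cfgPairRoot := by decide +kernel

theorem size_Pair : ∀ i : Fin 3, (![cfgPairPairSub0, cfgPairPairSub1, cfgPairPairSub2] i).size =
    ![1, 44, 231] i := by
  decide +kernel

/-- The stabiliser of a Pair object is maximal in M24. -/
theorem isCoatom_Pair {g : Equiv.Perm GolayPt} (hg : g ∈ M24) {x : Finset GolayPt}
    (hx : g • x = suppM cfgPairRoot) : IsCoatom (MulAction.stabilizer M24 x) := by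
  have hmem : ∀ i : Fin 3, ![cfgPairPairSub0, cfgPairPairSub1, cfgPairPairSub2] i ∈ cfgPairPairSubs := by
    intro i; fin_cases i <;> simp [cfgPairPairSubs]
  refine isCoatom_of_transport (O := maskObj) hg hx pairStab_spec.2.1 span_Pair pairStab_spec.2.2.1 pairStab_spec.2.2.2 (by norm_num)
    ![cfgPairPairSub0, cfgPairPairSub1, cfgPairPairSub2] cfgPair_partPair (fun i => good_PairPair _ (hmem i)) (fun i => root_PairPair _ (hmem i))
    (congrArg _ first_Pair) ?_ ?_
  · simp only [size_Pair]; decide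
  · simp only [size_Pair]; decide

theorem first_DPair : cfgDPairDPairSub0.root = cfgDPairRoot := by decide +kernel

theorem size_DPair : ∀ i : Fin 3, (![cfgDPairDPairSub0, cfgDPairDPairSub1, cfgDPairDPairSub2] i).size =
    ![1, 495, 792] i := by
  decide +kernel

/-- The stabiliser of a DPair object is maximal in M24. -/
theorem isCoatom_DPair {g : Equiv.Perm GolayPt} (hg : g ∈ M24) {x : Finset (Finset GolayPt)}
    (hx : g • x = decFam 2 cfgDPairRoot) : IsCoatom (MulAction.stabilizer M24 x) := by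
  have hmem : ∀ i : Fin 3, ![cfgDPairDPairSub0, cfgDPairDPairSub1, cfgDPairDPairSub2] i ∈ cfgDPairDPairSubs := by
    intro i; fin_cases i <;> simp [cfgDPairDPairSubs]
  refine isCoatom_of_transport (O := famObj 2) hg hx dpairStab_spec.2.1 span_DPair dpairStab_spec.2.2.1 dpairStab_spec.2.2.2 (by norm_num)
    ![cfgDPairDPairSub0, cfgDPairDPairSub1, cfgDPairDPairSub2] cfgDPair_partDPair (fun i => good_DPairDPair _ (hmem i)) (fun i => root_DPairDPair _ (hmem i))
    (congrArg _ first_DPair) ?_ ?_
  · simp only [size_DPair]; decide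
  · simp only [size_DPair]; decide

theorem first_Triple : cfgTripleTripleSub0.root = cfgTripleRoot := by decide +kernel

theorem size_Triple : ∀ i : Fin 5, (![cfgTripleTripleSub0, cfgTripleTripleSub1, cfgTripleTripleSub2, cfgTripleTripleSub3, cfgTripleTripleSub4] i).size =
    ![1, 63, 210, 630, 1120] i := by
  decide +kernel

/-- The stabiliser of a Triple object is maximal in M24. -/
theorem isCoatom_Triple {g : Equiv.Perm GolayPt} (hg : g ∈ M24) {x : Finset GolayPt}
    (hx : g • x = suppM cfgTripleRoot) : IsCoatom (MulAction.stabilizer M24 x) := by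
  have hmem : ∀ i : Fin 5, ![cfgTripleTripleSub0, cfgTripleTripleSub1, cfgTripleTripleSub2, cfgTripleTripleSub3, cfgTripleTripleSub4] i ∈ cfgTripleTripleSubs := by
    intro i; fin_cases i <;> simp [cfgTripleTripleSubs]
  refine isCoatom_of_transport (O := maskObj) hg hx tripleStab_spec.2.1 span_Triple tripleStab_spec.2.2.1 tripleStab_spec.2.2.2 (by norm_num)
    ![cfgTripleTripleSub0, cfgTripleTripleSub1, cfgTripleTripleSub2, cfgTripleTripleSub3, cfgTripleTripleSub4] cfgTriple_partTriple (fun i => good_TripleTriple _ (hmem i)) (fun i => root_TripleTriple _ (hmem i))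
    (congrArg _ first_Triple) ?_ ?_
  · simp only [size_Triple]; decide
  · simp only [size_Triple]; decide

end Cfsg.Agent.Compute
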