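/-
Moving pairs, triples and dodecad pairs to the standard ones, and orbit bookkeeping.
-/
import Cfsg.Agent.Compute.MathieuSuborbits

set_option autoImplicit false

namespace Cfsg.Agent.Compute

open Cfsg
open scoped Pointwise

theorem orbit_first {G Ω β : Type*} [Group G] [MulAction G Ω] [MulAction G β] {R : Rep G Ω}
    {O : Obj R β} {H : Subgroup G} {g : G} {x x₀ : β} (hx : g • x = x₀) {s : SubCert}
    (h0 : O.dec s.root = x₀) :
    MulAction.orbit ↥(MulAction.stabilizer H x) (subRep O g s) = {x} := by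
  have e : subRep O g s = x := by rw [subRep, h0, ← hx, inv_smul_smul]
  rw [e]
  refine Set.eq_singleton_iff_unique_mem.mpr ⟨MulAction.mem_orbit_self x, ?_⟩
  rintro _ ⟨k, rfl⟩
  exact k.2

theorem exists_move_small {s : Finset GolayPt} {k m : ℕ} (hs : s.card = k) (hk : k ≤ 5)
    (hp : popBits 24 m = k)
    (hb : ∀ i ∈ [23, 0, 1, 2, 3].take k, i < 24 ∧ m.testBit i = true) :
    ∃ g ∈ M24, g • s = suppM m := by
  classical
  obtain ⟨g, hg, hgt⟩ := exists_move5 s.toList (Finset.nodup_toList s) (by simp [hs, hk])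
  rw [Finset.length_toList, hs] at hgt
  refine ⟨g, hg, Finset.eq_of_subset_of_card_le ?_ ?_⟩
  · intro x hx
    obtain ⟨y, hy, rfl⟩ := Finset.mem_smul_finset.mp hx
    have h : g y ∈ s.toList.map g := List.mem_map.mpr ⟨y, Finset.mem_toList.mpr hy, rfl⟩
    rw [hgt, show [rep24.pt 23, rep24.pt 0, rep24.pt 1, rep24.pt 2, rep24.pt 3] =
      [23, 0, 1, 2, 3].map rep24.pt from rfl, ← List.map_take, List.mem_map] at h
    obtain ⟨i, hi, hgi⟩ := h
    rw [Equiv.Perm.smul_def, ← hgi, mem_suppM, ptIdx_rep24 (hb i hi).1]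
    exact (hb i hi).2
  · rw [card_suppM, hp, Finset.card_smul_finset, hs]

theorem exists_move_pair {s : Finset GolayPt} (hs : s.card = 2) :
    ∃ g ∈ M24, g • s = suppM cfgPairRoot :=
  exists_move_small hs (by norm_num) (by decide +kernel) (by decide +kernel)

theorem exists_move_triple {s : Finset GolayPt} (hs : s.card = 3) :
    ∃ g ∈ M24, g • s = suppM cfgTripleRoot :=
  exists_move_small hs (by norm_num) (by decide +kernel) (by decide +kernel)

theorem dpairRoot_masks : masksOf 2 cfgDPairRoot = [dodecadMask, (2 ^ 24 - 1) ^^^ dodecadMask] := by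
  decide +kernel

theorem exists_move_dpair {d : Finset GolayPt} (hd : d ∈ dodecads) :
    ∃ g ∈ M24, g • ({d, dᶜ} : Finset (Finset GolayPt)) = decFam 2 cfgDPairRoot := by
  obtain ⟨g, hg, hgd⟩ := exists_move_dodecad hd
  refine ⟨g, hg, ?_⟩
  have hc : g • dᶜ = (g • d)ᶜ := by
    ext p; simp [Finset.mem_compl,
      ← Finset.inv_smul_mem_iff]
  rw [show g • ({d, dᶜ} : Finset (Finset GolayPt)) = {g • d, g • dᶜ} by
    simp [Finset.smul_finset_insert, Finset.smul_finset_singleton], hc, hgd, squareDodecad_eq,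
    compl_suppM, decFam, dpairRoot_masks]
  rfl

end Cfsg.Agent.Compute
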