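/-
Invariants of coded objects as invariants of the objects, and the coded universes.
-/
import Cfsg.Agent.Compute.LabelDefs
import Cfsg.Agent.Compute.Labels
import Cfsg.Agent.Compute.MathieuMaximal

set_option autoImplicit false

namespace Cfsg.Agent.Compute

open Cfsg
open scoped Pointwise

theorem interN_spec (r c : ℕ) : (suppM r ∩ suppM c).card = interN r c := by
  rw [interN, ← card_suppM, show Nat.land r c = r &&& c from rfl, suppM_and]

theorem pt_mem_suppM {i : ℕ} (hi : i < 24) {c : ℕ} :
    rep24.pt i ∈ suppM c ↔ c.testBit i = true := by rw [mem_suppM, ptIdx_rep24 hi]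

theorem bitN_spec {i : ℕ} (hi : i < 24) (c w : ℕ) :
    (if rep24.pt i ∈ suppM c then w else 0) = bitN c i w := by
  rw [bitN]
  cases h : c.testBit i <;> simp [pt_mem_suppM hi, h]

theorem and_lt (a b : ℕ) (hb : b < 2 ^ 24) : a &&& b < 2 ^ 24 :=
  lt_of_le_of_lt Nat.and_le_right hb

theorem suppM_subset_iff {m o : ℕ} (hm : m < 2 ^ 24) : suppM m ⊆ suppM o ↔ o &&& m = m := by
  rw [← Finset.inter_eq_right, ← suppM_and, suppM_eq_iff (and_lt o m hm) hm]

theorem octads_eq_codes : octads = suppM '' {c | c ∈ cfgOctTree.codes} :=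
  octads_eq_orbit.trans octStab_spec.2.2.1

theorem octTree_good : ∀ c ∈ cfgOctTree.codes, c < 2 ^ 24 :=
  Obj.stab_good (O := maskObj) cfgOct_stab roots_lt.1

theorem extN_spec {m : ℕ} (hm : m < 2 ^ 24) (w : ℕ) [Decidable (∃ o ∈ octads, suppM m ⊆ o)] :
    (if ∃ o ∈ octads, suppM m ⊆ o then w else 0) = extN m w := by
  have h : (∃ o ∈ octads, suppM m ⊆ o) ↔
      cfgOctTree.codes.any (fun o => Nat.beq (Nat.land o m) m) = true := by
    simp only [List.any_eq_true, Nat.beq_eq, octads_eq_codes]
    constructor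
    · rintro ⟨_, ⟨c, hc, rfl⟩, hs⟩
      exact ⟨c, hc, (suppM_subset_iff hm).mp hs⟩
    · rintro ⟨c, hc, hs⟩
      exact ⟨_, ⟨c, hc, rfl⟩, (suppM_subset_iff hm).mpr hs⟩
  rw [extN]
  cases hb : cfgOctTree.codes.any (fun o => Nat.beq (Nat.land o m) m)
  · rw [if_neg (fun e => by rw [h.mp e] at hb; exact Bool.noConfusion hb)]; rfl
  · rw [if_pos (h.mpr hb)]; rfl

theorem meetN_spec {r c : ℕ} (hr : r < 2 ^ 24) (hc : (famObj 6).Good c) :
    ((decFam 6 c).filter fun t => (t ∩ suppM r).Nonempty).card = meetN r c := by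
  obtain ⟨l, hl, hlt, hp, hcl⟩ := hc
  have hm : masksOf 6 c = l := by rw [hcl, ← hl]; exact masksOf_packMasks l hlt
  have hnd : l.Nodup := hp.imp fun h => Nat.ne_of_lt h
  rw [decFam, meetN, hm, show ((l.map suppM).toFinset.filter fun t => (t ∩ suppM r).Nonempty) =
      ((l.map suppM).filter fun t => decide (t ∩ suppM r).Nonempty).toFinset by
        ext t; simp only [Finset.mem_filter, List.mem_toFinset, List.mem_filter, decide_eq_true_eq],
    List.toFinset_card_of_nodup ((hnd.map_on fun a ha b hb hab =>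
      (suppM_eq_iff (hlt a ha) (hlt b hb)).mp hab).filter _)]
  clear hl hcl hm hp hnd
  induction l with
  | nil => rfl
  | cons a t ih =>
      change _ = cond (Nat.beq (Nat.land r a) 0) _ (Nat.succ _)
      rw [← ih fun b hb => hlt b (List.mem_cons_of_mem _ hb), List.map_cons, List.filter_cons]
      have key : (suppM a ∩ suppM r).Nonempty ↔ ¬ r &&& a = 0 := by
        rw [Finset.inter_comm, ← suppM_and, ← Finset.card_pos,
          Nat.pos_iff_ne_zero, not_iff_not, Finset.card_eq_zero]
        refine ⟨fun h => ?_, fun h => by rw [h]; ext p; simp [mem_suppM]⟩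
        refine (suppM_eq_iff (lt_of_le_of_lt Nat.and_le_left hr) (by norm_num)).mp ?_
        rw [h]; ext p; simp [mem_suppM]
      cases h : Nat.beq (Nat.land r a) 0
      · have hne : ¬ r &&& a = 0 := fun e => by simp [show Nat.land r a = r &&& a from rfl, e] at h
        rw [if_pos (by simpa using key.mpr hne), cond_false, List.length_cons]
      · rw [Nat.beq_eq] at h
        rw [if_neg (by simpa using fun e => key.mp e h), cond_true]

end Cfsg.Agent.Compute
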