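/-
Certified stabilisers of configurations of points, octads and dodecads.
-/
import Cfsg.Agent.Compute.MathieuLabels
import Cfsg.Agent.Compute.CfgPtCheckStab
import Cfsg.Agent.Compute.CfgPQCheckStab
import Cfsg.Agent.Compute.CfgDodCheckStab
import Cfsg.Agent.Compute.CfgDodPtCheckStab
import Cfsg.Agent.Compute.CfgPQBothCheckStab
import Cfsg.Agent.Compute.CfgPQOneCheckStab
import Cfsg.Agent.Compute.CfgPQPairCheckStab
import Cfsg.Agent.Compute.CfgOctInCheckStab
import Cfsg.Agent.Compute.CfgOctOutCheckStab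

set_option autoImplicit false

namespace Cfsg.Agent.Compute

open Cfsg
open scoped Pointwise

theorem root_lt_Pt : cfgPtRoot < 24 := by decide +kernel

theorem stabPt_spec : rep24.checkChain cfgPtChain = true ∧
    M24 ⊓ MulAction.stabilizer (Equiv.Perm GolayPt) (rep24.pt cfgPtRoot) = rep24.chainGroup cfgPtChain ∧
    MulAction.orbit (M24 : Subgroup (Equiv.Perm GolayPt)) (rep24.pt cfgPtRoot) = rep24.pt '' {c | c ∈ cfgPtTree.codes} ∧
    (MulAction.orbit (M24 : Subgroup (Equiv.Perm GolayPt)) (rep24.pt cfgPtRoot)).ncard = 24 := by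
  rw [m24_eq]; exact Obj.stab_spec (O := ptObj) m24a_check m24Gens_span cfgPt_stab root_lt_Pt

theorem span_cfgPt : rep24.span cfgPtGens = rep24.chainGroup cfgPtChain :=
  Rep.span_of_genB stabPt_spec.1 cfgPt_genCheck

theorem tree_good_Pt : ∀ c ∈ cfgPtTree.codes, c < 24 :=
  Obj.stab_good (O := ptObj) cfgPt_stab root_lt_Pt

theorem mem_cfgPt {g : Equiv.Perm GolayPt} (h : g ∈ rep24.chainGroup cfgPtChain) :
    g ∈ M24 ∧ g • rep24.pt cfgPtRoot = rep24.pt cfgPtRoot := by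
  have h' := (SetLike.ext_iff.mp stabPt_spec.2.1 g).mpr h
  exact ⟨(Subgroup.mem_inf.mp h').1, (Subgroup.mem_inf.mp h').2⟩

theorem root_lt_PQ : cfgPQRoot < 24 := by decide +kernel

theorem stabPQ_spec : rep24.checkChain cfgPQChain = true ∧
    rep24.chainGroup cfgPtChain ⊓ MulAction.stabilizer (Equiv.Perm GolayPt) (rep24.pt cfgPQRoot) = rep24.chainGroup cfgPQChain ∧
    MulAction.orbit (rep24.chainGroup cfgPtChain : Subgroup (Equiv.Perm GolayPt)) (rep24.pt cfgPQRoot) = rep24.pt '' {c | c ∈ cfgPQTree.codes} ∧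
    (MulAction.orbit (rep24.chainGroup cfgPtChain : Subgroup (Equiv.Perm GolayPt)) (rep24.pt cfgPQRoot)).ncard = 23 := by
  exact Obj.stab_spec (O := ptObj) stabPt_spec.1 span_cfgPt cfgPQ_stab root_lt_PQ

theorem span_cfgPQ : rep24.span cfgPQGens = rep24.chainGroup cfgPQChain :=
  Rep.span_of_genB stabPQ_spec.1 cfgPQ_genCheck

theorem tree_good_PQ : ∀ c ∈ cfgPQTree.codes, c < 24 :=
  Obj.stab_good (O := ptObj) cfgPQ_stab root_lt_PQ

theorem mem_cfgPQ {g : Equiv.Perm GolayPt} (h : g ∈ rep24.chainGroup cfgPQChain) :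
    g ∈ M24 ∧ g • rep24.pt cfgPtRoot = rep24.pt cfgPtRoot ∧ g • rep24.pt cfgPQRoot = rep24.pt cfgPQRoot := by
  have h' := (SetLike.ext_iff.mp stabPQ_spec.2.1 g).mpr h
  exact ⟨(mem_cfgPt (Subgroup.mem_inf.mp h').1).1, (mem_cfgPt (Subgroup.mem_inf.mp h').1).2, (Subgroup.mem_inf.mp h').2⟩

theorem root_lt_Dod : cfgDodRoot < 2 ^ 24 := by decide +kernel

theorem stabDod_spec : rep24.checkChain cfgDodChain = true ∧
    M24 ⊓ MulAction.stabilizer (Equiv.Perm GolayPt) (suppM cfgDodRoot) = rep24.chainGroup cfgDodChain ∧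
    MulAction.orbit (M24 : Subgroup (Equiv.Perm GolayPt)) (suppM cfgDodRoot) = suppM '' {c | c ∈ cfgDodTree.codes} ∧
    (MulAction.orbit (M24 : Subgroup (Equiv.Perm GolayPt)) (suppM cfgDodRoot)).ncard = 2576 := by
  rw [m24_eq]; exact Obj.stab_spec (O := maskObj) m24a_check m24Gens_span cfgDod_stab root_lt_Dod

theorem span_cfgDod : rep24.span cfgDodGens = rep24.chainGroup cfgDodChain :=
  Rep.span_of_genB stabDod_spec.1 cfgDod_genCheck

theorem tree_good_Dod : ∀ c ∈ cfgDodTree.codes, c < 2 ^ 24 :=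
  Obj.stab_good (O := maskObj) cfgDod_stab root_lt_Dod

theorem mem_cfgDod {g : Equiv.Perm GolayPt} (h : g ∈ rep24.chainGroup cfgDodChain) :
    g ∈ M24 ∧ g • suppM cfgDodRoot = suppM cfgDodRoot := by
  have h' := (SetLike.ext_iff.mp stabDod_spec.2.1 g).mpr h
  exact ⟨(Subgroup.mem_inf.mp h').1, (Subgroup.mem_inf.mp h').2⟩

theorem root_lt_DodPt : cfgDodPtRoot < 24 := by decide +kernel

theorem stabDodPt_spec : rep24.checkChain cfgDodPtChain = true ∧
    rep24.chainGroup cfgDodChain ⊓ MulAction.stabilizer (Equiv.Perm GolayPt) (rep24.pt cfgDodPtRoot) = rep24.chainGroup cfgDodPtChain ∧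
    MulAction.orbit (rep24.chainGroup cfgDodChain : Subgroup (Equiv.Perm GolayPt)) (rep24.pt cfgDodPtRoot) = rep24.pt '' {c | c ∈ cfgDodPtTree.codes} ∧
    (MulAction.orbit (rep24.chainGroup cfgDodChain : Subgroup (Equiv.Perm GolayPt)) (rep24.pt cfgDodPtRoot)).ncard = 12 := by
  exact Obj.stab_spec (O := ptObj) stabDod_spec.1 span_cfgDod cfgDodPt_stab root_lt_DodPt

theorem span_cfgDodPt : rep24.span cfgDodPtGens = rep24.chainGroup cfgDodPtChain :=
  Rep.span_of_genB stabDodPt_spec.1 cfgDodPt_genCheck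

theorem tree_good_DodPt : ∀ c ∈ cfgDodPtTree.codes, c < 24 :=
  Obj.stab_good (O := ptObj) cfgDodPt_stab root_lt_DodPt

theorem mem_cfgDodPt {g : Equiv.Perm GolayPt} (h : g ∈ rep24.chainGroup cfgDodPtChain) :
    g ∈ M24 ∧ g • suppM cfgDodRoot = suppM cfgDodRoot ∧ g • rep24.pt cfgDodPtRoot = rep24.pt cfgDodPtRoot := by
  have h' := (SetLike.ext_iff.mp stabDodPt_spec.2.1 g).mpr h
  exact ⟨(mem_cfgDod (Subgroup.mem_inf.mp h').1).1, (mem_cfgDod (Subgroup.mem_inf.mp h').1).2, (Subgroup.mem_inf.mp h').2⟩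

theorem root_lt_PQBoth : cfgPQBothRoot < 2 ^ 24 := by decide +kernel

theorem stabPQBoth_spec : rep24.checkChain cfgPQBothChain = true ∧
    rep24.chainGroup cfgPQChain ⊓ MulAction.stabilizer (Equiv.Perm GolayPt) (suppM cfgPQBothRoot) = rep24.chainGroup cfgPQBothChain ∧
    MulAction.orbit (rep24.chainGroup cfgPQChain : Subgroup (Equiv.Perm GolayPt)) (suppM cfgPQBothRoot) = suppM '' {c | c ∈ cfgPQBothTree.codes} ∧
    (MulAction.orbit (rep24.chainGroup cfgPQChain : Subgroup (Equiv.Perm GolayPt)) (suppM cfgPQBothRoot)).ncard = 77 := by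
  exact Obj.stab_spec (O := maskObj) stabPQ_spec.1 span_cfgPQ cfgPQBoth_stab root_lt_PQBoth

theorem span_cfgPQBoth : rep24.span cfgPQBothGens = rep24.chainGroup cfgPQBothChain :=
  Rep.span_of_genB stabPQBoth_spec.1 cfgPQBoth_genCheck

theorem tree_good_PQBoth : ∀ c ∈ cfgPQBothTree.codes, c < 2 ^ 24 :=
  Obj.stab_good (O := maskObj) cfgPQBoth_stab root_lt_PQBoth

theorem mem_cfgPQBoth {g : Equiv.Perm GolayPt} (h : g ∈ rep24.chainGroup cfgPQBothChain) :
    g ∈ M24 ∧ g • rep24.pt cfgPtRoot = rep24.pt cfgPtRoot ∧ g • rep24.pt cfgPQRoot = rep24.pt cfgPQRoot ∧ g • suppM cfgPQBothRoot = suppM cfgPQBothRoot := by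
  have h' := (SetLike.ext_iff.mp stabPQBoth_spec.2.1 g).mpr h
  exact ⟨(mem_cfgPQ (Subgroup.mem_inf.mp h').1).1, (mem_cfgPQ (Subgroup.mem_inf.mp h').1).2.1, (mem_cfgPQ (Subgroup.mem_inf.mp h').1).2.2, (Subgroup.mem_inf.mp h').2⟩

theorem root_lt_PQOne : cfgPQOneRoot < 2 ^ 24 := by decide +kernel

theorem stabPQOne_spec : rep24.checkChain cfgPQOneChain = true ∧
    rep24.chainGroup cfgPQChain ⊓ MulAction.stabilizer (Equiv.Perm GolayPt) (suppM cfgPQOneRoot) = rep24.chainGroup cfgPQOneChain ∧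
    MulAction.orbit (rep24.chainGroup cfgPQChain : Subgroup (Equiv.Perm GolayPt)) (suppM cfgPQOneRoot) = suppM '' {c | c ∈ cfgPQOneTree.codes} ∧
    (MulAction.orbit (rep24.chainGroup cfgPQChain : Subgroup (Equiv.Perm GolayPt)) (suppM cfgPQOneRoot)).ncard = 176 := by
  exact Obj.stab_spec (O := maskObj) stabPQ_spec.1 span_cfgPQ cfgPQOne_stab root_lt_PQOne

theorem span_cfgPQOne : rep24.span cfgPQOneGens = rep24.chainGroup cfgPQOneChain :=
  Rep.span_of_genB stabPQOne_spec.1 cfgPQOne_genCheck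

theorem tree_good_PQOne : ∀ c ∈ cfgPQOneTree.codes, c < 2 ^ 24 :=
  Obj.stab_good (O := maskObj) cfgPQOne_stab root_lt_PQOne

theorem mem_cfgPQOne {g : Equiv.Perm GolayPt} (h : g ∈ rep24.chainGroup cfgPQOneChain) :
    g ∈ M24 ∧ g • rep24.pt cfgPtRoot = rep24.pt cfgPtRoot ∧ g • rep24.pt cfgPQRoot = rep24.pt cfgPQRoot ∧ g • suppM cfgPQOneRoot = suppM cfgPQOneRoot := by
  have h' := (SetLike.ext_iff.mp stabPQOne_spec.2.1 g).mpr h
  exact ⟨(mem_cfgPQ (Subgroup.mem_inf.mp h').1).1, (mem_cfgPQ (Subgroup.mem_inf.mp h').1).2.1, (mem_cfgPQ (Subgroup.mem_inf.mp h').1).2.2, (Subgroup.mem_inf.mp h').2⟩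

theorem root_lt_PQPair : cfgPQPairRoot < 2 ^ 24 := by decide +kernel

theorem stabPQPair_spec : rep24.checkChain cfgPQPairChain = true ∧
    rep24.chainGroup cfgPQChain ⊓ MulAction.stabilizer (Equiv.Perm GolayPt) (suppM cfgPQPairRoot) = rep24.chainGroup cfgPQPairChain ∧
    MulAction.orbit (rep24.chainGroup cfgPQChain : Subgroup (Equiv.Perm GolayPt)) (suppM cfgPQPairRoot) = suppM '' {c | c ∈ cfgPQPairTree.codes} ∧
    (MulAction.orbit (rep24.chainGroup cfgPQChain : Subgroup (Equiv.Perm GolayPt)) (suppM cfgPQPairRoot)).ncard = 231 := by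
  exact Obj.stab_spec (O := maskObj) stabPQ_spec.1 span_cfgPQ cfgPQPair_stab root_lt_PQPair

theorem span_cfgPQPair : rep24.span cfgPQPairGens = rep24.chainGroup cfgPQPairChain :=
  Rep.span_of_genB stabPQPair_spec.1 cfgPQPair_genCheck

theorem tree_good_PQPair : ∀ c ∈ cfgPQPairTree.codes, c < 2 ^ 24 :=
  Obj.stab_good (O := maskObj) cfgPQPair_stab root_lt_PQPair

theorem mem_cfgPQPair {g : Equiv.Perm GolayPt} (h : g ∈ rep24.chainGroup cfgPQPairChain) :
    g ∈ M24 ∧ g • rep24.pt cfgPtRoot = rep24.pt cfgPtRoot ∧ g • rep24.pt cfgPQRoot = rep24.pt cfgPQRoot ∧ g • suppM cfgPQPairRoot = suppM cfgPQPairRoot := by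
  have h' := (SetLike.ext_iff.mp stabPQPair_spec.2.1 g).mpr h
  exact ⟨(mem_cfgPQ (Subgroup.mem_inf.mp h').1).1, (mem_cfgPQ (Subgroup.mem_inf.mp h').1).2.1, (mem_cfgPQ (Subgroup.mem_inf.mp h').1).2.2, (Subgroup.mem_inf.mp h').2⟩

theorem root_lt_OctIn : cfgOctInRoot < 24 := by decide +kernel

theorem stabOctIn_spec : rep24.checkChain cfgOctInChain = true ∧
    rep24.chainGroup cfgOctChain ⊓ MulAction.stabilizer (Equiv.Perm GolayPt) (rep24.pt cfgOctInRoot) = rep24.chainGroup cfgOctInChain ∧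
    MulAction.orbit (rep24.chainGroup cfgOctChain : Subgroup (Equiv.Perm GolayPt)) (rep24.pt cfgOctInRoot) = rep24.pt '' {c | c ∈ cfgOctInTree.codes} ∧
    (MulAction.orbit (rep24.chainGroup cfgOctChain : Subgroup (Equiv.Perm GolayPt)) (rep24.pt cfgOctInRoot)).ncard = 8 := by
  exact Obj.stab_spec (O := ptObj) octStab_spec.1 span_Oct cfgOctIn_stab root_lt_OctIn

theorem span_cfgOctIn : rep24.span cfgOctInGens = rep24.chainGroup cfgOctInChain :=
  Rep.span_of_genB stabOctIn_spec.1 cfgOctIn_genCheck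

theorem tree_good_OctIn : ∀ c ∈ cfgOctInTree.codes, c < 24 :=
  Obj.stab_good (O := ptObj) cfgOctIn_stab root_lt_OctIn

theorem mem_cfgOctIn {g : Equiv.Perm GolayPt} (h : g ∈ rep24.chainGroup cfgOctInChain) :
    g ∈ M24 ∧ g • suppM cfgOctRoot = suppM cfgOctRoot ∧ g • rep24.pt cfgOctInRoot = rep24.pt cfgOctInRoot := by
  have h' := (SetLike.ext_iff.mp stabOctIn_spec.2.1 g).mpr h
  exact ⟨(Subgroup.mem_inf.mp ((SetLike.ext_iff.mp octStab_spec.2.1 g).mpr (Subgroup.mem_inf.mp h').1)).1, (Subgroup.mem_inf.mp ((SetLike.ext_iff.mp octStab_spec.2.1 g).mpr (Subgroup.mem_inf.mp h').1)).2, (Subgroup.mem_inf.mp h').2⟩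

theorem root_lt_OctOut : cfgOctOutRoot < 24 := by decide +kernel

theorem stabOctOut_spec : rep24.checkChain cfgOctOutChain = true ∧
    rep24.chainGroup cfgOctChain ⊓ MulAction.stabilizer (Equiv.Perm GolayPt) (rep24.pt cfgOctOutRoot) = rep24.chainGroup cfgOctOutChain ∧
    MulAction.orbit (rep24.chainGroup cfgOctChain : Subgroup (Equiv.Perm GolayPt)) (rep24.pt cfgOctOutRoot) = rep24.pt '' {c | c ∈ cfgOctOutTree.codes} ∧
    (MulAction.orbit (rep24.chainGroup cfgOctChain : Subgroup (Equiv.Perm GolayPt)) (rep24.pt cfgOctOutRoot)).ncard = 16 := by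
  exact Obj.stab_spec (O := ptObj) octStab_spec.1 span_Oct cfgOctOut_stab root_lt_OctOut

theorem span_cfgOctOut : rep24.span cfgOctOutGens = rep24.chainGroup cfgOctOutChain :=
  Rep.span_of_genB stabOctOut_spec.1 cfgOctOut_genCheck

theorem tree_good_OctOut : ∀ c ∈ cfgOctOutTree.codes, c < 24 :=
  Obj.stab_good (O := ptObj) cfgOctOut_stab root_lt_OctOut

theorem mem_cfgOctOut {g : Equiv.Perm GolayPt} (h : g ∈ rep24.chainGroup cfgOctOutChain) :
    g ∈ M24 ∧ g • suppM cfgOctRoot = suppM cfgOctRoot ∧ g • rep24.pt cfgOctOutRoot = rep24.pt cfgOctOutRoot := by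
  have h' := (SetLike.ext_iff.mp stabOctOut_spec.2.1 g).mpr h
  exact ⟨(Subgroup.mem_inf.mp ((SetLike.ext_iff.mp octStab_spec.2.1 g).mpr (Subgroup.mem_inf.mp h').1)).1, (Subgroup.mem_inf.mp ((SetLike.ext_iff.mp octStab_spec.2.1 g).mpr (Subgroup.mem_inf.mp h').1)).2, (Subgroup.mem_inf.mp h').2⟩

end Cfsg.Agent.Compute
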