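/-
Separated partitions in terms of points, octads, dodecads, triples and sextets.
-/
import Cfsg.Agent.Compute.MathieuConfigs
import Cfsg.Agent.Compute.CfgDodLabDod
import Cfsg.Agent.Compute.CfgDodLabOct
import Cfsg.Agent.Compute.CfgDodLabPt
import Cfsg.Agent.Compute.CfgDodPtLabDod
import Cfsg.Agent.Compute.CfgDodPtLabPt
import Cfsg.Agent.Compute.CfgOctInLabOct
import Cfsg.Agent.Compute.CfgOctInLabPt
import Cfsg.Agent.Compute.CfgOctLabOct
import Cfsg.Agent.Compute.CfgOctOutLabOct
import Cfsg.Agent.Compute.CfgPQBothLabOct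
import Cfsg.Agent.Compute.CfgPQLabOct
import Cfsg.Agent.Compute.CfgPQLabPair
import Cfsg.Agent.Compute.CfgPQOneLabOct
import Cfsg.Agent.Compute.CfgPQPairLabPair
import Cfsg.Agent.Compute.CfgTripleLabSext
import Cfsg.Agent.Compute.CfgTripleLabTriple

set_option autoImplicit false

namespace Cfsg.Agent.Compute

open Cfsg
open scoped Pointwise

/-- `w` if the set lies in an octad. -/
noncomputable def extOf (S : Finset GolayPt) (w : ℕ) : ℕ :=
  @ite _ (∃ o ∈ octads, S ⊆ o) (Classical.propDecidable _) w 0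

theorem lor_lt {a b : ℕ} (ha : a < 2 ^ 24) (hb : b < 2 ^ 24) : a ||| b < 2 ^ 24 :=
  Nat.or_lt_two_pow ha hb

theorem extOf_spec {m w : ℕ} (hm : m < 2 ^ 24) : extOf (suppM m) w = extN m w :=
  @extN_spec m hm w (Classical.propDecidable _)

theorem extOf_pos {S : Finset GolayPt} (w : ℕ) (h : ∃ o ∈ octads, S ⊆ o) : extOf S w = w := by
  rw [extOf, if_pos h]

theorem extOf_neg {S : Finset GolayPt} (w : ℕ) (h : ¬ ∃ o ∈ octads, S ⊆ o) : extOf S w = 0 := by
  rw [extOf, if_neg h]

theorem ite_bool (b : Bool) (w : ℕ) : (if b = true then w else 0) = cond b w 0 := by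
  cases b <;> rfl

theorem ite_pt (i : ℕ) {c : ℕ} (hc : c < 24) (hi : i < 24) :
    (if rep24.pt c = rep24.pt i then 2 else 0) = bitN (Nat.shiftLeft 1 i) c 2 := by
  have h : (Nat.shiftLeft 1 i).testBit c = decide (c = i) := by
    rw [show Nat.shiftLeft 1 i = 1 <<< i from rfl, Nat.shiftLeft_eq, one_mul, Nat.testBit_two_pow]
    exact decide_eq_decide.mpr eq_comm
  by_cases e : c = i
  · subst e; simp [bitN, h]
  · rw [if_neg fun he => e (by
      have := congrArg ptIdx he; rwa [ptIdx_rep24 hc, ptIdx_rep24 hi] at this)]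
    rw [bitN, h, decide_eq_false e]; rfl

theorem lab_spec' {β : Type} [MulAction (Equiv.Perm GolayPt) β] {O : Obj rep24 β}
    {K : List Level} {gK : List ℕ} {U : OTr} {subs : List SubCert} {lab : ℕ → ℕ} (L : β → ℕ)
    (hgK : rep24.span gK = rep24.chainGroup K) (hpart : O.partB gK U.codes subs = true)
    (hlab : labB U lab subs = true) (hgood : ∀ c ∈ U.codes, O.Good c)
    (hL : ∀ c, O.Good c → L (O.dec c) = lab c) {S : Set β}
    (hS : S = O.dec '' {c | c ∈ U.codes}) :
    (∀ X ∈ S, ∀ Y ∈ S, L X = L Y → ∃ h ∈ rep24.chainGroup K, h • X = Y) ∧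
    ∀ v n : ℕ, (v, n) ∈ subs.map (fun s => (lab s.root, s.size)) →
      {X | X ∈ S ∧ L X = v}.ncard = n := by
  subst hS
  obtain ⟨h1, h2⟩ := Obj.lab_spec L hgK hpart hlab hgood hL
  refine ⟨h1, fun v n h => ?_⟩
  obtain ⟨s, hs, he⟩ := List.mem_map.mp h
  obtain ⟨rfl, rfl⟩ := Prod.ext_iff.mp he
  exact h2 s hs

theorem pairTree_good : ∀ c ∈ cfgPairTree.codes, c < 2 ^ 24 :=
  Obj.stab_good (O := maskObj) cfgPair_stab roots_lt.2.1

theorem tripleTree_good : ∀ c ∈ cfgTripleTree.codes, c < 2 ^ 24 :=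
  Obj.stab_good (O := maskObj) cfgTriple_stab roots_lt.2.2

theorem sextTree_good : ∀ c ∈ cfgSextTree.codes, (famObj 6).Good c :=
  Obj.stab_good (O := famObj 6) cfgSext_stab (goodFam_of_check cfgSext_good)

theorem octs_eq_codes : octads = suppM '' {c | c ∈ cfgOctTree.codes} := octads_eq_codes

theorem sexts_eq_codes : sextets = decFam 6 '' {c | c ∈ cfgSextTree.codes} :=
  sextets_eq_orbit.trans sextStab_spec.2.2.1

theorem card_eq_orbit {k r : ℕ} (hr : popBits 24 r = k)
    (hmove : ∀ s : Finset GolayPt, s.card = k → ∃ g ∈ M24, g • s = suppM r) :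
    {s : Finset GolayPt | s.card = k} = MulAction.orbit M24 (suppM r) := by
  ext s
  constructor
  · intro hs
    obtain ⟨g, hg, hgs⟩ := hmove s hs
    exact ⟨⟨g⁻¹, inv_mem hg⟩, by change g⁻¹ • suppM r = s; rw [← hgs, inv_smul_smul]⟩
  · rintro ⟨g, rfl⟩
    change ((g : Equiv.Perm GolayPt) • suppM r).card = k
    rw [Finset.card_smul_finset, card_suppM, hr]

theorem pairs_eq_codes : {s : Finset GolayPt | s.card = 2} = suppM '' {c | c ∈ cfgPairTree.codes} :=
  (card_eq_orbit (by decide +kernel) fun _ => exists_move_pair).trans pairStab_spec.2.2.1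

theorem triples_eq_codes :
    {s : Finset GolayPt | s.card = 3} = suppM '' {c | c ∈ cfgTripleTree.codes} :=
  (card_eq_orbit (by decide +kernel) fun _ => exists_move_triple).trans tripleStab_spec.2.2.1

theorem dodRoot_eq : suppM cfgDodRoot = Spor.squareDodecad := by
  rw [squareDodecad_eq, show cfgDodRoot = dodecadMask by decide +kernel]

theorem dodecads_eq_orbit : dodecads = MulAction.orbit M24 (suppM cfgDodRoot) := by
  rw [dodRoot_eq]
  apply Set.Subset.antisymm
  · intro d hd
    obtain ⟨g, hg, hgd⟩ := exists_move_dodecad hd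
    exact ⟨⟨g⁻¹, inv_mem hg⟩, by change g⁻¹ • Spor.squareDodecad = d; rw [← hgd, inv_smul_smul]⟩
  · rintro _ ⟨g, rfl⟩
    exact smul_mem_wordsOfWeight g.2 squareDodecad_mem

theorem dods_eq_codes : dodecads = suppM '' {c | c ∈ cfgDodTree.codes} :=
  dodecads_eq_orbit.trans stabDod_spec.2.2.1

theorem pts_eq_codes : (Set.univ : Set GolayPt) = rep24.pt '' {c | c ∈ cfgPtTree.codes} := by
  have h : (List.range 24).all (fun i => cfgPtTree.memB i) = true := by decide +kernel
  refine Set.Subset.antisymm (fun p _ => ⟨ptIdx p, ?_, rep24_pt_ptIdx p⟩) (Set.subset_univ _)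
  exact OTr.mem_codes_of_memB (List.all_eq_true.mp h _ (List.mem_range.mpr (ptIdx_lt p)))

/-- The invariant of the partition of Oct objects at a PQ configuration. -/
noncomputable def invPQOct (X : Finset GolayPt) : ℕ := (if rep24.pt 23 ∈ X then 2 else 0) + (if rep24.pt 0 ∈ X then 1 else 0)

theorem invPQOct_dec (c : ℕ) (hc : maskObj.Good c) :
    invPQOct (maskObj.dec c) = cfgPQOctLab c := by
    unfold invPQOct cfgPQOctLab
    simp only [maskObj]; rw [← bitN_spec (i := 23) (by norm_num), ← bitN_spec (i := 0) (by norm_num)]; rfl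

theorem partsPQOct :
    (∀ X ∈ octads, ∀ Y ∈ octads, invPQOct X = invPQOct Y →
      ∃ h ∈ rep24.chainGroup cfgPQChain, h • X = Y) ∧
    ∀ v n : ℕ, (v, n) ∈ cfgPQOctSubs.map (fun s => (cfgPQOctLab s.root, s.size)) →
      {X | X ∈ octads ∧ invPQOct X = v}.ncard = n :=
  lab_spec' (O := maskObj) invPQOct span_cfgPQ cfgPQ_partOct cfgPQ_labOct octTree_good invPQOct_dec octs_eq_codes

/-- The invariant of the partition of Pair objects at a PQ configuration. -/
noncomputable def invPQPair (X : Finset GolayPt) : ℕ := (if rep24.pt 23 ∈ X then 2 else 0) + (if rep24.pt 0 ∈ X then 1 else 0)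

theorem invPQPair_dec (c : ℕ) (hc : maskObj.Good c) :
    invPQPair (maskObj.dec c) = cfgPQPairLab c := by
    unfold invPQPair cfgPQPairLab
    simp only [maskObj]; rw [← bitN_spec (i := 23) (by norm_num), ← bitN_spec (i := 0) (by norm_num)]; rfl

theorem partsPQPair :
    (∀ X ∈ {s : Finset GolayPt | s.card = 2}, ∀ Y ∈ {s : Finset GolayPt | s.card = 2}, invPQPair X = invPQPair Y →
      ∃ h ∈ rep24.chainGroup cfgPQChain, h • X = Y) ∧
    ∀ v n : ℕ, (v, n) ∈ cfgPQPairSubs.map (fun s => (cfgPQPairLab s.root, s.size)) →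
      {X | X ∈ {s : Finset GolayPt | s.card = 2} ∧ invPQPair X = v}.ncard = n :=
  lab_spec' (O := maskObj) invPQPair span_cfgPQ cfgPQ_partPair cfgPQ_labPair pairTree_good invPQPair_dec pairs_eq_codes

/-- The invariant of the partition of Dod objects at a Dod configuration. -/
noncomputable def invDodDod (X : Finset GolayPt) : ℕ := (suppM cfgDodRoot ∩ X).card

theorem invDodDod_dec (c : ℕ) (hc : maskObj.Good c) :
    invDodDod (maskObj.dec c) = cfgDodDodLab c := by
    unfold invDodDod cfgDodDodLab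
    simp only [maskObj, interN_spec]

theorem partsDodDod :
    (∀ X ∈ dodecads, ∀ Y ∈ dodecads, invDodDod X = invDodDod Y →
      ∃ h ∈ rep24.chainGroup cfgDodChain, h • X = Y) ∧
    ∀ v n : ℕ, (v, n) ∈ cfgDodDodSubs.map (fun s => (cfgDodDodLab s.root, s.size)) →
      {X | X ∈ dodecads ∧ invDodDod X = v}.ncard = n :=
  lab_spec' (O := maskObj) invDodDod span_cfgDod cfgDod_partDod cfgDod_labDod tree_good_Dod invDodDod_dec dods_eq_codes

/-- The invariant of the partition of Oct objects at a Dod configuration. -/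
noncomputable def invDodOct (X : Finset GolayPt) : ℕ := (suppM cfgDodRoot ∩ X).card

theorem invDodOct_dec (c : ℕ) (hc : maskObj.Good c) :
    invDodOct (maskObj.dec c) = cfgDodOctLab c := by
    unfold invDodOct cfgDodOctLab
    simp only [maskObj, interN_spec]

theorem partsDodOct :
    (∀ X ∈ octads, ∀ Y ∈ octads, invDodOct X = invDodOct Y →
      ∃ h ∈ rep24.chainGroup cfgDodChain, h • X = Y) ∧
    ∀ v n : ℕ, (v, n) ∈ cfgDodOctSubs.map (fun s => (cfgDodOctLab s.root, s.size)) →
      {X | X ∈ octads ∧ invDodOct X = v}.ncard = n :=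
  lab_spec' (O := maskObj) invDodOct span_cfgDod cfgDod_partOct cfgDod_labOct octTree_good invDodOct_dec octs_eq_codes

/-- The invariant of the partition of Pt objects at a Dod configuration. -/
noncomputable def invDodPt (X : GolayPt) : ℕ := (if X ∈ suppM cfgDodRoot then 1 else 0)

theorem invDodPt_dec (c : ℕ) (hc : ptObj.Good c) :
    invDodPt (ptObj.dec c) = cfgDodPtLab c := by
    unfold invDodPt cfgDodPtLab
    simp only [ptObj, mem_suppM, ptIdx_rep24 hc]
    exact ite_bool _ _

theorem partsDodPt :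
    (∀ X ∈ (Set.univ : Set GolayPt), ∀ Y ∈ (Set.univ : Set GolayPt), invDodPt X = invDodPt Y →
      ∃ h ∈ rep24.chainGroup cfgDodChain, h • X = Y) ∧
    ∀ v n : ℕ, (v, n) ∈ cfgDodPtSubs.map (fun s => (cfgDodPtLab s.root, s.size)) →
      {X | X ∈ (Set.univ : Set GolayPt) ∧ invDodPt X = v}.ncard = n :=
  lab_spec' (O := ptObj) invDodPt span_cfgDod cfgDod_partPt cfgDod_labPt tree_good_Pt invDodPt_dec pts_eq_codes

/-- The invariant of the partition of Dod objects at a DodPt configuration. -/
noncomputable def invDodPtDod (X : Finset GolayPt) : ℕ := (suppM cfgDodRoot ∩ X).card + (if rep24.pt 0 ∈ X then 32 else 0)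

theorem invDodPtDod_dec (c : ℕ) (hc : maskObj.Good c) :
    invDodPtDod (maskObj.dec c) = cfgDodPtDodLab c := by
    unfold invDodPtDod cfgDodPtDodLab
    simp only [maskObj, interN_spec]; rw [← bitN_spec (i := 0) (by norm_num)]; rfl

theorem partsDodPtDod :
    (∀ X ∈ dodecads, ∀ Y ∈ dodecads, invDodPtDod X = invDodPtDod Y →
      ∃ h ∈ rep24.chainGroup cfgDodPtChain, h • X = Y) ∧
    ∀ v n : ℕ, (v, n) ∈ cfgDodPtDodSubs.map (fun s => (cfgDodPtDodLab s.root, s.size)) →
      {X | X ∈ dodecads ∧ invDodPtDod X = v}.ncard = n :=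
  lab_spec' (O := maskObj) invDodPtDod span_cfgDodPt cfgDodPt_partDod cfgDodPt_labDod tree_good_Dod invDodPtDod_dec dods_eq_codes

/-- The invariant of the partition of Pt objects at a DodPt configuration. -/
noncomputable def invDodPtPt (X : GolayPt) : ℕ := (if X ∈ suppM cfgDodRoot then 1 else 0) + (if X = rep24.pt 0 then 2 else 0)

theorem invDodPtPt_dec (c : ℕ) (hc : ptObj.Good c) :
    invDodPtPt (ptObj.dec c) = cfgDodPtPtLab c := by
    unfold invDodPtPt cfgDodPtPtLab
    simp only [ptObj, mem_suppM, ptIdx_rep24 hc]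
    exact congrArg₂ (· + ·) (ite_bool _ _) (ite_pt 0 hc (by norm_num))

theorem partsDodPtPt :
    (∀ X ∈ (Set.univ : Set GolayPt), ∀ Y ∈ (Set.univ : Set GolayPt), invDodPtPt X = invDodPtPt Y →
      ∃ h ∈ rep24.chainGroup cfgDodPtChain, h • X = Y) ∧
    ∀ v n : ℕ, (v, n) ∈ cfgDodPtPtSubs.map (fun s => (cfgDodPtPtLab s.root, s.size)) →
      {X | X ∈ (Set.univ : Set GolayPt) ∧ invDodPtPt X = v}.ncard = n :=
  lab_spec' (O := ptObj) invDodPtPt span_cfgDodPt cfgDodPt_partPt cfgDodPt_labPt tree_good_Pt invDodPtPt_dec pts_eq_codes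

/-- The invariant of the partition of Oct objects at a PQBoth configuration. -/
noncomputable def invPQBothOct (X : Finset GolayPt) : ℕ := (suppM cfgPQBothRoot ∩ X).card + ((if rep24.pt 23 ∈ X then 16 else 0) + (if rep24.pt 0 ∈ X then 32 else 0))

theorem invPQBothOct_dec (c : ℕ) (hc : maskObj.Good c) :
    invPQBothOct (maskObj.dec c) = cfgPQBothOctLab c := by
    unfold invPQBothOct cfgPQBothOctLab
    simp only [maskObj, interN_spec]; rw [← bitN_spec (i := 23) (by norm_num), ← bitN_spec (i := 0) (by norm_num)]; rfl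

theorem partsPQBothOct :
    (∀ X ∈ octads, ∀ Y ∈ octads, invPQBothOct X = invPQBothOct Y →
      ∃ h ∈ rep24.chainGroup cfgPQBothChain, h • X = Y) ∧
    ∀ v n : ℕ, (v, n) ∈ cfgPQBothOctSubs.map (fun s => (cfgPQBothOctLab s.root, s.size)) →
      {X | X ∈ octads ∧ invPQBothOct X = v}.ncard = n :=
  lab_spec' (O := maskObj) invPQBothOct span_cfgPQBoth cfgPQBoth_partOct cfgPQBoth_labOct octTree_good invPQBothOct_dec octs_eq_codes

/-- The invariant of the partition of Oct objects at a PQOne configuration. -/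
noncomputable def invPQOneOct (X : Finset GolayPt) : ℕ := (suppM cfgPQOneRoot ∩ X).card + ((if rep24.pt 23 ∈ X then 16 else 0) + (if rep24.pt 0 ∈ X then 32 else 0))

theorem invPQOneOct_dec (c : ℕ) (hc : maskObj.Good c) :
    invPQOneOct (maskObj.dec c) = cfgPQOneOctLab c := by
    unfold invPQOneOct cfgPQOneOctLab
    simp only [maskObj, interN_spec]; rw [← bitN_spec (i := 23) (by norm_num), ← bitN_spec (i := 0) (by norm_num)]; rfl

theorem partsPQOneOct :
    (∀ X ∈ octads, ∀ Y ∈ octads, invPQOneOct X = invPQOneOct Y →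
      ∃ h ∈ rep24.chainGroup cfgPQOneChain, h • X = Y) ∧
    ∀ v n : ℕ, (v, n) ∈ cfgPQOneOctSubs.map (fun s => (cfgPQOneOctLab s.root, s.size)) →
      {X | X ∈ octads ∧ invPQOneOct X = v}.ncard = n :=
  lab_spec' (O := maskObj) invPQOneOct span_cfgPQOne cfgPQOne_partOct cfgPQOne_labOct octTree_good invPQOneOct_dec octs_eq_codes

/-- The invariant of the partition of Pair objects at a PQPair configuration. -/
noncomputable def invPQPairPair (X : Finset GolayPt) : ℕ := ((suppM cfgPQPairRoot ∩ X).card + extOf (suppM (cfgPQPairRoot ||| 0x800001) ∪ X) 16) + ((if rep24.pt 23 ∈ X then 4 else 0) + (if rep24.pt 0 ∈ X then 8 else 0))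

theorem invPQPairPair_dec (c : ℕ) (hc : maskObj.Good c) :
    invPQPairPair (maskObj.dec c) = cfgPQPairPairLab c := by
    unfold invPQPairPair cfgPQPairPairLab
    simp only [maskObj, interN_spec]
    rw [← bitN_spec (i := 23) (by norm_num), ← bitN_spec (i := 0) (by norm_num), ← suppM_or, extOf_spec (lor_lt (lor_lt (root_lt_PQPair) (by norm_num)) hc)]; rfl

theorem partsPQPairPair :
    (∀ X ∈ {s : Finset GolayPt | s.card = 2}, ∀ Y ∈ {s : Finset GolayPt | s.card = 2}, invPQPairPair X = invPQPairPair Y →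
      ∃ h ∈ rep24.chainGroup cfgPQPairChain, h • X = Y) ∧
    ∀ v n : ℕ, (v, n) ∈ cfgPQPairPairSubs.map (fun s => (cfgPQPairPairLab s.root, s.size)) →
      {X | X ∈ {s : Finset GolayPt | s.card = 2} ∧ invPQPairPair X = v}.ncard = n :=
  lab_spec' (O := maskObj) invPQPairPair span_cfgPQPair cfgPQPair_partPair cfgPQPair_labPair pairTree_good invPQPairPair_dec pairs_eq_codes

/-- The invariant of the partition of Oct objects at a OctIn configuration. -/
noncomputable def invOctInOct (X : Finset GolayPt) : ℕ := (suppM cfgOctRoot ∩ X).card + (if rep24.pt 23 ∈ X then 16 else 0)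

theorem invOctInOct_dec (c : ℕ) (hc : maskObj.Good c) :
    invOctInOct (maskObj.dec c) = cfgOctInOctLab c := by
    unfold invOctInOct cfgOctInOctLab
    simp only [maskObj, interN_spec]; rw [← bitN_spec (i := 23) (by norm_num)]; rfl

theorem partsOctInOct :
    (∀ X ∈ octads, ∀ Y ∈ octads, invOctInOct X = invOctInOct Y →
      ∃ h ∈ rep24.chainGroup cfgOctInChain, h • X = Y) ∧
    ∀ v n : ℕ, (v, n) ∈ cfgOctInOctSubs.map (fun s => (cfgOctInOctLab s.root, s.size)) →
      {X | X ∈ octads ∧ invOctInOct X = v}.ncard = n :=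
  lab_spec' (O := maskObj) invOctInOct span_cfgOctIn cfgOctIn_partOct cfgOctIn_labOct octTree_good invOctInOct_dec octs_eq_codes

/-- The invariant of the partition of Pt objects at a OctIn configuration. -/
noncomputable def invOctInPt (X : GolayPt) : ℕ := (if X ∈ suppM cfgOctRoot then 1 else 0) + (if X = rep24.pt 23 then 2 else 0)

theorem invOctInPt_dec (c : ℕ) (hc : ptObj.Good c) :
    invOctInPt (ptObj.dec c) = cfgOctInPtLab c := by
    unfold invOctInPt cfgOctInPtLab
    simp only [ptObj, mem_suppM, ptIdx_rep24 hc]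
    exact congrArg₂ (· + ·) (ite_bool _ _) (ite_pt 23 hc (by norm_num))

theorem partsOctInPt :
    (∀ X ∈ (Set.univ : Set GolayPt), ∀ Y ∈ (Set.univ : Set GolayPt), invOctInPt X = invOctInPt Y →
      ∃ h ∈ rep24.chainGroup cfgOctInChain, h • X = Y) ∧
    ∀ v n : ℕ, (v, n) ∈ cfgOctInPtSubs.map (fun s => (cfgOctInPtLab s.root, s.size)) →
      {X | X ∈ (Set.univ : Set GolayPt) ∧ invOctInPt X = v}.ncard = n :=
  lab_spec' (O := ptObj) invOctInPt span_cfgOctIn cfgOctIn_partPt cfgOctIn_labPt tree_good_Pt invOctInPt_dec pts_eq_codes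

/-- The invariant of the partition of Oct objects at a OctOut configuration. -/
noncomputable def invOctOutOct (X : Finset GolayPt) : ℕ := (suppM cfgOctRoot ∩ X).card + (if rep24.pt 4 ∈ X then 16 else 0)

theorem invOctOutOct_dec (c : ℕ) (hc : maskObj.Good c) :
    invOctOutOct (maskObj.dec c) = cfgOctOutOctLab c := by
    unfold invOctOutOct cfgOctOutOctLab
    simp only [maskObj, interN_spec]; rw [← bitN_spec (i := 4) (by norm_num)]; rfl

theorem partsOctOutOct :
    (∀ X ∈ octads, ∀ Y ∈ octads, invOctOutOct X = invOctOutOct Y →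
      ∃ h ∈ rep24.chainGroup cfgOctOutChain, h • X = Y) ∧
    ∀ v n : ℕ, (v, n) ∈ cfgOctOutOctSubs.map (fun s => (cfgOctOutOctLab s.root, s.size)) →
      {X | X ∈ octads ∧ invOctOutOct X = v}.ncard = n :=
  lab_spec' (O := maskObj) invOctOutOct span_cfgOctOut cfgOctOut_partOct cfgOctOut_labOct octTree_good invOctOutOct_dec octs_eq_codes

/-- The invariant of the partition of Oct objects at a Oct configuration. -/
noncomputable def invOctOct (X : Finset GolayPt) : ℕ := (suppM cfgOctRoot ∩ X).card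

theorem invOctOct_dec (c : ℕ) (hc : maskObj.Good c) :
    invOctOct (maskObj.dec c) = cfgOctOctLab c := by
    unfold invOctOct cfgOctOctLab
    simp only [maskObj, interN_spec]

theorem partsOctOct :
    (∀ X ∈ octads, ∀ Y ∈ octads, invOctOct X = invOctOct Y →
      ∃ h ∈ rep24.chainGroup cfgOctChain, h • X = Y) ∧
    ∀ v n : ℕ, (v, n) ∈ cfgOctOctSubs.map (fun s => (cfgOctOctLab s.root, s.size)) →
      {X | X ∈ octads ∧ invOctOct X = v}.ncard = n :=
  lab_spec' (O := maskObj) invOctOct span_Oct cfgOct_partOct cfgOct_labOct octTree_good invOctOct_dec octs_eq_codes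

/-- The invariant of the partition of Triple objects at a Triple configuration. -/
noncomputable def invTripleTriple (X : Finset GolayPt) : ℕ := (suppM cfgTripleRoot ∩ X).card + extOf (suppM cfgTripleRoot ∪ X) 4

theorem invTripleTriple_dec (c : ℕ) (hc : maskObj.Good c) :
    invTripleTriple (maskObj.dec c) = cfgTripleTripleLab c := by
    unfold invTripleTriple cfgTripleTripleLab
    simp only [maskObj, interN_spec]
    rw [← suppM_or, extOf_spec (lor_lt roots_lt.2.2 hc)]; rfl

theorem partsTripleTriple :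
    (∀ X ∈ {s : Finset GolayPt | s.card = 3}, ∀ Y ∈ {s : Finset GolayPt | s.card = 3}, invTripleTriple X = invTripleTriple Y →
      ∃ h ∈ rep24.chainGroup cfgTripleChain, h • X = Y) ∧
    ∀ v n : ℕ, (v, n) ∈ cfgTripleTripleSubs.map (fun s => (cfgTripleTripleLab s.root, s.size)) →
      {X | X ∈ {s : Finset GolayPt | s.card = 3} ∧ invTripleTriple X = v}.ncard = n :=
  lab_spec' (O := maskObj) invTripleTriple span_Triple cfgTriple_partTriple cfgTriple_labTriple tripleTree_good invTripleTriple_dec triples_eq_codes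

/-- The invariant of the partition of Sext objects at a Triple configuration. -/
noncomputable def invTripleSext (X : Finset (Finset GolayPt)) : ℕ := (X.filter fun t => (t ∩ suppM cfgTripleRoot).Nonempty).card

theorem invTripleSext_dec (c : ℕ) (hc : (famObj 6).Good c) :
    invTripleSext ((famObj 6).dec c) = cfgTripleSextLab c := by
    unfold invTripleSext cfgTripleSextLab
    exact meetN_spec roots_lt.2.2 hc

theorem partsTripleSext :
    (∀ X ∈ sextets, ∀ Y ∈ sextets, invTripleSext X = invTripleSext Y →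
      ∃ h ∈ rep24.chainGroup cfgTripleChain, h • X = Y) ∧
    ∀ v n : ℕ, (v, n) ∈ cfgTripleSextSubs.map (fun s => (cfgTripleSextLab s.root, s.size)) →
      {X | X ∈ sextets ∧ invTripleSext X = v}.ncard = n :=
  lab_spec' (O := (famObj 6)) invTripleSext span_Triple cfgTriple_partSext cfgTriple_labSext sextTree_good invTripleSext_dec sexts_eq_codes

end Cfsg.Agent.Compute
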