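/-
Moving configurations to the standard ones, and transporting statements back.
-/
import Cfsg.Agent.Compute.MathieuPartitions

set_option autoImplicit false

namespace Cfsg.Agent.Compute

open Cfsg
open scoped Pointwise

theorem smul_mem_octads_iff {g : Equiv.Perm GolayPt} (hg : g ∈ M24) {s : Finset GolayPt} :
    g • s ∈ octads ↔ s ∈ octads := by
  refine ⟨fun h => ?_, fun h => smul_mem_wordsOfWeight hg h⟩
  rw [← inv_smul_smul g s]; exact smul_mem_wordsOfWeight (inv_mem hg) h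

theorem smul_mem_dodecads_iff {g : Equiv.Perm GolayPt} (hg : g ∈ M24) {s : Finset GolayPt} :
    g • s ∈ dodecads ↔ s ∈ dodecads := by
  refine ⟨fun h => ?_, fun h => smul_mem_wordsOfWeight hg h⟩
  rw [← inv_smul_smul g s]; exact smul_mem_wordsOfWeight (inv_mem hg) h

theorem smul_mem_sextets_iff {g : Equiv.Perm GolayPt} (hg : g ∈ M24)
    {S : Finset (Finset GolayPt)} : g • S ∈ sextets ↔ S ∈ sextets := by
  refine ⟨fun h => ?_, fun h => smul_mem_sextets hg h⟩
  rw [← inv_smul_smul g S]; exact smul_mem_sextets (inv_mem hg) h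

theorem card_inter_smul (g : Equiv.Perm GolayPt) (s t : Finset GolayPt) :
    (g • s ∩ g • t).card = (s ∩ t).card := by
  rw [← Finset.smul_finset_inter, Finset.card_smul_finset]

theorem disjoint_smul_iff (g : Equiv.Perm GolayPt) (s t : Finset GolayPt) :
    Disjoint (g • s) (g • t) ↔ Disjoint s t := by
  rw [Finset.disjoint_iff_inter_eq_empty, Finset.disjoint_iff_inter_eq_empty, ← Finset.card_eq_zero,
    card_inter_smul, Finset.card_eq_zero]

theorem exists_subset_smul_iff {g : Equiv.Perm GolayPt} (hg : g ∈ M24) (s : Finset GolayPt) :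
    (∃ o ∈ octads, g • s ⊆ o) ↔ ∃ o ∈ octads, s ⊆ o := by
  constructor
  · rintro ⟨o, ho, hs⟩
    refine ⟨g⁻¹ • o, (smul_mem_octads_iff (inv_mem hg)).mpr ho, ?_⟩
    rw [← inv_smul_smul g s]; exact Finset.smul_finset_subset_smul_finset hs
  · rintro ⟨o, ho, hs⟩
    exact ⟨g • o, (smul_mem_octads_iff hg).mpr ho, Finset.smul_finset_subset_smul_finset hs⟩

theorem fix_conj {γ : Type*} [MulAction (Equiv.Perm GolayPt) γ] {g h : Equiv.Perm GolayPt}
    {x x₀ : γ} (hx : g • x = x₀) (hh : h • x₀ = x₀) : (g⁻¹ * h * g) • x = x := by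
  rw [mul_smul, mul_smul, hx, hh, ← hx, inv_smul_smul]

theorem map_conj {γ : Type*} [MulAction (Equiv.Perm GolayPt) γ] {g h : Equiv.Perm GolayPt}
    {X Y : γ} (hh : h • g • X = g • Y) : (g⁻¹ * h * g) • X = Y := by
  rw [mul_smul, mul_smul, hh, inv_smul_smul]

theorem conj_mem {g h : Equiv.Perm GolayPt} (hg : g ∈ M24) (hh : h ∈ M24) :
    g⁻¹ * h * g ∈ M24 := mul_mem (mul_mem (inv_mem hg) hh) hg

theorem exists_move_dod {d : Finset GolayPt} (hd : d ∈ dodecads) :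
    ∃ g ∈ M24, g • d = suppM cfgDodRoot := by
  rw [dodRoot_eq]; exact exists_move_dodecad hd

theorem exists_move_oct {o : Finset GolayPt} (ho : o ∈ octads) :
    ∃ g ∈ M24, g • o = suppM cfgOctRoot := by
  rw [octRoot_eq]; exact exists_move_octad ho

theorem exists_move_pq {p q : GolayPt} (hpq : p ≠ q) :
    ∃ g ∈ M24, g • p = rep24.pt 23 ∧ g • q = rep24.pt 0 := by
  obtain ⟨g, hg, h⟩ := exists_move5 [p, q] (by simp [hpq]) (by simp)
  simp only [List.map_cons, List.map_nil, List.length_cons, List.length_nil, List.take_succ_cons,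
    List.take_zero, List.cons.injEq, and_true] at h
  exact ⟨g, hg, h.1, h.2⟩

/-- The points of a mask in a coded orbit. -/
theorem mem_orbit_of_tree {P : Subgroup (Equiv.Perm GolayPt)} {t : OTr} {r : ℕ} {p : ℕ → Bool}
    (horb : MulAction.orbit P (rep24.pt r) = rep24.pt '' {c | c ∈ t.codes})
    (h : (List.range 24).all (fun i => !(p i) || t.memB i) = true) {X : GolayPt}
    (hX : p (ptIdx X) = true) : ∃ g ∈ P, g • X = rep24.pt r := by
  have hm := List.all_eq_true.mp h _ (List.mem_range.mpr (ptIdx_lt X))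
  rw [hX, Bool.not_true, Bool.false_or] at hm
  have : X ∈ MulAction.orbit P (rep24.pt r) := by
    rw [horb]; exact ⟨_, OTr.mem_codes_of_memB hm, rep24_pt_ptIdx X⟩
  obtain ⟨u, hu⟩ := this
  refine ⟨(u : Equiv.Perm GolayPt)⁻¹, inv_mem u.2, ?_⟩
  rw [← hu]; exact inv_smul_smul (u : Equiv.Perm GolayPt) _

/-- The objects of a coded orbit. -/
theorem exists_inv_mem_orbit {P : Subgroup (Equiv.Perm GolayPt)} {γ : Type*}
    [MulAction (Equiv.Perm GolayPt) γ] {x X : γ} (h : X ∈ MulAction.orbit P x) :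
    ∃ g ∈ P, g • X = x := by
  obtain ⟨u, hu⟩ := h
  refine ⟨(u : Equiv.Perm GolayPt)⁻¹, inv_mem u.2, ?_⟩
  rw [← hu]; exact inv_smul_smul (u : Equiv.Perm GolayPt) _

theorem exists_move_dodPt {d : Finset GolayPt} (hd : d ∈ dodecads) {p : GolayPt} (hp : p ∈ d) :
    ∃ g ∈ M24, g • d = suppM cfgDodRoot ∧ g • p = rep24.pt 0 := by
  obtain ⟨g, hg, hgd⟩ := exists_move_dod hd
  have hp' : g • p ∈ suppM cfgDodRoot := hgd ▸ Finset.smul_mem_smul_finset hp
  obtain ⟨h, hh, hhp⟩ := mem_orbit_of_tree (p := fun i => cfgDodRoot.testBit i) (r := cfgDodPtRoot)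
    stabDodPt_spec.2.2.1 (by decide +kernel) (mem_suppM.mp hp')
  obtain ⟨h1, h2⟩ := mem_cfgDod hh
  refine ⟨h * g, mul_mem h1 hg, by rw [mul_smul, hgd, h2], ?_⟩
  rw [mul_smul, hhp]; rfl

theorem exists_move_octIn {o : Finset GolayPt} (ho : o ∈ octads) {x : GolayPt} (hx : x ∈ o) :
    ∃ g ∈ M24, g • o = suppM cfgOctRoot ∧ g • x = rep24.pt 23 := by
  obtain ⟨g, hg, hgo⟩ := exists_move_oct ho
  have hx' : g • x ∈ suppM cfgOctRoot := hgo ▸ Finset.smul_mem_smul_finset hx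
  obtain ⟨h, hh, hhx⟩ := mem_orbit_of_tree (p := fun i => cfgOctRoot.testBit i) (r := cfgOctInRoot)
    stabOctIn_spec.2.2.1 (by decide +kernel) (mem_suppM.mp hx')
  have h' := (SetLike.ext_iff.mp octStab_spec.2.1 h).mpr hh
  refine ⟨h * g, mul_mem (Subgroup.mem_inf.mp h').1 hg,
    by rw [mul_smul, hgo]; exact (Subgroup.mem_inf.mp h').2, ?_⟩
  rw [mul_smul, hhx]; rfl

theorem exists_move_octOut {o : Finset GolayPt} (ho : o ∈ octads) {x : GolayPt} (hx : x ∉ o) :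
    ∃ g ∈ M24, g • o = suppM cfgOctRoot ∧ g • x = rep24.pt 4 := by
  obtain ⟨g, hg, hgo⟩ := exists_move_oct ho
  have hx' : g • x ∉ suppM cfgOctRoot := by
    rw [← hgo, Finset.smul_mem_smul_finset_iff]; exact hx
  rw [mem_suppM, Bool.not_eq_true] at hx'
  obtain ⟨h, hh, hhx⟩ := mem_orbit_of_tree (p := fun i => !cfgOctRoot.testBit i)
    (r := cfgOctOutRoot) stabOctOut_spec.2.2.1 (by decide +kernel) (X := g • x) (by rw [hx']; rfl)
  have h' := (SetLike.ext_iff.mp octStab_spec.2.1 h).mpr hh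
  refine ⟨h * g, mul_mem (Subgroup.mem_inf.mp h').1 hg,
    by rw [mul_smul, hgo]; exact (Subgroup.mem_inf.mp h').2, ?_⟩
  rw [mul_smul, hhx]; rfl

theorem pqRoots_mem :
    suppM cfgPQBothRoot ∈ octads ∧ suppM cfgPQOneRoot ∈ octads ∧
      (suppM cfgPQPairRoot).card = 2 := by
  refine ⟨mem_octads_of_check (by decide +kernel), mem_octads_of_check (by decide +kernel), ?_⟩
  rw [card_suppM]; decide +kernel

theorem pqRoots_pts :
    (rep24.pt 23 ∈ suppM cfgPQBothRoot ∧ rep24.pt 0 ∈ suppM cfgPQBothRoot) ∧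
      (rep24.pt 23 ∈ suppM cfgPQOneRoot ∧ rep24.pt 0 ∉ suppM cfgPQOneRoot) ∧
        (rep24.pt 23 ∉ suppM cfgPQPairRoot ∧ rep24.pt 0 ∉ suppM cfgPQPairRoot) := by
  simp only [pt_mem_suppM (show (23 : ℕ) < 24 by norm_num),
    pt_mem_suppM (show (0 : ℕ) < 24 by norm_num)]
  decide +kernel

theorem exists_move_pqOct {p q : GolayPt} (hpq : p ≠ q) {o r : Finset GolayPt} (ho : o ∈ octads)
    (hr : r ∈ octads) (hp : p ∈ o ↔ rep24.pt 23 ∈ r) (hq : q ∈ o ↔ rep24.pt 0 ∈ r) :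
    ∃ g ∈ M24, g • p = rep24.pt 23 ∧ g • q = rep24.pt 0 ∧ g • o = r := by
  obtain ⟨g, hg, hgp, hgq⟩ := exists_move_pq hpq
  have e : invPQOct (g • o) = invPQOct r := by
    unfold invPQOct
    rw [← hgp] at hp ⊢
    rw [← hgq] at hq ⊢
    simp only [Finset.smul_mem_smul_finset_iff]
    simp only [hp, hq]
  obtain ⟨h, hh, hho⟩ := partsPQOct.1 _ ((smul_mem_octads_iff hg).mpr ho) r hr e
  obtain ⟨h1, h23, h0⟩ := mem_cfgPQ hh
  refine ⟨h * g, mul_mem h1 hg, ?_, ?_, by rw [mul_smul, hho]⟩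
  · rw [mul_smul, hgp]; exact h23
  · rw [mul_smul, hgq]; exact h0

theorem exists_move_pqPair {p q : GolayPt} (hpq : p ≠ q) {s : Finset GolayPt} (hs : s.card = 2)
    (hp : p ∉ s) (hq : q ∉ s) :
    ∃ g ∈ M24, g • p = rep24.pt 23 ∧ g • q = rep24.pt 0 ∧ g • s = suppM cfgPQPairRoot := by
  obtain ⟨g, hg, hgp, hgq⟩ := exists_move_pq hpq
  have e : invPQPair (g • s) = invPQPair (suppM cfgPQPairRoot) := by
    unfold invPQPair
    rw [if_neg pqRoots_pts.2.2.1, if_neg pqRoots_pts.2.2.2, ← hgp, ← hgq]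
    simp only [Finset.smul_mem_smul_finset_iff, hp, hq, if_false]
  obtain ⟨h, hh, hho⟩ := partsPQPair.1 _ (by rw [Set.mem_ofPred_eq, Finset.card_smul_finset, hs]) _
    pqRoots_mem.2.2 e
  obtain ⟨h1, h23, h0⟩ := mem_cfgPQ hh
  refine ⟨h * g, mul_mem h1 hg, ?_, ?_, by rw [mul_smul, hho]⟩
  · rw [mul_smul, hgp]; exact h23
  · rw [mul_smul, hgq]; exact h0

end Cfsg.Agent.Compute
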