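/-
Counting coded objects by a test, submasks, and the mask of two points.
-/
import Cfsg.Agent.Compute.MathieuMoves

set_option autoImplicit false

namespace Cfsg.Agent.Compute

open Cfsg
open scoped Pointwise

variable {G : Type*} [Group G] {Ω : Type*} [MulAction G Ω] {R : Rep G Ω}
variable {β : Type*} [MulAction G β] {O : Obj R β}

theorem OTr.nodup_codes {gens : List ℕ} {t : OTr} {root N : ℕ}
    (h : O.orbitB gens t root N = true) : t.codes.Nodup := by
  simp only [Obj.orbitB, Bool.and_eq_true] at h
  exact nodup_of_incB h.1.1.1.2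

theorem Obj.stab_nodup {P K : List Level} {gP : List ℕ} {t : OTr} {x N : ℕ}
    (h : O.stabB P K gP t x N = true) : t.codes.Nodup := by
  simp only [Obj.stabB, Bool.and_eq_true] at h
  exact OTr.nodup_codes h.1.1.1

theorem ncard_codes_filter {codes : List ℕ} {p : ℕ → Bool} {P : β → Prop}
    (hnd : codes.Nodup) (hgood : ∀ c ∈ codes, O.Good c)
    (hP : ∀ c ∈ codes, P (O.dec c) ↔ p c = true) :
    {X | X ∈ O.dec '' {c | c ∈ codes} ∧ P X}.ncard = (codes.filter p).length := by
  have h : {X | X ∈ O.dec '' {c | c ∈ codes} ∧ P X} =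
      O.dec '' ((codes.filter p).toFinset : Set ℕ) := by
    ext X
    simp only [Set.mem_ofPred_eq, Set.mem_image, List.coe_toFinset, List.mem_filter]
    constructor
    · rintro ⟨⟨c, hc, rfl⟩, hX⟩; exact ⟨c, ⟨hc, (hP c hc).mp hX⟩, rfl⟩
    · rintro ⟨c, ⟨hc, hp⟩, rfl⟩; exact ⟨⟨c, hc, rfl⟩, (hP c hc).mpr hp⟩
  rw [h, Set.InjOn.ncard_image, Set.ncard_coe_finset, List.toFinset_card_of_nodup (hnd.filter _)]
  intro a ha b hb hab
  simp only [List.coe_toFinset, Set.mem_ofPred_eq, List.mem_filter] at ha hb
  exact O.dec_inj a b (hgood a ha.1) (hgood b hb.1) hab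

/-- The submasks of `r` below `2 ^ n`. -/
noncomputable def subMasks (r n : ℕ) : List ℕ :=
  Nat.rec (motive := fun _ => List ℕ) [0]
    (fun i L => cond (Nat.testBit r i) (L ++ L.map (fun m => Nat.lor m (Nat.shiftLeft 1 i))) L) n

theorem mem_subMasks {r : ℕ} : ∀ {n m : ℕ}, m < 2 ^ n → r &&& m = m → m ∈ subMasks r n := by
  intro n
  induction n with
  | zero => intro m hm _; simp at hm; subst hm; exact List.mem_singleton_self 0
  | succ i ih =>
      intro m hm hr
      change m ∈ cond (Nat.testBit r i) _ _
      have hlo : m % 2 ^ i ∈ subMasks r i := by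
        refine ih (Nat.mod_lt _ (by positivity)) (Nat.eq_of_testBit_eq fun j => ?_)
        have := congrArg (fun x => x.testBit j) hr
        simp only [Nat.testBit_and] at this
        rw [Nat.testBit_and, Nat.testBit_mod_two_pow]
        cases hrj : r.testBit j <;> cases hmj : m.testBit j <;> simp_all
      cases hb : m.testBit i
      · have : m % 2 ^ i = m := by
          refine Nat.eq_of_testBit_eq fun j => ?_
          rw [Nat.testBit_mod_two_pow]
          rcases lt_trichotomy j i with h | h | h
          · simp [h]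
          · subst h; simp [hb]
          · rw [Nat.testBit_lt_two_pow (lt_of_lt_of_le hm (Nat.pow_le_pow_right (by norm_num) h))]
            simp
        rw [this] at hlo
        cases r.testBit i
        · exact hlo
        · exact List.mem_append_left _ hlo
      · have hri : r.testBit i = true := by
          have := congrArg (fun x => x.testBit i) hr
          simp only [Nat.testBit_and, hb, Bool.and_true] at this
          exact this
        rw [hri]
        refine List.mem_append_right _ (List.mem_map.mpr ⟨_, hlo, Nat.eq_of_testBit_eq fun j => ?_⟩)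
        rw [show Nat.lor (m % 2 ^ i) (Nat.shiftLeft 1 i) = (m % 2 ^ i) ||| (1 <<< i) from rfl,
          Nat.testBit_or, Nat.testBit_mod_two_pow, Nat.shiftLeft_eq, one_mul, Nat.testBit_two_pow]
        rcases lt_trichotomy j i with h | h | h
        · simp [h, Nat.ne_of_gt h]
        · subst h; simp [hb]
        · rw [Nat.testBit_lt_two_pow (lt_of_lt_of_le hm (Nat.pow_le_pow_right (by norm_num) h))]
          simp [Nat.ne_of_lt h]

theorem exists_submask {r : ℕ} {s : Finset GolayPt} (h : s ⊆ suppM r) :
    ∃ m ∈ subMasks r 24, m < 2 ^ 24 ∧ suppM m = s := by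
  classical
  obtain ⟨m, hm, rfl⟩ : ∃ m, m < 2 ^ 24 ∧ suppM m = s := by
    clear h
    induction s using Finset.induction_on with
    | empty => exact ⟨0, by norm_num, by ext p; simp [mem_suppM]⟩
    | insert a t _ ih =>
        obtain ⟨m, hm, rfl⟩ := ih
        refine ⟨m ||| 2 ^ ptIdx a, lor_lt hm
          (Nat.pow_lt_pow_right (by norm_num) (ptIdx_lt a)), ?_⟩
        ext p
        rw [Finset.mem_insert, mem_suppM, mem_suppM, Nat.testBit_or, Nat.testBit_two_pow,
          Bool.or_eq_true, decide_eq_true_eq, or_comm]
        constructor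
        · rintro (h | h)
          · left; rw [← rep24_pt_ptIdx p, ← h, rep24_pt_ptIdx]
          · exact Or.inr h
        · rintro (rfl | h)
          · exact Or.inl rfl
          · exact Or.inr h
  exact ⟨m, mem_subMasks hm ((suppM_subset_iff hm).mp h), hm, rfl⟩

theorem suppM_pairPts : suppM 0x800001 = {rep24.pt 23, rep24.pt 0} := by
  ext p
  have h : (List.range 24).all (fun i =>
      (0x800001 : ℕ).testBit i == (decide (i = 23) || decide (i = 0))) = true := by decide +kernel
  have := List.all_eq_true.mp h _ (List.mem_range.mpr (ptIdx_lt p))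
  rw [beq_iff_eq] at this
  rw [mem_suppM, this, Finset.mem_insert, Finset.mem_singleton, Bool.or_eq_true,
    decide_eq_true_eq, decide_eq_true_eq]
  constructor
  · rintro (h | h)
    · left; rw [← rep24_pt_ptIdx p, h]
    · right; rw [← rep24_pt_ptIdx p, h]
  · rintro (rfl | rfl)
    · left; exact ptIdx_rep24 (by norm_num)
    · right; exact ptIdx_rep24 (by norm_num)

end Cfsg.Agent.Compute
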