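/-
Objects fixed by the class representatives.
-/
import Cfsg.Agent.Compute.Classes
import Cfsg.Agent.Compute.MathieuExtra

set_option autoImplicit false

namespace Cfsg.Agent.Compute

open Cfsg
open scoped Pointwise

theorem smul_conj_iff {γ : Type*} [MulAction (Equiv.Perm GolayPt) γ] {k g r : Equiv.Perm GolayPt}
    (h : k * g * k⁻¹ = r) (X : γ) : r • k • X = k • X ↔ g • X = X := by
  rw [← h, mul_smul, mul_smul, inv_smul_smul, smul_left_cancel_iff]

theorem apply_conj_iff {k g r : Equiv.Perm GolayPt} (h : k * g * k⁻¹ = r) (p : GolayPt) :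
    r (k p) = k p ↔ g p = p :=
  smul_conj_iff (γ := GolayPt) h p

theorem fixFilter_conj {k g r : Equiv.Perm GolayPt} (h : k * g * k⁻¹ = r) :
    k • (Finset.univ.filter fun p => g p = p) = Finset.univ.filter fun p => r p = p := by
  ext q
  rw [← Finset.inv_smul_mem_iff, Finset.mem_filter, Finset.mem_filter]
  simp only [Finset.mem_univ, true_and]
  rw [← apply_conj_iff h, Equiv.Perm.smul_def, Equiv.Perm.inv_def, Equiv.apply_symm_apply]

/-- The mask of fixed points. -/
noncomputable def fixMask (r : ℕ) : ℕ :=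
  Nat.rec (motive := fun _ => ℕ) 0
    (fun i m => cond (Nat.beq (rep24.act r i) i) (Nat.lor m (Nat.shiftLeft 1 i)) m) 24

theorem testBit_fixMask_aux (r j : ℕ) : ∀ n : ℕ,
    (Nat.rec (motive := fun _ => ℕ) 0
      (fun i m => cond (Nat.beq (rep24.act r i) i) (Nat.lor m (Nat.shiftLeft 1 i)) m) n).testBit j =
      (decide (j < n) && Nat.beq (rep24.act r j) j) := by
  intro n
  induction n with
  | zero => simp
  | succ n ih =>
      change (cond (Nat.beq (rep24.act r n) n) (Nat.lor _ (Nat.shiftLeft 1 n)) _).testBit j = _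
      cases hb : Nat.beq (rep24.act r n) n
      · rw [cond_false, ih]
        by_cases hj : j = n
        · subst hj; simp [hb]
        · rw [show decide (j < n) = decide (j < n + 1) from decide_eq_decide.mpr (by omega)]
      · rw [cond_true]
        change ((_ : ℕ) ||| (1 <<< n)).testBit j = _
        rw [Nat.testBit_or, ih, Nat.shiftLeft_eq, one_mul, Nat.testBit_two_pow]
        by_cases hj : j = n
        · subst hj; simp [hb]
        · rw [decide_eq_false (Ne.symm hj), Bool.or_false,
            show decide (j < n) = decide (j < n + 1) from decide_eq_decide.mpr (by omega)]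

theorem fixFilter_rep {r : ℕ} (hr : rep24.Ok r) :
    (Finset.univ.filter fun p => rep24.den r p = p) = suppM (fixMask r) := by
  ext p
  rw [Finset.mem_filter, mem_suppM, fixMask, testBit_fixMask_aux, decide_eq_true (ptIdx_lt p),
    Bool.true_and, Nat.beq_eq, ← ptIdx_den hr]
  simp only [Finset.mem_univ, true_and]
  exact ⟨fun h => by rw [h], fun h => ptIdx_injective h⟩

theorem dodecad_tree_good : ∀ c ∈ cfgDodTree.codes, c < 2 ^ 24 := tree_good_Dod

theorem trioCodes_eq : trios = decFam 3 '' {c | c ∈ cfgTrioTree.codes} :=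
  trios_eq_orbit.trans trioStab_spec.2.2.1

/-- The number of fixed objects of a coded element. -/
theorem ncard_fixed {β : Type*} [MulAction (Equiv.Perm GolayPt) β] {O : Obj rep24 β} {r : ℕ}
    {t : OTr} {U : Set β} (hr : rep24.Ok r) (hU : U = O.dec '' {c | c ∈ t.codes})
    (hnd : t.codes.Nodup) (hgood : ∀ c ∈ t.codes, O.Good c)
    {g k : Equiv.Perm GolayPt} (hk : k * g * k⁻¹ = rep24.den r) (hinv : ∀ X, k • X ∈ U ↔ X ∈ U) :
    {X | X ∈ U ∧ g • X = X}.ncard = (t.codes.filter fun c => Nat.beq (O.act r c) c).length := by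
  rw [ncard_setOf_smul k (Q := fun X => X ∈ U ∧ rep24.den r • X = X) fun X => by
    rw [hinv, smul_conj_iff hk], hU]
  refine ncard_codes_filter hnd hgood fun c hc => ?_
  rw [O.act_dec _ _ hr (hgood c hc), Nat.beq_eq]
  exact ⟨O.dec_inj _ _ (O.act_good _ _ hr (hgood c hc)) (hgood c hc), fun h => by rw [h]⟩

/-- Fixed octads, trios, sextets, dodecads of a representative. -/
noncomputable def fixCounts (r : ℕ) : List ℕ :=
  [(cfgOctTree.codes.filter fun c => Nat.beq (maskObj.act r c) c).length,
    (cfgTrioTree.codes.filter fun c => Nat.beq ((famObj 3).act r c) c).length,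
    (cfgSextTree.codes.filter fun c => Nat.beq ((famObj 6).act r c) c).length]

/-- Fixed dodecads of a representative. -/
noncomputable def fixDods (r : ℕ) : ℕ :=
  (cfgDodTree.codes.filter fun c => Nat.beq (maskObj.act r c) c).length

theorem fixCounts_invA : fixCounts (syl2Reps.getD 0 rep24.one) = [71, 99, 91] := by decide +kernel

theorem fixCounts_invB : fixCounts (syl2Reps.getD 1 rep24.one) = [15, 75, 51] := by decide +kernel

theorem fixCounts_threeA : fixCounts (syl3Reps.getD 0 rep24.one) = [21, 15, 16] ∧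
    fixDods (syl3Reps.getD 0 rep24.one) = 20 := by decide +kernel

theorem fixCounts_threeB : fixCounts (syl3Reps.getD 1 rep24.one) = [0, 15, 7] := by decide +kernel

theorem fixMask_facts :
    (Nat.beq (popBits 24 (fixMask (syl2Reps.getD 0 rep24.one))) 8 &&
      inCodeB (fixMask (syl2Reps.getD 0 rep24.one))) = true ∧
    fixMask (syl2Reps.getD 1 rep24.one) = 0 ∧
    popBits 24 (fixMask (syl3Reps.getD 0 rep24.one)) = 6 ∧
    fixMask (syl3Reps.getD 1 rep24.one) = 0 := by decide +kernel

theorem rep_ok :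
    ∀ j, rep24.Ok (syl2Reps.getD j rep24.one) ∧ rep24.Ok (syl3Reps.getD j rep24.one) := by
  intro j
  have h := classReps_facts.1
  rw [List.all_append, Bool.and_eq_true, List.all_eq_true, List.all_eq_true] at h
  refine ⟨?_, ?_⟩
  · by_cases hj : j < syl2Reps.length
    · rw [List.getD_eq_getElem _ _ hj]; exact (mem_M24_of_check (h.1 _ (List.getElem_mem hj))).1
    · rw [List.getD_eq_default _ _ (by omega)]; exact rep24.ok_one
  · by_cases hj : j < syl3Reps.length
    · rw [List.getD_eq_getElem _ _ hj]; exact (mem_M24_of_check (h.2 _ (List.getElem_mem hj))).1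
    · rw [List.getD_eq_default _ _ (by omega)]; exact rep24.ok_one

theorem fixFilter_zero {r : ℕ} (hr : rep24.Ok r) (h : fixMask r = 0) :
    ∀ p, rep24.den r p ≠ p := by
  intro p hp
  have : p ∈ suppM (fixMask r) := by rw [← fixFilter_rep hr]; simp [hp]
  rw [h, mem_suppM, Nat.zero_testBit] at this
  exact Bool.noConfusion this

/-- The fixed points of an involution and its representative. -/
theorem involution_cases {g : Equiv.Perm GolayPt} (hg : g ∈ M24) (h : orderOf g = 2) :
    ((Finset.univ.filter fun p => g p = p).card = 8 ∧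
      (Finset.univ.filter fun p => g p = p) ∈ octads ∧
      ∃ k ∈ M24, k * g * k⁻¹ = rep24.den (syl2Reps.getD 0 rep24.one)) ∨
    ((∀ p, g p ≠ p) ∧ ∃ k ∈ M24, k * g * k⁻¹ = rep24.den (syl2Reps.getD 1 rep24.one)) := by
  obtain ⟨j, hj, k, hk, hkg⟩ := exists_conj_involution hg h
  interval_cases j
  · left
    have e := fixFilter_conj hkg
    rw [fixFilter_rep (rep_ok 0).1] at e
    have hm := mem_octads_of_check fixMask_facts.1
    refine ⟨?_, ?_, k, hk, hkg⟩
    · rw [← Finset.card_smul_finset k, e]; exact hm.2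
    · rw [← smul_mem_octads_iff hk, e]; exact hm
  · right
    exact ⟨fun p hp => fixFilter_zero (rep_ok 1).1 fixMask_facts.2.1 _
      ((apply_conj_iff hkg p).mpr hp), k, hk, hkg⟩

/-- The fixed points of an element of order three and its representative. -/
theorem three_cases {g : Equiv.Perm GolayPt} (hg : g ∈ M24) (h : orderOf g = 3) :
    ((Finset.univ.filter fun p => g p = p).card = 6 ∧
      ∃ k ∈ M24, k * g * k⁻¹ = rep24.den (syl3Reps.getD 0 rep24.one)) ∨
    ((∀ p, g p ≠ p) ∧ ∃ k ∈ M24, k * g * k⁻¹ = rep24.den (syl3Reps.getD 1 rep24.one)) := by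
  obtain ⟨j, hj, k, hk, hkg⟩ := exists_conj_three hg h
  interval_cases j
  · left
    refine ⟨?_, k, hk, hkg⟩
    rw [← Finset.card_smul_finset k, fixFilter_conj hkg, fixFilter_rep (rep_ok 0).2, card_suppM]
    exact fixMask_facts.2.2.1
  · right
    exact ⟨fun p hp => fixFilter_zero (rep_ok 1).2 fixMask_facts.2.2.2 _
      ((apply_conj_iff hkg p).mpr hp), k, hk, hkg⟩

theorem card_fixFilter_zero {g : Equiv.Perm GolayPt} (h : ∀ p, g p ≠ p) :
    (Finset.univ.filter fun p => g p = p).card = 0 := by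
  rw [Finset.card_eq_zero, Finset.filter_eq_empty_iff]; exact fun p _ => h p

theorem conj_involution_of_fix {g : Equiv.Perm GolayPt} (hg : g ∈ M24) (h : orderOf g = 2)
    {j : ℕ} (hj : (j = 0 ∧ (Finset.univ.filter fun p => g p = p).card = 8) ∨
      (j = 1 ∧ ∀ p, g p ≠ p)) :
    ∃ k ∈ M24, k * g * k⁻¹ = rep24.den (syl2Reps.getD j rep24.one) := by
  rcases hj with ⟨rfl, h8⟩ | ⟨rfl, h0⟩ <;> rcases involution_cases hg h with ⟨a, -, b⟩ | ⟨a, b⟩
  · exact b
  · exact absurd (card_fixFilter_zero a) (by omega)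
  · exact absurd (card_fixFilter_zero h0) (by omega)
  · exact b

theorem conj_three_of_fix {g : Equiv.Perm GolayPt} (hg : g ∈ M24) (h : orderOf g = 3)
    {j : ℕ} (hj : (j = 0 ∧ (Finset.univ.filter fun p => g p = p).card = 6) ∨
      (j = 1 ∧ ∀ p, g p ≠ p)) :
    ∃ k ∈ M24, k * g * k⁻¹ = rep24.den (syl3Reps.getD j rep24.one) := by
  rcases hj with ⟨rfl, h8⟩ | ⟨rfl, h0⟩ <;> rcases three_cases hg h with ⟨a, b⟩ | ⟨a, b⟩
  · exact b
  · exact absurd (card_fixFilter_zero a) (by omega)
  · exact absurd (card_fixFilter_zero h0) (by omega)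
  · exact b

theorem smul_mem_trios_iff' {g : Equiv.Perm GolayPt} (hg : g ∈ M24)
    {T : Finset (Finset GolayPt)} : g • T ∈ trios ↔ T ∈ trios := by
  refine ⟨fun h => ?_, fun h => smul_mem_trios hg h⟩
  rw [← inv_smul_smul g T]; exact smul_mem_trios (inv_mem hg) h

theorem fixed_counts {g k : Equiv.Perm GolayPt} {r a b c : ℕ} (hr : rep24.Ok r) (hk : k ∈ M24)
    (hkg : k * g * k⁻¹ = rep24.den r) (hv : fixCounts r = [a, b, c]) :
    {o : Finset GolayPt | o ∈ octads ∧ g • o = o}.ncard = a ∧
      {T : Finset (Finset GolayPt) | T ∈ trios ∧ g • T = T}.ncard = b ∧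
        {S : Finset (Finset GolayPt) | S ∈ sextets ∧ g • S = S}.ncard = c := by
  simp only [fixCounts, List.cons.injEq, and_true] at hv
  obtain ⟨rfl, rfl, rfl⟩ := hv
  exact ⟨ncard_fixed (O := maskObj) hr octads_eq_codes
      (Obj.stab_nodup (O := maskObj) cfgOct_stab) octTree_good hkg
      (fun X => smul_mem_octads_iff hk),
    ncard_fixed (O := famObj 3) hr trioCodes_eq (Obj.stab_nodup (O := famObj 3) cfgTrio_stab)
      (Obj.stab_good (O := famObj 3) cfgTrio_stab (goodFam_of_check cfgTrio_good)) hkg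
      (fun X => smul_mem_trios_iff' hk),
    ncard_fixed (O := famObj 6) hr sexts_eq_codes (Obj.stab_nodup (O := famObj 6) cfgSext_stab)
      sextTree_good hkg (fun X => smul_mem_sextets_iff hk)⟩

end Cfsg.Agent.Compute
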