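/-
Orders of centralisers from a list of distinct conjugates and a certified chain.
-/
import Cfsg.Agent.Compute.FixedCounts
import Cfsg.Agent.Compute.Labels

set_option autoImplicit false

namespace Cfsg.Agent.Compute

open Cfsg
open scoped Pointwise

theorem card_le_of_conjugates {G : Type*} [Group G] [Finite G] {H C : Subgroup G} {r : G}
    (hle : C ≤ H) (hc : ∀ c ∈ C, c * r * c⁻¹ = r) {n : ℕ} (h : Fin n → G) (hh : ∀ i, h i ∈ H)
    (hinj : Function.Injective fun i => h i * r * (h i)⁻¹) :
    n * Nat.card C ≤ Nat.card H := by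
  have hf : Function.Injective
      (fun x : Fin n × C => (⟨h x.1 * x.2, mul_mem (hh x.1) (hle x.2.2)⟩ : H)) := by
    rintro ⟨i, a⟩ ⟨j, b⟩ hab
    have e : h i * (a : G) = h j * (b : G) := congrArg Subtype.val hab
    have hconj : ∀ (k : Fin n) (c : C),
        (h k * (c : G)) * r * (h k * (c : G))⁻¹ = h k * r * (h k)⁻¹ := fun k c => by
      calc (h k * (c : G)) * r * (h k * (c : G))⁻¹
          = h k * ((c : G) * r * (c : G)⁻¹) * (h k)⁻¹ := by group
        _ = _ := by rw [hc _ c.2]
    have hij : i = j := hinj (by simp only; rw [← hconj i a, e, hconj j b])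
    subst hij
    exact Prod.ext rfl (Subtype.ext (mul_left_cancel e))
  have := Nat.card_le_card_of_injective _ hf
  rwa [Nat.card_prod, Nat.card_fin] at this

/-- The centraliser of a permutation inside M24. -/
noncomputable def centM24 (g : Equiv.Perm GolayPt) : Subgroup (Equiv.Perm GolayPt) :=
  M24 ⊓ Subgroup.centralizer {g}

theorem mem_centM24 {g c : Equiv.Perm GolayPt} : c ∈ centM24 g ↔ c ∈ M24 ∧ c * g = g * c := by
  rw [centM24, Subgroup.mem_inf, Subgroup.mem_centralizer_singleton_iff]

/-- Canonical code of the permutation of a code. -/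
noncomputable def canonCode (c : ℕ) : ℕ := pack 5 24 (fun i => rep24.act c i)

theorem canonCode_congr {a b : ℕ} (ha : rep24.Ok a) (hb : rep24.Ok b)
    (h : rep24.den a = rep24.den b) : canonCode a = canonCode b := by
  have key : ∀ n : ℕ, n ≤ 24 →
      pack 5 n (fun i => rep24.act a i) = pack 5 n (fun i => rep24.act b i) := by
    intro n
    induction n with
    | zero => intro _; rfl
    | succ n ih =>
        intro hn
        have h1 := rep24.act_spec a n ha (by change n < 24; omega)
        rw [h, rep24.act_spec b n hb (by change n < 24; omega)] at h1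
        have h2 : rep24.act a n = rep24.act b n :=
          (rep24.pt_inj _ _ (rep24.act_lt b n hb (by change n < 24; omega))
            (rep24.act_lt a n ha (by change n < 24; omega)) h1).symm
        rw [pack_succ, pack_succ, ih (by omega), h2]
  exact key 24 le_rfl

/-- Strictly increasing canonical codes of conjugates of `r`, with conjugators in the stabiliser
of the object `root`. -/
noncomputable def conjB {β : Type*} [MulAction (Equiv.Perm GolayPt) β] (O : Obj rep24 β)
    (root r : ℕ) (conjs : List (ℕ × ℕ)) : Bool :=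
  conjs.all (fun e => inM24B e.1 && rep24.okb e.2 &&
      Nat.beq (O.act e.1 root) root &&
      Nat.beq (rep24.mul e.2 e.1) (rep24.mul e.1 r) && Nat.beq (canonCode e.2) e.2) &&
    incB (conjs.map fun e => (e.2, 0))

theorem conjB_spec {β : Type*} [MulAction (Equiv.Perm GolayPt) β] {O : Obj rep24 β} {root r : ℕ}
    {conjs : List (ℕ × ℕ)} (hr : rep24.Ok r) (hroot : O.Good root)
    (h : conjB O root r conjs = true) :
    (∀ i : Fin conjs.length,
      rep24.Ok conjs[i].1 ∧ rep24.Ok conjs[i].2 ∧
        rep24.den conjs[i].1 ∈ M24 ⊓ MulAction.stabilizer (Equiv.Perm GolayPt) (O.dec root) ∧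
        rep24.den conjs[i].1 * rep24.den r * (rep24.den conjs[i].1)⁻¹ = rep24.den conjs[i].2 ∧
        canonCode conjs[i].2 = conjs[i].2) ∧
      Function.Injective fun i : Fin conjs.length => rep24.den conjs[i].2 := by
  simp only [conjB, Bool.and_eq_true, List.all_eq_true, Nat.beq_eq] at h
  have key : ∀ i : Fin conjs.length,
      rep24.Ok conjs[i].1 ∧ rep24.Ok conjs[i].2 ∧
        rep24.den conjs[i].1 ∈ M24 ⊓ MulAction.stabilizer (Equiv.Perm GolayPt) (O.dec root) ∧
        rep24.den conjs[i].1 * rep24.den r * (rep24.den conjs[i].1)⁻¹ = rep24.den conjs[i].2 ∧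
        canonCode conjs[i].2 = conjs[i].2 := by
    intro i
    simp only [Fin.getElem_fin]
    obtain ⟨⟨⟨⟨hM, hy⟩, hfix⟩, hmul⟩, hcan⟩ := h.1 _ (List.getElem_mem i.2)
    obtain ⟨hok, hmem⟩ := mem_M24_of_check hM
    have hy' := rep24.okb_sound _ hy
    refine ⟨hok, hy', Subgroup.mem_inf.mpr ⟨hmem, ?_⟩, ?_, hcan⟩
    · rw [MulAction.mem_stabilizer_iff, O.act_dec _ _ hok hroot]
      exact congrArg O.dec hfix
    · have e := congrArg rep24.den hmul
      rw [rep24.den_mul _ _ hy' hok, rep24.den_mul _ _ hok hr] at e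
      rw [mul_inv_eq_iff_eq_mul]; exact e.symm
  refine ⟨key, fun i j hij => ?_⟩
  have hcode : conjs[i].2 = conjs[j].2 := by
    rw [← (key i).2.2.2.2, ← (key j).2.2.2.2]
    exact canonCode_congr (key i).2.1 (key j).2.1 hij
  have hp := pairwise_of_incB h.2
  rw [List.map_map, show (Prod.fst ∘ fun e : ℕ × ℕ => (e.2, 0)) = Prod.snd from rfl] at hp
  have hnd : (conjs.map Prod.snd).Nodup := hp.imp fun h => Nat.ne_of_lt h
  apply Fin.ext
  refine (List.Nodup.getElem_inj_iff hnd (hi := by simp) (hj := by simp)).mp ?_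
  simpa using hcode

/-- A chain of elements of M24 commuting with `r`. -/
noncomputable def commB (K : List Level) (r : ℕ) : Bool :=
  rep24.checkChain K &&
    (topGens K).all (fun g => inM24B g && Nat.beq (rep24.mul g r) (rep24.mul r g))

theorem commB_le {K : List Level} {r : ℕ} (hr : rep24.Ok r) (h : commB K r = true) :
    rep24.chainGroup K ≤ centM24 (rep24.den r) := by
  simp only [commB, Bool.and_eq_true, List.all_eq_true, Nat.beq_eq] at h
  rw [Rep.chainGroup, Rep.span, Subgroup.closure_le]
  rintro _ ⟨g, hg, rfl⟩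
  obtain ⟨hok, hmem⟩ := mem_M24_of_check (h.2 g hg).1
  have e := congrArg rep24.den (h.2 g hg).2
  rw [rep24.den_mul _ _ hok hr, rep24.den_mul _ _ hr hok] at e
  exact mem_centM24.mpr ⟨hmem, e⟩

/-- The centraliser is the certified chain. -/
theorem centM24_eq {β : Type*} [MulAction (Equiv.Perm GolayPt) β] {O : Obj rep24 β}
    {root r : ℕ} {conjs : List (ℕ × ℕ)} {K : List Level} (hr : rep24.Ok r) (hroot : O.Good root)
    (hconj : conjB O root r conjs = true) (hK : commB K r = true)
    (hsub : centM24 (rep24.den r) ≤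
      M24 ⊓ MulAction.stabilizer (Equiv.Perm GolayPt) (O.dec root))
    {N : ℕ} (hN : (MulAction.orbit M24 (O.dec root)).ncard = N)
    (hsize : N * (conjs.length * chainSize K) = 244823040) :
    centM24 (rep24.den r) = rep24.chainGroup K := by
  obtain ⟨key, hinj⟩ := conjB_spec hr hroot hconj
  have hcK : rep24.checkChain K = true := by
    simp only [commB, Bool.and_eq_true] at hK; exact hK.1
  have hb := card_le_of_conjugates (r := rep24.den r) hsub (fun c hc => by
      rw [mul_inv_eq_iff_eq_mul]; exact (mem_centM24.mp hc).2)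
    (fun i => rep24.den conjs[i].1) (fun i => (key i).2.2.1) (by
      intro i j hij
      apply hinj
      simpa only [(key i).2.2.2.1, (key j).2.2.2.1] using hij)
  have h1 := card_stab_mul (H := M24) (x := O.dec root)
  rw [hN, card_m24] at h1
  refine (Subgroup.eq_of_le_of_card_ge (commB_le hr hK) ?_).symm
  rw [Rep.card_chainGroup _ hcK]
  have h2 : N * (conjs.length * Nat.card ↥(centM24 (rep24.den r))) ≤
      N * (conjs.length * chainSize K) := by
    rw [hsize, h1]; exact Nat.mul_le_mul_left _ hb
  have hpos : 0 < N * conjs.length := by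
    rcases Nat.eq_zero_or_pos (N * conjs.length) with h0 | h0
    · rw [← Nat.mul_assoc, h0] at hsize; simp at hsize
    · exact h0
  rw [← Nat.mul_assoc, ← Nat.mul_assoc] at h2
  exact Nat.le_of_mul_le_mul_left h2 hpos

/-- Centralisers of conjugate elements are conjugate. -/
theorem mem_centM24_conj {g k r c : Equiv.Perm GolayPt} (hk : k ∈ M24) (h : k * g * k⁻¹ = r) :
    k * c * k⁻¹ ∈ centM24 r ↔ c ∈ centM24 g := by
  rw [mem_centM24, mem_centM24, ← h]
  refine and_congr ⟨fun hh => ?_, fun hh => mul_mem (mul_mem hk hh) (inv_mem hk)⟩ ?_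
  · have := mul_mem (mul_mem (inv_mem hk) hh) hk
    rwa [show k⁻¹ * (k * c * k⁻¹) * k = c by group] at this
  · rw [show k * c * k⁻¹ * (k * g * k⁻¹) = k * (c * g) * k⁻¹ by group,
      show k * g * k⁻¹ * (k * c * k⁻¹) = k * (g * c) * k⁻¹ by group,
      mul_left_inj, mul_right_inj]

theorem card_centM24_conj {g k r : Equiv.Perm GolayPt} (hk : k ∈ M24) (h : k * g * k⁻¹ = r) :
    Nat.card ↥(centM24 g) = Nat.card ↥(centM24 r) := by
  refine Nat.card_congr (Equiv.subtypeEquiv (MulAut.conj k).toEquiv fun c => ?_)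
  exact (mem_centM24_conj hk h).symm

end Cfsg.Agent.Compute
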