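/-
The centralisers of the two classes of involutions.
-/
import Cfsg.Agent.Compute.Centralizers
import Cfsg.Agent.Compute.CentInvAData
import Cfsg.Agent.Compute.CentInvBData

set_option autoImplicit false

namespace Cfsg.Agent.Compute

open Cfsg
open scoped Pointwise

/-- The first representative of the involutions. -/
noncomputable abbrev invRep (j : ℕ) : ℕ := syl2Reps.getD j rep24.one

theorem invA_checks : conjB maskObj centInvARoot (invRep 0) centInvAConj = true ∧
    commB centInvAChain (invRep 0) = true ∧
    (Nat.beq (fixMask (invRep 0)) centInvARoot &&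
      Nat.beq (759 * (centInvAConj.length * chainSize centInvAChain)) 244823040 &&
      Nat.blt centInvARoot 16777216) = true := by decide +kernel

theorem invB_checks : conjB (famObj 6) centInvBRoot (invRep 1) centInvBConj = true ∧
    commB centInvBChain (invRep 1) = true ∧
    (Nat.beq (1771 * (centInvBConj.length * chainSize centInvBChain)) 244823040 &&
      cfgSextTree.memB centInvBRoot &&
      (masksOf 6 centInvBRoot).all (fun m => Nat.beq (imgMask (invRep 1) m) m)) = true := by
  decide +kernel

/-- Only one sextet has all six tetrads fixed. -/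
theorem invB_unique : cfgSextTree.codes.all (fun c => Nat.beq c centInvBRoot ||
    (masksOf 6 c).any (fun m => !(Nat.beq (imgMask (invRep 1) m) m))) = true := by decide +kernel

theorem centInvA_eq : centM24 (rep24.den (invRep 0)) = rep24.chainGroup centInvAChain := by
  obtain ⟨h1, h2, h3⟩ := invA_checks
  simp only [Bool.and_eq_true, Nat.beq_eq, Nat.blt_eq] at h3
  obtain ⟨⟨hfix, hsize⟩, hlt⟩ := h3
  refine centM24_eq (O := maskObj) (rep_ok 0).1 hlt h1 h2 (fun c hc => ?_) ?_ hsize
  · obtain ⟨hcM, hcr⟩ := mem_centM24.mp hc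
    refine Subgroup.mem_inf.mpr ⟨hcM, ?_⟩
    rw [MulAction.mem_stabilizer_iff]
    change c • suppM centInvARoot = suppM centInvARoot
    rw [← hfix, ← fixFilter_rep (rep_ok 0).1]
    exact fixFilter_conj (by rw [mul_inv_eq_iff_eq_mul]; exact hcr)
  · have hmem : suppM centInvARoot ∈ octads := by
      rw [← hfix]; exact mem_octads_of_check fixMask_facts.1
    rw [octads_eq_orbit] at hmem
    change (MulAction.orbit M24 (suppM centInvARoot)).ncard = 759
    rw [MulAction.orbit_eq_iff.mpr hmem]
    exact octStab_spec.2.2.2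

theorem sextGood : ∀ c ∈ cfgSextTree.codes, (famObj 6).Good c :=
  Obj.stab_good (O := famObj 6) cfgSext_stab (goodFam_of_check cfgSext_good)

theorem sextets_eq_codes' : sextets = decFam 6 '' {c | c ∈ cfgSextTree.codes} :=
  sextets_eq_orbit.trans sextStab_spec.2.2.1

theorem invB_root : centInvBRoot ∈ cfgSextTree.codes ∧ decFam 6 centInvBRoot ∈ sextets := by
  have h3 := invB_checks.2.2
  simp only [Bool.and_eq_true] at h3
  have h := OTr.mem_codes_of_memB h3.1.2
  exact ⟨h, sextets_eq_codes' ▸ ⟨_, h, rfl⟩⟩

theorem invB_tetrads : ∀ s ∈ decFam 6 centInvBRoot, rep24.den (invRep 1) • s = s := by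
  intro s hs
  obtain ⟨m, hm, rfl⟩ := mem_decFam.mp hs
  have h3 := invB_checks.2.2
  simp only [Bool.and_eq_true, List.all_eq_true, Nat.beq_eq] at h3
  rw [smul_suppM (rep_ok 1).1]
  exact congrArg suppM (h3.2 m hm)

theorem invB_centralizes_sextet {c : Equiv.Perm GolayPt}
    (hc : c ∈ centM24 (rep24.den (invRep 1))) :
    c • decFam 6 centInvBRoot = decFam 6 centInvBRoot := by
  obtain ⟨hcM, hcr⟩ := mem_centM24.mp hc
  have hX := smul_mem_sextets hcM invB_root.2
  rw [sextets_eq_codes'] at hX
  obtain ⟨d, hd, hde⟩ := hX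
  have hfix : ∀ m ∈ masksOf 6 d, imgMask (invRep 1) m = m := by
    intro m hm
    have hs : suppM m ∈ c • decFam 6 centInvBRoot := hde ▸ mem_decFam.mpr ⟨m, hm, rfl⟩
    obtain ⟨s, hs, he⟩ := Finset.mem_smul_finset.mp hs
    have h2 : rep24.den (invRep 1) • suppM m = suppM m := by
      rw [← he, ← mul_smul, ← hcr, mul_smul, invB_tetrads s hs]
    rw [smul_suppM (rep_ok 1).1] at h2
    obtain ⟨l, hl, hlt, -, rfl⟩ : (famObj 6).Good d := sextGood d hd
    have hm' : m ∈ l := by
      have e := masksOf_packMasks l hlt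
      rw [hl] at e
      rwa [e] at hm
    exact (suppM_eq_iff (imgMask_lt (rep_ok 1).1) (hlt m hm')).mp h2
  have h := List.all_eq_true.mp invB_unique d hd
  simp only [Bool.or_eq_true, Nat.beq_eq, List.any_eq_true, Bool.not_eq_true'] at h
  rcases h with rfl | ⟨m, hm, hne⟩
  · exact hde.symm
  · rw [← Bool.not_eq_true, Nat.beq_eq] at hne
    exact absurd (hfix m hm) hne

theorem centInvB_eq : centM24 (rep24.den (invRep 1)) = rep24.chainGroup centInvBChain := by
  obtain ⟨h1, h2, h3⟩ := invB_checks
  simp only [Bool.and_eq_true, Nat.beq_eq] at h3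
  refine centM24_eq (O := famObj 6) (rep_ok 1).1 (sextGood _ invB_root.1) h1 h2 (fun c hc => ?_) ?_
    h3.1.1
  · exact Subgroup.mem_inf.mpr
      ⟨(mem_centM24.mp hc).1, MulAction.mem_stabilizer_iff.mpr (invB_centralizes_sextet hc)⟩
  · have hmem := invB_root.2
    rw [sextets_eq_orbit] at hmem
    change (MulAction.orbit M24 (decFam 6 centInvBRoot)).ncard = 1771
    rw [MulAction.orbit_eq_iff.mpr hmem]
    exact sextStab_spec.2.2.2

theorem invB_chain_facts : rep24.checkChain centInvBChain = true ∧
    chainSize centInvBChain = 7680 ∧ chainSize centInvAChain = 21504 := by decide +kernel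

end Cfsg.Agent.Compute
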