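/-
Elements of order three commuting with an involution.
-/
import Cfsg.Agent.Compute.CentInvolutions

set_option autoImplicit false

namespace Cfsg.Agent.Compute

open Cfsg
open scoped Pointwise

/-- Every element of exponent three other than one has exactly `n` fixed points. -/
noncomputable def threeFixB (K : List Level) (n : ℕ) : Bool :=
  (rep24.chainElems K).all (fun c => !(idB (rep24.powCode c 3)) || idB c ||
    Nat.beq (popBits 24 (fixMask c)) n)

theorem invA_threeFix : threeFixB centInvAChain 6 = true := by decide +kernel

theorem invB_threeFix : threeFixB centInvBChain 0 = true := by decide +kernel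

theorem card_fix_of_threeFix {K : List Level} {n : ℕ} (hK : threeFixB K n = true)
    (hc : rep24.checkChain K = true) {r : Equiv.Perm GolayPt}
    (heq : centM24 r = rep24.chainGroup K) {x s k : Equiv.Perm GolayPt} (hx : x ∈ M24)
    (hcomm : Commute x s) (hk : k ∈ M24) (hks : k * s * k⁻¹ = r) (h₃ : orderOf x = 3) :
    (Finset.univ.filter fun p => x p = p).card = n := by
  have hm : k * x * k⁻¹ ∈ rep24.chainGroup K :=
    heq ▸ (mem_centM24_conj hk hks).mpr (mem_centM24.mpr ⟨hx, hcomm⟩)
  obtain ⟨c, hcm, hok, hden⟩ := rep24.exists_elem K hc hm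
  have hord : orderOf (rep24.den c) = 3 := by
    rw [hden]
    exact (orderOf_injective (MulAut.conj k).toMonoidHom (MulAut.conj k).injective x).trans h₃
  have h := List.all_eq_true.mp hK c hcm
  simp only [Bool.or_eq_true, Bool.not_eq_true', Nat.beq_eq] at h
  rcases h with (h | h) | h
  · obtain ⟨hokp, hdenp⟩ := rep24.powCode_spec hok 3
    rw [← Bool.not_eq_true, idB_iff hokp, hdenp, ← hord, pow_orderOf_eq_one] at h
    exact absurd rfl h
  · rw [(idB_iff hok).mp h, orderOf_one] at hord
    omega
  · rw [← Finset.card_smul_finset k, fixFilter_conj hden.symm, fixFilter_rep hok, card_suppM, h]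

end Cfsg.Agent.Compute
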