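/- Generated data: the stabiliser configuration DodP3. -/
import Cfsg.Agent.Compute.Config
import Cfsg.Agent.Compute.Perm

set_option autoImplicit false
set_option linter.all false

namespace Cfsg.Agent.Compute

/-- Level 0 of the stabiliser. -/
def cfgDodP3L0 : Level :=
  ⟨3, 9, getField 5 0xffffff87e4ffcc5ffc48f9fe307fff,
   (.node ⟨0xbdab49ca307b9ac5a928398a418820, 0xbdab49ca307b9ac5a928398a418820, 0, 0⟩ (.node ⟨0x3aa65aa6c3a3c888ae0db99cc90820, 0x3c66fa8d697150455a4cb9a8d80820, 0, 0⟩ (.node ⟨0xad2d7541e33ada974ccc2a23220820, 0xa56f6510b28ada874d867a4e380820, 1, 1⟩ (.node ⟨0x9bd515caa3b1e042d189736e830820, 0x2be2abca8db1cc99d50470d6c80820, 4, 1⟩ .nil .nil) .nil) (.node ⟨0x8a9e5ab6d074cc83dc695929260820, 0x54665712f0abe433d90c5b68648820, 2, 2⟩ .nil .nil)) (.node ⟨0xbaeae9c1522d18db4464399e848820, 0xbaeae9c1522d18db4464399e848820, 1, 0⟩ (.node ⟨0x5daae7b0e39d132ba9a8890a680820, 0x5daae7b0e39d132ba9a8890a680820,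 1, 2⟩ (.node ⟨0xb2e8e991437d4cdb9e508b0a940820, 0x5ddd59a4e87d186b4483534b280820, 5, 0⟩ .nil .nil) .nil) (.node ⟨0x51de5a1963acd908d912ba5c468820, 0x3a9f37216ca946d8dcc9b4a8480820, 3, 1⟩ .nil .nil))),
   [0x3aa65aa6c3a3c888ae0db99cc90820, 0x2bd47b11c65c5929d209aa2ed18820, 0x89df3ac2eda150655992591c918820]⟩

/-- Level 1 of the stabiliser. -/
def cfgDodP3L1 : Level :=
  ⟨4, 8, getField 5 0xffffff9be5ffc23ffc44f9fe0fffff,
   (.node ⟨0xbdab49ca307b9ac5a928398a418820, 0xbdab49ca307b9ac5a928398a418820, 0, 0⟩ (.node ⟨0x2bd47b11c65c5929d209aa2ed18820, 0x2ccea5b1c9b448d7d506a42f218820, 0, 0⟩ (.node ⟨0xbae957b6289ba44b1cd0524ac18820, 0xbae957b6289ba44b1cd0524ac18820, 1, 0⟩ (.node ⟨0x8aa6fa22f2a96093ac8db31c618820, 0x89df3ac2eda150655992591c918820, 3, 1⟩ .nil .nil) .nil) (.node ⟨0x75576518ac3dd28a3e449b63018820, 0x752cb3a4a455cd0acdac7ca2818820, 2, 0⟩ .nil .nil)) (.node ⟨0x89df3ac2eda150655992591c918820,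 0x8aa6fa22f2a96093ac8db31c618820, 0, 1⟩ (.node ⟨0x752cb3a4a455cd0acdac7ca2818820, 0x75576518ac3dd28a3e449b63018820, 1, 1⟩ .nil .nil) (.node ⟨0x2ccea5b1c9b448d7d506a42f218820, 0x2bd47b11c65c5929d209aa2ed18820, 3, 0⟩ .nil .nil))),
   [0x2bd47b11c65c5929d209aa2ed18820, 0x89df3ac2eda150655992591c918820]⟩

/-- The chain of the stabiliser. -/
def cfgDodP3Chain : List Level := [cfgDodP3L0, cfgDodP3L1]

/-- Two generators. -/
def cfgDodP3Gens : List ℕ := [0x2ccea5b1c9b448d7d506a42f218820, 0xab9778c8a93d983a4ccd7915040820]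

/-- A program from them to the strong generators. -/
def cfgDodP3Slp : List (ℕ × ℕ × ℕ × Bool) := [(0x3c5e5732e8a4da352e04b4aa930820, 1, 2, false), (0xa3ad78b4a652c83abd329b0e880820, 1, 3, false), (0xbd9d52b1449d20859cd288ded48820, 2, 4, false), (0x54665712f0abe433d90c5b68648820, 1, 4, false), (0x8a9e5ab6d074cc83dc695929260820, 6, 0, true), (0x8aa6fa22f2a96093ac8db31c618820, 7, 5, false), (0x79551bc1cc59cc39d488a26cd90820, 8, 4, false), (0x3aa65aa6c3a3c888ae0db99cc90820, 2, 9, false), (0x2bd47b11c65c5929d209aa2ed18820, 1, 0, true), (0x89df3ac2eda150655992591c918820, 8, 0, true)]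

/-- Representative. -/
def cfgDodP3Root : ℕ := 0x2

/-- the orbit of the representative. -/
noncomputable def cfgDodP3Tree : OTr :=
  (.node 0x9 0x2000101 (.node 0x4 0x6000401 (.node 0x3 0x2000100 (.node 0x2 0x0 .nil .nil) .nil) (.node 0x8 0xd000301 (.node 0x6 0xd000300 .nil .nil) .nil)) (.node 0x10 0x9000200 (.node 0xd 0x3000201 (.node 0xc 0x10000300 .nil .nil) .nil) (.node 0x12 0x10000301 .nil .nil)))

/-- suborbit 0 on Pt. -/
noncomputable def cfgDodP3PtSub0Tree : OTr :=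
  (.node 0x0 0x0 .nil .nil)

/-- Suborbit 0 on Pt. -/
noncomputable def cfgDodP3PtSub0 : SubCert := ⟨cfgDodP3PtSub0Tree, 0x0, 1⟩

/-- suborbit 1 on Pt. -/
noncomputable def cfgDodP3PtSub1Tree : OTr :=
  (.node 0x1 0x0 .nil .nil)

/-- Suborbit 1 on Pt. -/
noncomputable def cfgDodP3PtSub1 : SubCert := ⟨cfgDodP3PtSub1Tree, 0x1, 1⟩

/-- suborbit 2 on Pt. -/
noncomputable def cfgDodP3PtSub2Tree : OTr :=
  (.node 0x2 0x0 .nil .nil)

/-- Suborbit 2 on Pt. -/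
noncomputable def cfgDodP3PtSub2 : SubCert := ⟨cfgDodP3PtSub2Tree, 0x2, 1⟩

/-- suborbit 3 on Pt. -/
noncomputable def cfgDodP3PtSub3Tree : OTr :=
  (.node 0x9 0x10000400 (.node 0x6 0x8000200 (.node 0x4 0x6000301 (.node 0x3 0x0 .nil .nil) .nil) (.node 0x8 0x3000101 .nil .nil)) (.node 0x10 0x6000300 (.node 0xd 0x8000201 (.node 0xc 0xd000301 .nil .nil) .nil) (.node 0x12 0x4000400 .nil .nil)))

/-- Suborbit 3 on Pt. -/
noncomputable def cfgDodP3PtSub3 : SubCert := ⟨cfgDodP3PtSub3Tree, 0x3, 9⟩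

/-- suborbit 4 on Pt. -/
noncomputable def cfgDodP3PtSub4Tree : OTr :=
  (.node 0x11 0x13000301 (.node 0xb 0x15000301 (.node 0x7 0x15000300 (.node 0x5 0x0 .nil .nil) (.node 0xa 0x5000101 .nil .nil)) (.node 0xf 0x7000401 (.node 0xe 0x11000400 .nil .nil) .nil)) (.node 0x15 0x17000201 (.node 0x14 0x7000400 (.node 0x13 0xa000201 .nil .nil) .nil) (.node 0x17 0x5000100 (.node 0x16 0xf000500 .nil .nil) .nil)))

/-- Suborbit 4 on Pt. -/
noncomputable def cfgDodP3PtSub4 : SubCert := ⟨cfgDodP3PtSub4Tree, 0x5, 12⟩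

/-- The suborbits on Pt. -/
noncomputable def cfgDodP3PtSubs : List SubCert := [cfgDodP3PtSub0, cfgDodP3PtSub1, cfgDodP3PtSub2, cfgDodP3PtSub3, cfgDodP3PtSub4]

end Cfsg.Agent.Compute
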