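/- Generated data: the stabiliser configuration DodPtOO. -/
import Cfsg.Agent.Compute.Config
import Cfsg.Agent.Compute.Perm

set_option autoImplicit false
set_option linter.all false

namespace Cfsg.Agent.Compute

/-- Level 0 of the stabiliser. -/
def cfgDodPtOOL0 : Level :=
  ⟨1, 6, getField 5 0xffffffffe5ffc81ffc7ffffe2ffc1f,
   (.node ⟨0xbdab49ca307b9ac5a928398a418820, 0xbdab49ca307b9ac5a928398a418820, 0, 0⟩ (.node ⟨0x9da2fbcab0a2d21729a63a0a410d80, 0x9da2fbcab0a2d21729a63a0a410d80, 0, 0⟩ (.node ⟨0x7dd53b19d0a2d81ac49238cad12120, 0xb4d6fa2150bc48d754223c8a930d80, 1, 3⟩ .nil .nil) (.node ⟨0x9d96e50a8cac4817dda8398a990e00, 0x559f1b8dc15d130acc88398ad14980, 3, 2⟩ .nil .nil)) (.node ⟨0x72af3b21ecac601a2d2238cad91880, 0xacdeba0dcd8dc9055932388a132180, 1, 2⟩ (.node ⟨0xa2ece50e647dd81ac612398a9409a0, 0x755778a1497d02db4c83398b090980, 2, 2⟩ .nil .nil) .nil)),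
   [0x9da2fbcab0a2d21729a63a0a410d80, 0x9da2fbcab0a2d21729a63a0a410d80, 0xb29f5722ec9d1248ae03388ad34820, 0xb5dd4799509d4895c5833c8ad40820]⟩

/-- Level 1 of the stabiliser. -/
def cfgDodPtOOL1 : Level :=
  ⟨2, 5, getField 5 0xffffff87ffffffffffe2f8fff203ff,
   (.node ⟨0xbdab49ca307b9ac5a928398a418820, 0xbdab49ca307b9ac5a928398a418820, 0, 0⟩ (.node ⟨0xb29f5722ec9d1248ae03388ad34820, 0x8de8e78969acc90559b238cac41820, 0, 0⟩ (.node ⟨0xbc66ea8ec97d18d52e08388a491820, 0xbc66ea8ec97d18d52e08388a491820, 1, 1⟩ .nil .nil) .nil) (.node ⟨0x52e6fa0ec47560dbc5863c8a912020, 0x5c5d3a994da3d89b5c823a0b090c20, 1, 0⟩ (.node ⟨0x5c5d3a994da3d89b5c823a0b090c20, 0x52e6fa0ec47560dbc5863c8a912020, 2, 0⟩ .nil .nil) .nil)),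
   [0xb29f5722ec9d1248ae03388ad34820, 0xb5dd4799509d4895c5833c8ad40820]⟩

/-- Level 2 of the stabiliser. -/
def cfgDodPtOOL2 : Level :=
  ⟨3, 2, getField 5 0xffffffffffffffffffe1fffff07fff,
   (.node ⟨0xbdab49ca307b9ac5a928398a418820, 0xbdab49ca307b9ac5a928398a418820, 0, 0⟩ (.node ⟨0xb5dd4799509d4895c5833c8ad40820, 0xb5dd4799509d4895c5833c8ad40820, 0, 0⟩ .nil .nil) .nil),
   [0xb5dd4799509d4895c5833c8ad40820]⟩

/-- The chain of the stabiliser. -/
def cfgDodPtOOChain : List Level := [cfgDodPtOOL0, cfgDodPtOOL1, cfgDodPtOOL2]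

/-- Two generators. -/
def cfgDodPtOOGens : List ℕ := [0x53af478ac45c6099d4283c8ad19980, 0xa4dd1a8ded5a92cbd8823c8a141a00]

/-- A program from them to the strong generators. -/
def cfgDodPtOOSlp : List (ℕ × ℕ × ℕ × Bool) := [(0xb2a9159a61bbda4aba0238ca944980, 2, 1, false), (0xac554599cd9d8817dd88388b01c920, 1, 0, true), (0x8de8e78969acc90559b238cac41820, 4, 3, false), (0x5c5d3a994da3d89b5c823a0b090c20, 5, 5, false), (0x9da2fbcab0a2d21729a63a0a410d80, 1, 6, false), (0xb29f5722ec9d1248ae03388ad34820, 5, 0, true), (0xb4e2ea9aec52d2d7d032388a440e00, 5, 1, false), (0x5aa77b1a818d60c7b9a3388a992080, 2, 0, true), (0x55a959896c73db08dc863a0a91c820, 10, 9, false), (0xb5dd4799509d4895c5833c8ad40820, 5, 11, false)]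

/-- Representative. -/
def cfgDodPtOORoot : ℕ := 0x7

/-- the orbit of the representative. -/
noncomputable def cfgDodPtOOTree : OTr :=
  (.node 0x11 0x14000201 (.node 0xb 0x7000100 (.node 0xa 0xb000200 (.node 0x7 0x0 .nil .nil) .nil) (.node 0xf 0x11000300 (.node 0xe 0xa000301 .nil .nil) .nil)) (.node 0x15 0x13000500 (.node 0x14 0x7000101 (.node 0x13 0xf000401 .nil .nil) .nil) (.node 0x17 0x14000200 (.node 0x16 0xf000400 .nil .nil) .nil)))

end Cfsg.Agent.Compute
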