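/- Generated data: the stabiliser configuration DodPtOOO. -/
import Cfsg.Agent.Compute.Config
import Cfsg.Agent.Compute.Perm

set_option autoImplicit false
set_option linter.all false

namespace Cfsg.Agent.Compute

/-- Level 0 of the stabiliser. -/
def cfgDodPtOOOL0 : Level :=
  ⟨1, 3, getField 5 0xfffffffffffffe2ffffffffe1ffc1f,
   (.node ⟨0xbdab49ca307b9ac5a928398a418820, 0xbdab49ca307b9ac5a928398a418820, 0, 0⟩ (.node ⟨0xa2ef58a1ed9d92172a063c8ac18880, 0xaba9779a698ae04b29b23a0a118980, 0, 0⟩ .nil .nil) (.node ⟨0xaba9779a698ae04b29b23a0a118980, 0xa2ef58a1ed9d92172a063c8ac18880, 1, 0⟩ .nil .nil)),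
   [0xa2ef58a1ed9d92172a063c8ac18880, 0xa2ef58a1ed9d92172a063c8ac18880, 0x8adf3a22edaba04b2932398ac10c20]⟩

/-- Level 1 of the stabiliser. -/
def cfgDodPtOOOL1 : Level :=
  ⟨2, 2, getField 5 0xfffffffffffffffffffffffff083ff,
   (.node ⟨0xbdab49ca307b9ac5a928398a418820, 0xbdab49ca307b9ac5a928398a418820, 0, 0⟩ (.node ⟨0x8adf3a22edaba04b2932398ac10c20, 0x8adf3a22edaba04b2932398ac10c20, 0, 0⟩ .nil .nil) .nil),
   [0x8adf3a22edaba04b2932398ac10c20]⟩

/-- The chain of the stabiliser. -/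
def cfgDodPtOOOChain : List Level := [cfgDodPtOOOL0, cfgDodPtOOOL1]

/-- Two generators. -/
def cfgDodPtOOOGens : List ℕ := [0x8adf3a22edaba04b2932398ac10c20, 0x9da2fbcab0a2d21729a63a0a410d80]

/-- A program from them to the strong generators. -/
def cfgDodPtOOOSlp : List (ℕ × ℕ × ℕ × Bool) := [(0xa2ef58a1ed9d92172a063c8ac18880, 1, 2, false)]

/-- Representative. -/
def cfgDodPtOOORoot : ℕ := 0xa

/-- the orbit of the representative. -/
noncomputable def cfgDodPtOOOTree : OTr :=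
  (.node 0x13 0x16000201 (.node 0xe 0x15000201 (.node 0xb 0xf000400 (.node 0xa 0x0 .nil .nil) .nil) (.node 0x11 0xe000300 (.node 0xf 0x13000300 .nil .nil) .nil)) (.node 0x16 0xa000101 (.node 0x15 0xa000100 (.node 0x14 0x17000301 .nil .nil) .nil) (.node 0x17 0x15000200 .nil .nil)))

end Cfsg.Agent.Compute
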