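/-
Kernel checks of a stabiliser configuration.
-/
import Cfsg.Agent.Compute.CfgDodQData
import Cfsg.Agent.Compute.CfgDodData
import Cfsg.Agent.Compute.Config
import Cfsg.Agent.Compute.Objects

set_option autoImplicit false

namespace Cfsg.Agent.Compute

open Cfsg
open scoped Pointwise

theorem cfgDodQ_stab : (famObj 4).stabB cfgDodChain cfgDodQChain cfgDodGens cfgDodQTree cfgDodQRoot 220 = true := by
  decide +kernel

theorem cfgDodQ_genCheck : rep24.genB cfgDodQChain cfgDodQGens cfgDodQSlp = true := by
  decide +kernel

theorem cfgDodQ_good : goodFamB 4 cfgDodQRoot = true := by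
  decide +kernel

end Cfsg.Agent.Compute
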