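/- Generated data: the stabiliser configuration OctT4. -/
import Cfsg.Agent.Compute.Config
import Cfsg.Agent.Compute.Perm

set_option autoImplicit false
set_option linter.all false

namespace Cfsg.Agent.Compute

/-- Level 0 of the stabiliser. -/
def cfgOctT4L0 : Level :=
  ⟨4, 16, getField 5 0xf91cf40fed5fcc13a44a617e0fffff,
   (.node ⟨0xbdab49ca307b9ac5a928398a418820, 0xbdab49ca307b9ac5a928398a418820, 0, 0⟩ (.node ⟨0xbae957b6289ba44b1cd0524ac18820, 0xbae957b6289ba44b1cd0524ac18820, 0, 0⟩ (.node ⟨0xba1474922b3398d85676a3cb218820, 0xba1474922b3398d85676a3cb218820, 0, 3⟩ (.node ⟨0xbb1f3a4232ab916218ed4a8ab18820, 0xbb1f3a4232ab916218ed4a8ab18820, 1, 4⟩ (.node ⟨0xbbd8459e29b39559b606920b418820, 0xbbd8459e29b39559b606920b418820, 11, 4⟩ .nil .nil) .nil) (.node ⟨0xbd17661a2a23933ac1a7448af18820, 0xbd17661a2a23933ac1a7448af18820, 5, 3⟩ .nil .nil)) (.node ⟨0xb9e086be3593a6952d94b10a618820, 0xb9e086be3593a6952d94b10a618820, 1, 1⟩ (.node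 ⟨0xba64d4562f83a87312d362caa18820, 0xba64d4562f83a87312d362caa18820, 2, 4⟩ .nil .nil) (.node ⟨0xbb4c93ae2453ac893e8c9d4b018820, 0xbb4c93ae2453ac893e8c9d4b018820, 6, 4⟩ .nil .nil))) (.node ⟨0xba91094e346b9e63d8955b0a918820, 0xba91094e346b9e63d8955b0a918820, 0, 1⟩ (.node ⟨0xb926faa22da3a0b6255231cb618820, 0xb926faa22da3a0b6255231cb618820, 0, 4⟩ (.node ⟨0xbd6cb22627638cfa224a834b318820, 0xbd6cb22627638cfa224a834b318820, 2, 3⟩ .nil .nil) (.node ⟨0xb99b28523343aaa4b16f258a718820, 0xb99b28523343aaa4b16f258a718820, 5, 4⟩ .nil .nil)) (.node ⟨0xbc0ea332364b892451ebaccad18820, 0xbc0ea332364b892451ebaccad18820, 1, 3⟩ (.node ⟨0xbc92655a2c3b9706cea47d0a818820, 0xbc92655a2c3b9706cea47d0a818820, 3, 4⟩ .nil .nil) (.node ⟨0xbcc8cb2a265b8f47c9096c0b518820, 0xbcc8cb2a265b8f47c9096c0b518820, 8, 4⟩ .nil .nil)))),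
   [0xbae957b6289ba44b1cd0524ac18820, 0xba91094e346b9e63d8955b0a918820, 0xba91094e346b9e63d8955b0a918820, 0xba1474922b3398d85676a3cb218820, 0xb926faa22da3a0b6255231cb618820]⟩

/-- The chain of the stabiliser. -/
def cfgOctT4Chain : List Level := [cfgOctT4L0]

/-- Two generators. -/
def cfgOctT4Gens : List ℕ := [0xbd6cb22627638cfa224a834b318820, 0xb9e086be3593a6952d94b10a618820, 0xbcc8cb2a265b8f47c9096c0b518820, 0xbd17661a2a23933ac1a7448af18820]

/-- A program from them to the strong generators. -/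
def cfgOctT4Slp : List (ℕ × ℕ × ℕ × Bool) := [(0xbae957b6289ba44b1cd0524ac18820, 4, 1, false), (0xbc0ea332364b892451ebaccad18820, 2, 1, false), (0xba91094e346b9e63d8955b0a918820, 4, 6, false), (0xba1474922b3398d85676a3cb218820, 4, 2, false), (0xb926faa22da3a0b6255231cb618820, 3, 1, false)]

/-- Representative. -/
def cfgOctT4Root : ℕ := 0x82402f51a6102c19c0

/-- the orbit of the representative. -/
noncomputable def cfgOctT4Tree : OTr :=
  (.node 0x82402f60b5401d0a90 0x82402f51a6102c19c0000102 (.node 0x82402f583380258c50 0x82402f5481d0293e00000203 (.node 0x82402f5481d0293e00 0x82402f51a6102c19c0000100 (.node 0x82402f51a6102c19c0 0x0 .nil .nil) .nil) (.node 0x82402f5d144020ab90 0x82402f51a6102c19c0000103 .nil .nil)) (.node 0x82402f6920d0149f00 0x82402f51a6102c19c0000105 (.node 0x82402f659280182d50 0x82402f51a6102c19c0000101 .nil .nil) (.node 0x82402f6c071011b8c0 0x82402f5481d0293e00000205 .nil .nil)))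

end Cfsg.Agent.Compute
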