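/-
Kernel checks of a stabiliser configuration.
-/
import Cfsg.Agent.Compute.CfgOctTrioData
import Cfsg.Agent.Compute.CfgOctData
import Cfsg.Agent.Compute.Config
import Cfsg.Agent.Compute.Objects

set_option autoImplicit false

namespace Cfsg.Agent.Compute

open Cfsg
open scoped Pointwise

theorem cfgOctTrio_stab : (famObj 3).stabB cfgOctChain cfgOctTrioChain cfgOctGens cfgOctTrioTree cfgOctTrioRoot 15 = true := by
  decide +kernel

theorem cfgOctTrio_genCheck : rep24.genB cfgOctTrioChain cfgOctTrioGens cfgOctTrioSlp = true := by
  decide +kernel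

theorem cfgOctTrio_good : goodFamB 3 cfgOctTrioRoot = true := by
  decide +kernel

end Cfsg.Agent.Compute
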