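/-
Kernel checks of a partition.
-/
import Cfsg.Agent.Compute.CfgOctTrioData
import Cfsg.Agent.Compute.Config
import Cfsg.Agent.Compute.Objects
import Cfsg.Agent.Compute.Labels

set_option autoImplicit false

namespace Cfsg.Agent.Compute

open Cfsg
open scoped Pointwise

theorem cfgOctTrio_partOctTrio : (famObj 3).partB cfgOctTrioGens cfgOctTrioTree.codes cfgOctTrioOctTrioSubs = true := by
  decide +kernel

/-- The invariant separating the suborbits. -/
noncomputable def cfgOctTrioOctTrioLab (c : ℕ) : ℕ := cond (Nat.beq c cfgOctTrioRoot) 1 0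

theorem cfgOctTrio_labOctTrio : labB cfgOctTrioTree cfgOctTrioOctTrioLab cfgOctTrioOctTrioSubs = true := by
  decide +kernel

end Cfsg.Agent.Compute
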