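/-
Further certified stabilisers in M12 and in an octad stabiliser.
-/
import Cfsg.Agent.Compute.MathieuMoves
import Cfsg.Agent.Compute.CfgDodPtOCheckStab
import Cfsg.Agent.Compute.CfgDodPtOOCheckStab
import Cfsg.Agent.Compute.CfgDodPtOOOCheckStab
import Cfsg.Agent.Compute.CfgDodPairCheckStab
import Cfsg.Agent.Compute.CfgDodP2CheckStab
import Cfsg.Agent.Compute.CfgDodP3CheckStab
import Cfsg.Agent.Compute.CfgDodQCheckStab
import Cfsg.Agent.Compute.CfgDodHexCheckStab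
import Cfsg.Agent.Compute.CfgOctOct2CheckStab
import Cfsg.Agent.Compute.CfgOctTrioCheckStab
import Cfsg.Agent.Compute.CfgOctT2CheckStab
import Cfsg.Agent.Compute.CfgOctT3CheckStab
import Cfsg.Agent.Compute.CfgOctT4CheckStab
import Cfsg.Agent.Compute.CfgDodP3PartPt
import Cfsg.Agent.Compute.CfgDodQPartQuart
import Cfsg.Agent.Compute.CfgDodQPartPt
import Cfsg.Agent.Compute.CfgOctTrioPartOctTrio

set_option autoImplicit false

namespace Cfsg.Agent.Compute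

open Cfsg
open scoped Pointwise

theorem mem_cfgOct {g : Equiv.Perm GolayPt} (h : g ∈ rep24.chainGroup cfgOctChain) :
    g ∈ M24 ∧ g • suppM cfgOctRoot = suppM cfgOctRoot :=
  Subgroup.mem_inf.mp ((SetLike.ext_iff.mp octStab_spec.2.1 g).mpr h)

theorem root_lt_DodPtO : cfgDodPtORoot < 24 := by decide +kernel

theorem stabDodPtO_spec : rep24.checkChain cfgDodPtOChain = true ∧
    rep24.chainGroup cfgDodPtChain ⊓ MulAction.stabilizer (Equiv.Perm GolayPt) (rep24.pt cfgDodPtORoot) = rep24.chainGroup cfgDodPtOChain ∧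
    MulAction.orbit (rep24.chainGroup cfgDodPtChain : Subgroup (Equiv.Perm GolayPt)) (rep24.pt cfgDodPtORoot) = rep24.pt '' {c | c ∈ cfgDodPtOTree.codes} ∧
    (MulAction.orbit (rep24.chainGroup cfgDodPtChain : Subgroup (Equiv.Perm GolayPt)) (rep24.pt cfgDodPtORoot)).ncard = 12 :=
  Obj.stab_spec (O := ptObj) stabDodPt_spec.1 span_cfgDodPt cfgDodPtO_stab root_lt_DodPtO

theorem span_cfgDodPtO : rep24.span cfgDodPtOGens = rep24.chainGroup cfgDodPtOChain :=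
  Rep.span_of_genB stabDodPtO_spec.1 cfgDodPtO_genCheck

theorem tree_good_DodPtO : ∀ c ∈ cfgDodPtOTree.codes, ptObj.Good c :=
  Obj.stab_good (O := ptObj) cfgDodPtO_stab root_lt_DodPtO

theorem cfgDodPtO_le : rep24.chainGroup cfgDodPtOChain ≤ rep24.chainGroup cfgDodPtChain :=
  stabDodPtO_spec.2.1 ▸ inf_le_left

theorem mem_cfgDodPtO {g : Equiv.Perm GolayPt} (h : g ∈ rep24.chainGroup cfgDodPtOChain) :
    g ∈ M24 ∧ g • suppM cfgDodRoot = suppM cfgDodRoot ∧ g • rep24.pt cfgDodPtRoot = rep24.pt cfgDodPtRoot ∧ g • rep24.pt cfgDodPtORoot = rep24.pt cfgDodPtORoot :=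
  ⟨(mem_cfgDodPt (cfgDodPtO_le h)).1, (mem_cfgDodPt (cfgDodPtO_le h)).2.1, (mem_cfgDodPt (cfgDodPtO_le h)).2.2, (Subgroup.mem_inf.mp ((SetLike.ext_iff.mp stabDodPtO_spec.2.1 g).mpr h)).2⟩

theorem root_lt_DodPtOO : cfgDodPtOORoot < 24 := by decide +kernel

theorem stabDodPtOO_spec : rep24.checkChain cfgDodPtOOChain = true ∧
    rep24.chainGroup cfgDodPtOChain ⊓ MulAction.stabilizer (Equiv.Perm GolayPt) (rep24.pt cfgDodPtOORoot) = rep24.chainGroup cfgDodPtOOChain ∧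
    MulAction.orbit (rep24.chainGroup cfgDodPtOChain : Subgroup (Equiv.Perm GolayPt)) (rep24.pt cfgDodPtOORoot) = rep24.pt '' {c | c ∈ cfgDodPtOOTree.codes} ∧
    (MulAction.orbit (rep24.chainGroup cfgDodPtOChain : Subgroup (Equiv.Perm GolayPt)) (rep24.pt cfgDodPtOORoot)).ncard = 11 :=
  Obj.stab_spec (O := ptObj) stabDodPtO_spec.1 span_cfgDodPtO cfgDodPtOO_stab root_lt_DodPtOO

theorem span_cfgDodPtOO : rep24.span cfgDodPtOOGens = rep24.chainGroup cfgDodPtOOChain :=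
  Rep.span_of_genB stabDodPtOO_spec.1 cfgDodPtOO_genCheck

theorem tree_good_DodPtOO : ∀ c ∈ cfgDodPtOOTree.codes, ptObj.Good c :=
  Obj.stab_good (O := ptObj) cfgDodPtOO_stab root_lt_DodPtOO

theorem cfgDodPtOO_le : rep24.chainGroup cfgDodPtOOChain ≤ rep24.chainGroup cfgDodPtOChain :=
  stabDodPtOO_spec.2.1 ▸ inf_le_left

theorem mem_cfgDodPtOO {g : Equiv.Perm GolayPt} (h : g ∈ rep24.chainGroup cfgDodPtOOChain) :
    g ∈ M24 ∧ g • suppM cfgDodRoot = suppM cfgDodRoot ∧ g • rep24.pt cfgDodPtRoot = rep24.pt cfgDodPtRoot ∧ g • rep24.pt cfgDodPtORoot = rep24.pt cfgDodPtORoot ∧ g • rep24.pt cfgDodPtOORoot = rep24.pt cfgDodPtOORoot :=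
  ⟨(mem_cfgDodPtO (cfgDodPtOO_le h)).1, (mem_cfgDodPtO (cfgDodPtOO_le h)).2.1, (mem_cfgDodPtO (cfgDodPtOO_le h)).2.2.1, (mem_cfgDodPtO (cfgDodPtOO_le h)).2.2.2, (Subgroup.mem_inf.mp ((SetLike.ext_iff.mp stabDodPtOO_spec.2.1 g).mpr h)).2⟩

theorem root_lt_DodPtOOO : cfgDodPtOOORoot < 24 := by decide +kernel

theorem stabDodPtOOO_spec : rep24.checkChain cfgDodPtOOOChain = true ∧
    rep24.chainGroup cfgDodPtOOChain ⊓ MulAction.stabilizer (Equiv.Perm GolayPt) (rep24.pt cfgDodPtOOORoot) = rep24.chainGroup cfgDodPtOOOChain ∧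
    MulAction.orbit (rep24.chainGroup cfgDodPtOOChain : Subgroup (Equiv.Perm GolayPt)) (rep24.pt cfgDodPtOOORoot) = rep24.pt '' {c | c ∈ cfgDodPtOOOTree.codes} ∧
    (MulAction.orbit (rep24.chainGroup cfgDodPtOOChain : Subgroup (Equiv.Perm GolayPt)) (rep24.pt cfgDodPtOOORoot)).ncard = 10 :=
  Obj.stab_spec (O := ptObj) stabDodPtOO_spec.1 span_cfgDodPtOO cfgDodPtOOO_stab root_lt_DodPtOOO

theorem span_cfgDodPtOOO : rep24.span cfgDodPtOOOGens = rep24.chainGroup cfgDodPtOOOChain :=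
  Rep.span_of_genB stabDodPtOOO_spec.1 cfgDodPtOOO_genCheck

theorem tree_good_DodPtOOO : ∀ c ∈ cfgDodPtOOOTree.codes, ptObj.Good c :=
  Obj.stab_good (O := ptObj) cfgDodPtOOO_stab root_lt_DodPtOOO

theorem cfgDodPtOOO_le : rep24.chainGroup cfgDodPtOOOChain ≤ rep24.chainGroup cfgDodPtOOChain :=
  stabDodPtOOO_spec.2.1 ▸ inf_le_left

theorem mem_cfgDodPtOOO {g : Equiv.Perm GolayPt} (h : g ∈ rep24.chainGroup cfgDodPtOOOChain) :
    g ∈ M24 ∧ g • suppM cfgDodRoot = suppM cfgDodRoot ∧ g • rep24.pt cfgDodPtRoot = rep24.pt cfgDodPtRoot ∧ g • rep24.pt cfgDodPtORoot = rep24.pt cfgDodPtORoot ∧ g • rep24.pt cfgDodPtOORoot = rep24.pt cfgDodPtOORoot ∧ g • rep24.pt cfgDodPtOOORoot = rep24.pt cfgDodPtOOORoot :=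
  ⟨(mem_cfgDodPtOO (cfgDodPtOOO_le h)).1, (mem_cfgDodPtOO (cfgDodPtOOO_le h)).2.1, (mem_cfgDodPtOO (cfgDodPtOOO_le h)).2.2.1, (mem_cfgDodPtOO (cfgDodPtOOO_le h)).2.2.2.1, (mem_cfgDodPtOO (cfgDodPtOOO_le h)).2.2.2.2, (Subgroup.mem_inf.mp ((SetLike.ext_iff.mp stabDodPtOOO_spec.2.1 g).mpr h)).2⟩

theorem root_lt_DodPair : cfgDodPairRoot < 2 ^ 24 := by decide +kernel

theorem stabDodPair_spec : rep24.checkChain cfgDodPairChain = true ∧
    rep24.chainGroup cfgDodPtChain ⊓ MulAction.stabilizer (Equiv.Perm GolayPt) (suppM cfgDodPairRoot) = rep24.chainGroup cfgDodPairChain ∧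
    MulAction.orbit (rep24.chainGroup cfgDodPtChain : Subgroup (Equiv.Perm GolayPt)) (suppM cfgDodPairRoot) = suppM '' {c | c ∈ cfgDodPairTree.codes} ∧
    (MulAction.orbit (rep24.chainGroup cfgDodPtChain : Subgroup (Equiv.Perm GolayPt)) (suppM cfgDodPairRoot)).ncard = 66 :=
  Obj.stab_spec (O := maskObj) stabDodPt_spec.1 span_cfgDodPt cfgDodPair_stab root_lt_DodPair

theorem span_cfgDodPair : rep24.span cfgDodPairGens = rep24.chainGroup cfgDodPairChain :=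
  Rep.span_of_genB stabDodPair_spec.1 cfgDodPair_genCheck

theorem tree_good_DodPair : ∀ c ∈ cfgDodPairTree.codes, maskObj.Good c :=
  Obj.stab_good (O := maskObj) cfgDodPair_stab root_lt_DodPair

theorem cfgDodPair_le : rep24.chainGroup cfgDodPairChain ≤ rep24.chainGroup cfgDodPtChain :=
  stabDodPair_spec.2.1 ▸ inf_le_left

theorem mem_cfgDodPair {g : Equiv.Perm GolayPt} (h : g ∈ rep24.chainGroup cfgDodPairChain) :
    g ∈ M24 ∧ g • suppM cfgDodRoot = suppM cfgDodRoot ∧ g • rep24.pt cfgDodPtRoot = rep24.pt cfgDodPtRoot ∧ g • suppM cfgDodPairRoot = suppM cfgDodPairRoot :=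
  ⟨(mem_cfgDodPt (cfgDodPair_le h)).1, (mem_cfgDodPt (cfgDodPair_le h)).2.1, (mem_cfgDodPt (cfgDodPair_le h)).2.2, (Subgroup.mem_inf.mp ((SetLike.ext_iff.mp stabDodPair_spec.2.1 g).mpr h)).2⟩

theorem root_lt_DodP2 : cfgDodP2Root < 24 := by decide +kernel

theorem stabDodP2_spec : rep24.checkChain cfgDodP2Chain = true ∧
    rep24.chainGroup cfgDodPtChain ⊓ MulAction.stabilizer (Equiv.Perm GolayPt) (rep24.pt cfgDodP2Root) = rep24.chainGroup cfgDodP2Chain ∧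
    MulAction.orbit (rep24.chainGroup cfgDodPtChain : Subgroup (Equiv.Perm GolayPt)) (rep24.pt cfgDodP2Root) = rep24.pt '' {c | c ∈ cfgDodP2Tree.codes} ∧
    (MulAction.orbit (rep24.chainGroup cfgDodPtChain : Subgroup (Equiv.Perm GolayPt)) (rep24.pt cfgDodP2Root)).ncard = 11 :=
  Obj.stab_spec (O := ptObj) stabDodPt_spec.1 span_cfgDodPt cfgDodP2_stab root_lt_DodP2

theorem span_cfgDodP2 : rep24.span cfgDodP2Gens = rep24.chainGroup cfgDodP2Chain :=
  Rep.span_of_genB stabDodP2_spec.1 cfgDodP2_genCheck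

theorem tree_good_DodP2 : ∀ c ∈ cfgDodP2Tree.codes, ptObj.Good c :=
  Obj.stab_good (O := ptObj) cfgDodP2_stab root_lt_DodP2

theorem cfgDodP2_le : rep24.chainGroup cfgDodP2Chain ≤ rep24.chainGroup cfgDodPtChain :=
  stabDodP2_spec.2.1 ▸ inf_le_left

theorem mem_cfgDodP2 {g : Equiv.Perm GolayPt} (h : g ∈ rep24.chainGroup cfgDodP2Chain) :
    g ∈ M24 ∧ g • suppM cfgDodRoot = suppM cfgDodRoot ∧ g • rep24.pt cfgDodPtRoot = rep24.pt cfgDodPtRoot ∧ g • rep24.pt cfgDodP2Root = rep24.pt cfgDodP2Root :=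
  ⟨(mem_cfgDodPt (cfgDodP2_le h)).1, (mem_cfgDodPt (cfgDodP2_le h)).2.1, (mem_cfgDodPt (cfgDodP2_le h)).2.2, (Subgroup.mem_inf.mp ((SetLike.ext_iff.mp stabDodP2_spec.2.1 g).mpr h)).2⟩

theorem root_lt_DodP3 : cfgDodP3Root < 24 := by decide +kernel

theorem stabDodP3_spec : rep24.checkChain cfgDodP3Chain = true ∧
    rep24.chainGroup cfgDodP2Chain ⊓ MulAction.stabilizer (Equiv.Perm GolayPt) (rep24.pt cfgDodP3Root) = rep24.chainGroup cfgDodP3Chain ∧
    MulAction.orbit (rep24.chainGroup cfgDodP2Chain : Subgroup (Equiv.Perm GolayPt)) (rep24.pt cfgDodP3Root) = rep24.pt '' {c | c ∈ cfgDodP3Tree.codes} ∧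
    (MulAction.orbit (rep24.chainGroup cfgDodP2Chain : Subgroup (Equiv.Perm GolayPt)) (rep24.pt cfgDodP3Root)).ncard = 10 :=
  Obj.stab_spec (O := ptObj) stabDodP2_spec.1 span_cfgDodP2 cfgDodP3_stab root_lt_DodP3

theorem span_cfgDodP3 : rep24.span cfgDodP3Gens = rep24.chainGroup cfgDodP3Chain :=
  Rep.span_of_genB stabDodP3_spec.1 cfgDodP3_genCheck

theorem tree_good_DodP3 : ∀ c ∈ cfgDodP3Tree.codes, ptObj.Good c :=
  Obj.stab_good (O := ptObj) cfgDodP3_stab root_lt_DodP3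

theorem cfgDodP3_le : rep24.chainGroup cfgDodP3Chain ≤ rep24.chainGroup cfgDodP2Chain :=
  stabDodP3_spec.2.1 ▸ inf_le_left

theorem mem_cfgDodP3 {g : Equiv.Perm GolayPt} (h : g ∈ rep24.chainGroup cfgDodP3Chain) :
    g ∈ M24 ∧ g • suppM cfgDodRoot = suppM cfgDodRoot ∧ g • rep24.pt cfgDodPtRoot = rep24.pt cfgDodPtRoot ∧ g • rep24.pt cfgDodP2Root = rep24.pt cfgDodP2Root ∧ g • rep24.pt cfgDodP3Root = rep24.pt cfgDodP3Root :=
  ⟨(mem_cfgDodP2 (cfgDodP3_le h)).1, (mem_cfgDodP2 (cfgDodP3_le h)).2.1, (mem_cfgDodP2 (cfgDodP3_le h)).2.2.1, (mem_cfgDodP2 (cfgDodP3_le h)).2.2.2, (Subgroup.mem_inf.mp ((SetLike.ext_iff.mp stabDodP3_spec.2.1 g).mpr h)).2⟩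

theorem root_good_DodQ : (famObj 4).Good cfgDodQRoot := goodFam_of_check cfgDodQ_good

theorem stabDodQ_spec : rep24.checkChain cfgDodQChain = true ∧
    rep24.chainGroup cfgDodChain ⊓ MulAction.stabilizer (Equiv.Perm GolayPt) ((decFam 4) cfgDodQRoot) = rep24.chainGroup cfgDodQChain ∧
    MulAction.orbit (rep24.chainGroup cfgDodChain : Subgroup (Equiv.Perm GolayPt)) ((decFam 4) cfgDodQRoot) = (decFam 4) '' {c | c ∈ cfgDodQTree.codes} ∧
    (MulAction.orbit (rep24.chainGroup cfgDodChain : Subgroup (Equiv.Perm GolayPt)) ((decFam 4) cfgDodQRoot)).ncard = 220 :=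
  Obj.stab_spec (O := (famObj 4)) stabDod_spec.1 span_cfgDod cfgDodQ_stab root_good_DodQ

theorem span_cfgDodQ : rep24.span cfgDodQGens = rep24.chainGroup cfgDodQChain :=
  Rep.span_of_genB stabDodQ_spec.1 cfgDodQ_genCheck

theorem tree_good_DodQ : ∀ c ∈ cfgDodQTree.codes, (famObj 4).Good c :=
  Obj.stab_good (O := (famObj 4)) cfgDodQ_stab root_good_DodQ

theorem cfgDodQ_le : rep24.chainGroup cfgDodQChain ≤ rep24.chainGroup cfgDodChain :=
  stabDodQ_spec.2.1 ▸ inf_le_left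

theorem mem_cfgDodQ {g : Equiv.Perm GolayPt} (h : g ∈ rep24.chainGroup cfgDodQChain) :
    g ∈ M24 ∧ g • suppM cfgDodRoot = suppM cfgDodRoot ∧ g • (decFam 4) cfgDodQRoot = (decFam 4) cfgDodQRoot :=
  ⟨(mem_cfgDod (cfgDodQ_le h)).1, (mem_cfgDod (cfgDodQ_le h)).2, (Subgroup.mem_inf.mp ((SetLike.ext_iff.mp stabDodQ_spec.2.1 g).mpr h)).2⟩

theorem root_lt_DodHex : cfgDodHexRoot < 2 ^ 24 := by decide +kernel

theorem stabDodHex_spec : rep24.checkChain cfgDodHexChain = true ∧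
    rep24.chainGroup cfgDodChain ⊓ MulAction.stabilizer (Equiv.Perm GolayPt) (suppM cfgDodHexRoot) = rep24.chainGroup cfgDodHexChain ∧
    MulAction.orbit (rep24.chainGroup cfgDodChain : Subgroup (Equiv.Perm GolayPt)) (suppM cfgDodHexRoot) = suppM '' {c | c ∈ cfgDodHexTree.codes} ∧
    (MulAction.orbit (rep24.chainGroup cfgDodChain : Subgroup (Equiv.Perm GolayPt)) (suppM cfgDodHexRoot)).ncard = 132 :=
  Obj.stab_spec (O := maskObj) stabDod_spec.1 span_cfgDod cfgDodHex_stab root_lt_DodHex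

theorem span_cfgDodHex : rep24.span cfgDodHexGens = rep24.chainGroup cfgDodHexChain :=
  Rep.span_of_genB stabDodHex_spec.1 cfgDodHex_genCheck

theorem tree_good_DodHex : ∀ c ∈ cfgDodHexTree.codes, maskObj.Good c :=
  Obj.stab_good (O := maskObj) cfgDodHex_stab root_lt_DodHex

theorem cfgDodHex_le : rep24.chainGroup cfgDodHexChain ≤ rep24.chainGroup cfgDodChain :=
  stabDodHex_spec.2.1 ▸ inf_le_left

theorem mem_cfgDodHex {g : Equiv.Perm GolayPt} (h : g ∈ rep24.chainGroup cfgDodHexChain) :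
    g ∈ M24 ∧ g • suppM cfgDodRoot = suppM cfgDodRoot ∧ g • suppM cfgDodHexRoot = suppM cfgDodHexRoot :=
  ⟨(mem_cfgDod (cfgDodHex_le h)).1, (mem_cfgDod (cfgDodHex_le h)).2, (Subgroup.mem_inf.mp ((SetLike.ext_iff.mp stabDodHex_spec.2.1 g).mpr h)).2⟩

theorem root_lt_OctOct2 : cfgOctOct2Root < 2 ^ 24 := by decide +kernel

theorem stabOctOct2_spec : rep24.checkChain cfgOctOct2Chain = true ∧
    rep24.chainGroup cfgOctChain ⊓ MulAction.stabilizer (Equiv.Perm GolayPt) (suppM cfgOctOct2Root) = rep24.chainGroup cfgOctOct2Chain ∧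
    MulAction.orbit (rep24.chainGroup cfgOctChain : Subgroup (Equiv.Perm GolayPt)) (suppM cfgOctOct2Root) = suppM '' {c | c ∈ cfgOctOct2Tree.codes} ∧
    (MulAction.orbit (rep24.chainGroup cfgOctChain : Subgroup (Equiv.Perm GolayPt)) (suppM cfgOctOct2Root)).ncard = 448 :=
  Obj.stab_spec (O := maskObj) octStab_spec.1 span_Oct cfgOctOct2_stab root_lt_OctOct2

theorem span_cfgOctOct2 : rep24.span cfgOctOct2Gens = rep24.chainGroup cfgOctOct2Chain :=
  Rep.span_of_genB stabOctOct2_spec.1 cfgOctOct2_genCheck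

theorem tree_good_OctOct2 : ∀ c ∈ cfgOctOct2Tree.codes, maskObj.Good c :=
  Obj.stab_good (O := maskObj) cfgOctOct2_stab root_lt_OctOct2

theorem cfgOctOct2_le : rep24.chainGroup cfgOctOct2Chain ≤ rep24.chainGroup cfgOctChain :=
  stabOctOct2_spec.2.1 ▸ inf_le_left

theorem mem_cfgOctOct2 {g : Equiv.Perm GolayPt} (h : g ∈ rep24.chainGroup cfgOctOct2Chain) :
    g ∈ M24 ∧ g • suppM cfgOctRoot = suppM cfgOctRoot ∧ g • suppM cfgOctOct2Root = suppM cfgOctOct2Root :=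
  ⟨(mem_cfgOct (cfgOctOct2_le h)).1, (mem_cfgOct (cfgOctOct2_le h)).2, (Subgroup.mem_inf.mp ((SetLike.ext_iff.mp stabOctOct2_spec.2.1 g).mpr h)).2⟩

theorem root_good_OctTrio : (famObj 3).Good cfgOctTrioRoot := goodFam_of_check cfgOctTrio_good

theorem stabOctTrio_spec : rep24.checkChain cfgOctTrioChain = true ∧
    rep24.chainGroup cfgOctChain ⊓ MulAction.stabilizer (Equiv.Perm GolayPt) ((decFam 3) cfgOctTrioRoot) = rep24.chainGroup cfgOctTrioChain ∧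
    MulAction.orbit (rep24.chainGroup cfgOctChain : Subgroup (Equiv.Perm GolayPt)) ((decFam 3) cfgOctTrioRoot) = (decFam 3) '' {c | c ∈ cfgOctTrioTree.codes} ∧
    (MulAction.orbit (rep24.chainGroup cfgOctChain : Subgroup (Equiv.Perm GolayPt)) ((decFam 3) cfgOctTrioRoot)).ncard = 15 :=
  Obj.stab_spec (O := (famObj 3)) octStab_spec.1 span_Oct cfgOctTrio_stab root_good_OctTrio

theorem span_cfgOctTrio : rep24.span cfgOctTrioGens = rep24.chainGroup cfgOctTrioChain :=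
  Rep.span_of_genB stabOctTrio_spec.1 cfgOctTrio_genCheck

theorem tree_good_OctTrio : ∀ c ∈ cfgOctTrioTree.codes, (famObj 3).Good c :=
  Obj.stab_good (O := (famObj 3)) cfgOctTrio_stab root_good_OctTrio

theorem cfgOctTrio_le : rep24.chainGroup cfgOctTrioChain ≤ rep24.chainGroup cfgOctChain :=
  stabOctTrio_spec.2.1 ▸ inf_le_left

theorem mem_cfgOctTrio {g : Equiv.Perm GolayPt} (h : g ∈ rep24.chainGroup cfgOctTrioChain) :
    g ∈ M24 ∧ g • suppM cfgOctRoot = suppM cfgOctRoot ∧ g • (decFam 3) cfgOctTrioRoot = (decFam 3) cfgOctTrioRoot :=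
  ⟨(mem_cfgOct (cfgOctTrio_le h)).1, (mem_cfgOct (cfgOctTrio_le h)).2, (Subgroup.mem_inf.mp ((SetLike.ext_iff.mp stabOctTrio_spec.2.1 g).mpr h)).2⟩

theorem root_good_OctT2 : (famObj 3).Good cfgOctT2Root := goodFam_of_check cfgOctT2_good

theorem stabOctT2_spec : rep24.checkChain cfgOctT2Chain = true ∧
    rep24.chainGroup cfgOctTrioChain ⊓ MulAction.stabilizer (Equiv.Perm GolayPt) ((decFam 3) cfgOctT2Root) = rep24.chainGroup cfgOctT2Chain ∧
    MulAction.orbit (rep24.chainGroup cfgOctTrioChain : Subgroup (Equiv.Perm GolayPt)) ((decFam 3) cfgOctT2Root) = (decFam 3) '' {c | c ∈ cfgOctT2Tree.codes} ∧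
    (MulAction.orbit (rep24.chainGroup cfgOctTrioChain : Subgroup (Equiv.Perm GolayPt)) ((decFam 3) cfgOctT2Root)).ncard = 14 :=
  Obj.stab_spec (O := (famObj 3)) stabOctTrio_spec.1 span_cfgOctTrio cfgOctT2_stab root_good_OctT2

theorem span_cfgOctT2 : rep24.span cfgOctT2Gens = rep24.chainGroup cfgOctT2Chain :=
  Rep.span_of_genB stabOctT2_spec.1 cfgOctT2_genCheck

theorem tree_good_OctT2 : ∀ c ∈ cfgOctT2Tree.codes, (famObj 3).Good c :=
  Obj.stab_good (O := (famObj 3)) cfgOctT2_stab root_good_OctT2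

theorem cfgOctT2_le : rep24.chainGroup cfgOctT2Chain ≤ rep24.chainGroup cfgOctTrioChain :=
  stabOctT2_spec.2.1 ▸ inf_le_left

theorem mem_cfgOctT2 {g : Equiv.Perm GolayPt} (h : g ∈ rep24.chainGroup cfgOctT2Chain) :
    g ∈ M24 ∧ g • suppM cfgOctRoot = suppM cfgOctRoot ∧ g • (decFam 3) cfgOctTrioRoot = (decFam 3) cfgOctTrioRoot ∧ g • (decFam 3) cfgOctT2Root = (decFam 3) cfgOctT2Root :=
  ⟨(mem_cfgOctTrio (cfgOctT2_le h)).1, (mem_cfgOctTrio (cfgOctT2_le h)).2.1, (mem_cfgOctTrio (cfgOctT2_le h)).2.2, (Subgroup.mem_inf.mp ((SetLike.ext_iff.mp stabOctT2_spec.2.1 g).mpr h)).2⟩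

theorem root_good_OctT3 : (famObj 3).Good cfgOctT3Root := goodFam_of_check cfgOctT3_good

theorem stabOctT3_spec : rep24.checkChain cfgOctT3Chain = true ∧
    rep24.chainGroup cfgOctT2Chain ⊓ MulAction.stabilizer (Equiv.Perm GolayPt) ((decFam 3) cfgOctT3Root) = rep24.chainGroup cfgOctT3Chain ∧
    MulAction.orbit (rep24.chainGroup cfgOctT2Chain : Subgroup (Equiv.Perm GolayPt)) ((decFam 3) cfgOctT3Root) = (decFam 3) '' {c | c ∈ cfgOctT3Tree.codes} ∧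
    (MulAction.orbit (rep24.chainGroup cfgOctT2Chain : Subgroup (Equiv.Perm GolayPt)) ((decFam 3) cfgOctT3Root)).ncard = 12 :=
  Obj.stab_spec (O := (famObj 3)) stabOctT2_spec.1 span_cfgOctT2 cfgOctT3_stab root_good_OctT3

theorem span_cfgOctT3 : rep24.span cfgOctT3Gens = rep24.chainGroup cfgOctT3Chain :=
  Rep.span_of_genB stabOctT3_spec.1 cfgOctT3_genCheck

theorem tree_good_OctT3 : ∀ c ∈ cfgOctT3Tree.codes, (famObj 3).Good c :=
  Obj.stab_good (O := (famObj 3)) cfgOctT3_stab root_good_OctT3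

theorem cfgOctT3_le : rep24.chainGroup cfgOctT3Chain ≤ rep24.chainGroup cfgOctT2Chain :=
  stabOctT3_spec.2.1 ▸ inf_le_left

theorem mem_cfgOctT3 {g : Equiv.Perm GolayPt} (h : g ∈ rep24.chainGroup cfgOctT3Chain) :
    g ∈ M24 ∧ g • suppM cfgOctRoot = suppM cfgOctRoot ∧ g • (decFam 3) cfgOctTrioRoot = (decFam 3) cfgOctTrioRoot ∧ g • (decFam 3) cfgOctT2Root = (decFam 3) cfgOctT2Root ∧ g • (decFam 3) cfgOctT3Root = (decFam 3) cfgOctT3Root :=
  ⟨(mem_cfgOctT2 (cfgOctT3_le h)).1, (mem_cfgOctT2 (cfgOctT3_le h)).2.1, (mem_cfgOctT2 (cfgOctT3_le h)).2.2.1, (mem_cfgOctT2 (cfgOctT3_le h)).2.2.2, (Subgroup.mem_inf.mp ((SetLike.ext_iff.mp stabOctT3_spec.2.1 g).mpr h)).2⟩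

theorem root_good_OctT4 : (famObj 3).Good cfgOctT4Root := goodFam_of_check cfgOctT4_good

theorem stabOctT4_spec : rep24.checkChain cfgOctT4Chain = true ∧
    rep24.chainGroup cfgOctT3Chain ⊓ MulAction.stabilizer (Equiv.Perm GolayPt) ((decFam 3) cfgOctT4Root) = rep24.chainGroup cfgOctT4Chain ∧
    MulAction.orbit (rep24.chainGroup cfgOctT3Chain : Subgroup (Equiv.Perm GolayPt)) ((decFam 3) cfgOctT4Root) = (decFam 3) '' {c | c ∈ cfgOctT4Tree.codes} ∧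
    (MulAction.orbit (rep24.chainGroup cfgOctT3Chain : Subgroup (Equiv.Perm GolayPt)) ((decFam 3) cfgOctT4Root)).ncard = 8 :=
  Obj.stab_spec (O := (famObj 3)) stabOctT3_spec.1 span_cfgOctT3 cfgOctT4_stab root_good_OctT4

theorem span_cfgOctT4 : rep24.span cfgOctT4Gens = rep24.chainGroup cfgOctT4Chain :=
  Rep.span_of_genB stabOctT4_spec.1 cfgOctT4_genCheck

theorem tree_good_OctT4 : ∀ c ∈ cfgOctT4Tree.codes, (famObj 3).Good c :=
  Obj.stab_good (O := (famObj 3)) cfgOctT4_stab root_good_OctT4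

theorem cfgOctT4_le : rep24.chainGroup cfgOctT4Chain ≤ rep24.chainGroup cfgOctT3Chain :=
  stabOctT4_spec.2.1 ▸ inf_le_left

theorem mem_cfgOctT4 {g : Equiv.Perm GolayPt} (h : g ∈ rep24.chainGroup cfgOctT4Chain) :
    g ∈ M24 ∧ g • suppM cfgOctRoot = suppM cfgOctRoot ∧ g • (decFam 3) cfgOctTrioRoot = (decFam 3) cfgOctTrioRoot ∧ g • (decFam 3) cfgOctT2Root = (decFam 3) cfgOctT2Root ∧ g • (decFam 3) cfgOctT3Root = (decFam 3) cfgOctT3Root ∧ g • (decFam 3) cfgOctT4Root = (decFam 3) cfgOctT4Root :=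
  ⟨(mem_cfgOctT3 (cfgOctT4_le h)).1, (mem_cfgOctT3 (cfgOctT4_le h)).2.1, (mem_cfgOctT3 (cfgOctT4_le h)).2.2.1, (mem_cfgOctT3 (cfgOctT4_le h)).2.2.2.1, (mem_cfgOctT3 (cfgOctT4_le h)).2.2.2.2, (Subgroup.mem_inf.mp ((SetLike.ext_iff.mp stabOctT4_spec.2.1 g).mpr h)).2⟩

end Cfsg.Agent.Compute
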