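/-
Quartets of a dodecad as one certified orbit.
-/
import Cfsg.Agent.Compute.MathieuExtra
import Cfsg.Agent.Compute.MathieuConfigs3

set_option autoImplicit false

namespace Cfsg.Agent.Compute

open Cfsg
open scoped Pointwise

/-- Boolean test of a hexad on the standard dodecad. -/
noncomputable def hexB (m : ℕ) : Bool :=
  Nat.beq (popBits 24 m) 6 &&
    cfgOctTree.codes.any (fun c => Nat.beq (Nat.land c cfgDodRoot) m)

theorem hexB_iff {m : ℕ} (hm : m < 2 ^ 24) :
    suppM m ∈ hexadsOn (suppM cfgDodRoot) ↔ hexB m = true := by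
  rw [hexB, Bool.and_eq_true, List.any_eq_true, Nat.beq_eq]
  constructor
  · rintro ⟨hc, o, ho, hom⟩
    rw [card_suppM] at hc
    rw [octads_eq_codes] at ho
    obtain ⟨c, hcm, rfl⟩ := ho
    refine ⟨hc, c, hcm, ?_⟩
    rw [← suppM_and] at hom
    rw [Nat.beq_eq]
    exact (suppM_eq_iff (and_lt _ _ (by decide +kernel)) hm).mp hom
  · rintro ⟨hc, c, hcm, hcm'⟩
    rw [Nat.beq_eq] at hcm'
    refine ⟨by rw [card_suppM]; exact hc, suppM c, ?_, ?_⟩
    · rw [octads_eq_codes]; exact ⟨c, hcm, rfl⟩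
    · rw [← suppM_and, ← hcm']; rfl

theorem smul_mem_hexadsOn {g : Equiv.Perm GolayPt} (hg : g ∈ M24) {d h : Finset GolayPt}
    (hh : h ∈ hexadsOn d) : g • h ∈ hexadsOn (g • d) := by
  obtain ⟨hc, o, ho, rfl⟩ := hh
  exact ⟨by rw [Finset.card_smul_finset, hc], g • o, (smul_mem_octads_iff hg).mpr ho,
    (Finset.smul_finset_inter).symm⟩

theorem smul_mem_quartets {g : Equiv.Perm GolayPt} (hg : g ∈ M24) {d : Finset GolayPt}
    {Q : Finset (Finset GolayPt)} (hQ : Q ∈ quartets d) : g • Q ∈ quartets (g • d) := by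
  obtain ⟨hc, ht, hp⟩ := hQ
  refine ⟨by rw [Finset.card_smul_finset]; exact hc, ?_, ?_⟩
  · intro t' ht'
    obtain ⟨t, htQ, rfl⟩ := Finset.mem_smul_finset.mp ht'
    exact ⟨by rw [Finset.card_smul_finset]; exact (ht t htQ).1,
      Finset.smul_finset_subset_smul_finset (ht t htQ).2⟩
  · intro t' ht' u' hu' hne
    obtain ⟨t, htQ, rfl⟩ := Finset.mem_smul_finset.mp ht'
    obtain ⟨u, huQ, rfl⟩ := Finset.mem_smul_finset.mp hu'
    rw [← Finset.smul_finset_union]
    exact smul_mem_hexadsOn hg (hp t htQ u huQ fun h => hne (by rw [h]))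

theorem smul_mem_quartets_iff {g : Equiv.Perm GolayPt} (hg : g ∈ M24) {d : Finset GolayPt}
    {Q : Finset (Finset GolayPt)} : g • Q ∈ quartets (g • d) ↔ Q ∈ quartets d := by
  refine ⟨fun h => ?_, smul_mem_quartets hg⟩
  have := smul_mem_quartets (inv_mem hg) h
  rwa [inv_smul_smul, inv_smul_smul] at this

/-- The triples completing the standard one to a hexad. -/
def hexPartners : List ℕ :=
  [0x150, 0x248, 0x1018, 0x2300, 0x3040, 0x10108, 0x11200, 0x12010, 0x40210, 0x41100, 0x42008,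
    0x50040]

theorem hexPartners_complete : (subMasks cfgDodRoot 24).all (fun m =>
    cond (Nat.beq (popBits 24 m) 3 && Nat.beq (Nat.land 7 m) 0)
      (cond (hexB (Nat.lor 7 m)) (memB m hexPartners) true) true) = true := by
  decide +kernel

theorem hexPartners_facts : hexPartners.all (fun m => Nat.blt m (2 ^ 24)) = true ∧
    hexPartners.Nodup ∧ 7 ∉ hexPartners := by decide +kernel

theorem quartet_scan : (List.sublistsLen 3 hexPartners).all (fun l =>
    cond ((l.all fun a => l.all fun b => Nat.beq a b || hexB (Nat.lor a b)))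
      (cfgDodQTree.memB (packMasks (sortNat (7 :: l)))) true) = true := by
  decide +kernel

theorem quartet_unique_scan : hexPartners.all (fun a => Nat.beq ((cfgDodQTree.codes.filter fun c =>
    memB 7 (masksOf 4 c) && memB a (masksOf 4 c)).length) 1) = true := by decide +kernel

/-- Boolean test of a quartet on the standard dodecad. -/
noncomputable def quartetB (c : ℕ) : Bool :=
  goodFamB 4 c && (masksOf 4 c).all (fun a => Nat.beq (popBits 24 a) 3 &&
    Nat.beq (Nat.land cfgDodRoot a) a &&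
      (masksOf 4 c).all (fun b => Nat.beq a b || hexB (Nat.lor a b)))

theorem quartetRoot_check : quartetB cfgDodQRoot = true := by decide +kernel

theorem masks_of_good {k c : ℕ} (h : (famObj k).Good c) :
    (∀ a ∈ masksOf k c, a < 2 ^ 24) ∧ (masksOf k c).Nodup ∧
      packMasks (masksOf k c) = c := by
  obtain ⟨l, hl, hlt, hp, hc⟩ := h
  have hm : masksOf k c = l := by rw [hc, ← hl]; exact masksOf_packMasks l hlt
  rw [hm]
  exact ⟨hlt, hp.imp fun h => Nat.ne_of_lt h, hc.symm⟩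

theorem mem_quartets_of_check {c : ℕ} (h : quartetB c = true) :
    decFam 4 c ∈ quartets (suppM cfgDodRoot) := by
  simp only [quartetB, Bool.and_eq_true, List.all_eq_true, Nat.beq_eq, Bool.or_eq_true] at h
  obtain ⟨hlt, hnd, -⟩ := masks_of_good (k := 4) (goodFam_of_check h.1)
  refine ⟨?_, ?_, ?_⟩
  · rw [decFam, List.toFinset_card_of_nodup, List.length_map, length_masksOf]
    exact hnd.map_on fun a ha b hb hab => (suppM_eq_iff (hlt a ha) (hlt b hb)).mp hab
  · intro t ht
    obtain ⟨a, ha, rfl⟩ := mem_decFam.mp ht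
    exact ⟨by rw [card_suppM]; exact (h.2 a ha).1.1,
      (suppM_subset_iff (hlt a ha)).mpr (h.2 a ha).1.2⟩
  · intro t ht u hu hne
    obtain ⟨a, ha, rfl⟩ := mem_decFam.mp ht
    obtain ⟨b, hb, rfl⟩ := mem_decFam.mp hu
    rw [← suppM_or, hexB_iff (lor_lt (hlt a ha) (hlt b hb))]
    exact ((h.2 a ha).2 b hb).resolve_left fun e => hne (by rw [e])

theorem exists_move_dod3 {d : Finset GolayPt} (hd : d ∈ dodecads) {p q r : GolayPt}
    (hp : p ∈ d) (hq : q ∈ d) (hr : r ∈ d) (hpq : p ≠ q) (hpr : p ≠ r) (hqr : q ≠ r) :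
    ∃ g ∈ M24, g • d = suppM cfgDodRoot ∧ g • p = rep24.pt 0 ∧ g • q = rep24.pt 1 ∧
      g • r = rep24.pt 2 := by
  obtain ⟨g, hg, hgd, hgp⟩ := exists_move_dodPt hd hp
  have hbit : ∀ {g' : Equiv.Perm GolayPt} {x : GolayPt}, g' • d = suppM cfgDodRoot → x ∈ d →
      cfgDodRoot.testBit (ptIdx (g' • x)) = true := fun hd' hx =>
    mem_suppM.mp (hd' ▸ Finset.smul_mem_smul_finset hx)
  have hne : ∀ {g' : Equiv.Perm GolayPt} {x y : GolayPt} {i : ℕ}, x ≠ y → g' • x = rep24.pt i →
      i < 24 → ptIdx (g' • y) ≠ i := by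
    intro g' x y i hxy hx hi he
    exact hxy (MulAction.injective g' (show g' • x = g' • y by
      rw [hx, ← rep24_pt_ptIdx (g' • y), he]))
  obtain ⟨h, hh, hhq⟩ := mem_orbit_of_tree (p := fun i => cfgDodRoot.testBit i && !(Nat.beq i 0))
    (r := cfgDodP2Root) stabDodP2_spec.2.2.1 (by decide +kernel) (X := g • q)
    (by
      simp only [Bool.and_eq_true, Bool.not_eq_true', Bool.eq_false_iff, ne_eq, Nat.beq_eq]
      exact ⟨hbit hgd hq, hne hpq hgp (by norm_num)⟩)
  obtain ⟨hm, hfd, hfp⟩ := mem_cfgDodPt hh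
  have hg2 : (h * g) • d = suppM cfgDodRoot := by rw [mul_smul, hgd, hfd]
  have hp2 : (h * g) • p = rep24.pt 0 := by rw [mul_smul, hgp]; exact hfp
  have hq2 : (h * g) • q = rep24.pt 1 := by rw [mul_smul, hhq]; rfl
  obtain ⟨k, hk, hkr⟩ := mem_orbit_of_tree
    (p := fun i => cfgDodRoot.testBit i && (!(Nat.beq i 0) && !(Nat.beq i 1)))
    (r := cfgDodP3Root) stabDodP3_spec.2.2.1 (by decide +kernel) (X := (h * g) • r)
    (by
      simp only [Bool.and_eq_true, Bool.not_eq_true', Bool.eq_false_iff, ne_eq, Nat.beq_eq]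
      exact ⟨hbit hg2 hr, hne hpr hp2 (by norm_num), hne hqr hq2 (by norm_num)⟩)
  obtain ⟨hkm, hkd, hkp, hkq⟩ := mem_cfgDodP2 hk
  refine ⟨k * (h * g), mul_mem hkm (mul_mem hm hg), ?_, ?_, ?_, ?_⟩
  · rw [mul_smul, hg2, hkd]
  · rw [mul_smul, hp2]; exact hkp
  · rw [mul_smul, hq2]; exact hkq
  · rw [mul_smul, hkr]; rfl

theorem suppM_seven : suppM 7 = {rep24.pt 0, rep24.pt 1, rep24.pt 2} := by
  ext p
  rw [mem_suppM, Finset.mem_insert, Finset.mem_insert, Finset.mem_singleton]
  have h : (List.range 24).all (fun i => (7 : ℕ).testBit i ==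
      (decide (i = 0) || decide (i = 1) || decide (i = 2))) = true := by decide +kernel
  have := List.all_eq_true.mp h _ (List.mem_range.mpr (ptIdx_lt p))
  rw [beq_iff_eq] at this
  rw [this, Bool.or_eq_true, Bool.or_eq_true, decide_eq_true_eq, decide_eq_true_eq,
    decide_eq_true_eq, or_assoc]
  have e : ∀ i, i < 24 → (ptIdx p = i ↔ p = rep24.pt i) := fun i hi =>
    ⟨fun h => by rw [← h, rep24_pt_ptIdx], fun h => by rw [h, ptIdx_rep24 hi]⟩
  rw [e 0 (by norm_num), e 1 (by norm_num), e 2 (by norm_num)]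

theorem exists_move_triple_dod {d t : Finset GolayPt} (hd : d ∈ dodecads) (ht : t.card = 3)
    (htd : t ⊆ d) : ∃ g ∈ M24, g • d = suppM cfgDodRoot ∧ g • t = suppM 7 := by
  obtain ⟨p, q, r, hpq, hpr, hqr, rfl⟩ := Finset.card_eq_three.mp ht
  obtain ⟨g, hg, hgd, hp, hq, hr⟩ := exists_move_dod3 hd (htd (by simp)) (htd (by simp))
    (htd (by simp)) hpq hpr hqr
  refine ⟨g, hg, hgd, ?_⟩
  rw [Finset.smul_finset_insert, Finset.smul_finset_insert, Finset.smul_finset_singleton, hp, hq,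
    hr, suppM_seven]

theorem dodecad_root_mem : suppM cfgDodRoot ∈ dodecads := dodRoot_eq ▸ squareDodecad_mem

theorem mem_hexPartners {u : Finset GolayPt} (hu : u.card = 3) (hud : u ⊆ suppM cfgDodRoot)
    (hdis : Disjoint (suppM 7) u) (hh : suppM 7 ∪ u ∈ hexadsOn (suppM cfgDodRoot)) :
    ∃ a ∈ hexPartners, suppM a = u := by
  obtain ⟨m, hm, hmlt, rfl⟩ := exists_submask hud
  refine ⟨m, ?_, rfl⟩
  have h := List.all_eq_true.mp hexPartners_complete m hm
  have h1 : Nat.beq (popBits 24 m) 3 = true := by rw [Nat.beq_eq, ← card_suppM]; exact hu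
  have h2 : Nat.beq (Nat.land 7 m) 0 = true := by
    rw [Nat.beq_eq]
    refine (suppM_eq_iff (and_lt _ _ hmlt) (by norm_num)).mp ?_
    change suppM (7 &&& m) = _
    rw [suppM_and, Finset.disjoint_iff_inter_eq_empty.mp hdis]
    ext p; simp [mem_suppM]
  have h3 : hexB (Nat.lor 7 m) = true := by
    show hexB (7 ||| m) = true
    rw [← hexB_iff (lor_lt (by norm_num) hmlt), suppM_or]
    exact hh
  rw [h1, h2, h3, Bool.and_self, cond_true, cond_true, memB_eq_true] at h
  exact h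

theorem quartet_triples {d : Finset GolayPt} {Q : Finset (Finset GolayPt)} (hQ : Q ∈ quartets d)
    {t u : Finset GolayPt} (ht : t ∈ Q) (hu : u ∈ Q) (hne : t ≠ u) : Disjoint t u := by
  have h := (hQ.2.2 t ht u hu hne).1
  rw [← Finset.card_union_eq_card_add_card, h, (hQ.2.1 t ht).1, (hQ.2.1 u hu).1]

theorem quartet_code_of_seven {Q : Finset (Finset GolayPt)}
    (hQ : Q ∈ quartets (suppM cfgDodRoot)) (h7 : suppM 7 ∈ Q) :
    ∃ c ∈ cfgDodQTree.codes, decFam 4 c = Q := by
  classical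
  let l := hexPartners.filter (fun a => decide (suppM a ∈ Q))
  have hlt : ∀ a ∈ hexPartners, a < 2 ^ 24 := fun a ha => by
    have := List.all_eq_true.mp hexPartners_facts.1 a ha; rwa [Nat.blt_eq] at this
  have hlnd : l.Nodup := hexPartners_facts.2.1.filter _
  have hinj : ∀ a ∈ 7 :: l, ∀ b ∈ 7 :: l, suppM a = suppM b → a = b := by
    have h' : ∀ a ∈ 7 :: l, a < 2 ^ 24 := by
      intro a ha; rcases List.mem_cons.mp ha with rfl | ha
      · norm_num
      · exact hlt a (List.mem_filter.mp ha).1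
    exact fun a ha b hb h => (suppM_eq_iff (h' a ha) (h' b hb)).mp h
  have h7l : 7 ∉ l := fun h => hexPartners_facts.2.2 (List.mem_filter.mp h).1
  have himg : Q = ((7 :: l).map suppM).toFinset := by
    ext u
    rw [List.mem_toFinset, List.mem_map]
    constructor
    · intro hu
      by_cases hu7 : u = suppM 7
      · exact ⟨7, List.mem_cons_self, hu7.symm⟩
      · obtain ⟨a, ha, rfl⟩ := mem_hexPartners (hQ.2.1 u hu).1 (hQ.2.1 u hu).2
          (quartet_triples hQ h7 hu (Ne.symm hu7)) (hQ.2.2 _ h7 u hu (Ne.symm hu7))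
        exact ⟨a, List.mem_cons_of_mem _ (List.mem_filter.mpr ⟨ha, by simpa using hu⟩), rfl⟩
    · rintro ⟨a, ha, rfl⟩
      rcases List.mem_cons.mp ha with rfl | ha
      · exact h7
      · simpa using (List.mem_filter.mp ha).2
  have hnd : (7 :: l).Nodup := List.nodup_cons.mpr ⟨h7l, hlnd⟩
  have hl3 : l.length = 3 := by
    have := hQ.1
    rw [himg, List.toFinset_card_of_nodup (hnd.map_on hinj), List.length_map, List.length_cons] at this
    omega
  have hscan := List.all_eq_true.mp quartet_scan l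
    (List.mem_sublistsLen.mpr ⟨List.filter_sublist, hl3⟩)
  have hcond : (l.all fun a => l.all fun b => Nat.beq a b || hexB (Nat.lor a b)) = true := by
    simp only [List.all_eq_true, Bool.or_eq_true, Nat.beq_eq]
    intro a ha b hb
    by_cases hab : a = b
    · exact Or.inl hab
    · right
      obtain ⟨ha', ha''⟩ := List.mem_filter.mp ha
      obtain ⟨hb', hb''⟩ := List.mem_filter.mp hb
      rw [decide_eq_true_eq] at ha'' hb''
      show hexB (a ||| b) = true
      rw [← hexB_iff (lor_lt (hlt a ha') (hlt b hb')), suppM_or]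
      exact hQ.2.2 _ ha'' _ hb'' fun h => hab
        (hinj a (List.mem_cons_of_mem _ ha) b (List.mem_cons_of_mem _ hb) h)
  rw [hcond, cond_true] at hscan
  refine ⟨_, OTr.mem_codes_of_memB hscan, ?_⟩
  have hsl : (sortNat (7 :: l)).length = 4 := by
    rw [(sortNat_perm _).length_eq, List.length_cons, hl3]
  rw [himg, decFam, ← hsl, masksOf_packMasks _ (fun a ha => ?_)]
  · exact List.toFinset_eq_of_perm _ _ ((sortNat_perm _).map _)
  · rcases List.mem_cons.mp ((sortNat_perm _).mem_iff.mp ha) with rfl | ha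
    · norm_num
    · exact hlt a (List.mem_filter.mp ha).1

theorem quartets_eq_orbit : quartets (suppM cfgDodRoot) =
    MulAction.orbit (rep24.chainGroup cfgDodChain) (decFam 4 cfgDodQRoot) := by
  apply Set.Subset.antisymm
  · intro Q hQ
    obtain ⟨t, ht⟩ := Finset.card_pos.mp (by rw [hQ.1]; norm_num : 0 < Q.card)
    obtain ⟨g, hg, hgd, hgt⟩ :=
      exists_move_triple_dod dodecad_root_mem (hQ.2.1 t ht).1 (hQ.2.1 t ht).2
    have hQ' := smul_mem_quartets hg hQ
    rw [hgd] at hQ'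
    obtain ⟨c, hc, hcQ⟩ := quartet_code_of_seven hQ'
      (hgt ▸ Finset.smul_mem_smul_finset ht)
    have h1 : g • Q ∈ MulAction.orbit (rep24.chainGroup cfgDodChain) (decFam 4 cfgDodQRoot) := by
      rw [stabDodQ_spec.2.2.1]; exact ⟨c, hc, hcQ⟩
    obtain ⟨k, hk⟩ := h1
    have hgK : g ∈ rep24.chainGroup cfgDodChain := by
      rw [← stabDod_spec.2.1]; exact Subgroup.mem_inf.mpr ⟨hg, hgd⟩
    refine ⟨⟨g⁻¹, inv_mem hgK⟩ * k, ?_⟩
    change (g⁻¹ * (k : Equiv.Perm GolayPt)) • decFam 4 cfgDodQRoot = Q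
    rw [mul_smul]
    exact inv_smul_eq_iff.mpr hk
  · rintro _ ⟨k, rfl⟩
    obtain ⟨hm, hfix⟩ := mem_cfgDod k.2
    have := smul_mem_quartets hm (mem_quartets_of_check quartetRoot_check)
    rwa [hfix] at this

theorem quartets_eq_codes :
    quartets (suppM cfgDodRoot) = decFam 4 '' {c | c ∈ cfgDodQTree.codes} :=
  quartets_eq_orbit.trans stabDodQ_spec.2.2.1

theorem ncard_quartets {d : Finset GolayPt} (hd : d ∈ dodecads) : (quartets d).ncard = 220 := by
  obtain ⟨g, hg, hgd⟩ := exists_move_dod hd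
  rw [show quartets d = {Q | Q ∈ quartets d} from rfl,
    ncard_setOf_smul g (Q := fun Q => Q ∈ quartets (suppM cfgDodRoot)) fun Q => by
      rw [← hgd, smul_mem_quartets_iff hg],
    show {Q | Q ∈ quartets (suppM cfgDodRoot)} = quartets (suppM cfgDodRoot) from rfl, quartets_eq_orbit]
  exact stabDodQ_spec.2.2.2

theorem exists_move_quartet {d : Finset GolayPt} (hd : d ∈ dodecads)
    {Q : Finset (Finset GolayPt)} (hQ : Q ∈ quartets d) :
    ∃ g ∈ M24, g • d = suppM cfgDodRoot ∧ g • Q = decFam 4 cfgDodQRoot := by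
  obtain ⟨g, hg, hgd⟩ := exists_move_dod hd
  have hQ' := smul_mem_quartets hg hQ
  rw [hgd, quartets_eq_orbit] at hQ'
  obtain ⟨h, hh, hhQ⟩ := exists_inv_mem_orbit hQ'
  obtain ⟨hm, hfix⟩ := mem_cfgDod hh
  exact ⟨h * g, mul_mem hm hg, by rw [mul_smul, hgd, hfix], by rw [mul_smul, hhQ]⟩

theorem existsUnique_quartet {d : Finset GolayPt} (hd : d ∈ dodecads) {t u : Finset GolayPt}
    (ht : t.card = 3) (hu : u.card = 3) (htu : Disjoint t u) (hh : t ∪ u ∈ hexadsOn d) :
    ∃! Q : Finset (Finset GolayPt), Q ∈ quartets d ∧ t ∈ Q ∧ u ∈ Q := by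
  have hsub : t ∪ u ⊆ d := by
    obtain ⟨-, o, -, e⟩ := hh
    rw [← e]; exact Finset.inter_subset_right
  obtain ⟨g, hg, hgd, hgt⟩ :=
    exists_move_triple_dod hd ht (Finset.subset_union_left.trans hsub)
  obtain ⟨a, ha, hau⟩ := mem_hexPartners (u := g • u)
    (by rw [Finset.card_smul_finset, hu])
    (hgd ▸ Finset.smul_finset_subset_smul_finset (Finset.subset_union_right.trans hsub))
    (hgt ▸ (disjoint_smul_iff g t u).mpr htu)
    (by rw [← hgt, ← Finset.smul_finset_union, ← hgd]; exact smul_mem_hexadsOn hg hh)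
  have hcount := List.all_eq_true.mp quartet_unique_scan a ha
  rw [Nat.beq_eq, List.length_eq_one_iff] at hcount
  obtain ⟨c, hc⟩ := hcount
  have halt : a < 2 ^ 24 := by
    have := List.all_eq_true.mp hexPartners_facts.1 a ha; rwa [Nat.blt_eq] at this
  have hmem : ∀ x ∈ cfgDodQTree.codes, ∀ b, b < 2 ^ 24 →
      (suppM b ∈ decFam 4 x ↔ memB b (masksOf 4 x) = true) := by
    intro x hx b hb
    rw [memB_eq_true, mem_decFam]
    exact ⟨fun ⟨e, he, hee⟩ =>
        (suppM_eq_iff ((masks_of_good (tree_good_DodQ x hx)).1 e he) hb).mp hee ▸ he,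
      fun h => ⟨b, h, rfl⟩⟩
  have hcm : c ∈ cfgDodQTree.codes.filter
      (fun x => memB 7 (masksOf 4 x) && memB a (masksOf 4 x)) := by
    rw [hc]; exact List.mem_singleton_self c
  have hcc := (List.mem_filter.mp hcm).1
  rw [List.mem_filter, Bool.and_eq_true, ← hmem c hcc 7 (by norm_num), ← hmem c hcc a halt] at hcm
  refine ⟨g⁻¹ • decFam 4 c, ⟨?_, ?_, ?_⟩, ?_⟩
  · rw [← smul_mem_quartets_iff hg, smul_inv_smul, hgd, quartets_eq_codes]
    exact ⟨c, hcm.1, rfl⟩
  · rw [← inv_smul_smul g t, hgt]; exact Finset.smul_mem_smul_finset hcm.2.1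
  · rw [← inv_smul_smul g u, ← hau]; exact Finset.smul_mem_smul_finset hcm.2.2
  · rintro Q ⟨hQ, htQ, huQ⟩
    have hQ' := smul_mem_quartets hg hQ
    rw [hgd, quartets_eq_codes] at hQ'
    obtain ⟨x, hx, hxQ⟩ := hQ'
    have hxm : x ∈ cfgDodQTree.codes.filter
        (fun x => memB 7 (masksOf 4 x) && memB a (masksOf 4 x)) := by
      rw [List.mem_filter, Bool.and_eq_true, ← hmem x hx 7 (by norm_num), ← hmem x hx a halt, hxQ]
      exact ⟨hx, hgt ▸ Finset.smul_mem_smul_finset htQ, hau ▸ Finset.smul_mem_smul_finset huQ⟩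
    rw [hc, List.mem_singleton] at hxm
    rw [← hxm, hxQ, inv_smul_smul]

end Cfsg.Agent.Compute
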