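/-
Conjugating stabilisers of configurations to the standard chains.
-/
import Cfsg.Agent.Compute.Quartets

set_option autoImplicit false

namespace Cfsg.Agent.Compute

open Cfsg
open scoped Pointwise

/-- A subgroup of M24 conjugated to a subgroup of permutations. -/
structure ConjTo (H : Subgroup ↥M24) (g : Equiv.Perm GolayPt) (K : Subgroup (Equiv.Perm GolayPt)) :
    Prop where
  mem_g : g ∈ M24
  le : K ≤ M24
  mem_iff : ∀ a : ↥M24, a ∈ H ↔ g * (a : Equiv.Perm GolayPt) * g⁻¹ ∈ K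

variable {H : Subgroup ↥M24} {g : Equiv.Perm GolayPt} {K : Subgroup (Equiv.Perm GolayPt)}

theorem ConjTo.nonempty_mulEquiv (h : ConjTo H g K) : Nonempty (↥H ≃* ↥K) :=
  ⟨{ toFun := fun a => ⟨g * ((a : ↥M24) : Equiv.Perm GolayPt) * g⁻¹, (h.mem_iff _).mp a.2⟩
     invFun := fun b => ⟨⟨g⁻¹ * b * g, conj_mem h.mem_g (h.le b.2)⟩, (h.mem_iff _).mpr (by
        simp [mul_assoc])⟩
     left_inv := fun a => by apply Subtype.ext; apply Subtype.ext; simp [mul_assoc]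
     right_inv := fun b => by apply Subtype.ext; simp [mul_assoc]
     map_mul' := fun a b => by apply Subtype.ext; simp [mul_assoc] }⟩

theorem ConjTo.card_eq (h : ConjTo H g K) : Nat.card ↥H = Nat.card ↥K :=
  Nat.card_congr h.nonempty_mulEquiv.some.toEquiv

theorem ConjTo.orbit_eq {γ : Type*} [MulAction (Equiv.Perm GolayPt) γ] (h : ConjTo H g K) (X : γ) :
    MulAction.orbit ↥H X = g⁻¹ • MulAction.orbit ↥K (g • X) := by
  ext Y
  rw [Set.mem_inv_smul_set_iff, mem_orbit_subgroup, mem_orbit_subgroup]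
  constructor
  · rintro ⟨a, ha, rfl⟩
    refine ⟨_, (h.mem_iff _).mp ha, ?_⟩
    rw [mul_smul, mul_smul, inv_smul_smul]
    rfl
  · rintro ⟨k, hk, hkX⟩
    refine ⟨⟨g⁻¹ * k * g, conj_mem h.mem_g (h.le hk)⟩, (h.mem_iff _).mpr (by
      simpa [mul_assoc] using hk), ?_⟩
    exact map_conj hkX

theorem ConjTo.exists_move {γ : Type*} [MulAction (Equiv.Perm GolayPt) γ] (h : ConjTo H g K)
    {X Y : γ} (hXY : g • Y ∈ MulAction.orbit ↥K (g • X)) :
    ∃ a ∈ H, (a : Equiv.Perm GolayPt) • X = Y := by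
  have : Y ∈ MulAction.orbit ↥H X := by
    rw [h.orbit_eq, Set.mem_inv_smul_set_iff]; exact hXY
  obtain ⟨a, ha⟩ := this
  exact ⟨(a : ↥M24), a.2, ha⟩

theorem mem_cfgDod_iff {a : Equiv.Perm GolayPt} :
    a ∈ rep24.chainGroup cfgDodChain ↔ a ∈ M24 ∧ a • suppM cfgDodRoot = suppM cfgDodRoot :=
  ⟨mem_cfgDod, fun h => by rw [← stabDod_spec.2.1]; exact Subgroup.mem_inf.mpr h⟩

theorem mem_cfgDodQ_iff {a : Equiv.Perm GolayPt} :
    a ∈ rep24.chainGroup cfgDodQChain ↔ a ∈ M24 ∧ a • suppM cfgDodRoot = suppM cfgDodRoot ∧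
      a • decFam 4 cfgDodQRoot = decFam 4 cfgDodQRoot :=
  ⟨mem_cfgDodQ, fun h => by
    rw [← stabDodQ_spec.2.1]
    exact Subgroup.mem_inf.mpr ⟨mem_cfgDod_iff.mpr ⟨h.1, h.2.1⟩, h.2.2⟩⟩

theorem mem_cfgDodPt_iff {a : Equiv.Perm GolayPt} :
    a ∈ rep24.chainGroup cfgDodPtChain ↔ a ∈ M24 ∧ a • suppM cfgDodRoot = suppM cfgDodRoot ∧
      a • rep24.pt 0 = rep24.pt 0 :=
  ⟨mem_cfgDodPt, fun h => by
    rw [← stabDodPt_spec.2.1]
    exact Subgroup.mem_inf.mpr ⟨mem_cfgDod_iff.mpr ⟨h.1, h.2.1⟩, h.2.2⟩⟩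

theorem mem_cfgDodP3_iff {a : Equiv.Perm GolayPt} :
    a ∈ rep24.chainGroup cfgDodP3Chain ↔ a ∈ M24 ∧ a • suppM cfgDodRoot = suppM cfgDodRoot ∧
      a • rep24.pt 0 = rep24.pt 0 ∧ a • rep24.pt 1 = rep24.pt 1 ∧ a • rep24.pt 2 = rep24.pt 2 := by
  refine ⟨mem_cfgDodP3, fun h => ?_⟩
  rw [← stabDodP3_spec.2.1]
  refine Subgroup.mem_inf.mpr ⟨?_, h.2.2.2.2⟩
  rw [← stabDodP2_spec.2.1]
  exact Subgroup.mem_inf.mpr ⟨mem_cfgDodPt_iff.mpr ⟨h.1, h.2.1, h.2.2.1⟩, h.2.2.2.1⟩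

theorem conjTo_quartet {d : Finset GolayPt} {Q : Finset (Finset GolayPt)}
    (hg : g ∈ M24) (hgd : g • d = suppM cfgDodRoot) (hgQ : g • Q = decFam 4 cfgDodQRoot) :
    ConjTo (MulAction.stabilizer M24 d ⊓ MulAction.stabilizer M24 Q) g
      (rep24.chainGroup cfgDodQChain) := by
  refine ⟨hg, fun a ha => (mem_cfgDodQ ha).1, fun a => ?_⟩
  rw [mem_cfgDodQ_iff, conj_mem_M24_iff hg, ← hgd, ← hgQ, Subgroup.mem_inf,
    MulAction.mem_stabilizer_iff, MulAction.mem_stabilizer_iff, mul_smul, mul_smul, inv_smul_smul,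
    smul_left_cancel_iff, mul_smul, mul_smul, inv_smul_smul, smul_left_cancel_iff]
  exact ⟨fun h => ⟨a.2, h⟩, fun h => h.2⟩

theorem conjTo_dod3 {d : Finset GolayPt} {p q r : GolayPt} (hg : g ∈ M24)
    (hgd : g • d = suppM cfgDodRoot) (hp : g • p = rep24.pt 0) (hq : g • q = rep24.pt 1)
    (hr : g • r = rep24.pt 2) :
    ConjTo (MulAction.stabilizer M24 d ⊓ MulAction.stabilizer M24 p ⊓ MulAction.stabilizer M24 q ⊓
      MulAction.stabilizer M24 r) g (rep24.chainGroup cfgDodP3Chain) := by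
  refine ⟨hg, fun a ha => (mem_cfgDodP3 ha).1, fun a => ?_⟩
  rw [mem_cfgDodP3_iff, conj_mem_M24_iff hg, ← hgd, ← hp, ← hq, ← hr]
  simp only [Subgroup.mem_inf, MulAction.mem_stabilizer_iff, mul_smul, inv_smul_smul,
    smul_left_cancel_iff, and_assoc]
  exact ⟨fun h => ⟨a.2, h⟩, fun h => h.2⟩

end Cfsg.Agent.Compute
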