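/-
Pointwise stabilisers of six points and of an octad.
-/
import Cfsg.Agent.Compute.MathieuMoves

set_option autoImplicit false

namespace Cfsg.Agent.Compute

open Cfsg
open scoped Pointwise

theorem mem_chain_drop {G : Type*} [Group G] [Finite G] {Ω : Type*} [MulAction G Ω] {R : Rep G Ω} :
    ∀ (K : List Level), R.checkChain K = true → ∀ n, n ≤ K.length → ∀ g : G,
      (g ∈ R.chainGroup (K.drop n) ↔
        g ∈ R.chainGroup K ∧ ∀ L ∈ K.take n, g • R.pt L.base = R.pt L.base) := by
  intro K
  induction K with
  | nil =>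
      intro _ n hn g
      obtain rfl : n = 0 := by simpa using hn
      simp
  | cons L Ls ih =>
      intro hc n hn g
      rcases n with _ | n
      · simp
      · rw [List.drop_succ_cons, List.take_succ_cons,
          ih (Rep.checkChain_tail hc) n (by simpa using hn) g, List.forall_mem_cons,
          ← R.stabilizer_base hc, Subgroup.mem_inf, MulAction.mem_stabilizer_iff, and_assoc]
        rfl

theorem m24c_gens : (topGens m24cChain).all inM24B = true := by decide +kernel

theorem m24c_check : rep24.checkChain m24cChain = true := by decide +kernel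

theorem m24c_eq : M24 = rep24.chainGroup m24cChain := by
  refine (Subgroup.eq_of_le_of_card_ge ?_ ?_).symm
  · rw [Rep.chainGroup, Rep.span, Subgroup.closure_le]
    rintro _ ⟨t, ht, rfl⟩
    exact (mem_M24_of_check (List.all_eq_true.mp m24c_gens t ht)).2
  · rw [card_m24, Rep.card_chainGroup _ m24c_check]
    decide +kernel

/-- The codes of the five base points and a sixth. -/
def six (j : ℕ) : List ℕ := [23, 0, 1, 2, 3, j]

theorem drop6_a : (m24aChain.take 6).map Level.base = six 4 ∧
    chainSize (m24aChain.drop 6) = 3 ∧ m24aChain.length = 7 := by decide +kernel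

theorem drop6_c : (m24cChain.take 6).map Level.base = six 5 ∧
    chainSize (m24cChain.drop 6) = 16 ∧ m24cChain.length = 7 := by decide +kernel

theorem checkChain_drop {K : List Level} (h : rep24.checkChain K = true) :
    ∀ n, rep24.checkChain (K.drop n) = true := by
  intro n
  induction n generalizing K with
  | zero => exact h
  | succ n ih =>
      cases K with
      | nil => exact h
      | cons L Ls => exact ih (Rep.checkChain_tail h)

theorem mem_drop_six {K : List Level} {j : ℕ} (hK : M24 = rep24.chainGroup K)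
    (hc : rep24.checkChain K = true) (hlen : K.length = 7)
    (hb : (K.take 6).map Level.base = six j) (g : Equiv.Perm GolayPt) :
    g ∈ rep24.chainGroup (K.drop 6) ↔
      g ∈ M24 ∧ ∀ x ∈ (six j).map rep24.pt, g x = x := by
  rw [mem_chain_drop K hc 6 (by omega) g, ← hK, ← hb, List.map_map, List.forall_mem_map]
  rfl

theorem card_fix_six {K : List Level} {j N : ℕ} (hK : M24 = rep24.chainGroup K)
    (hc : rep24.checkChain K = true) (hlen : K.length = 7)
    (hb : (K.take 6).map Level.base = six j) (hN : chainSize (K.drop 6) = N)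
    {g : Equiv.Perm GolayPt} (hg : g ∈ M24) {x : List GolayPt}
    (hx : x.map g = (six j).map rep24.pt) :
    Nat.card {h : Equiv.Perm GolayPt // h ∈ M24 ∧ ∀ p ∈ x, h p = p} = N := by
  rw [← hN, ← Rep.card_chainGroup _ (checkChain_drop hc 6)]
  refine Nat.card_congr ((MulAut.conj g).toEquiv.subtypeEquiv fun h => ?_)
  rw [mem_drop_six hK hc hlen hb]
  change _ ↔ g * h * g⁻¹ ∈ M24 ∧ _
  rw [conj_mem_M24_iff hg, ← hx, List.forall_mem_map]
  refine and_congr Iff.rfl (forall₂_congr fun p _ => ?_)
  exact (conj_apply_eq_iff rfl).symm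

open Classical in
theorem exists_move6 (x : List GolayPt) (hnd : x.Nodup) (hlen : x.length = 6) :
    ∃ g ∈ M24, x.map g = (six (if ∃ o ∈ octads, ∀ p ∈ x, p ∈ o then 5 else 4)).map rep24.pt := by
  classical
  obtain ⟨y, z, rfl⟩ : ∃ y z, x = y ++ [z] := by
    rcases List.eq_nil_or_concat x with rfl | ⟨y, z, rfl⟩
    · simp at hlen
    · exact ⟨y, z, by simp⟩
  have hyl : y.length = 5 := by simpa using hlen
  have hy : y.Nodup := (List.nodup_append.mp hnd).1
  obtain ⟨g, hg, hgy⟩ := exists_move5 y hy (by omega)
  rw [hyl] at hgy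
  have hgy' : y.map g = [23, 0, 1, 2, 3].map rep24.pt := hgy
  have hzy : ∀ p ∈ y, p ≠ z := fun p hp => (List.nodup_append.mp hnd).2.2 p hp z (by simp)
  have hiff : (∃ o ∈ octads, ∀ p ∈ y ++ [z], p ∈ o) ↔ g z ∈ suppM baseOctad := by
    constructor
    · rintro ⟨o, ho, hxo⟩
      have hgo : g • o = suppM baseOctad := by
        refine octad_eq_of_inter (smul_mem_wordsOfWeight hg ho) baseOctad_mem ?_
        calc 5 = (g • y.toFinset).card := by
              rw [Finset.card_smul_finset, List.toFinset_card_of_nodup hy, hyl]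
          _ ≤ _ := Finset.card_le_card fun q hq => by
            obtain ⟨p, hp, rfl⟩ := Finset.mem_smul_finset.mp hq
            rw [List.mem_toFinset] at hp
            refine Finset.mem_inter.mpr ⟨Finset.smul_mem_smul_finset
              (hxo p (List.mem_append_left _ hp)), basePts_mem_baseOctad _ ?_⟩
            have hm : g p ∈ y.map g := List.mem_map.mpr ⟨p, hp, rfl⟩
            rw [hgy'] at hm
            exact hm
      rw [← hgo]; exact Finset.smul_mem_smul_finset (hxo z (by simp))
    · intro hz
      refine ⟨g⁻¹ • suppM baseOctad, smul_mem_wordsOfWeight (inv_mem hg) baseOctad_mem,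
        fun p hp => ?_⟩
      rw [← Finset.smul_mem_smul_finset_iff g, smul_inv_smul]
      rcases List.mem_append.mp hp with hp | hp
      · refine basePts_mem_baseOctad _ ?_
        have hm : g p ∈ y.map g := List.mem_map.mpr ⟨p, hp, rfl⟩
        rw [hgy'] at hm
        exact hm
      · rw [List.mem_singleton] at hp; subst hp; exact hz
  have hfive : ptIdx (g z) ∉ [23, 0, 1, 2, 3] := by
    intro h
    have : g z ∈ y.map g := by
      rw [hgy']; exact List.mem_map.mpr ⟨_, h, rep24_pt_ptIdx _⟩
    obtain ⟨p, hp, hpz⟩ := List.mem_map.mp this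
    exact hzy p hp (g.injective hpz)
  -- the orbit of the stabiliser of the five base points
  have horb : ∀ (K : List Level) (hc : rep24.checkChain K = true) (hK : M24 = rep24.chainGroup K),
      (K.take 5).map Level.base = [23, 0, 1, 2, 3] → 5 < K.length →
      ∀ j, (K.getD 5 m24aL5).base = j →
        (∃ i < (K.getD 5 m24aL5).size, rep24.pt (rep24.act (rep24.entry (K.getD 5 m24aL5) i).u j) = g z) →
        ∃ h ∈ M24, (∀ p ∈ [23, 0, 1, 2, 3].map rep24.pt, h p = p) ∧ h (g z) = rep24.pt j := by
    intro K hc hK hb hlen j hj ⟨i, hi, he⟩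
    have hd := checkChain_drop hc 5
    rw [List.drop_eq_getElem_cons hlen] at hd
    rw [List.getD_eq_getElem _ _ hlen] at hj hi he
    have hd0 := hd
    rw [rep24.checkChain_cons, Bool.and_eq_true] at hd
    have hlev := rep24.levelOK_of_check hd.1
    have hu : rep24.den (rep24.entry K[5] i).u ∈ rep24.chainGroup (K.drop 5) := by
      rw [List.drop_eq_getElem_cons hlen]; exact hlev.entry_mem i
    rw [mem_chain_drop K hc 5 (by omega), ← hK, ← List.forall_mem_map (f := fun L : Level => L.base)
      (P := fun b => rep24.den (rep24.entry K[5] i).u • rep24.pt b = rep24.pt b), hb] at hu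
    refine ⟨(rep24.den (rep24.entry K[5] i).u)⁻¹, inv_mem hu.1, ?_, ?_⟩
    · rw [List.forall_mem_map]
      intro b hb'
      rw [Equiv.Perm.inv_eq_iff_eq]; exact (hu.2 b hb').symm
    · rw [Equiv.Perm.inv_eq_iff_eq, ← he]
      have := rep24.act_spec _ j (hlev.entry_all i).1 (hj ▸ hlev.base_lt)
      exact this.symm
  have key : ∀ (K : List Level) (j : ℕ), rep24.checkChain K = true → M24 = rep24.chainGroup K →
      (K.take 5).map Level.base = [23, 0, 1, 2, 3] → 5 < K.length →
      (K.getD 5 m24aL5).base = j →
      (∃ i < (K.getD 5 m24aL5).size, rep24.pt (rep24.act (rep24.entry (K.getD 5 m24aL5) i).u j) = g z) →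
      ∃ h ∈ M24, (y ++ [z]).map h = (six j).map rep24.pt := by
    intro K j hc hK hb hlen hj hex
    obtain ⟨h, hh, hfix, hz⟩ := horb K hc hK hb hlen j hj hex
    refine ⟨h * g, mul_mem hh hg, ?_⟩
    rw [List.map_append, List.map_singleton, Equiv.Perm.coe_mul, ← List.map_map, hgy',
      Function.comp_apply, hz, six, show [23, 0, 1, 2, 3, j] = [23, 0, 1, 2, 3] ++ [j] from rfl,
      List.map_append, List.map_singleton]
    congr 1
    rw [List.map_map]
    exact List.map_congr_left fun b hb' => hfix _ (List.mem_map_of_mem hb')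
  have hcov : (List.range 24).all (fun i => memB i [23, 0, 1, 2, 3] ||
      (List.range 24).any (fun k => Nat.blt k (m24cChain.getD 5 m24aL5).size &&
        Nat.beq (rep24.act (rep24.entry (m24cChain.getD 5 m24aL5) k).u 5) i) == baseOctad.testBit i) = true ∧
    (List.range 24).all (fun i => memB i [23, 0, 1, 2, 3] || baseOctad.testBit i ||
      (List.range 24).any (fun k => Nat.blt k (m24aChain.getD 5 m24aL5).size &&
        Nat.beq (rep24.act (rep24.entry (m24aChain.getD 5 m24aL5) k).u 4) i)) = true := by
    decide +kernel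
  have hi := List.mem_range.mpr (ptIdx_lt (g z))
  have hnm : memB (ptIdx (g z)) [23, 0, 1, 2, 3] = false := by
    rw [Bool.eq_false_iff, ne_eq, memB_eq_true]; exact hfive
  by_cases hex : ∃ o ∈ octads, ∀ p ∈ y ++ [z], p ∈ o
  · rw [if_pos hex]
    have hb := mem_suppM.mp (hiff.mp hex)
    have h := List.all_eq_true.mp hcov.1 _ hi
    rw [hnm, Bool.false_or, hb, beq_iff_eq, List.any_eq_true] at h
    obtain ⟨k, -, hk⟩ := h
    rw [Bool.and_eq_true, Nat.blt_eq, Nat.beq_eq] at hk
    exact key m24cChain 5 m24c_check m24c_eq (by decide +kernel) (by decide +kernel)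
      (by decide +kernel) ⟨k, hk.1, by rw [hk.2, rep24_pt_ptIdx]⟩
  · rw [if_neg hex]
    have hb : baseOctad.testBit (ptIdx (g z)) = false := by
      rw [Bool.eq_false_iff]; exact fun hb => hex (hiff.mpr (mem_suppM.mpr hb))
    have h := List.all_eq_true.mp hcov.2 _ hi
    rw [hnm, Bool.false_or, hb, Bool.false_or, List.any_eq_true] at h
    obtain ⟨k, -, hk⟩ := h
    rw [Bool.and_eq_true, Nat.blt_eq, Nat.beq_eq] at hk
    exact key m24aChain 4 m24a_check m24_eq (by decide +kernel) (by decide +kernel)
      (by decide +kernel) ⟨k, hk.1, by rw [hk.2, rep24_pt_ptIdx]⟩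

theorem drop6c_fixes_octad : (topGens (m24cChain.drop 6)).all (fun g => rep24.okb g &&
    (List.range 24).all (fun i => !(baseOctad.testBit i) || Nat.beq (rep24.act g i) i)) = true := by
  decide +kernel

theorem mem_fix_baseOctad (g : Equiv.Perm GolayPt) :
    g ∈ rep24.chainGroup (m24cChain.drop 6) ↔
      g ∈ M24 ∧ ∀ p ∈ suppM baseOctad, g p = p := by
  constructor
  · intro hg
    refine ⟨((mem_drop_six m24c_eq m24c_check drop6_c.2.2 drop6_c.1 g).mp hg).1, fun p hp => ?_⟩
    have hle : rep24.chainGroup (m24cChain.drop 6) ≤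
        MulAction.stabilizer (Equiv.Perm GolayPt) p := by
      rw [Rep.chainGroup, Rep.span, Subgroup.closure_le]
      rintro _ ⟨t, ht, rfl⟩
      have h := List.all_eq_true.mp drop6c_fixes_octad t ht
      simp only [Bool.and_eq_true, List.all_eq_true] at h
      have h' := h.2 _ (List.mem_range.mpr (ptIdx_lt p))
      rw [mem_suppM.mp hp, Bool.not_true, Bool.false_or, Nat.beq_eq] at h'
      rw [SetLike.mem_coe, MulAction.mem_stabilizer_iff, ← rep24_pt_ptIdx p,
        rep24.act_spec _ _ (rep24.okb_sound _ h.1) (ptIdx_lt p), h']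
    exact hle hg
  · rintro ⟨hg, hfix⟩
    refine (mem_drop_six m24c_eq m24c_check drop6_c.2.2 drop6_c.1 g).mpr ⟨hg, ?_⟩
    rw [List.forall_mem_map]
    intro i hi
    refine hfix _ (mem_suppM.mpr ?_)
    have h : (six 5).all (fun i => Nat.blt i 24 && baseOctad.testBit i) = true := by decide +kernel
    have := List.all_eq_true.mp h i hi
    rw [Bool.and_eq_true, Nat.blt_eq] at this
    rw [ptIdx_rep24 this.1, this.2]

theorem fix_baseOctad_sq : (rep24.chainElems (m24cChain.drop 6)).all
    (fun c => Nat.beq (rep24.mul c c) rep24.one) = true := by decide +kernel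

end Cfsg.Agent.Compute
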