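/-
Identifying small chain groups with symmetric and alternating groups.
-/
import Cfsg.Agent.Compute.MathieuConj
import Cfsg.Agent.Compute.MathieuPointwise

set_option autoImplicit false

namespace Cfsg.Agent.Compute

open Cfsg
open scoped Pointwise

/-- The permutations of an invariant finite set. -/
noncomputable def restrHom (H : Subgroup (Equiv.Perm GolayPt)) (s : Finset GolayPt)
    (h : ∀ g ∈ H, g • s = s) : ↥H →* Equiv.Perm ↥s where
  toFun a := Equiv.Perm.subtypePerm (a : Equiv.Perm GolayPt) fun x => by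
    conv_lhs => rw [← h a a.2]
    exact Finset.smul_mem_smul_finset_iff _
  map_one' := by ext; rfl
  map_mul' a b := by ext; rfl

theorem restrHom_eq_one {H : Subgroup (Equiv.Perm GolayPt)} {s : Finset GolayPt}
    {h : ∀ g ∈ H, g • s = s} {a : ↥H} :
    restrHom H s h a = 1 ↔ ∀ p ∈ s, (a : Equiv.Perm GolayPt) p = p := by
  rw [Equiv.ext_iff]
  exact ⟨fun e p hp => congrArg Subtype.val (e ⟨p, hp⟩), fun e p => Subtype.ext (e p p.2)⟩

/-- Check that a mask is invariant and that the group acts faithfully on it. -/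
noncomputable def faithfulB (K : List Level) (m : ℕ) : Bool :=
  (topGens K).all (fun g => rep24.okb g && Nat.beq (imgMask g m) m) &&
    (rep24.chainElems K).all (fun c => Nat.beq c rep24.one ||
      (List.range 24).any (fun i => Nat.testBit m i && !(Nat.beq (rep24.act c i) i)))

theorem faithfulB_spec {K : List Level} {m : ℕ} (hc : rep24.checkChain K = true)
    (hm : m < 2 ^ 24) (h : faithfulB K m = true) :
    (∀ g ∈ rep24.chainGroup K, g • suppM m = suppM m) ∧
      ∀ g ∈ rep24.chainGroup K, (∀ p ∈ suppM m, g p = p) → g = 1 := by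
  simp only [faithfulB, Bool.and_eq_true, List.all_eq_true, Nat.beq_eq, Bool.or_eq_true] at h
  obtain ⟨hgen, hel⟩ := h
  refine ⟨fun g hg => ?_, fun g hg hfix => ?_⟩
  · have hle : rep24.chainGroup K ≤ MulAction.stabilizer (Equiv.Perm GolayPt) (suppM m) := by
      rw [Rep.chainGroup, Rep.span, Subgroup.closure_le]
      rintro _ ⟨t, ht, rfl⟩
      rw [SetLike.mem_coe, MulAction.mem_stabilizer_iff]
      exact (smul_suppM (rep24.okb_sound _ (hgen t ht).1)).trans (by rw [(hgen t ht).2])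
    exact hle hg
  · obtain ⟨c, hcm, hok, rfl⟩ := rep24.exists_elem _ hc hg
    rcases hel c hcm with h1 | h1
    · rw [h1, rep24.den_one]
    · rw [List.any_eq_true] at h1
      obtain ⟨i, hi, hb⟩ := h1
      rw [List.mem_range] at hi
      rw [Bool.and_eq_true, Bool.not_eq_true', Bool.eq_false_iff, ne_eq, Nat.beq_eq] at hb
      refine absurd ?_ hb.2
      have := hfix _ ((pt_mem_suppM hi).mpr hb.1)
      rw [← Equiv.Perm.smul_def, rep24.act_spec _ _ hok hi] at this
      have h2 := congrArg ptIdx this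
      rwa [ptIdx_rep24 (rep24.act_lt c i hok hi), ptIdx_rep24 hi] at h2

theorem nonempty_equiv_perm {K : List Level} {m k : ℕ} (hc : rep24.checkChain K = true)
    (hm : m < 2 ^ 24) (h : faithfulB K m = true) (hk : popBits 24 m = k)
    (hsize : chainSize K = k.factorial) :
    Nonempty (↥(rep24.chainGroup K) ≃* Equiv.Perm (Fin k)) := by
  obtain ⟨hinv, hfaith⟩ := faithfulB_spec hc hm h
  have hinj : Function.Injective (restrHom _ _ hinv) := by
    rw [injective_iff_map_eq_one]
    intro a ha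
    exact Subtype.ext (hfaith _ a.2 (restrHom_eq_one.mp ha))
  have hs : Fintype.card ↥(suppM m) = k := by rw [Fintype.card_coe, card_suppM, hk]
  have hbij : Function.Bijective (restrHom _ _ hinv) := by
    rw [Nat.bijective_iff_injective_and_card]
    refine ⟨hinj, ?_⟩
    rw [Rep.card_chainGroup _ hc, hsize, Nat.card_perm, Nat.card_eq_fintype_card, hs]
  exact ⟨(MulEquiv.ofBijective _ hbij).trans (Fintype.equivFinOfCardEq hs).permCongrHom⟩

theorem nonempty_equiv_alternating {K : List Level} {m k : ℕ} (hc : rep24.checkChain K = true)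
    (hm : m < 2 ^ 24) (hinv : ∀ g ∈ rep24.chainGroup K, g • suppM m = suppM m)
    (hfaith : ∀ g ∈ rep24.chainGroup K, (∀ p ∈ suppM m, g p = p) → g = 1)
    (hk : popBits 24 m = k) (hsize : chainSize K * 2 = k.factorial) :
    Nonempty (↥(rep24.chainGroup K) ≃* alternatingGroup (Fin k)) := by
  let f := restrHom _ _ hinv
  have hinj : Function.Injective f := by
    rw [injective_iff_map_eq_one]
    intro a ha
    exact Subtype.ext (hfaith _ a.2 (restrHom_eq_one.mp ha))
  have hs : Fintype.card ↥(suppM m) = k := by rw [Fintype.card_coe, card_suppM, hk]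
  let F := ((Fintype.equivFinOfCardEq hs).permCongrHom : _ →* Equiv.Perm (Fin k)).comp f
  have hFinj : Function.Injective F :=
    (Fintype.equivFinOfCardEq hs).permCongrHom.injective.comp hinj
  have hrange : F.range = alternatingGroup (Fin k) := by
    refine Equiv.Perm.eq_alternatingGroup_of_index_eq_two ?_
    have h1 : Nat.card ↥F.range = chainSize K := by
      rw [← Rep.card_chainGroup _ hc]
      exact (Nat.card_congr (MonoidHom.ofInjective hFinj).toEquiv).symm
    have h2 := Subgroup.card_mul_index F.range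
    rw [h1, Nat.card_perm, Nat.card_fin, ← hsize] at h2
    have hpos : 0 < chainSize K := by
      rw [← Rep.card_chainGroup _ hc]; exact Nat.card_pos
    exact Nat.eq_of_mul_eq_mul_left hpos h2
  exact ⟨(MonoidHom.ofInjective hFinj).trans (MulEquiv.subgroupCongr hrange)⟩

theorem mem_cfgOctOut_iff {a : Equiv.Perm GolayPt} :
    a ∈ rep24.chainGroup cfgOctOutChain ↔ a ∈ M24 ∧ a • suppM cfgOctRoot = suppM cfgOctRoot ∧
      a • rep24.pt 4 = rep24.pt 4 :=
  ⟨mem_cfgOctOut, fun h => by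
    rw [← stabOctOut_spec.2.1]
    refine Subgroup.mem_inf.mpr ⟨?_, h.2.2⟩
    rw [← octStab_spec.2.1]; exact Subgroup.mem_inf.mpr ⟨h.1, h.2.1⟩⟩

theorem Rep.chainElems_mem {G : Type*} [Group G] [Finite G] {Ω : Type*} [MulAction G Ω]
    (R : Rep G Ω) : ∀ (K : List Level), R.checkChain K = true → ∀ {c : ℕ}, c ∈ R.chainElems K →
      R.Ok c ∧ R.den c ∈ R.chainGroup K := by
  intro K
  induction K with
  | nil =>
      intro _ c hc
      simp [Rep.chainElems] at hc
      subst hc
      exact ⟨R.ok_one, by rw [R.den_one]; exact one_mem _⟩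
  | cons L Ls ih =>
      intro hchk c hc
      obtain ⟨j, -, hc'⟩ := List.mem_flatMap.mp hc
      obtain ⟨d, hd, rfl⟩ := List.mem_map.mp hc'
      obtain ⟨hok, hmem⟩ := ih (Rep.checkChain_tail hchk) hd
      have h := R.levelOK_of_check (by rw [R.checkChain_cons, Bool.and_eq_true] at hchk; exact hchk.1)
      refine ⟨R.ok_mul _ _ (h.entry_all j).1 hok, ?_⟩
      rw [R.den_mul _ _ (h.entry_all j).1 hok]
      exact mul_mem (h.entry_mem j) (Rep.chainGroup_next_le hchk hmem)

theorem drop6c_regular :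
    (List.range 24).all (fun i => baseOctad.testBit i ||
      (rep24.chainElems (m24cChain.drop 6)).any (fun c => Nat.beq (rep24.act c 4) i)) = true ∧
    (rep24.chainElems (m24cChain.drop 6)).all (fun c => Nat.beq c rep24.one ||
      !(Nat.beq (rep24.act c 4) 4)) = true := by decide +kernel

theorem fix_octad_point {a : Equiv.Perm GolayPt}
    (ha : a ∈ rep24.chainGroup (m24cChain.drop 6)) (h4 : a (rep24.pt 4) = rep24.pt 4) : a = 1 := by
  obtain ⟨c, hc, hok, rfl⟩ := rep24.exists_elem _ (checkChain_drop m24c_check 6) ha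
  have h := List.all_eq_true.mp drop6c_regular.2 c hc
  rw [Bool.or_eq_true, Bool.not_eq_true', Bool.eq_false_iff, ne_eq, Nat.beq_eq, Nat.beq_eq] at h
  rcases h with h | h
  · rw [h, rep24.den_one]
  · refine absurd ?_ h
    rw [← Equiv.Perm.smul_def, rep24.act_spec _ _ hok (show (4 : ℕ) < 24 by norm_num)] at h4
    have := congrArg ptIdx h4
    rwa [ptIdx_rep24 (rep24.act_lt c 4 hok (show (4 : ℕ) < 24 by norm_num)), ptIdx_rep24 (by norm_num)] at this

theorem mem_cfgDodHex_iff {a : Equiv.Perm GolayPt} :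
    a ∈ rep24.chainGroup cfgDodHexChain ↔ a ∈ M24 ∧ a • suppM cfgDodRoot = suppM cfgDodRoot ∧
      a • suppM cfgDodHexRoot = suppM cfgDodHexRoot :=
  ⟨mem_cfgDodHex, fun h => by
    rw [← stabDodHex_spec.2.1]
    exact Subgroup.mem_inf.mpr ⟨mem_cfgDod_iff.mpr ⟨h.1, h.2.1⟩, h.2.2⟩⟩

theorem mem_cfgDodPair_iff {a : Equiv.Perm GolayPt} :
    a ∈ rep24.chainGroup cfgDodPairChain ↔ a ∈ M24 ∧ a • suppM cfgDodRoot = suppM cfgDodRoot ∧
      a • rep24.pt 0 = rep24.pt 0 ∧ a • suppM cfgDodPairRoot = suppM cfgDodPairRoot :=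
  ⟨mem_cfgDodPair, fun h => by
    rw [← stabDodPair_spec.2.1]
    exact Subgroup.mem_inf.mpr ⟨mem_cfgDodPt_iff.mpr ⟨h.1, h.2.1, h.2.2.1⟩, h.2.2.2⟩⟩

theorem mem_cfgOctOct2_iff {a : Equiv.Perm GolayPt} :
    a ∈ rep24.chainGroup cfgOctOct2Chain ↔ a ∈ M24 ∧ a • suppM cfgOctRoot = suppM cfgOctRoot ∧
      a • suppM cfgOctOct2Root = suppM cfgOctOct2Root :=
  ⟨mem_cfgOctOct2, fun h => by
    rw [← stabOctOct2_spec.2.1]
    refine Subgroup.mem_inf.mpr ⟨?_, h.2.2⟩
    rw [← octStab_spec.2.1]; exact Subgroup.mem_inf.mpr ⟨h.1, h.2.1⟩⟩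

theorem conjTo_two {γ δ : Type*} [MulAction (Equiv.Perm GolayPt) γ]
    [MulAction (Equiv.Perm GolayPt) δ] {g : Equiv.Perm GolayPt} {K : Subgroup (Equiv.Perm GolayPt)}
    {x x₀ : γ} {y y₀ : δ} (hg : g ∈ M24) (hx : g • x = x₀) (hy : g • y = y₀)
    (hK : ∀ a, a ∈ K ↔ a ∈ M24 ∧ a • x₀ = x₀ ∧ a • y₀ = y₀) :
    ConjTo (MulAction.stabilizer M24 x ⊓ MulAction.stabilizer M24 y) g K := by
  refine ⟨hg, fun a ha => ((hK a).mp ha).1, fun a => ?_⟩
  rw [hK, conj_mem_M24_iff hg, ← hx, ← hy, Subgroup.mem_inf, MulAction.mem_stabilizer_iff,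
    MulAction.mem_stabilizer_iff, mul_smul, mul_smul, inv_smul_smul, smul_left_cancel_iff,
    mul_smul, mul_smul, inv_smul_smul, smul_left_cancel_iff]
  exact ⟨fun h => ⟨a.2, h⟩, fun h => h.2⟩

theorem conjTo_three {γ δ ε : Type*} [MulAction (Equiv.Perm GolayPt) γ]
    [MulAction (Equiv.Perm GolayPt) δ] [MulAction (Equiv.Perm GolayPt) ε] {g : Equiv.Perm GolayPt}
    {K : Subgroup (Equiv.Perm GolayPt)} {x x₀ : γ} {y y₀ : δ} {z z₀ : ε} (hg : g ∈ M24)
    (hx : g • x = x₀) (hy : g • y = y₀) (hz : g • z = z₀)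
    (hK : ∀ a, a ∈ K ↔ a ∈ M24 ∧ a • x₀ = x₀ ∧ a • y₀ = y₀ ∧ a • z₀ = z₀) :
    ConjTo (MulAction.stabilizer M24 x ⊓ MulAction.stabilizer M24 y ⊓ MulAction.stabilizer M24 z) g
      K := by
  refine ⟨hg, fun a ha => ((hK a).mp ha).1, fun a => ?_⟩
  rw [hK, conj_mem_M24_iff hg, ← hx, ← hy, ← hz]
  simp only [Subgroup.mem_inf, MulAction.mem_stabilizer_iff, mul_smul, inv_smul_smul,
    smul_left_cancel_iff, and_assoc]
  exact ⟨fun h => ⟨a.2, h⟩, fun h => h.2⟩

end Cfsg.Agent.Compute
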