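/-
Normal subgroups of chain groups given by lists of codes.
-/
import Cfsg.Agent.Compute.Classes

set_option autoImplicit false

namespace Cfsg.Agent.Compute

open Cfsg

/-- Check that a list of codes is a normal elementary abelian subgroup of the group of a chain:
inside it, pairwise different, closed under products, of exponent two, invariant under the
generators. -/
noncomputable def listNormalB (K : List Level) (l : List ℕ) : Bool :=
  memB rep24.one l &&
    (l.all fun a => rep24.okb a && Nat.beq (rep24.sift K a) rep24.one &&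
      Nat.beq (rep24.mul a a) rep24.one) &&
    (l.all fun a => l.all fun b => memB (rep24.mul a b) l) &&
    ((topGens K).all fun g => rep24.okb g &&
      l.all fun a => l.any fun b => Nat.beq (rep24.mul g a) (rep24.mul b g)) &&
    allBelow l.length (fun i => allBelow i (fun j =>
      !(allBelow 24 (fun p => Nat.beq (rep24.act (l.getD i 0) p) (rep24.act (l.getD j 0) p)))))

theorem den_inj_of_act {a b : ℕ} (ha : rep24.Ok a) (hb : rep24.Ok b)
    (h : rep24.den a = rep24.den b) :
    allBelow 24 (fun p => Nat.beq (rep24.act a p) (rep24.act b p)) = true := by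
  rw [allBelow_eq_true]
  intro p hp
  rw [Nat.beq_eq]
  have h1 := rep24.act_spec a p ha hp
  rw [h, rep24.act_spec b p hb hp] at h1
  exact (rep24.pt_inj _ _ (rep24.act_lt b p hb hp) (rep24.act_lt a p ha hp) h1).symm

theorem exists_list_subgroup {K : List Level} {l : List ℕ} (hc : rep24.checkChain K = true)
    (h : listNormalB K l = true) :
    ∃ N : Subgroup ↥(rep24.chainGroup K), N.Normal ∧ Nat.card N = l.length ∧
      (∀ x ∈ N, x * x = 1) ∧
      ∀ x ∈ N, ∃ a ∈ l, rep24.Ok a ∧ rep24.den a = (x : Equiv.Perm GolayPt) := by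
  simp only [listNormalB, Bool.and_eq_true, List.all_eq_true, List.any_eq_true, Nat.beq_eq,
    memB_eq_true, allBelow_eq_true, Bool.not_eq_true'] at h
  obtain ⟨⟨⟨⟨hone, hel⟩, hmul⟩, hgen⟩, hdist⟩ := h
  have hok : ∀ a ∈ l, rep24.Ok a := fun a ha => rep24.okb_sound _ (hel a ha).1.1
  have hmem : ∀ a ∈ l, rep24.den a ∈ rep24.chainGroup K := fun a ha =>
    Rep.mem_of_sift rep24 K hc (hok a ha) (hel a ha).1.2
  have hsq : ∀ a ∈ l, rep24.den a * rep24.den a = 1 := fun a ha => by
    rw [← rep24.den_mul _ _ (hok a ha) (hok a ha), (hel a ha).2, rep24.den_one]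
  let S : Set (Equiv.Perm GolayPt) := {x | ∃ a ∈ l, rep24.den a = x}
  let N : Subgroup ↥(rep24.chainGroup K) :=
    { carrier := {x | (x : Equiv.Perm GolayPt) ∈ S}
      mul_mem' := by
        rintro x y ⟨a, ha, hax⟩ ⟨b, hb, hby⟩
        exact ⟨rep24.mul a b, hmul a ha b hb, by
          rw [rep24.den_mul _ _ (hok a ha) (hok b hb), hax, hby]; rfl⟩
      one_mem' := ⟨rep24.one, hone, rep24.den_one⟩
      inv_mem' := by
        rintro x ⟨a, ha, hax⟩
        refine ⟨a, ha, ?_⟩
        rw [Subgroup.coe_inv, ← hax]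
        exact eq_inv_of_mul_eq_one_left (hsq a ha) }
  refine ⟨N, ?_, ?_, ?_, ?_⟩
  · refine ⟨fun x hx g => ?_⟩
    have key : ∀ g ∈ rep24.chainGroup K, ∀ a ∈ l, ∃ b ∈ l,
        g * rep24.den a * g⁻¹ = rep24.den b := by
      intro g hg
      induction hg using Subgroup.closure_induction'' with
      | mem y hy =>
          obtain ⟨t, ht, rfl⟩ := hy
          intro a ha
          obtain ⟨htok, htl⟩ := hgen t ht
          obtain ⟨b, hb, hbe⟩ := htl a ha
          refine ⟨b, hb, ?_⟩
          rw [mul_inv_eq_iff_eq_mul, ← rep24.den_mul _ _ (rep24.okb_sound _ htok) (hok a ha),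
            ← rep24.den_mul _ _ (hok b hb) (rep24.okb_sound _ htok), hbe]
      | inv_mem y hy =>
          obtain ⟨t, ht, rfl⟩ := hy
          obtain ⟨htok, htl⟩ := hgen t ht
          have hstep : ∀ z : {z // z ∈ S}, rep24.den t * z.1 * (rep24.den t)⁻¹ ∈ S := by
            rintro ⟨_, a, ha, rfl⟩
            obtain ⟨b, hb, hbe⟩ := htl a ha
            refine ⟨b, hb, ?_⟩
            rw [eq_mul_inv_iff_mul_eq, ← rep24.den_mul _ _ (hok b hb) (rep24.okb_sound _ htok),
              ← rep24.den_mul _ _ (rep24.okb_sound _ htok) (hok a ha), hbe]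
          haveI : Finite {z // z ∈ S} := Subtype.finite
          have hbij : Function.Surjective (fun z : {z // z ∈ S} => (⟨_, hstep z⟩ : {z // z ∈ S})) :=
            Finite.injective_iff_surjective.mp fun z w hzw => Subtype.ext (by
              have := congrArg Subtype.val hzw
              simpa using this)
          intro a ha
          obtain ⟨⟨z, b, hb, hbz⟩, hz⟩ := hbij ⟨rep24.den a, a, ha, rfl⟩
          refine ⟨b, hb, ?_⟩
          rw [← show rep24.den t * z * (rep24.den t)⁻¹ = rep24.den a from congrArg Subtype.val hz,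
            hbz]
          group
      | one => exact fun a ha => ⟨a, ha, by group⟩
      | mul y z _ _ hy hz =>
          intro a ha
          obtain ⟨b, hb, hbe⟩ := hz a ha
          obtain ⟨c, hcm, hce⟩ := hy b hb
          refine ⟨c, hcm, ?_⟩
          rw [← hce, ← hbe]; group
    obtain ⟨a, ha, hax⟩ := hx
    obtain ⟨b, hb, hbe⟩ := key g g.2 a ha
    exact ⟨b, hb, by rw [← hbe, hax]; rfl⟩
  · rw [show Nat.card N = Nat.card ↥({x | (x : Equiv.Perm GolayPt) ∈ S} : Set ↥(rep24.chainGroup K))
      from rfl, ← Nat.card_fin l.length]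
    refine (Nat.card_congr (Equiv.ofBijective
      (fun i : Fin l.length => (⟨⟨rep24.den l[(i : ℕ)], hmem _ (List.getElem_mem i.2)⟩,
        ⟨l[(i : ℕ)], List.getElem_mem i.2, rfl⟩⟩ :
          ↥({x | (x : Equiv.Perm GolayPt) ∈ S} : Set ↥(rep24.chainGroup K)))) ⟨?_, ?_⟩)).symm
    · intro i j hij
      have he : rep24.den l[(i : ℕ)] = rep24.den l[(j : ℕ)] :=
        congrArg (fun z : ↥({x | (x : Equiv.Perm GolayPt) ∈ S} : Set ↥(rep24.chainGroup K)) =>
          ((z : ↥(rep24.chainGroup K)) : Equiv.Perm GolayPt)) hij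
      by_contra hne
      rcases Nat.lt_or_gt_of_ne (fun e => hne (Fin.ext e)) with hlt | hlt
      · have := hdist j j.2 i hlt
        rw [List.getD_eq_getElem _ _ j.2, List.getD_eq_getElem _ _ i.2,
          den_inj_of_act (hok _ (List.getElem_mem j.2)) (hok _ (List.getElem_mem i.2)) he.symm] at this
        exact Bool.noConfusion this
      · have := hdist i i.2 j hlt
        rw [List.getD_eq_getElem _ _ i.2, List.getD_eq_getElem _ _ j.2,
          den_inj_of_act (hok _ (List.getElem_mem i.2)) (hok _ (List.getElem_mem j.2)) he] at this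
        exact Bool.noConfusion this
    · rintro ⟨⟨x, hxm⟩, a, ha, hax⟩
      obtain ⟨i, hi, rfl⟩ := List.getElem_of_mem ha
      exact ⟨⟨i, hi⟩, Subtype.ext (Subtype.ext hax)⟩
  · rintro x ⟨a, ha, hax⟩
    exact Subtype.ext (by rw [Subgroup.coe_mul, ← hax, hsq a ha]; rfl)
  · rintro x ⟨a, ha, hax⟩
    exact ⟨a, ha, hok a ha, hax⟩

end Cfsg.Agent.Compute
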