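/- Generated data: the cosets of a Sylow 2-subgroup of M24 in a flag stabiliser. -/
import Cfsg.Agent.Compute.Perm

set_option autoImplicit false
set_option linter.all false

namespace Cfsg.Agent.Compute

/-- Coset representatives: element, inverse, generator leaving the group, images of the coset
under the generators of the flag stabiliser. -/
def syl2FReps : List (ℕ × ℕ × ℕ × List ℕ) := [(0xbdab49ca307b9ac5a928398a418820, 0xbdab49ca307b9ac5a928398a418820, 0, [1, 2, 0, 3, 0, 0]),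
  (0x7356a3586c208e89d64983cb4886e0, 0xc9445a46735ed0ad10c6ccaf8b840, 2, [4, 5, 1, 6, 7, 7]),
  (0x1c947b244c5c4cf6d504a42f32b820, 0x2cd47259c6609707d649a3468bc420, 1, [8, 9, 2, 10, 9, 2]),
  (0x2d146caf598de6559903a5c428831, 0x8aa147c80869669b2cd53b06470837, 1, [11, 4, 3, 12, 13, 12]),
  (0x11e757b628a060932ed2610aa1ddc0, 0x1268faa22d9864751190b2ca61ddc0, 1, [14, 7, 4, 8, 12, 13]),
  (0x8dab06c82898de43ad34531c628ae0, 0xdaa87caf46966651d305906c70a20, 1, [15, 16, 5, 17, 6, 17]),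
  (0x4d2a3d9cb3448fab50c84854286e3, 0xc964b19c764548852a99bc6d01457, 1, [18, 11, 6, 19, 5, 16]),
  (0x13ec722ca9339489566c83474886e0, 0xd5444ac67b38c89360ca3e332dc40, 2, [19, 3, 7, 18, 1, 1]),
  (0x899b5848af9ba84b292862ee710460, 0x2ae8d7caf383aa73292825a2c08c40, 2, [16, 10, 8, 13, 8, 8]),
  (0x2a6b4921cf68a0b328933b076bc420, 0x192b444c4d845e662ad23aee92b820, 1, [7, 0, 9, 5, 2, 9]),
  (0x34873246ab1570ac9eca2233bb822, 0x1bd67228ac48ac86c246a4dd588037, 1, [20, 19, 10, 14, 18, 14]),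
  (0x1bd564aca6208f06a24cacdd4b8411, 0x1d0e43240cb15689566a6c22fbb841, 1, [3, 12, 11, 15, 11, 15]),
  (0x8aa147c80869669b2cd53b06470837, 0x2d146caf598de6559903a5c428831, 1, [2, 6, 12, 0, 4, 3]),
  (0x1a64f9a1d068286659553aee428831, 0x2a90d9d410a45eb326d23b064b882e, 1, [13, 15, 13, 4, 3, 4]),
  (0xc0cb21c6955d927cdb6450b58b840, 0x72086530765892da3e07954b3886e0, 1, [0, 18, 14, 2, 19, 10]),
  (0x1bceb658a4309546d64944dd00de20, 0x1494c32424b1573a3507abe30bb860, 1, [10, 17, 15, 20, 15, 11]),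
  (0x2c96ab2444385937d6868222d70ee0, 0xcd49658a758c8dad2467a2f0145c0, 1, [12, 1, 16, 7, 17, 6]),
  (0x1e907ca356966c5d8885246670ae1, 0xaa156ca3498dec59cc8b11c928817, 1, [9, 13, 17, 9, 16, 5]),
  (0x892ad94cafa060c3a6c85984a75c03, 0x126af94eed80e8c3914859a36015c1, 1, [6, 20, 18, 16, 10, 19]),
  (0x1d58a25809394d26cdeb82234106ee, 0xcac4530a748175452067b5d3b8c51, 1, [17, 8, 19, 1, 14, 18]),
  (0x2aeb2436f09ba8c3112f55a2718402, 0x89aad7d0b043a4cb1d3322eea18041, 2, [5, 14, 20, 11, 20, 20])]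

end Cfsg.Agent.Compute
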