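/-
The unique coded object fixed by a list of permutations.
-/
import Cfsg.Agent.Compute.Objects

set_option autoImplicit false

namespace Cfsg.Agent.Compute

open Cfsg
open scoped Pointwise

/-- The code `root` is the only code of the tree fixed by all generators. -/
noncomputable def uniqFixB {β : Type*} [MulAction (Equiv.Perm GolayPt) β] (O : Obj rep24 β)
    (t : OTr) (gens : List ℕ) (root : ℕ) : Bool :=
  gens.all (fun g => rep24.okb g && Nat.beq (O.act g root) root) &&
    t.codes.all (fun c => Nat.beq c root || gens.any (fun g => !(Nat.beq (O.act g c) c)))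

theorem eq_root_of_uniqFix {β : Type*} [MulAction (Equiv.Perm GolayPt) β] {O : Obj rep24 β}
    {t : OTr} {gens : List ℕ} {root : ℕ} (h : uniqFixB O t gens root = true)
    (hgood : ∀ c ∈ t.codes, O.Good c) {U : Set β} (hU : U = O.dec '' {c | c ∈ t.codes})
    {X : β} (hX : X ∈ U) (hfix : ∀ g ∈ gens, rep24.den g • X = X) : X = O.dec root := by
  simp only [uniqFixB, Bool.and_eq_true, List.all_eq_true, Bool.or_eq_true, Nat.beq_eq,
    List.any_eq_true, Bool.not_eq_true'] at h
  rw [hU] at hX
  obtain ⟨c, hc, rfl⟩ := hX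
  rcases h.2 c hc with rfl | ⟨g, hg, hne⟩
  · rfl
  · have hok := rep24.okb_sound _ (h.1 g hg).1
    have h2 := hfix g hg
    rw [O.act_dec _ _ hok (hgood c hc)] at h2
    rw [← Bool.not_eq_true, Nat.beq_eq] at hne
    exact absurd (O.dec_inj _ _ (O.act_good _ _ hok (hgood c hc)) (hgood c hc) h2) hne

end Cfsg.Agent.Compute
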