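/-
A Sylow 2-subgroup of M24 is its own normaliser.
-/
import Cfsg.Agent.Compute.Syl2FlagData
import Cfsg.Agent.Compute.Syl2CosetData
import Cfsg.Agent.Compute.FixedCounts
import Cfsg.Agent.Compute.MathieuConfigs3
import Cfsg.Agent.Compute.UniqFix

set_option autoImplicit false

namespace Cfsg.Agent.Compute

open Cfsg
open scoped Pointwise

/-- The two codes denote different permutations. -/
noncomputable def difB (a b : ℕ) : Bool :=
  !(allBelow 24 (fun i => Nat.beq (rep24.act a i) (rep24.act b i)))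

theorem den_ne_of_difB {a b : ℕ} (ha : rep24.Ok a) (hb : rep24.Ok b) (h : difB a b = true) :
    rep24.den a ≠ rep24.den b := by
  intro e
  rw [difB, Bool.not_eq_true', ← Bool.not_eq_true, allBelow_eq_true] at h
  refine h fun i hi => ?_
  rw [Nat.beq_eq]
  have h1 := rep24.act_spec a i ha hi
  rw [e, rep24.act_spec b i hb hi] at h1
  exact rep24.pt_inj _ _ (rep24.act_lt a i ha hi) (rep24.act_lt b i hb hi) h1.symm

theorem syl2F_checks : rep24.checkChain syl2FChain = true ∧
    (topGens syl2FChain).all inM24B = true ∧ chainSize syl2FChain = 2 ^ 10 := by decide +kernel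

theorem syl2F_uniqOct :
    uniqFixB maskObj cfgOctTree (topGens syl2FChain) cfgOctRoot = true := by decide +kernel

theorem syl2F_uniqTrio :
    uniqFixB (famObj 3) cfgTrioTree (topGens syl2FChain) cfgOctTrioRoot = true := by
  decide +kernel

theorem octTrioRoot_mem : cfgTrioTree.memB cfgOctTrioRoot = true := by decide +kernel

/-- Row `k` of the coset table. -/
noncomputable def sylRow (k : ℕ) : ℕ × ℕ × ℕ × List ℕ :=
  syl2FReps.getD k (rep24.one, rep24.one, 0, [])

/-- The check of one coset: its generator leaves the group, and the images are right. -/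
noncomputable def sylRowB (k : ℕ) : Bool :=
  rep24.okb (sylRow k).1 && rep24.okb (sylRow k).2.1 &&
    Nat.beq (rep24.mul (sylRow k).2.1 (sylRow k).1) rep24.one &&
    (Nat.beq k 0 && Nat.beq (sylRow k).1 rep24.one ||
      Nat.blt (sylRow k).2.2.1 (topGens syl2FChain).length &&
        difB (rep24.sift syl2FChain (rep24.mul
          (rep24.mul (sylRow k).1 ((topGens syl2FChain).getD (sylRow k).2.2.1 rep24.one))
          (sylRow k).2.1)) rep24.one) &&
    allBelow (topGens cfgOctTrioChain).length (fun j =>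
      Nat.blt ((sylRow k).2.2.2.getD j 0) 21 &&
        Nat.beq (rep24.sift syl2FChain (rep24.mul
          (rep24.mul (sylRow k).1 ((topGens cfgOctTrioChain).getD j rep24.one))
          (sylRow ((sylRow k).2.2.2.getD j 0)).2.1)) rep24.one)

theorem syl2F_cosets : allBelow 21 sylRowB = true ∧
    (topGens cfgOctTrioChain).all rep24.okb = true := by decide +kernel

/-- An element of the group of a chain sifts to the identity. -/
theorem Rep.den_sift_of_mem {G : Type*} [Group G] [Finite G] {Ω : Type*} [MulAction G Ω]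
    (R : Rep G Ω) (Ls : List Level) (hc : R.checkChain Ls = true) {r : ℕ} (hr : R.Ok r)
    (hm : R.den r ∈ R.chainGroup Ls) : R.Ok (R.sift Ls r) ∧ R.den (R.sift Ls r) = 1 := by
  induction Ls generalizing r with
  | nil =>
      refine ⟨hr, ?_⟩
      change R.den r ∈ R.span [] at hm
      rw [Rep.span, show R.den '' {g | g ∈ ([] : List ℕ)} = ∅ by simp, Subgroup.closure_empty,
        Subgroup.mem_bot] at hm
      exact hm
  | cons L Ls ih =>
      have hc' := hc
      rw [R.checkChain_cons, Bool.and_eq_true] at hc'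
      have h := R.levelOK_of_check hc'.1
      obtain ⟨j, hj, y, hy, e⟩ := R.decompose hc hm
      obtain ⟨hju, hjui, hjinv⟩ := h.entry_all j
      have hk : L.pos (R.act r L.base) = j := by
        have e1 := R.act_spec r _ hr h.base_lt
        rw [e, mul_smul, MulAction.mem_stabilizer_iff.mp (Rep.next_fixes h hy),
          R.act_spec _ _ hju h.base_lt] at e1
        rw [← R.pt_inj _ _ (R.act_lt _ _ hju h.base_lt) (R.act_lt _ _ hr h.base_lt) e1]
        exact (h.entries j hj).2.2.2.1
      rw [R.sift_cons, hk]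
      refine ih hc'.2 (R.ok_mul _ _ hjui hr) ?_
      rw [R.den_mul _ _ hjui hr, hjinv, e, inv_mul_cancel_left]
      exact hy

theorem syl2F_sift_ok {r : ℕ} (hr : rep24.Ok r) : ∀ (Ls : List Level),
    rep24.checkChain Ls = true → rep24.Ok (rep24.sift Ls r) := by
  intro Ls
  induction Ls generalizing r with
  | nil => exact fun _ => hr
  | cons L Ls ih =>
      intro hc
      rw [rep24.checkChain_cons, Bool.and_eq_true] at hc
      rw [rep24.sift_cons]
      exact ih (rep24.ok_mul _ _ ((rep24.levelOK_of_check hc.1).entry_all _).2.1 hr) hc.2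

theorem syl2F_self_normalizing {n : Equiv.Perm GolayPt} (hn : n ∈ M24)
    (h1' : ∀ a ∈ rep24.chainGroup syl2FChain, n * a * n⁻¹ ∈ rep24.chainGroup syl2FChain)
    (h2 : ∀ a ∈ rep24.chainGroup syl2FChain, n⁻¹ * a * n ∈ rep24.chainGroup syl2FChain) :
    n ∈ rep24.chainGroup syl2FChain := by
  have hgen : ∀ g ∈ topGens syl2FChain, rep24.den g ∈ rep24.chainGroup syl2FChain :=
    fun g hg => Subgroup.subset_closure ⟨g, hg, rfl⟩
  -- everything fixed by the group is moved to something fixed by the group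
  have hinv : ∀ {β : Type} [MulAction (Equiv.Perm GolayPt) β] (X : β),
      (∀ g ∈ topGens syl2FChain, rep24.den g • X = X) →
      ∀ g ∈ topGens syl2FChain, rep24.den g • n • X = n • X := by
    intro β _ X hX g hg
    have hsub : rep24.chainGroup syl2FChain ≤ MulAction.stabilizer (Equiv.Perm GolayPt) X := by
      rw [Rep.chainGroup, Rep.span, Subgroup.closure_le]
      rintro _ ⟨t, ht, rfl⟩
      exact hX t ht
    have h3 : (n⁻¹ * rep24.den g * n) • X = X := hsub (h2 _ (hgen g hg))
    rw [mul_smul, mul_smul, inv_smul_eq_iff] at h3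
    exact h3
  have hfix : ∀ {β : Type} [MulAction (Equiv.Perm GolayPt) β] (O : Obj rep24 β) (t : OTr)
      (root : ℕ), uniqFixB O t (topGens syl2FChain) root = true → O.Good root →
      ∀ g ∈ topGens syl2FChain, rep24.den g • O.dec root = O.dec root := by
    intro β _ O t root h hr g hg
    simp only [uniqFixB, Bool.and_eq_true, List.all_eq_true, Nat.beq_eq] at h
    rw [O.act_dec _ _ (rep24.okb_sound _ (h.1 g hg).1) hr, (h.1 g hg).2]
  have hOgood : ∀ c ∈ cfgOctTree.codes, c < 2 ^ 24 :=
    Obj.stab_good (O := maskObj) cfgOct_stab roots_lt.1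
  have hTgood : ∀ c ∈ cfgTrioTree.codes, (famObj 3).Good c :=
    Obj.stab_good (O := famObj 3) cfgTrio_stab (goodFam_of_check cfgTrio_good)
  have hO : n • suppM cfgOctRoot = suppM cfgOctRoot :=
    eq_root_of_uniqFix syl2F_uniqOct hOgood (octads_eq_orbit.trans octStab_spec.2.2.1)
      (smul_mem_wordsOfWeight hn
        (show suppM cfgOctRoot ∈ octads by
          rw [octads_eq_orbit]; exact MulAction.mem_orbit_self _))
      (hinv _ (hfix maskObj _ _ syl2F_uniqOct roots_lt.1))
  have hTmem : decFam 3 cfgOctTrioRoot ∈ trios := by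
    rw [trioCodes_eq]
    exact ⟨_, OTr.mem_codes_of_memB octTrioRoot_mem, rfl⟩
  have hT : n • decFam 3 cfgOctTrioRoot = decFam 3 cfgOctTrioRoot :=
    eq_root_of_uniqFix syl2F_uniqTrio hTgood trioCodes_eq (smul_mem_trios hn hTmem)
      (hinv _ (hfix (famObj 3) _ _ syl2F_uniqTrio root_good_OctTrio))
  have hK : n ∈ rep24.chainGroup cfgOctTrioChain := by
    rw [← stabOctTrio_spec.2.1, ← octStab_spec.2.1]
    exact ⟨⟨hn, hO⟩, hT⟩
  obtain ⟨hrows, hKok⟩ := syl2F_cosets
  simp only [List.all_eq_true] at hKok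
  have hrow := fun k (hk : k < 21) => allBelow_eq_true.mp hrows k hk
  simp only [sylRowB, Bool.and_eq_true, Bool.or_eq_true, Nat.beq_eq, Nat.blt_eq,
    allBelow_eq_true] at hrow
  set P := rep24.chainGroup syl2FChain with hP
  let S : Set (Equiv.Perm GolayPt) := {x | ∃ k < 21, x * (rep24.den (sylRow k).1)⁻¹ ∈ P}
  have hinvk : ∀ k < 21, rep24.Ok (sylRow k).1 ∧ rep24.Ok (sylRow k).2.1 ∧
      rep24.den (sylRow k).2.1 = (rep24.den (sylRow k).1)⁻¹ := by
    intro k hk
    obtain ⟨⟨⟨⟨h1, h2⟩, h3⟩, -⟩, -⟩ := hrow k hk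
    refine ⟨rep24.okb_sound _ h1, rep24.okb_sound _ h2, eq_inv_of_mul_eq_one_left ?_⟩
    rw [← rep24.den_mul _ _ (rep24.okb_sound _ h2) (rep24.okb_sound _ h1), h3, rep24.den_one]
  have step : ∀ x ∈ S, ∀ s ∈ topGens cfgOctTrioChain, x * rep24.den s ∈ S := by
    rintro x ⟨k, hk, hxk⟩ s hs
    obtain ⟨j, hj, rfl⟩ := List.getElem_of_mem hs
    obtain ⟨hk', hsift⟩ := (hrow k hk).2 j hj
    rw [List.getD_eq_getElem _ _ hj] at hsift
    obtain ⟨hr1, -, -⟩ := hinvk k hk
    obtain ⟨-, hr2, hr2i⟩ := hinvk _ hk'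
    have hsok := rep24.okb_sound _ (hKok _ hs)
    have hm := rep24.mem_of_sift _ syl2F_checks.1
      (rep24.ok_mul _ _ (rep24.ok_mul _ _ hr1 hsok) hr2) hsift
    rw [rep24.den_mul _ _ (rep24.ok_mul _ _ hr1 hsok) hr2, rep24.den_mul _ _ hr1 hsok, hr2i] at hm
    refine ⟨_, hk', ?_⟩
    have := mul_mem hxk hm
    simpa [mul_assoc] using this
  have hSfin : ∀ x ∈ rep24.chainGroup cfgOctTrioChain, ∀ z ∈ S, z * x ∈ S := by
    intro x hx
    refine Subgroup.closure_induction (p := fun y _ => ∀ z ∈ S, z * y ∈ S) ?_ ?_ ?_ ?_ hx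
    · rintro _ ⟨s, hs, rfl⟩ z hz; exact step z hz s hs
    · intro z hz; rwa [mul_one]
    · intro y y' _ _ hy hy' z hz; rw [← mul_assoc]; exact hy' _ (hy z hz)
    · intro y _ hy z hz
      have hpow : ∀ m : ℕ, ∀ z ∈ S, z * y ^ m ∈ S := by
        intro m
        induction m with
        | zero => intro z hz; rwa [pow_zero, mul_one]
        | succ m ih => intro z hz; rw [pow_succ, ← mul_assoc]; exact hy _ (ih z hz)
      rw [inv_eq_of_mul_eq_one_right (b := y ^ (orderOf y - 1)) (by
        rw [← pow_succ', Nat.sub_add_cancel (orderOf_pos y), pow_orderOf_eq_one])]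
      exact hpow _ z hz
  have h01 : (sylRow 0).1 = rep24.one := rfl
  have h1 : (1 : Equiv.Perm GolayPt) ∈ S :=
    ⟨0, by norm_num, by rw [h01, rep24.den_one, inv_one, one_mul]; exact one_mem _⟩
  obtain ⟨k, hk, hpk⟩ := hSfin n hK 1 h1
  rw [one_mul] at hpk
  obtain ⟨hr, hri, hrie⟩ := hinvk k hk
  rcases (hrow k hk).1.2 with ⟨-, h⟩ | ⟨hg, hdif⟩
  · rw [h, rep24.den_one, inv_one, mul_one] at hpk
    exact hpk
  · exfalso
    rw [List.getD_eq_getElem _ _ hg] at hdif
    set g := (topGens syl2FChain)[(sylRow k).2.2.1] with hgdef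
    have hgm : g ∈ topGens syl2FChain := List.getElem_mem hg
    have hgok : rep24.Ok g :=
      (mem_M24_of_check (List.all_eq_true.mp syl2F_checks.2.1 g hgm)).1
    set p := n * (rep24.den (sylRow k).1)⁻¹ with hp
    have hmem : rep24.den (rep24.mul (rep24.mul (sylRow k).1 g) (sylRow k).2.1) ∈ P := by
      rw [rep24.den_mul _ _ (rep24.ok_mul _ _ hr hgok) hri, rep24.den_mul _ _ hr hgok, hrie,
        show rep24.den (sylRow k).1 * rep24.den g * (rep24.den (sylRow k).1)⁻¹ =
          p⁻¹ * (n * rep24.den g * n⁻¹) * p by rw [hp]; group]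
      exact mul_mem (mul_mem (inv_mem hpk) (h1' _ (hgen g hgm))) hpk
    obtain ⟨hok', hden⟩ := rep24.den_sift_of_mem _ syl2F_checks.1
      (rep24.ok_mul _ _ (rep24.ok_mul _ _ hr hgok) hri) hmem
    exact den_ne_of_difB hok' rep24.ok_one hdif (hden.trans rep24.den_one.symm)

end Cfsg.Agent.Compute
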