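/-
The pointwise and setwise stabiliser of two points.
-/
import Cfsg.Agent.Compute.Mathieu
import Cfsg.Agent.Compute.MathieuMaximal
import Cfsg.Agent.Compute.Labels

set_option autoImplicit false

namespace Cfsg.Agent.Compute

open Cfsg
open scoped Pointwise

theorem suppM_pairRoot : suppM cfgPairRoot = {(none : GolayPt), some 0} := by
  have h : cfgPairRoot = 2 ^ 23 ||| 2 ^ 0 := by decide +kernel
  rw [h, suppM_or]
  ext p
  simp only [Finset.mem_union, mem_suppM, Nat.testBit_two_pow, decide_eq_true_eq, Finset.mem_insert,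
    Finset.mem_singleton]
  rw [← rep24_pt23, ← rep24_pt0]
  constructor
  · rintro (h | h) <;> [left; right] <;> rw [h, rep24_pt_ptIdx]
  · rintro (h | h) <;> [left; right] <;> rw [h, ptIdx_rep24 (by norm_num)]

theorem card_stab_pairRoot :
    Nat.card ↥(M24 ⊓ MulAction.stabilizer (Equiv.Perm GolayPt)
      ({none, some 0} : Finset GolayPt)) = 887040 := by
  have h := card_stab_mul (H := M24) (x := suppM cfgPairRoot)
  rw [pairStab_spec.2.2.2, card_m24, suppM_pairRoot] at h
  omega

theorem sep_octad : (List.range 4096).any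
    (fun k => Nat.beq (popBits 24 (cw k)) 8 && bitB (cw k) 23 && !(bitB (cw k) 0)) = true := by
  decide +kernel

theorem swap_not_mem : Equiv.swap (none : GolayPt) (some 0) ∉ M24 := by
  intro hc
  obtain ⟨k, hk, hb⟩ := List.any_eq_true.mp sep_octad
  simp only [Bool.and_eq_true, Bool.not_eq_true', Nat.beq_eq, bitB_eq] at hb
  obtain ⟨⟨h8, h23⟩, h0⟩ := hb
  have ho := suppM_cw_mem_octads (List.mem_range.mp hk) h8
  have hn : (none : GolayPt) ∈ suppM (cw k) := by
    rw [← rep24_pt23, mem_suppM, ptIdx_rep24 (by norm_num)]; exact h23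
  have h0' : (some 0 : GolayPt) ∉ suppM (cw k) := by
    rw [← rep24_pt0, mem_suppM, ptIdx_rep24 (by norm_num), h0]; simp
  have hcard := (ho.2 : (suppM (cw k)).card = 8)
  have he := octad_eq_of_inter (smul_mem_wordsOfWeight hc ho) ho ?_
  · refine h0' ?_
    rw [← he, ← Finset.inv_smul_mem_iff, Equiv.swap_inv, Equiv.Perm.smul_def,
      Equiv.swap_apply_right]
    exact hn
  · refine le_trans ?_ (Finset.card_le_card (show (suppM (cw k)).erase none ⊆
      Equiv.swap (none : GolayPt) (some 0) • suppM (cw k) ∩ suppM (cw k) from fun p hp => ?_))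
    · rw [Finset.card_erase_of_mem hn, hcard]; norm_num
    · obtain ⟨hne, hmem⟩ := Finset.mem_erase.mp hp
      refine Finset.mem_inter.mpr ⟨?_, hmem⟩
      rw [← Finset.inv_smul_mem_iff, Equiv.swap_inv, Equiv.Perm.smul_def,
        Equiv.swap_apply_of_ne_of_ne hne (fun (e : p = some 0) => h0' (e ▸ hmem))]
      exact hmem

theorem moves_base3 : (List.range m24aL3.size).any (fun i =>
    !(Nat.beq (rep24.act (rep24.entry m24aL3 i).u m24aL3.base) m24aL3.base)) = true := by
  decide +kernel

theorem m22_conj_not_inner {g : Equiv.Perm GolayPt} (hg : g ∈ M24) (h₁ : g none = some 0)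
    (h₂ : g (some 0) = none) :
    ¬ ∃ h ∈ Spor.M22, ∀ x ∈ Spor.M22, g * x * g⁻¹ = h * x * h⁻¹ := by
  rintro ⟨h, hh, hcomm⟩
  have hcM : h⁻¹ * g ∈ M24 := mul_mem (inv_mem hh.1.1) hg
  have hcx : ∀ x ∈ Spor.M22, ∀ p, (h⁻¹ * g) (x p) = x ((h⁻¹ * g) p) := by
    intro x hx p
    have e : h⁻¹ * g * x = x * (h⁻¹ * g) := by
      calc h⁻¹ * g * x = h⁻¹ * (g * x * g⁻¹) * g := by group
        _ = h⁻¹ * (h * x * h⁻¹) * g := by rw [hcomm x hx]
        _ = x * (h⁻¹ * g) := by group
    exact Equiv.congr_fun e p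
  have hfix : ∀ q : GolayPt, h q = q → h⁻¹ q = q := fun q hq => by
    rw [Equiv.Perm.inv_eq_iff_eq]; exact hq.symm
  have hcn : (h⁻¹ * g) none = some 0 := by
    rw [Equiv.Perm.mul_apply, h₁]; exact hfix _ hh.2
  have hc0 : (h⁻¹ * g) (some 0) = none := by
    rw [Equiv.Perm.mul_apply, h₂]; exact hfix _ hh.1.2
  obtain ⟨b0, b1, b2, b3, b4, b5, b6⟩ := bases_m24a
  have hc2 := Rep.checkChain_tail (Rep.checkChain_tail m24a_check)
  have hc1pt : (h⁻¹ * g) (rep24.pt 1) = rep24.pt 1 := by
    by_contra hne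
    have hout : ¬ (0x800003 : ℕ).testBit (ptIdx ((h⁻¹ * g) (rep24.pt 1))) = true := by
      intro hb
      have hq : (h⁻¹ * g) (rep24.pt 1) = none ∨ (h⁻¹ * g) (rep24.pt 1) = some 0 ∨
          (h⁻¹ * g) (rep24.pt 1) = rep24.pt 1 := by
        have hlt := ptIdx_lt ((h⁻¹ * g) (rep24.pt 1))
        have : ptIdx ((h⁻¹ * g) (rep24.pt 1)) = 23 ∨ ptIdx ((h⁻¹ * g) (rep24.pt 1)) = 0 ∨
            ptIdx ((h⁻¹ * g) (rep24.pt 1)) = 1 := by
          revert hb hlt
          generalize ptIdx ((h⁻¹ * g) (rep24.pt 1)) = i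
          intro hb hlt
          interval_cases i <;> simp_all (config := { decide := true })
        rcases this with e | e | e
        · left; rw [← rep24_pt23, ← e, rep24_pt_ptIdx]
        · right; left; rw [← rep24_pt0, ← e, rep24_pt_ptIdx]
        · right; right; exact (rep24_pt_ptIdx _).symm.trans (congrArg rep24.pt e)
      rcases hq with e | e | e
      · have := congrArg ptIdx ((h⁻¹ * g).injective (e.trans hc0.symm))
        rw [← rep24_pt0, ptIdx_rep24 (by norm_num), ptIdx_rep24 (by norm_num)] at this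
        omega
      · have := congrArg ptIdx ((h⁻¹ * g).injective (e.trans hcn.symm))
        rw [← rep24_pt23, ptIdx_rep24 (by norm_num), ptIdx_rep24 (by norm_num)] at this
        omega
      · exact hne e
    -- the stabiliser of three points moves every other point
    have hc3 : rep24.checkChain (m24aL3 :: [m24aL4, m24aL5, m24aL6]) = true :=
      Rep.checkChain_tail hc2
    have hlev := rep24.levelOK_of_check
      (by rw [rep24.checkChain_cons, Bool.and_eq_true] at hc3; exact hc3.1)
    have hmemj : ∀ i, rep24.den (rep24.entry m24aL3 i).u ∈ Spor.M22 ∧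
        rep24.den (rep24.entry m24aL3 i).u (rep24.pt 1) = rep24.pt 1 := by
      intro i
      have h1 : rep24.den (rep24.entry m24aL3 i).u ∈
          rep24.chainGroup (m24aL3 :: [m24aL4, m24aL5, m24aL6]) := hlev.entry_mem i
      rw [← Rep.chainGroup_inf_stabilizer (L := m24aL2) hc2 b2] at h1
      rw [m22_eq]
      exact ⟨h1.1, h1.2⟩
    have key : ∀ i,
        rep24.den (rep24.entry m24aL3 i).u ((h⁻¹ * g) (rep24.pt 1)) = (h⁻¹ * g) (rep24.pt 1) :=
      fun i => by rw [← hcx _ (hmemj i).1, (hmemj i).2]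
    have hbase : ∀ i, i < m24aL3.size →
        rep24.den (rep24.entry m24aL3 i).u (rep24.pt m24aL3.base) =
          rep24.pt (rep24.act (rep24.entry m24aL3 i).u m24aL3.base) :=
      fun i hi => rep24.act_spec _ _ (hlev.entry_all i).1 hlev.base_lt
    obtain ⟨j, hj, hjq⟩ := orbit_of_cover cover3 _ hout
    have hq : (h⁻¹ * g) (rep24.pt 1) = rep24.pt m24aL3.base := by
      apply (rep24.den (rep24.entry m24aL3 j).u).injective
      rw [key j, hbase j hj, ← hjq]
    obtain ⟨i, hi, hne2⟩ := List.any_eq_true.mp moves_base3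
    rw [List.mem_range] at hi
    simp only [Bool.not_eq_true', ← Bool.not_eq_true, Nat.beq_eq] at hne2
    refine hne2 (rep24.pt_inj _ _ (rep24.act_lt _ _ (hlev.entry_all i).1 hlev.base_lt)
      hlev.base_lt ?_)
    rw [← hbase i hi, ← hq, key i]
  refine swap_not_mem ?_
  have e : h⁻¹ * g = Equiv.swap (none : GolayPt) (some 0) := by
    refine Equiv.ext fun p => ?_
    by_cases hp : p = none
    · rw [hp, hcn, Equiv.swap_apply_left]
    by_cases hp0 : p = some 0
    · rw [hp0, hc0, Equiv.swap_apply_right]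
    rw [Equiv.swap_apply_of_ne_of_ne hp hp0]
    obtain ⟨j, hj, rfl⟩ := orbit_of_cover cover2 p (by
      intro hb
      have hlt := ptIdx_lt p
      have : ptIdx p = 23 ∨ ptIdx p = 0 := by
        revert hb hlt
        generalize ptIdx p = i
        intro hb hlt
        interval_cases i <;> simp_all (config := { decide := true })
      rcases this with e | e
      · exact hp (by rw [← rep24_pt_ptIdx p, e, rep24_pt23])
      · exact hp0 (by rw [← rep24_pt_ptIdx p, e, rep24_pt0]))
    have hc2' : rep24.checkChain (m24aL2 :: [m24aL3, m24aL4, m24aL5, m24aL6]) = true := hc2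
    have hlev := rep24.levelOK_of_check
      (by rw [rep24.checkChain_cons, Bool.and_eq_true] at hc2'; exact hc2'.1)
    have hm : rep24.den (rep24.entry m24aL2 j).u ∈ Spor.M22 := by
      rw [m22_eq]; exact hlev.entry_mem j
    have := rep24.act_spec _ m24aL2.base (hlev.entry_all j).1 hlev.base_lt
    rw [b2] at this
    rw [b2, ← this]
    change (h⁻¹ * g) (rep24.den _ (rep24.pt 1)) = rep24.den _ (rep24.pt 1)
    rw [hcx _ hm, hc1pt]
  exact e ▸ hcM

end Cfsg.Agent.Compute
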