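/- Generated data: Affine coordinates outside the octad of an involution. -/
import Cfsg.Agent.Compute.Perm

set_option autoImplicit false
set_option linter.all false

namespace Cfsg.Agent.Compute

/-- Homogeneous affine coordinates of the points, as five-bit masks. -/
def invACoord : List ℕ := [0, 2, 15, 23, 0, 0, 0, 22, 14, 30, 10, 31, 6, 11, 0, 0, 7, 0, 0, 19, 3, 18, 27, 26]

/-- Points with coordinates spanning the five-space. -/
def invABasePts : List ℕ := [20, 1, 12, 10, 21]

/-- The matrices (columns as masks) of the generators of the centraliser. -/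
def invAMats : List (ℕ × List ℕ) := [(0x9d5ac518942c9211acf7401ee15a11, [1, 7, 5, 24, 12]), (0x536960b88c91ab03cc684bcb158ae0, [1, 26, 29, 9, 25]), (0x40874390ac7c6f0559a9ab8d29ac20, [1, 2, 5, 25, 21]), (0x640743c8a989aabbcec8511ee68820, [1, 2, 29, 17, 21]), (0xace1461637910f650da84b9e658820, [1, 2, 25, 21, 5])]

end Cfsg.Agent.Compute
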