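/-
The centraliser of an involution with eight fixed points as a matrix group of degree five.
-/
import Cfsg.Agent.Compute.CentInvolutions
import Cfsg.Agent.Compute.InvACoordData
import Mathlib.LinearAlgebra.Matrix.SpecialLinearGroup
import Mathlib.LinearAlgebra.Matrix.Transvection

set_option autoImplicit false

namespace Cfsg.Agent.Compute

open Cfsg
open scoped Pointwise

/-- The field with two elements. -/
abbrev F₂ := ZMod 2

/-- The matrices of degree five over the field with two elements of determinant one. -/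
abbrev SL5 := Matrix.SpecialLinearGroup (Fin 5) F₂

/-- A vector from a mask. -/
def maskVec (m : ℕ) : Fin 5 → F₂ := fun i => if m.testBit i then 1 else 0

/-- A matrix from the masks of its columns. -/
def colsMat (cols : List ℕ) : Matrix (Fin 5) (Fin 5) F₂ :=
  Matrix.of fun i j => maskVec (cols.getD j 0) i

/-- The coordinates of a point. -/
noncomputable def coordVec (p : GolayPt) : Fin 5 → F₂ := maskVec (invACoord.getD (ptIdx p) 0)

/-- The points outside the octad. -/
def Outside (p : GolayPt) : Prop := centInvARoot.testBit (ptIdx p) = false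

/-- Multiplication of a column matrix and a mask. -/
def mulMask (cols : List ℕ) (m : ℕ) : ℕ :=
  Nat.rec (motive := fun _ => ℕ) 0
    (fun j r => cond (bitB m j) (Nat.xor r (cols.getD j 0)) r) 5

theorem maskVec_xor (a b : ℕ) : maskVec (a ^^^ b) = maskVec a + maskVec b := by
  funext i
  simp only [maskVec, Nat.testBit_xor, Pi.add_apply]
  cases a.testBit i <;> cases b.testBit i <;> simp <;> decide

theorem mulMask_spec (cols : List ℕ) (m : ℕ) :
    maskVec (mulMask cols m) = (colsMat cols).mulVec (maskVec m) := by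
  funext i
  rw [Matrix.mulVec, dotProduct, Fin.sum_univ_five]
  have key : ∀ (r j : ℕ), maskVec (cond (bitB m j) (Nat.xor r (cols.getD j 0)) r) i =
      maskVec r i + maskVec (cols.getD j 0) i * (if m.testBit j then (1 : F₂) else 0) := by
    intro r j
    rw [bitB_eq]
    cases m.testBit j
    · simp
    · rw [cond_true, show Nat.xor r (cols.getD j 0) = r ^^^ cols.getD j 0 from rfl, maskVec_xor]
      simp
  change maskVec (cond (bitB m 4) (Nat.xor (cond (bitB m 3) (Nat.xor (cond (bitB m 2) (Nat.xor
    (cond (bitB m 1) (Nat.xor (cond (bitB m 0) (Nat.xor 0 (cols.getD 0 0)) 0) (cols.getD 1 0))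
      (cond (bitB m 0) (Nat.xor 0 (cols.getD 0 0)) 0)) (cols.getD 2 0)) _) (cols.getD 3 0)) _)
        (cols.getD 4 0)) _) i = _
  rw [key, key, key, key, key, show maskVec 0 i = 0 by simp [maskVec], zero_add]
  rfl

theorem invA_coord_checks :
    allBelow 24 (fun a => allBelow 24 (fun b => Nat.beq a b || bitB centInvARoot a ||
      bitB centInvARoot b || !(Nat.beq (invACoord.getD a 0) (invACoord.getD b 0)))) = true ∧
    allBelow 24 (fun a => bitB centInvARoot a || Nat.blt (invACoord.getD a 0) 32) = true ∧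
    invABasePts.map (fun b => invACoord.getD b 0) = [3, 2, 6, 10, 18] ∧
    invABasePts.all (fun b => Nat.blt b 24 && !(bitB centInvARoot b)) = true ∧
    invAMats.all (fun e => rep24.okb e.1 && Nat.beq (imgMask e.1 centInvARoot) centInvARoot &&
      allBelow 24 (fun i => bitB centInvARoot i ||
        Nat.beq (mulMask e.2 (invACoord.getD i 0)) (invACoord.getD (rep24.act e.1 i) 0))) = true ∧
    (topGens centInvAChain).all (fun g => invAMats.any (fun e => Nat.beq e.1 g)) = true ∧
    allBelow 24 (fun i => bitB centInvARoot i ||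
      Nat.beq (invACoord.getD (rep24.act (invRep 0) i) 0) (Nat.xor (invACoord.getD i 0) 1)) =
      true := by decide +kernel

theorem invA_det : ∀ e ∈ invAMats, (colsMat e.2).det = 1 := by
  intro e he
  fin_cases he <;> decide +kernel

theorem invA_faithful_check : (rep24.chainElems centInvAChain).all (fun c =>
    idB c || !(allBelow 24 (fun i => bitB centInvARoot i || Nat.beq (rep24.act c i) i))) = true := by
  decide +kernel

theorem coord_bit1 : allBelow 24 (fun a => bitB centInvARoot a ||
    bitB (invACoord.getD a 0) 1) = true := by decide +kernel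

theorem maskVec_inj {a b : ℕ} (ha : a < 32) (hb : b < 32) (h : maskVec a = maskVec b) : a = b := by
  apply Nat.eq_of_testBit_eq
  intro i
  by_cases hi : i < 5
  · have h2 := congrFun h ⟨i, hi⟩
    simp only [maskVec] at h2
    cases ha' : a.testBit i <;> cases hb' : b.testBit i <;> simp_all
  · have e : ∀ c, c < 32 → c.testBit i = false := fun c hc =>
      Nat.testBit_lt_two_pow (lt_of_lt_of_le hc
        (show 32 ≤ 2 ^ i from le_trans (by norm_num) (Nat.pow_le_pow_right (by norm_num)
          (show 5 ≤ i by omega))))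
    rw [e a ha, e b hb]

theorem coordVec_inj {p q : GolayPt} (hp : Outside p) (hq : Outside q)
    (h : coordVec p = coordVec q) : p = q := by
  have hlt : ∀ r : GolayPt, Outside r → invACoord.getD (ptIdx r) 0 < 32 := fun r hr => by
    have := allBelow_eq_true.mp invA_coord_checks.2.1 _ (ptIdx_lt r)
    rw [bitB_eq, Bool.or_eq_true, Nat.blt_eq] at this
    rcases this with h1 | h1
    · rw [show centInvARoot.testBit (ptIdx r) = false from hr] at h1
      exact Bool.noConfusion h1
    · exact h1
  have he := maskVec_inj (hlt p hp) (hlt q hq) h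
  have := allBelow_eq_true.mp (allBelow_eq_true.mp invA_coord_checks.1 _ (ptIdx_lt p)) _ (ptIdx_lt q)
  simp only [bitB_eq, Bool.or_eq_true, Nat.beq_eq, Bool.not_eq_true'] at this
  rcases this with ((h1 | h1) | h1) | h1
  · exact ptIdx_injective h1
  · rw [show centInvARoot.testBit (ptIdx p) = false from hp] at h1; exact Bool.noConfusion h1
  · rw [show centInvARoot.testBit (ptIdx q) = false from hq] at h1; exact Bool.noConfusion h1
  · rw [← Bool.not_eq_true, Nat.beq_eq] at h1; exact absurd he h1

/-- Permutations together with their matrices on the coordinates. -/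
noncomputable def affPairs : Submonoid (Equiv.Perm GolayPt × SL5) where
  carrier := {x | ∀ p, Outside p → Outside (x.1 p) ∧
    (x.2 : Matrix (Fin 5) (Fin 5) F₂).mulVec (coordVec p) = coordVec (x.1 p)}
  one_mem' := fun p hp => ⟨hp, by simp⟩
  mul_mem' := by
    intro x y hx hy p hp
    obtain ⟨h1, h2⟩ := hy p hp
    obtain ⟨h3, h4⟩ := hx _ h1
    refine ⟨h3, ?_⟩
    rw [Prod.snd_mul, Matrix.SpecialLinearGroup.coe_mul, ← Matrix.mulVec_mulVec, h2, h4]
    rfl

theorem exists_affPair {g : Equiv.Perm GolayPt} (hg : g ∈ rep24.chainGroup centInvAChain) :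
    ∃ M : SL5, (g, M) ∈ affPairs := by
  obtain ⟨-, -, -, -, hm, hcov, -⟩ := invA_coord_checks
  have hgen : ∀ t ∈ topGens centInvAChain, ∃ M : SL5, (rep24.den t, M) ∈ affPairs := by
    intro t ht
    obtain ⟨e, he, het⟩ := List.any_eq_true.mp (List.all_eq_true.mp hcov t ht)
    rw [Nat.beq_eq] at het
    subst het
    have h := List.all_eq_true.mp hm e he
    simp only [Bool.and_eq_true, Nat.beq_eq, allBelow_eq_true, Bool.or_eq_true, bitB_eq] at h
    obtain ⟨⟨hok, himg⟩, hact⟩ := h
    have hok' := rep24.okb_sound _ hok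
    refine ⟨⟨colsMat e.2, invA_det e he⟩, fun p hp => ?_⟩
    have hp' : centInvARoot.testBit (ptIdx p) = false := hp
    refine ⟨?_, ?_⟩
    · have h2 := testBit_imgMask (m := centInvARoot) hok' p
      rw [himg, hp'] at h2
      exact h2
    · rcases hact _ (ptIdx_lt p) with h1 | h1
      · rw [hp'] at h1; exact Bool.noConfusion h1
      · change (colsMat e.2).mulVec (maskVec _) = maskVec _
        rw [← mulMask_spec, h1]
        change maskVec _ = maskVec (invACoord.getD (ptIdx (rep24.den e.1 p)) 0)
        rw [ptIdx_den hok']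
  refine Subgroup.closure_induction (p := fun g _ => ∃ M : SL5, (g, M) ∈ affPairs) ?_ ?_ ?_ ?_ hg
  · rintro _ ⟨t, ht, rfl⟩; exact hgen t ht
  · exact ⟨1, one_mem _⟩
  · rintro a b - - ⟨A, hA⟩ ⟨B, hB⟩; exact ⟨A * B, mul_mem hA hB⟩
  · rintro a - ⟨A, hA⟩
    refine ⟨A⁻¹, ?_⟩
    have hinv : ((a⁻¹, A⁻¹) : Equiv.Perm GolayPt × SL5) = (a, A) ^ (orderOf (a, A) - 1) := by
      change ((a, A) : Equiv.Perm GolayPt × SL5)⁻¹ = _
      rw [inv_eq_iff_mul_eq_one, ← pow_succ',
        Nat.sub_add_cancel (orderOf_pos ((a, A) : Equiv.Perm GolayPt × SL5)), pow_orderOf_eq_one]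
    rw [hinv]
    exact pow_mem hA _

theorem basePt_spec (j : Fin 5) :
    ∃ p, Outside p ∧ coordVec p = maskVec (([3, 2, 6, 10, 18] : List ℕ).getD j 0) := by
  obtain ⟨-, -, hmap, hout, -⟩ := invA_coord_checks
  have hlen : invABasePts.length = 5 := by
    have := congrArg List.length hmap
    simpa using this
  have hj : (j : ℕ) < invABasePts.length := hlen.symm ▸ j.2
  have h := List.all_eq_true.mp hout _ (List.getElem_mem hj)
  simp only [Bool.and_eq_true, Nat.blt_eq, Bool.not_eq_true', bitB_eq] at h
  refine ⟨rep24.pt invABasePts[(j : ℕ)], ?_, ?_⟩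
  · change centInvARoot.testBit _ = false
    rw [ptIdx_rep24 h.1, h.2]
  · have h2 := congrArg (fun l => l.getD (j : ℕ) 0) hmap
    change (List.map _ invABasePts).getD (j : ℕ) 0 = _ at h2
    rw [List.getD_eq_getElem _ _ (by rw [List.length_map]; exact hj), List.getElem_map] at h2
    rw [coordVec, ptIdx_rep24 h.1, h2]

theorem affPair_unique {g : Equiv.Perm GolayPt} {M N : SL5} (hM : (g, M) ∈ affPairs)
    (hN : (g, N) ∈ affPairs) : M = N := by
  have h : ∀ j : Fin 5,
      (M : Matrix (Fin 5) (Fin 5) F₂).mulVec (maskVec (([3, 2, 6, 10, 18] : List ℕ).getD j 0)) =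
      (N : Matrix (Fin 5) (Fin 5) F₂).mulVec (maskVec (([3, 2, 6, 10, 18] : List ℕ).getD j 0)) := by
    intro j
    obtain ⟨p, hp, hpc⟩ := basePt_spec j
    rw [← hpc, (hM p hp).2, (hN p hp).2]
  apply Subtype.ext
  ext i j
  have e2 : ∀ A : Matrix (Fin 5) (Fin 5) F₂,
      (A.mulVec (maskVec 2)) i = A i 1 ∧ (A.mulVec (maskVec 3)) i = A i 0 + A i 1 ∧
      (A.mulVec (maskVec 6)) i = A i 1 + A i 2 ∧ (A.mulVec (maskVec 10)) i = A i 1 + A i 3 ∧
      (A.mulVec (maskVec 18)) i = A i 1 + A i 4 := fun A => by
    refine ⟨?_, ?_, ?_, ?_, ?_⟩ <;>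
      simp [Matrix.mulVec, dotProduct, Fin.sum_univ_five, maskVec, Nat.testBit, Nat.shiftRight_eq_div_pow]
  have h0 := congrFun (h 0) i
  have h1 := congrFun (h 1) i
  have h2 := congrFun (h 2) i
  have h3 := congrFun (h 3) i
  have h4 := congrFun (h 4) i
  obtain ⟨a1, a0, a2, a3, a4⟩ := e2 (M : Matrix (Fin 5) (Fin 5) F₂)
  obtain ⟨b1, b0, b2, b3, b4⟩ := e2 (N : Matrix (Fin 5) (Fin 5) F₂)
  change (((M : Matrix (Fin 5) (Fin 5) F₂)).mulVec (maskVec 2)) i = _ at h1
  change (((M : Matrix (Fin 5) (Fin 5) F₂)).mulVec (maskVec 3)) i = _ at h0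
  change (((M : Matrix (Fin 5) (Fin 5) F₂)).mulVec (maskVec 6)) i = _ at h2
  change (((M : Matrix (Fin 5) (Fin 5) F₂)).mulVec (maskVec 10)) i = _ at h3
  change (((M : Matrix (Fin 5) (Fin 5) F₂)).mulVec (maskVec 18)) i = _ at h4
  rw [a1] at h1
  rw [a0] at h0
  rw [a2] at h2
  rw [a3] at h3
  rw [a4] at h4
  have k1 : (M : Matrix (Fin 5) (Fin 5) F₂) i 1 = (N : Matrix (Fin 5) (Fin 5) F₂) i 1 :=
    h1.trans b1
  have e0 := h0.trans b0
  have e2 := h2.trans b2
  have e3 := h3.trans b3
  have e4 := h4.trans b4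
  rw [k1] at e0 e2 e3 e4
  fin_cases j
  · exact add_right_cancel e0
  · exact k1
  · exact add_left_cancel e2
  · exact add_left_cancel e3
  · exact add_left_cancel e4

theorem invA_check : rep24.checkChain centInvAChain = true := by
  have h := invA_checks.2.1
  simp only [commB, Bool.and_eq_true] at h
  exact h.1

theorem affPair_faithful {g g' : Equiv.Perm GolayPt} {M : SL5}
    (hg : g ∈ rep24.chainGroup centInvAChain) (hg' : g' ∈ rep24.chainGroup centInvAChain)
    (hM : (g, M) ∈ affPairs) (hM' : (g', M) ∈ affPairs) : g = g' := by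
  have hfix : ∀ p, Outside p → (g⁻¹ * g') p = p := fun p hp => by
    have e : g p = g' p :=
      coordVec_inj (hM p hp).1 (hM' p hp).1 ((hM p hp).2.symm.trans (hM' p hp).2)
    rw [Equiv.Perm.mul_apply, ← e, ← Equiv.Perm.mul_apply, inv_mul_cancel, Equiv.Perm.one_apply]
  obtain ⟨c, hc, hok, hden⟩ := rep24.exists_elem _ invA_check (mul_mem (inv_mem hg) hg')
  have h := List.all_eq_true.mp invA_faithful_check c hc
  rw [Bool.or_eq_true, Bool.not_eq_true'] at h
  rcases h with h | h
  · rw [idB_iff hok, hden, inv_mul_eq_one] at h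
    exact h
  · rw [← Bool.not_eq_true, allBelow_eq_true] at h
    refine absurd (fun i hi => ?_) h
    rw [Bool.or_eq_true, bitB_eq, Nat.beq_eq]
    by_cases hb : centInvARoot.testBit i = true
    · exact Or.inl hb
    · right
      have ho : Outside (rep24.pt i) := by
        change centInvARoot.testBit _ = false
        rw [ptIdx_rep24 hi]
        simpa using hb
      have h2 := congrArg ptIdx (hfix _ ho)
      rwa [← hden, ptIdx_den hok, ptIdx_rep24 hi] at h2

/-- The transvection of degree five with top right entry one in the first two coordinates. -/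
abbrev transMat : SL5 := ⟨Matrix.transvection 0 1 1, Matrix.det_transvection_of_ne _ _ (by decide) _⟩

theorem rep_affPair : (rep24.den (invRep 0), transMat) ∈ affPairs := by
  intro p hp
  obtain ⟨-, -, -, -, -, -, hs⟩ := invA_coord_checks
  have hp' : centInvARoot.testBit (ptIdx p) = false := hp
  have hfix : fixMask (invRep 0) = centInvARoot := by
    have h3 := invA_checks.2.2
    simp only [Bool.and_eq_true, Nat.beq_eq] at h3
    exact h3.1.1
  refine ⟨?_, ?_⟩
  · change centInvARoot.testBit _ = false
    rw [← Bool.not_eq_true, ← mem_suppM, ← hfix, ← fixFilter_rep (rep_ok 0).1, Finset.mem_filter]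
    intro h
    have := (rep24.den (invRep 0)).injective h.2
    have hm : p ∈ suppM (fixMask (invRep 0)) := by
      rw [← fixFilter_rep (rep_ok 0).1, Finset.mem_filter]; exact ⟨Finset.mem_univ _, this⟩
    rw [hfix, mem_suppM, hp'] at hm
    exact Bool.noConfusion hm
  · have h := allBelow_eq_true.mp hs _ (ptIdx_lt p)
    rw [Bool.or_eq_true, bitB_eq, hp', Nat.beq_eq] at h
    rcases h with h | h
    · exact Bool.noConfusion h
    · change (Matrix.transvection 0 1 1 : Matrix (Fin 5) (Fin 5) F₂).mulVec _ = maskVec _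
      rw [ptIdx_den (rep_ok 0).1]
      rw [show rep24.act (syl2Reps.getD 0 rep24.one) (ptIdx p) =
        rep24.act (invRep 0) (ptIdx p) from rfl, h,
        show Nat.xor (invACoord.getD (ptIdx p) 0) 1 = invACoord.getD (ptIdx p) 0 ^^^ 1 from rfl,
        maskVec_xor]
      have hb1 : (invACoord.getD (ptIdx p) 0).testBit 1 = true := by
        have := allBelow_eq_true.mp coord_bit1 _ (ptIdx_lt p)
        rwa [Bool.or_eq_true, bitB_eq, bitB_eq, hp', or_iff_right Bool.false_ne_true] at this
      change (Matrix.transvection 0 1 1 : Matrix (Fin 5) (Fin 5) F₂).mulVec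
        (maskVec (invACoord.getD (ptIdx p) 0)) = _
      generalize invACoord.getD (ptIdx p) 0 = v at hb1 ⊢
      funext i
      have e1 : ∀ k : Fin 5, (1 : ℕ).testBit (k : ℕ) = decide ((k : ℕ) = 0) := by decide
      fin_cases i <;>
        simp [Matrix.mulVec, dotProduct, Fin.sum_univ_five, Matrix.transvection, Matrix.single,
          maskVec, hb1, show (1 : ℕ).testBit 1 = false from e1 1,
          show (1 : ℕ).testBit 2 = false from e1 2, show (1 : ℕ).testBit 3 = false from e1 3,
          show (1 : ℕ).testBit 4 = false from e1 4]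

end Cfsg.Agent.Compute
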