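/-
The centraliser of a transvection of degree five over the field with two elements.
-/
import Mathlib.LinearAlgebra.Matrix.SpecialLinearGroup
import Mathlib.Data.ZMod.Basic
import Mathlib.LinearAlgebra.Matrix.Transvection

set_option autoImplicit false

namespace Cfsg.Agent.Compute

namespace TransvFive

/-- Matrices of degree five with determinant one over the field with two elements. -/
abbrev G5 := Matrix.SpecialLinearGroup (Fin 5) (ZMod 2)

/-- Matrices of degree three with determinant one over the field with two elements. -/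
abbrev G3 := Matrix.SpecialLinearGroup (Fin 3) (ZMod 2)

/-- The conditions to commute with the transvection. -/
def Shape (M : Matrix (Fin 5) (Fin 5) (ZMod 2)) : Prop :=
  (∀ i, M i 0 = if i = 0 then 1 else 0) ∧ ∀ j, M 1 j = if j = 1 then 1 else 0

theorem eq_one_of_ne_zero {x : ZMod 2} (h : x ≠ 0) : x = 1 := by revert x; decide

theorem shape_of_commute {M : G5} {T : G5}
    (hT : (T : Matrix (Fin 5) (Fin 5) (ZMod 2)) = Matrix.transvection 0 1 1) (h : M * T = T * M) :
    Shape (M : Matrix (Fin 5) (Fin 5) (ZMod 2)) := by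
  have e : (M : Matrix (Fin 5) (Fin 5) (ZMod 2)) * Matrix.single 0 1 1 =
      Matrix.single 0 1 1 * (M : Matrix (Fin 5) (Fin 5) (ZMod 2)) := by
    have h2 := congrArg (fun X : G5 => (X : Matrix (Fin 5) (Fin 5) (ZMod 2))) h
    simp only [Matrix.SpecialLinearGroup.coe_mul, hT, Matrix.transvection, Matrix.mul_add,
      Matrix.add_mul, Matrix.mul_one, Matrix.one_mul] at h2
    exact add_left_cancel h2
  set A : Matrix (Fin 5) (Fin 5) (ZMod 2) := M.1 with hA
  have hi : ∀ i, i ≠ 0 → A i 0 = 0 := fun i hne => by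
    have h3 := congrFun (congrFun e i) 1
    rwa [Matrix.mul_single_apply_same, Matrix.single_mul_apply_of_ne _ _ _ _ _ hne, mul_one] at h3
  have hj : ∀ j, j ≠ 1 → A 1 j = 0 := fun j hne => by
    have h3 := congrFun (congrFun e 0) j
    rw [Matrix.mul_single_apply_of_ne _ _ _ _ _ hne, Matrix.single_mul_apply_same, one_mul] at h3
    exact h3.symm
  have h00 : A 0 0 = A 1 1 := by
    have h3 := congrFun (congrFun e 0) 1
    rwa [Matrix.mul_single_apply_same, Matrix.single_mul_apply_same, mul_one, one_mul] at h3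
  have hne : A 0 0 ≠ 0 := fun h0 => by
    have hd : A.det = 0 := Matrix.det_eq_zero_of_column_eq_zero 0 fun i => by
      by_cases hi0 : i = 0
      · rw [hi0, h0]
      · exact hi i hi0
    rw [hA, M.2] at hd
    exact one_ne_zero hd
  refine ⟨fun i => ?_, fun j => ?_⟩
  · split_ifs with h1
    · rw [h1]; exact eq_one_of_ne_zero hne
    · exact hi i h1
  · split_ifs with h1
    · rw [h1, ← h00]; exact eq_one_of_ne_zero hne
    · exact hj j h1

theorem commute_of_shape {M : G5} {T : G5}
    (hT : (T : Matrix (Fin 5) (Fin 5) (ZMod 2)) = Matrix.transvection 0 1 1)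
    (h : Shape (M : Matrix (Fin 5) (Fin 5) (ZMod 2))) : M * T = T * M := by
  apply Subtype.ext
  simp only [Matrix.SpecialLinearGroup.coe_mul, hT, Matrix.transvection, Matrix.mul_add,
    Matrix.add_mul, Matrix.mul_one, Matrix.one_mul]
  congr 1
  ext i j
  rw [Matrix.mul_apply, Matrix.mul_apply, Fin.sum_univ_five, Fin.sum_univ_five]
  fin_cases i <;> fin_cases j <;> simp [Matrix.single, h.1, h.2]

/-- The three coordinates of the block. -/
def blkIdx : Fin 3 → Fin 5 := ![2, 3, 4]

/-- The middle block. -/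
def blk (M : Matrix (Fin 5) (Fin 5) (ZMod 2)) : Matrix (Fin 3) (Fin 3) (ZMod 2) :=
  M.submatrix blkIdx blkIdx

theorem blk_mul {M N : Matrix (Fin 5) (Fin 5) (ZMod 2)} (hM : Shape M) (hN : Shape N) :
    blk (M * N) = blk M * blk N := by
  ext a b
  simp only [blk, Matrix.submatrix_apply, Matrix.mul_apply, Fin.sum_univ_five, Fin.sum_univ_three]
  have h0 : M (blkIdx a) 0 = 0 := by rw [hM.1]; fin_cases a <;> simp [blkIdx]
  have h1 : N 1 (blkIdx b) = 0 := by rw [hN.2]; fin_cases b <;> simp [blkIdx]
  rw [h0, h1]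
  simp [blkIdx, add_assoc]

theorem blk_one : blk (1 : Matrix (Fin 5) (Fin 5) (ZMod 2)) = 1 := by
  ext a b
  fin_cases a <;> fin_cases b <;> simp [blk, blkIdx, Matrix.one_apply]

theorem shape_eq {M N : Matrix (Fin 5) (Fin 5) (ZMod 2)} (hM : Shape M) (hN : Shape N)
    (hb : blk M = blk N) (hr : ∀ j : Fin 4, M 0 j.succ = N 0 j.succ)
    (hc : ∀ a, M (blkIdx a) 1 = N (blkIdx a) 1) : M = N := by
  ext i j
  by_cases hj : j = 0
  · rw [hj, hM.1, hN.1]
  by_cases hi1 : i = 1
  · rw [hi1, hM.2, hN.2]
  by_cases hi : i = 0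
  · obtain ⟨k, rfl⟩ := Fin.exists_succ_eq.mpr hj
    rw [hi]; exact hr k
  obtain ⟨a, rfl⟩ : ∃ a, blkIdx a = i := by
    revert hi hi1; revert i; decide
  by_cases hj1 : j = 1
  · rw [hj1]; exact hc a
  obtain ⟨b, rfl⟩ : ∃ b, blkIdx b = j := by
    revert hj hj1; revert j; decide
  exact congrFun (congrFun hb a) b

variable {T : G5} (hT : (T : Matrix (Fin 5) (Fin 5) (ZMod 2)) = Matrix.transvection 0 1 1)

include hT in
theorem det_blk {M : G5} (h : M ∈ Subgroup.centralizer ({T} : Set G5)) :
    (blk (M : Matrix (Fin 5) (Fin 5) (ZMod 2))).det = 1 := by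
  have hM := shape_of_commute hT (Subgroup.mem_centralizer_singleton_iff.mp h)
  have hN := shape_of_commute hT (Subgroup.mem_centralizer_singleton_iff.mp (inv_mem h))
  have e : blk (M : Matrix (Fin 5) (Fin 5) (ZMod 2)) *
      blk ((M⁻¹ : G5) : Matrix (Fin 5) (Fin 5) (ZMod 2)) = 1 := by
    rw [← blk_mul hM hN, ← Matrix.SpecialLinearGroup.coe_mul, mul_inv_cancel,
      Matrix.SpecialLinearGroup.coe_one, blk_one]
  have h2 := congrArg Matrix.det e
  rw [Matrix.det_mul, Matrix.det_one] at h2
  exact eq_one_of_ne_zero fun h0 => by rw [h0, zero_mul] at h2; exact zero_ne_one h2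

/-- The projection of the centraliser on the block. -/
noncomputable def blkHom : Subgroup.centralizer ({T} : Set G5) →* G3 where
  toFun M := ⟨blk (M : G5).1, det_blk hT M.2⟩
  map_one' := Subtype.ext (by simpa using blk_one)
  map_mul' M N := Subtype.ext (by
    change blk ((M : G5).1 * (N : G5).1) = blk (M : G5).1 * blk (N : G5).1
    exact blk_mul (shape_of_commute hT (Subgroup.mem_centralizer_singleton_iff.mp M.2))
      (shape_of_commute hT (Subgroup.mem_centralizer_singleton_iff.mp N.2)))

theorem card_G3 : Nat.card G3 = 168 := by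
  rw [Nat.card_eq_fintype_card]
  decide +kernel

/-- The entries outside the block. -/
def border (M : Matrix (Fin 5) (Fin 5) (ZMod 2)) : (Fin 4 → ZMod 2) × (Fin 3 → ZMod 2) :=
  (fun j => M 0 j.succ, fun a => M (blkIdx a) 1)

include hT in
theorem card_centralizer_le : Nat.card ↥(Subgroup.centralizer ({T} : Set G5)) ≤ 21504 := by
  have hf : Function.Injective (fun M : Subgroup.centralizer ({T} : Set G5) =>
      ((blkHom hT M, border (M : G5).1) :
        G3 × ((Fin 4 → ZMod 2) × (Fin 3 → ZMod 2)))) := by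
    intro M N h
    simp only [Prod.mk.injEq, border] at h
    refine Subtype.ext (Subtype.ext (shape_eq
      (shape_of_commute hT (Subgroup.mem_centralizer_singleton_iff.mp M.2))
      (shape_of_commute hT (Subgroup.mem_centralizer_singleton_iff.mp N.2))
      (congrArg Subtype.val h.1) (congrFun h.2.1) (congrFun h.2.2)))
  refine (Nat.card_le_card_of_injective _ hf).trans (le_of_eq ?_)
  rw [Nat.card_prod, Nat.card_prod, Nat.card_fun, Nat.card_fun, card_G3, Nat.card_zmod,
    Nat.card_fin, Nat.card_fin]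
  norm_num

end TransvFive

end Cfsg.Agent.Compute
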