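/-
The centraliser of an involution with eight fixed points and that of a transvection.
-/
import Cfsg.Agent.Compute.CentInvAAffine
import Cfsg.Agent.Compute.TransvecCentralizer

set_option autoImplicit false

namespace Cfsg.Agent.Compute

open Cfsg
open scoped Pointwise

theorem transMat_coe : (transMat : Matrix (Fin 5) (Fin 5) (ZMod 2)) = Matrix.transvection 0 1 1 :=
  rfl

theorem invRep_mem : invRep 0 ∈ syl2Reps := by
  have h : 0 < syl2Reps.length := by decide +kernel
  rw [invRep, List.getD_eq_getElem _ _ h]
  exact List.getElem_mem h

theorem rep_mem_invAChain : rep24.den (invRep 0) ∈ rep24.chainGroup centInvAChain := by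
  rw [← centInvA_eq]
  exact mem_centM24.mpr
    ⟨(mem_M24_of_check (List.all_eq_true.mp classReps_facts.1 (invRep 0)
      (List.mem_append_left _ invRep_mem))).2, rfl⟩

/-- The matrix of an element of the centraliser. -/
noncomputable def affMat (g : rep24.chainGroup centInvAChain) : SL5 :=
  (exists_affPair g.2).choose

theorem affMat_spec (g : rep24.chainGroup centInvAChain) :
    ((g : Equiv.Perm GolayPt), affMat g) ∈ affPairs :=
  (exists_affPair g.2).choose_spec

/-- The matrices as a homomorphism into the centraliser of the transvection. -/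
noncomputable def affHom :
    rep24.chainGroup centInvAChain →* Subgroup.centralizer ({transMat} : Set SL5) where
  toFun g := ⟨affMat g, by
    rw [Subgroup.mem_centralizer_singleton_iff]
    have hm : (g : Equiv.Perm GolayPt) ∈ centM24 (rep24.den (invRep 0)) := by
      rw [centInvA_eq]; exact g.2
    have h1 : ((g : Equiv.Perm GolayPt) * rep24.den (invRep 0), affMat g * transMat) ∈ affPairs :=
      mul_mem (affMat_spec g) rep_affPair
    have h2 : (rep24.den (invRep 0) * (g : Equiv.Perm GolayPt), transMat * affMat g) ∈ affPairs :=
      mul_mem rep_affPair (affMat_spec g)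
    rw [(mem_centM24.mp hm).2] at h1
    exact affPair_unique h1 h2⟩
  map_one' := Subtype.ext (affPair_unique (affMat_spec 1) (one_mem affPairs))
  map_mul' g h := Subtype.ext
    (affPair_unique (affMat_spec (g * h)) (mul_mem (affMat_spec g) (affMat_spec h)))

theorem affHom_bijective : Function.Bijective affHom := by
  have hinj : Function.Injective affHom := fun g h hgh => by
    have e : affMat g = affMat h := congrArg Subtype.val hgh
    exact Subtype.ext (affPair_faithful g.2 h.2 (affMat_spec g) (e ▸ affMat_spec h))
  refine (Nat.bijective_iff_injective_and_card _).mpr ⟨hinj, le_antisymm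
    (Nat.card_le_card_of_injective _ hinj) ?_⟩
  rw [Rep.card_chainGroup _ invA_check, invB_chain_facts.2.2]
  exact TransvFive.card_centralizer_le transMat_coe

/-- The centraliser in M24 and the centraliser of the transvection. -/
noncomputable def centInvAEquiv :
    ↥(centM24 (rep24.den (invRep 0))) ≃* ↥(Subgroup.centralizer ({transMat} : Set SL5)) :=
  (MulEquiv.subgroupCongr centInvA_eq).trans (MulEquiv.ofBijective affHom affHom_bijective)

theorem orderOf_invRep : orderOf (rep24.den (invRep 0)) = 2 := by
  obtain ⟨hne, hsq⟩ : idB (invRep 0) = false ∧ idB (rep24.powCode (invRep 0) 2) = true := by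
    have h := List.all_eq_true.mp classReps_facts.2.1 _ invRep_mem
    simpa [Bool.and_eq_true] using h
  have := Fact.mk Nat.prime_two
  obtain ⟨hp, hd⟩ := rep24.powCode_spec (rep_ok 0).1 2
  refine orderOf_eq_prime (hd ▸ (idB_iff hp).mp hsq) fun e => ?_
  rw [(idB_iff (rep_ok 0).1).mpr e] at hne
  exact Bool.noConfusion hne

/-- The centraliser inside the group M24 of an element, against the one among permutations. -/
noncomputable def centSubtypeEquiv (z : ↥M24) :
    ↥(Subgroup.centralizer ({z} : Set ↥M24)) ≃* ↥(centM24 (z : Equiv.Perm GolayPt)) where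
  toFun c := ⟨(c : ↥M24), mem_centM24.mpr ⟨(c : ↥M24).2,
    congrArg Subtype.val (Subgroup.mem_centralizer_singleton_iff.mp c.2)⟩⟩
  invFun c := ⟨⟨c, (mem_centM24.mp c.2).1⟩,
    Subgroup.mem_centralizer_singleton_iff.mpr (Subtype.ext (mem_centM24.mp c.2).2)⟩
  left_inv _ := rfl
  right_inv _ := rfl
  map_mul' _ _ := rfl

end Cfsg.Agent.Compute
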