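/- Generated data: A conjugate of the involution inside the core of its centraliser. -/
import Cfsg.Agent.Compute.Perm

set_option autoImplicit false
set_option linter.all false

namespace Cfsg.Agent.Compute

/-- An element of M24 moving the involution to another one of the translations. -/
def invAMover : ℕ := 0xba4eca91d491550b216d99a2f18820

/-- The two translations with their matrices. -/
def invAImages : List (ℕ × List ℕ) := [(0x4acf01ca347b841b22eaa98a49b580, [1, 6, 4, 8, 16]), (0x5a46c3ca217b914b8acd998a4aaa00, [1, 7, 4, 8, 16])]

end Cfsg.Agent.Compute
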