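/-
The largest normal two-subgroup of the centraliser of a transvection of degree five.
-/
import Cfsg.Agent.Compute.TransvecCentralizer
import Cfsg.Agent.LargeExtra.Quotient
import Cfsg.Agent.Core.PCore
import Mathlib.GroupTheory.GroupAction.Quotient

set_option autoImplicit false
set_option maxHeartbeats 1000000

namespace Cfsg.Agent.Compute

namespace TransvFive

open scoped commutatorElement

/-- The transvection. -/
abbrev trans : G5 := ⟨Matrix.transvection 0 1 1, Matrix.det_transvection_of_ne _ _ (by decide) _⟩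

/-- The centraliser of the transvection. -/
abbrev C5 : Subgroup G5 := Subgroup.centralizer ({trans} : Set G5)

theorem shape_mem (M : C5) : Shape (M : G5).1 :=
  shape_of_commute (T := trans) rfl (Subgroup.mem_centralizer_singleton_iff.mp M.2)

theorem mem_C5 {M : G5} (h : Shape M.1) : M ∈ C5 :=
  Subgroup.mem_centralizer_singleton_iff.mpr (commute_of_shape (T := trans) rfl h)

/-- The projection on the middle block. -/
noncomputable abbrev proj : C5 →* G3 := blkHom (T := trans) rfl

/-- A block put back in the middle. -/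
def embMat (A : Matrix (Fin 3) (Fin 3) (ZMod 2)) : Matrix (Fin 5) (Fin 5) (ZMod 2) :=
  !![1, 0, 0, 0, 0; 0, 1, 0, 0, 0; 0, 0, A 0 0, A 0 1, A 0 2; 0, 0, A 1 0, A 1 1, A 1 2;
    0, 0, A 2 0, A 2 1, A 2 2]

theorem embMat_mul (A B : Matrix (Fin 3) (Fin 3) (ZMod 2)) :
    embMat (A * B) = embMat A * embMat B := by
  ext i j
  fin_cases i <;> fin_cases j <;>
    simp [embMat, Matrix.mul_apply, Fin.sum_univ_five, Fin.sum_univ_three, add_assoc]

theorem embMat_one : embMat 1 = 1 := by
  ext i j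
  fin_cases i <;> fin_cases j <;> simp [embMat]

theorem shape_embMat (A : Matrix (Fin 3) (Fin 3) (ZMod 2)) : Shape (embMat A) :=
  ⟨fun i => by fin_cases i <;> simp [embMat], fun j => by fin_cases j <;> simp [embMat]⟩

theorem det_embMat (A : G3) : (embMat A.1).det = 1 := by
  refine eq_one_of_ne_zero fun h0 => ?_
  have h := congrArg Matrix.det (embMat_mul A.1 (A⁻¹ : G3).1)
  rw [← Matrix.SpecialLinearGroup.coe_mul, mul_inv_cancel, Matrix.SpecialLinearGroup.coe_one,
    embMat_one, Matrix.det_one, Matrix.det_mul, h0, zero_mul] at h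
  exact one_ne_zero h

/-- The embedding of the block. -/
noncomputable def emb : G3 →* C5 where
  toFun A := ⟨⟨embMat A.1, det_embMat A⟩, mem_C5 (shape_embMat A.1)⟩
  map_one' := Subtype.ext (Subtype.ext embMat_one)
  map_mul' A B := Subtype.ext (Subtype.ext (embMat_mul A.1 B.1))

theorem proj_emb (A : G3) : proj (emb A) = A := by
  apply Subtype.ext
  change blk (embMat A.1) = A.1
  ext a b
  fin_cases a <;> fin_cases b <;> simp [blk, blkIdx, embMat]

theorem emb_injective : Function.Injective emb := fun A B h => by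
  rw [← proj_emb A, h, proj_emb]

theorem proj_surjective : Function.Surjective proj := fun A => ⟨emb A, proj_emb A⟩

/-- The group of order 128. -/
noncomputable abbrev Q5 : Subgroup C5 := proj.ker

theorem blk_of_mem {M : C5} (h : M ∈ Q5) : blk (M : G5).1 = 1 := by
  have h' : proj M = (1 : G3) := h
  exact congrArg (fun A : G3 => A.1) h'

theorem mem_Q5_of_blk {M : C5} (h : blk (M : G5).1 = 1) : M ∈ Q5 := by
  have h' : proj M = (1 : G3) := Subtype.ext h
  exact h'

theorem inf_range : Q5 ⊓ emb.range = ⊥ := by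
  rw [eq_bot_iff]
  rintro _ ⟨h, A, rfl⟩
  have h' : proj (emb A) = 1 := h
  rw [proj_emb] at h'
  rw [h', map_one]; exact one_mem _

theorem sup_range : Q5 ⊔ emb.range = ⊤ := by
  refine eq_top_iff.mpr fun M _ => ?_
  have h : M * (emb (proj M))⁻¹ ∈ Q5 := by
    rw [MonoidHom.mem_ker, map_mul, map_inv, proj_emb, mul_inv_cancel]
  have := Subgroup.mul_mem (Q5 ⊔ emb.range) (Subgroup.mem_sup_left h)
    (Subgroup.mem_sup_right ⟨proj M, rfl⟩)
  rwa [inv_mul_cancel_right] at this

theorem border_bijective : Function.Bijective (fun M : Q5 => border (M : C5).1.1) := by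
  refine ⟨fun M N h => ?_, fun x => ?_⟩
  · simp only [border, Prod.mk.injEq] at h
    exact Subtype.ext (Subtype.ext (Subtype.ext (shape_eq (shape_mem _) (shape_mem _)
      ((blk_of_mem M.2).trans (blk_of_mem N.2).symm) (congrFun h.1) (congrFun h.2))))
  · obtain ⟨r, c⟩ := x
    let A : Matrix (Fin 5) (Fin 5) (ZMod 2) :=
      !![1, r 0, r 1, r 2, r 3; 0, 1, 0, 0, 0; 0, c 0, 1, 0, 0; 0, c 1, 0, 1, 0; 0, c 2, 0, 0, 1]
    have hA : Shape A :=
      ⟨fun i => by fin_cases i <;> simp [A], fun j => by fin_cases j <;> simp [A]⟩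
    have hdet : A.det = 1 := by
      have h : ∀ (a b c d p q s : ZMod 2),
          (!![1, a, b, c, d; 0, 1, 0, 0, 0; 0, p, 1, 0, 0; 0, q, 0, 1, 0; 0, s, 0, 0, 1] :
            Matrix (Fin 5) (Fin 5) (ZMod 2)).det = 1 := by
        intro a b c d p q s
        simp [Matrix.det_succ_column_zero, Fin.sum_univ_succ]
      exact h _ _ _ _ _ _ _
    refine ⟨⟨⟨⟨A, hdet⟩, mem_C5 hA⟩, mem_Q5_of_blk ?_⟩, ?_⟩
    · change blk A = 1
      ext a b
      fin_cases a <;> fin_cases b <;> simp [blk, blkIdx, A]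
    · refine Prod.ext (funext fun j => ?_) (funext fun a => ?_)
      · fin_cases j <;> simp [border, A]
      · fin_cases a <;> simp [border, blkIdx, A]

theorem card_Q5 : Nat.card Q5 = 2 ^ 7 := by
  rw [Nat.card_eq_of_bijective _ border_bijective, Nat.card_prod, Nat.card_fun, Nat.card_fun,
    Nat.card_zmod, Nat.card_fin, Nat.card_fin]
  norm_num

theorem isPGroup_Q5 : IsPGroup 2 Q5 :=
  have := Fact.mk Nat.prime_two
  IsPGroup.of_card card_Q5

theorem exists_fixed_vec {P : Subgroup G3} (hP : IsPGroup 2 P) :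
    ∃ v : Fin 3 → ZMod 2, v ≠ 0 ∧ ∀ x ∈ P, (x.1).mulVec v = v := by
  have := Fact.mk Nat.prime_two
  let act : MulAction P (Fin 3 → ZMod 2) :=
    { smul := fun x v => (x : G3).1.mulVec v
      one_smul := fun v => Matrix.one_mulVec v
      mul_smul := fun x y v => (Matrix.mulVec_mulVec v (x : G3).1 (y : G3).1).symm }
  have h8 : Nat.card (Fin 3 → ZMod 2) = 8 := by simp [Nat.card_fun]
  have h0 : (0 : Fin 3 → ZMod 2) ∈ MulAction.fixedPoints P (Fin 3 → ZMod 2) :=
    fun x => Matrix.mulVec_zero _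
  obtain ⟨v, hv, hne⟩ := hP.exists_fixed_point_of_prime_dvd_card_of_fixed_point
    (Fin 3 → ZMod 2) (by rw [h8]; norm_num) h0
  exact ⟨v, hne.symm, fun x hx => hv ⟨x, hx⟩⟩

theorem pCore_G3 : Cfsg.pCore 2 G3 = ⊥ := by
  obtain ⟨v, hv0, hv⟩ := exists_fixed_vec (Core.pCore_isPGroup (p := 2) (G := G3))
  -- the vectors fixed by the core
  let W : Set (Fin 3 → ZMod 2) := {w | ∀ x ∈ Cfsg.pCore 2 G3, x.1.mulVec w = w}
  have hWt : ∀ (g : G3), ∀ w ∈ W, g.1.mulVec w ∈ W := by
    intro g w hw x hx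
    have h := hw _ (Core.pCore_normal.conj_mem x hx g⁻¹)
    rw [inv_inv, Matrix.SpecialLinearGroup.coe_mul, Matrix.SpecialLinearGroup.coe_mul,
      ← Matrix.mulVec_mulVec, ← Matrix.mulVec_mulVec] at h
    have h2 := congrArg (g.1.mulVec) h
    rwa [Matrix.mulVec_mulVec, ← Matrix.SpecialLinearGroup.coe_mul, mul_inv_cancel,
      Matrix.SpecialLinearGroup.coe_one, Matrix.one_mulVec] at h2
  have hsub : ∀ w₁ ∈ W, ∀ w₂ ∈ W, w₁ + w₂ ∈ W := fun w₁ h₁ w₂ h₂ x hx => by
    rw [Matrix.mulVec_add, h₁ x hx, h₂ x hx]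
  have hmove : ∀ i j : Fin 3, i ≠ j → ∀ w ∈ W, w j = 1 → Pi.single i (1 : ZMod 2) ∈ W := by
    intro i j hij w hw hwj
    let g : G3 := ⟨Matrix.transvection i j 1, Matrix.det_transvection_of_ne _ _ hij _⟩
    have h1 : g.1.mulVec w = w + Pi.single i 1 := by
      change (Matrix.transvection i j (1 : ZMod 2)).mulVec w = _
      rw [Matrix.transvection, Matrix.add_mulVec, Matrix.one_mulVec, Matrix.single_mulVec, hwj,
        mul_one]
      rfl
    have h2 := hsub _ (hWt g w hw) w hw
    rw [h1] at h2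
    rwa [add_right_comm, CharTwo.add_self_eq_zero, zero_add] at h2
  obtain ⟨j, hj⟩ := Function.ne_iff.mp hv0
  have hjv : v j = 1 := eq_one_of_ne_zero hj
  have hall : ∀ i, Pi.single i (1 : ZMod 2) ∈ W := by
    intro i
    obtain ⟨k, hk, hki⟩ : ∃ k : Fin 3, k ≠ j ∧ (i = j → k ≠ i) :=
      (by decide : ∀ a b : Fin 3, ∃ k, k ≠ b ∧ (a = b → k ≠ a)) i j
    by_cases hij : i = j
    · exact hmove i k (fun e => hki hij e.symm) _ (hmove k j hk v hv hjv) (by simp)
    · exact hmove i j hij v hv hjv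
  rw [eq_bot_iff]
  intro x hx
  apply Subtype.ext
  ext a b
  have h := congrFun (hall b x hx) a
  rw [Matrix.mulVec_single_one] at h
  simpa [Matrix.one_apply, Pi.single_apply, eq_comm] using h

theorem pCore_C5 : Cfsg.pCore 2 C5 = Q5 := by
  refine le_antisymm ?_ (Core.le_pCore isPGroup_Q5)
  intro x hx
  have h := Core.map_pCore_le_of_surjective (p := 2) proj_surjective ⟨x, hx, rfl⟩
  rw [pCore_G3, Subgroup.mem_bot] at h
  exact MonoidHom.mem_ker.mpr h

theorem Q5_mul {M N : C5} (hM : M ∈ Q5) (hN : N ∈ Q5) :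
    (∀ a, ((M * N : C5) : G5).1 0 (blkIdx a) =
      (M : G5).1 0 (blkIdx a) + (N : G5).1 0 (blkIdx a)) ∧
    (∀ a, ((M * N : C5) : G5).1 (blkIdx a) 1 =
      (M : G5).1 (blkIdx a) 1 + (N : G5).1 (blkIdx a) 1) ∧
    ((M * N : C5) : G5).1 0 1 = (M : G5).1 0 1 + (N : G5).1 0 1 +
      ∑ k, (M : G5).1 0 (blkIdx k) * (N : G5).1 (blkIdx k) 1 := by
  have sM := shape_mem M
  have sN := shape_mem N
  have bM : ∀ a b, (M : G5).1 (blkIdx a) (blkIdx b) = if a = b then 1 else 0 := fun a b => by
    have := congrFun (congrFun (blk_of_mem hM) a) b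
    rwa [Matrix.one_apply] at this
  have bN : ∀ a b, (N : G5).1 (blkIdx a) (blkIdx b) = if a = b then 1 else 0 := fun a b => by
    have := congrFun (congrFun (blk_of_mem hN) a) b
    rwa [Matrix.one_apply] at this
  have i0 : blkIdx 0 = 2 := rfl
  have i1 : blkIdx 1 = 3 := rfl
  have i2 : blkIdx 2 = 4 := rfl
  refine ⟨fun a => ?_, fun a => ?_, ?_⟩ <;>
    simp only [Subgroup.coe_mul, Matrix.SpecialLinearGroup.coe_mul, Matrix.mul_apply,
      Fin.sum_univ_five, Fin.sum_univ_three]
  · have e0 := bN 0 a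
    have e1 := bN 1 a
    have e2 := bN 2 a
    rw [i0] at e0
    rw [i1] at e1
    rw [i2] at e2
    rw [sM.1, sN.2, e0, e1, e2]
    fin_cases a <;> simp [blkIdx] <;> ring
  · have e0 := bM a 0
    have e1 := bM a 1
    have e2 := bM a 2
    rw [i0] at e0
    rw [i1] at e1
    rw [i2] at e2
    rw [sM.1, sN.2, e0, e1, e2]
    fin_cases a <;> simp [blkIdx] <;> ring
  · rw [sM.1, sN.2, i0, i1, i2]
    simp
    ring

/-- The transvection inside its centraliser. -/
def transC : C5 := ⟨trans, Subgroup.mem_centralizer_singleton_iff.mpr rfl⟩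

theorem transC_entries : (∀ a, (transC : G5).1 0 (blkIdx a) = 0) ∧
    (∀ a, (transC : G5).1 (blkIdx a) 1 = 0) ∧ (transC : G5).1 0 1 = 1 := by
  refine ⟨fun a => ?_, fun a => ?_, ?_⟩
  · fin_cases a <;> simp [transC, trans, blkIdx, Matrix.transvection]
  · fin_cases a <;> simp [transC, trans, blkIdx, Matrix.transvection]
  · simp [transC, trans, Matrix.transvection]

theorem transC_mem : transC ∈ Q5 := by
  refine mem_Q5_of_blk ?_
  ext a b
  fin_cases a <;> fin_cases b <;>
    simp [blk, blkIdx, transC, trans, Matrix.transvection]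

theorem Q5_ext {M N : C5} (hM : M ∈ Q5) (hN : N ∈ Q5)
    (h0 : ∀ a, (M : G5).1 0 (blkIdx a) = (N : G5).1 0 (blkIdx a))
    (h1 : ∀ a, (M : G5).1 (blkIdx a) 1 = (N : G5).1 (blkIdx a) 1)
    (h2 : (M : G5).1 0 1 = (N : G5).1 0 1) : M = N := by
  refine Subtype.ext (Subtype.ext (shape_eq (shape_mem _) (shape_mem _)
    ((blk_of_mem hM).trans (blk_of_mem hN).symm) (fun j => ?_) h1))
  fin_cases j
  · exact h2
  · exact h0 0
  · exact h0 1
  · exact h0 2

theorem eq_or_eq_mul {M N : C5} (hM : M ∈ Q5) (hN : N ∈ Q5)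
    (h0 : ∀ a, (M : G5).1 0 (blkIdx a) = (N : G5).1 0 (blkIdx a))
    (h1 : ∀ a, (M : G5).1 (blkIdx a) 1 = (N : G5).1 (blkIdx a) 1) :
    M = N ∨ M = transC * N := by
  obtain ⟨t0, t1, t2⟩ := transC_entries
  obtain ⟨p0, p1, p2⟩ := Q5_mul transC_mem hN
  by_cases h : (M : G5).1 0 1 = (N : G5).1 0 1
  · exact Or.inl (Q5_ext hM hN h0 h1 h)
  · refine Or.inr (Q5_ext hM (mul_mem transC_mem hN) (fun a => ?_) (fun a => ?_) ?_)
    · rw [p0, t0, zero_add, h0]
    · rw [p1, t1, zero_add, h1]
    · rw [p2, t2]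
      simp only [t0, zero_mul, Finset.sum_const_zero, add_zero]
      revert h
      generalize (M : G5).1 0 1 = x
      generalize (N : G5).1 0 1 = y
      revert x y
      decide

theorem transC_ne_one : transC ≠ 1 := fun e => by
  have := congrArg (fun M : C5 => (M : G5).1 0 1) e
  simp [transC, trans, Matrix.transvection] at this

theorem Q5_comm {M N : C5} (hM : M ∈ Q5) (hN : N ∈ Q5) :
    ⁅M, N⁆ = 1 ∨ ⁅M, N⁆ = transC := by
  obtain ⟨a0, a1, -⟩ := Q5_mul hM hN
  obtain ⟨b0, b1, -⟩ := Q5_mul hN hM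
  rcases eq_or_eq_mul (mul_mem hM hN) (mul_mem hN hM) (fun a => by rw [a0, b0, add_comm])
    (fun a => by rw [a1, b1, add_comm]) with e | e
  · exact Or.inl (commutatorElement_eq_one_iff_mul_comm.mpr e)
  · right
    rw [commutatorElement_def, e]
    group

theorem Q5_sq {M : C5} (hM : M ∈ Q5) : M * M = 1 ∨ M * M = transC := by
  obtain ⟨a0, a1, -⟩ := Q5_mul hM hM
  rcases eq_or_eq_mul (mul_mem hM hM) (one_mem Q5) (fun a => by
      rw [a0, CharTwo.add_self_eq_zero]; fin_cases a <;> simp [blkIdx])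
    (fun a => by rw [a1, CharTwo.add_self_eq_zero]; fin_cases a <;> simp [blkIdx]) with e | e
  · exact Or.inl e
  · exact Or.inr (e.trans (mul_one _))

/-- The seven generators: transvections in the first row and in the second column. -/
theorem exists_gen (r : Fin 4 → ZMod 2) (c : Fin 3 → ZMod 2) :
    ∃ M : C5, M ∈ Q5 ∧ border (M : G5).1 = (r, c) := by
  obtain ⟨M, hM⟩ := border_bijective.2 (r, c)
  exact ⟨M, M.2, hM⟩

/-- Only the transvection centralises the group of order 128. -/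
theorem centralizer_Q5 {M : C5} (h : ∀ N ∈ Q5, M * N = N * M) : M = 1 ∨ M = transC := by
  have sM := shape_mem M
  have hblk : blk (M : G5).1 = 1 := by
    ext k b
    obtain ⟨N, hN, hb⟩ := exists_gen (fun j => if j = k.succ then 1 else 0) 0
    have hrow : ∀ a, (N : G5).1 0 (blkIdx a) = if a = k then 1 else 0 := fun a => by
      have := congrFun (congrArg Prod.fst hb) a.succ
      fin_cases a <;> fin_cases k <;> simpa [border, blkIdx] using this
    have h01 : (N : G5).1 0 1 = 0 := by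
      have := congrFun (congrArg Prod.fst hb) 0
      simpa [border, (Fin.succ_ne_zero k).symm] using this
    have hcol : ∀ a, (N : G5).1 (blkIdx a) 1 = 0 := fun a => congrFun (congrArg Prod.snd hb) a
    have bN : ∀ a b, (N : G5).1 (blkIdx a) (blkIdx b) = if a = b then 1 else 0 := fun a b => by
      have := congrFun (congrFun (blk_of_mem hN) a) b
      rwa [Matrix.one_apply] at this
    have e := congrArg (fun X : C5 => (X : G5).1 0 (blkIdx b)) (h N hN)
    have sN := shape_mem N
    simp only [Subgroup.coe_mul, Matrix.SpecialLinearGroup.coe_mul, Matrix.mul_apply,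
      Fin.sum_univ_five] at e
    have r0 := hrow 0
    have r1 := hrow 1
    have r2 := hrow 2
    have rb := hrow b
    have n0 := bN 0 b
    have n1 := bN 1 b
    have n2 := bN 2 b
    rw [show blkIdx 0 = 2 from rfl] at r0 n0
    rw [show blkIdx 1 = 3 from rfl] at r1 n1
    rw [show blkIdx 2 = 4 from rfl] at r2 n2
    rw [sM.1, sN.2, n0, n1, n2, sM.2, h01, r0, r1, r2, sN.1, rb] at e
    fin_cases k <;> fin_cases b <;> simp [blk, blkIdx, Matrix.one_apply] at e ⊢ <;>
      first
      | exact e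
      | exact e.symm
      | linear_combination -e
      | linear_combination e
  have hMQ := mem_Q5_of_blk hblk
  have hu : ∀ a, (M : G5).1 0 (blkIdx a) = 0 := by
    intro a
    obtain ⟨N, hN, hb⟩ := exists_gen 0 (fun x => if x = a then 1 else 0)
    have hrow : ∀ x, (N : G5).1 0 (blkIdx x) = 0 := fun x => by
      have := congrFun (congrArg Prod.fst hb) x.succ
      fin_cases x <;> simpa [border, blkIdx] using this
    have hcol : ∀ x, (N : G5).1 (blkIdx x) 1 = if x = a then 1 else 0 :=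
      fun x => congrFun (congrArg Prod.snd hb) x
    have e := congrArg (fun X : C5 => (X : G5).1 0 1) (h N hN)
    rw [(Q5_mul hMQ hN).2.2, (Q5_mul hN hMQ).2.2] at e
    simp only [hrow, hcol, zero_mul, Finset.sum_const_zero, add_zero, mul_ite, mul_one, mul_zero,
      Finset.sum_ite_eq', Finset.mem_univ, if_true] at e
    rw [add_comm ((N : G5).1 0 1)] at e
    exact add_eq_left.mp e
  have hw : ∀ a, (M : G5).1 (blkIdx a) 1 = 0 := by
    intro a
    obtain ⟨N, hN, hb⟩ := exists_gen (fun j => if j = a.succ then 1 else 0) 0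
    have hrow : ∀ x, (N : G5).1 0 (blkIdx x) = if x = a then 1 else 0 := fun x => by
      have := congrFun (congrArg Prod.fst hb) x.succ
      fin_cases x <;> fin_cases a <;> simpa [border, blkIdx] using this
    have hcol : ∀ x, (N : G5).1 (blkIdx x) 1 = 0 := fun x => congrFun (congrArg Prod.snd hb) x
    have e := congrArg (fun X : C5 => (X : G5).1 0 1) (h N hN)
    rw [(Q5_mul hMQ hN).2.2, (Q5_mul hN hMQ).2.2] at e
    simp only [hrow, hcol, mul_zero, Finset.sum_const_zero, add_zero, ite_mul, one_mul, zero_mul,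
      Finset.sum_ite_eq', Finset.mem_univ, if_true] at e
    rw [add_comm ((N : G5).1 0 1)] at e
    exact add_eq_left.mp e.symm
  rcases eq_or_eq_mul hMQ (one_mem Q5) (fun a => by rw [hu]; fin_cases a <;> simp [blkIdx])
    (fun a => by rw [hw]; fin_cases a <;> simp [blkIdx]) with e | e
  · exact Or.inl e
  · exact Or.inr (e.trans (mul_one _))

theorem transC_central {M : C5} : M * transC = transC * M :=
  Subtype.ext (Subgroup.mem_centralizer_singleton_iff.mp M.2)

theorem isExtraspecial_Q5 : Cfsg.IsExtraspecial 2 ↥Q5 := by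
  refine LargeExtra.extraspecial_of isPGroup_Q5 (w := ⟨transC, transC_mem⟩)
    (fun e => transC_ne_one (congrArg Subtype.val e)) ?_ ?_ (fun c hc => ?_) (fun a b => ?_)
    (fun a => ?_) ?_
  · apply Subtype.ext
    rcases Q5_sq transC_mem with e | e
    · exact e
    · exact absurd (mul_eq_left.mp e) transC_ne_one
  · exact Subgroup.mem_center_iff.mpr fun g => Subtype.ext transC_central
  · rcases centralizer_Q5 (M := c.1) (fun N hN =>
      (congrArg Subtype.val (Subgroup.mem_center_iff.mp hc ⟨N, hN⟩)).symm) with e | e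
    · exact Or.inl (Subtype.ext e)
    · exact Or.inr (Subtype.ext e)
  · rcases Q5_comm a.2 b.2 with e | e
    · exact Or.inl (Subtype.ext (by simpa [commutatorElement_def] using e))
    · exact Or.inr (Subtype.ext (by simpa [commutatorElement_def] using e))
  · rcases Q5_sq a.2 with e | e
    · exact Or.inl (Subtype.ext e)
    · exact Or.inr (Subtype.ext e)
  · obtain ⟨N, hN, hb⟩ := exists_gen (fun j => if j = 1 then 1 else 0) 0
    obtain ⟨N', hN', hb'⟩ := exists_gen 0 (fun x => if x = 0 then 1 else 0)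
    refine ⟨⟨N, hN⟩, ⟨N', hN'⟩, fun e => ?_⟩
    have e' := congrArg (fun X : Q5 => (X.1 : G5).1 0 1) e
    simp only [Subgroup.coe_mul] at e'
    have p := (Q5_mul hN hN').2.2
    have q := (Q5_mul hN' hN).2.2
    simp only [Subgroup.coe_mul] at p q
    rw [p, q] at e'
    have r0 := congrFun (congrArg Prod.fst hb)
    have c0 := congrFun (congrArg Prod.snd hb)
    have r1 := congrFun (congrArg Prod.fst hb')
    have c1 := congrFun (congrArg Prod.snd hb')
    have a0 := r0 1
    have a1 := r0 2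
    have a2 := r0 3
    have b0 := r1 1
    have b1 := r1 2
    have b2 := r1 3
    simp only [border] at a0 a1 a2 b0 b1 b2 c0 c1
    simp [Fin.sum_univ_three, blkIdx] at e' a0 a1 a2 b0 b1 b2
    have u0 := c1 0
    have u1 := c0 0
    have u2 := c0 1
    have u3 := c0 2
    simp [blkIdx] at u0 u1 u2 u3
    simp [a0, a1, a2, b0, b1, b2, u0, u1, u2, u3, add_comm] at e'

/-- The elements with trivial second column. -/
def E5 : Subgroup C5 where
  carrier := {M | M ∈ Q5 ∧ ∀ a, (M : G5).1 (blkIdx a) 1 = 0}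
  one_mem' := ⟨one_mem _, fun a => by fin_cases a <;> simp [blkIdx]⟩
  mul_mem' := fun {M N} hM hN => ⟨mul_mem hM.1 hN.1, fun a => by
    rw [(Q5_mul hM.1 hN.1).2.1, hM.2, hN.2, add_zero]⟩
  inv_mem' := fun {M} hM => by
    refine ⟨inv_mem hM.1, fun a => ?_⟩
    have h := (Q5_mul hM.1 (inv_mem hM.1)).2.1 a
    rw [mul_inv_cancel, hM.2, zero_add] at h
    rw [← h]
    fin_cases a <;> simp [blkIdx]

theorem E5_le : E5 ≤ Q5 := fun _ h => h.1

theorem E5_mul {M N : C5} (hM : M ∈ E5) (hN : N ∈ E5) :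
    ((M * N : C5) : G5).1 0 1 = (M : G5).1 0 1 + (N : G5).1 0 1 := by
  rw [(Q5_mul hM.1 hN.1).2.2]
  simp [hN.2]

theorem E5_comm {M N : C5} (hM : M ∈ E5) (hN : N ∈ E5) : M * N = N * M := by
  obtain ⟨a0, a1, -⟩ := Q5_mul hM.1 hN.1
  obtain ⟨b0, b1, -⟩ := Q5_mul hN.1 hM.1
  exact Q5_ext (mul_mem hM.1 hN.1) (mul_mem hN.1 hM.1) (fun a => by rw [a0, b0, add_comm])
    (fun a => by rw [a1, b1, add_comm]) (by rw [E5_mul hM hN, E5_mul hN hM, add_comm])

theorem E5_sq {M : C5} (hM : M ∈ E5) : M * M = 1 := by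
  obtain ⟨a0, a1, -⟩ := Q5_mul hM.1 hM.1
  refine Q5_ext (mul_mem hM.1 hM.1) (one_mem _) (fun a => ?_) (fun a => ?_) ?_
  · rw [a0, CharTwo.add_self_eq_zero]; fin_cases a <;> simp [blkIdx]
  · rw [a1, CharTwo.add_self_eq_zero]; fin_cases a <;> simp [blkIdx]
  · rw [E5_mul hM hM, CharTwo.add_self_eq_zero]; simp

theorem card_E5 : Nat.card E5 = 2 ^ 4 := by
  have hb : Function.Bijective (fun M : E5 => (border ((M : C5) : G5).1).1) := by
    refine ⟨fun M N h => ?_, fun r => ?_⟩
    · apply Subtype.ext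
      refine Q5_ext M.2.1 N.2.1 (fun a => ?_) (fun a => by rw [M.2.2, N.2.2]) (congrFun h 0)
      fin_cases a
      · exact congrFun h 1
      · exact congrFun h 2
      · exact congrFun h 3
    · obtain ⟨N, hN, hbN⟩ := exists_gen r 0
      exact ⟨⟨N, hN, congrFun (congrArg Prod.snd hbN)⟩, congrArg Prod.fst hbN⟩
  rw [Nat.card_eq_of_bijective _ hb, Nat.card_fun, Nat.card_zmod, Nat.card_fin]

end TransvFive

end Cfsg.Agent.Compute
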