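/-
The core of the centraliser of an involution with eight fixed points in M24.
-/
import Cfsg.Agent.Compute.CentInvAIso
import Cfsg.Agent.Compute.TransvecCore
import Cfsg.Agent.Compute.InvAMoverData

set_option autoImplicit false

namespace Cfsg.Agent.Compute

open Cfsg
open scoped Pointwise
open TransvFive (C5 Q5 transC)

theorem transMat_eq : transMat = TransvFive.trans := rfl

/-- The inverse of the isomorphism, into the permutations. -/
noncomputable def fromC5 : C5 →* Equiv.Perm GolayPt :=
  (centM24 (rep24.den (invRep 0))).subtype.comp centInvAEquiv.symm.toMonoidHom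

theorem fromC5_injective : Function.Injective fromC5 := fun _ _ h =>
  centInvAEquiv.symm.injective (Subtype.ext h)

theorem fromC5_mem (c : C5) : fromC5 c ∈ centM24 (rep24.den (invRep 0)) :=
  (centInvAEquiv.symm c).2

theorem fromC5_of_pair {g : Equiv.Perm GolayPt} (hg : g ∈ centM24 (rep24.den (invRep 0)))
    {c : C5} (h : (g, (c : SL5)) ∈ affPairs) : fromC5 c = g := by
  have e : centInvAEquiv ⟨g, hg⟩ = c := by
    apply Subtype.ext
    exact affPair_unique (affMat_spec _) h
  rw [← e]
  exact congrArg Subtype.val (centInvAEquiv.symm_apply_apply _)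

theorem fromC5_transC : fromC5 transC = rep24.den (invRep 0) :=
  fromC5_of_pair (centInvA_eq ▸ rep_mem_invAChain) rep_affPair

theorem mover_checks :
    (inM24B invAMover && Nat.beq (invAImages.length) 2) = true ∧
    invAImages.all (fun e => inM24B e.1 && Nat.beq (rep24.mul e.1 (invRep 0))
        (rep24.mul (invRep 0) e.1) && Nat.beq (imgMask e.1 centInvARoot) centInvARoot &&
      allBelow 24 (fun i => bitB centInvARoot i ||
        Nat.beq (mulMask e.2 (invACoord.getD i 0)) (invACoord.getD (rep24.act e.1 i) 0))) = true ∧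
    (Nat.beq (canonCode (rep24.mul invAMover (invRep 0)))
        (canonCode (rep24.mul (invAImages.getD 0 (0, [])).1 invAMover)) &&
      Nat.beq (canonCode (rep24.mul (invRep 0) invAMover))
        (canonCode (rep24.mul invAMover (invAImages.getD 1 (0, [])).1))) = true ∧
    (!(Nat.beq (canonCode (invAImages.getD 0 (0, [])).1) (canonCode (invRep 0)))) = true := by
  decide +kernel

theorem images_blk : ∀ e ∈ invAImages,
    (colsMat e.2).det = 1 ∧ TransvFive.Shape (colsMat e.2) ∧
      TransvFive.blk (colsMat e.2) = 1 := by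
  intro e he
  fin_cases he <;> refine ⟨?_, ⟨?_, ?_⟩, ?_⟩ <;> decide +kernel

theorem den_eq_of_canon {a b : ℕ} (ha : rep24.Ok a) (hb : rep24.Ok b)
    (h : canonCode a = canonCode b) : rep24.den a = rep24.den b := by
  refine Equiv.ext fun p => ptIdx_injective ?_
  rw [ptIdx_den ha, ptIdx_den hb]
  have hlt : ∀ c, rep24.Ok c → ∀ i < 24, rep24.act c i < 2 ^ 5 := fun c hc i hi =>
    lt_trans (rep24.act_lt c i hc hi) (by change (24 : ℕ) < 2 ^ 5; norm_num)
  have := congrArg (fun v => getField 5 v (ptIdx p)) h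
  simp only [canonCode] at this
  rwa [getField_pack 5 24 _ (hlt _ ha) (ptIdx_lt p),
    getField_pack 5 24 _ (hlt _ hb) (ptIdx_lt p)] at this

theorem image_mem {i : ℕ} (hi : i < 2) :
    rep24.Ok (invAImages.getD i (0, [])).1 ∧
      ∃ c ∈ Q5, fromC5 c = rep24.den (invAImages.getD i (0, [])).1 := by
  have hlen : invAImages.length = 2 := by
    have h := mover_checks.1
    simp only [Bool.and_eq_true, Nat.beq_eq] at h
    exact h.2
  rw [List.getD_eq_getElem _ _ (hlen.symm ▸ hi)]
  set e := invAImages[i]'(hlen.symm ▸ hi) with he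
  have hmem : e ∈ invAImages := List.getElem_mem _
  have h := List.all_eq_true.mp mover_checks.2.1 e hmem
  simp only [Bool.and_eq_true, Nat.beq_eq, allBelow_eq_true, Bool.or_eq_true, bitB_eq] at h
  obtain ⟨⟨⟨hM, hcomm⟩, himg⟩, hact⟩ := h
  obtain ⟨hok, hmemM⟩ := mem_M24_of_check hM
  obtain ⟨hdet, hshape, hblk⟩ := images_blk e hmem
  have hc : rep24.den e.1 ∈ centM24 (rep24.den (invRep 0)) := by
    refine mem_centM24.mpr ⟨hmemM, ?_⟩
    have h2 := congrArg rep24.den hcomm
    rwa [rep24.den_mul _ _ hok (rep_ok 0).1, rep24.den_mul _ _ (rep_ok 0).1 hok] at h2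
  refine ⟨hok, ⟨⟨colsMat e.2, hdet⟩, TransvFive.mem_C5 hshape⟩,
    TransvFive.mem_Q5_of_blk hblk, fromC5_of_pair hc fun p hp => ?_⟩
  have hp' : centInvARoot.testBit (ptIdx p) = false := hp
  refine ⟨?_, ?_⟩
  · have h2 := testBit_imgMask (m := centInvARoot) hok p
    rw [himg, hp'] at h2
    exact h2
  · rcases hact _ (ptIdx_lt p) with h1 | h1
    · rw [hp'] at h1; exact Bool.noConfusion h1
    · change (colsMat e.2).mulVec (maskVec _) = maskVec _
      rw [← mulMask_spec, h1]
      change maskVec _ = maskVec (invACoord.getD (ptIdx (rep24.den e.1 p)) 0)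
      rw [ptIdx_den hok]

/-- An element of M24 moving the involution into the core, in both directions. -/
theorem exists_mover : ∃ g ∈ M24,
    (∃ c ∈ Q5, fromC5 c = g * rep24.den (invRep 0) * g⁻¹) ∧
    (∃ c ∈ Q5, fromC5 c = g⁻¹ * rep24.den (invRep 0) * g) ∧
    g * rep24.den (invRep 0) * g⁻¹ ≠ rep24.den (invRep 0) := by
  obtain ⟨h1, -, h3, h4⟩ := mover_checks
  simp only [Bool.and_eq_true, Nat.beq_eq] at h1 h3
  obtain ⟨hgok, hg⟩ := mem_M24_of_check h1.1
  obtain ⟨hok0, c0, hc0, he0⟩ := image_mem (i := 0) (by norm_num)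
  obtain ⟨hok1, c1, hc1, he1⟩ := image_mem (i := 1) (by norm_num)
  have hr := (rep_ok 0).1
  have e0 := den_eq_of_canon (rep24.ok_mul _ _ hgok hr) (rep24.ok_mul _ _ hok0 hgok) h3.1
  have e1 := den_eq_of_canon (rep24.ok_mul _ _ hr hgok) (rep24.ok_mul _ _ hgok hok1) h3.2
  rw [rep24.den_mul _ _ hgok hr, rep24.den_mul _ _ hok0 hgok] at e0
  rw [rep24.den_mul _ _ hr hgok, rep24.den_mul _ _ hgok hok1] at e1
  refine ⟨_, hg, ⟨c0, hc0, ?_⟩, ⟨c1, hc1, ?_⟩, fun e => ?_⟩
  · rw [he0]; exact eq_mul_inv_iff_mul_eq.mpr e0.symm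
  · rw [he1, mul_assoc, e1, inv_mul_cancel_left]
  · rw [Bool.not_eq_true', ← Bool.not_eq_true, Nat.beq_eq] at h4
    refine h4 (canonCode_congr hok0 hr ?_)
    rw [← e, e0, mul_inv_cancel_right]

/-- The embedding of the matrix group as the centraliser of a conjugate of the representative. -/
noncomputable def embCent (k : ↥M24) : C5 →* ↥M24 :=
  (MulAut.conj k⁻¹).toMonoidHom.comp (fromC5.codRestrict M24 fun c => (mem_centM24.mp (fromC5_mem c)).1)

theorem embCent_coe (k : ↥M24) (c : C5) :
    ((embCent k c : ↥M24) : Equiv.Perm GolayPt) =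
      (k : Equiv.Perm GolayPt)⁻¹ * fromC5 c * (k : Equiv.Perm GolayPt) := by
  simp [embCent, MulAut.conj_apply]

theorem embCent_injective (k : ↥M24) : Function.Injective (embCent k) := fun a b h => by
  have h2 := congrArg Subtype.val h
  rw [embCent_coe, embCent_coe] at h2
  exact fromC5_injective (mul_left_cancel (mul_right_cancel h2))

theorem embCent_transC {z k : ↥M24}
    (h : (k : Equiv.Perm GolayPt) * z * (k : Equiv.Perm GolayPt)⁻¹ = rep24.den (invRep 0)) :
    embCent k transC = z := by
  apply Subtype.ext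
  rw [embCent_coe, fromC5_transC, ← h]
  group

theorem range_embCent {z k : ↥M24}
    (h : (k : Equiv.Perm GolayPt) * z * (k : Equiv.Perm GolayPt)⁻¹ = rep24.den (invRep 0)) :
    (embCent k).range = Subgroup.centralizer ({z} : Set ↥M24) := by
  ext a
  have key : (a : Equiv.Perm GolayPt) ∈ centM24 (z : Equiv.Perm GolayPt) ↔
      a ∈ Subgroup.centralizer ({z} : Set ↥M24) := by
    rw [mem_centM24, Subgroup.mem_centralizer_singleton_iff]
    exact ⟨fun h => Subtype.ext h.2, fun h => ⟨a.2, congrArg Subtype.val h⟩⟩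
  rw [← key, ← mem_centM24_conj k.2 h]
  constructor
  · rintro ⟨c, rfl⟩
    rw [embCent_coe]
    convert fromC5_mem c using 1
    group
  · intro ha
    refine ⟨centInvAEquiv ⟨_, ha⟩, Subtype.ext ?_⟩
    rw [embCent_coe]
    have : fromC5 (centInvAEquiv ⟨_, ha⟩) =
        (k : Equiv.Perm GolayPt) * a * (k : Equiv.Perm GolayPt)⁻¹ :=
      congrArg Subtype.val (centInvAEquiv.symm_apply_apply _)
    rw [this]
    group

/-- The core of the centraliser. -/
theorem pCore_cent {z k : ↥M24}
    (h : (k : Equiv.Perm GolayPt) * z * (k : Equiv.Perm GolayPt)⁻¹ = rep24.den (invRep 0)) :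
    (Cfsg.pCore 2 ↥(Subgroup.centralizer ({z} : Set ↥M24))).map
      (Subgroup.centralizer ({z} : Set ↥M24)).subtype = Q5.map (embCent k) := by
  let e : C5 ≃* ↥(Subgroup.centralizer ({z} : Set ↥M24)) :=
    (MonoidHom.ofInjective (embCent_injective k)).trans (MulEquiv.subgroupCongr (range_embCent h))
  rw [← Core.map_pCore e, TransvFive.pCore_C5, Subgroup.map_map]
  rfl

theorem isExtraspecial_core (k : ↥M24) : Cfsg.IsExtraspecial 2 ↥(Q5.map (embCent k)) := by
  let e := Q5.equivMapOfInjective _ (embCent_injective k)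
  have hq := TransvFive.isExtraspecial_Q5
  refine LargeExtra.extraspecial_of (TransvFive.isPGroup_Q5.of_equiv e)
    (w := e ⟨transC, TransvFive.transC_mem⟩) ?_ ?_ ?_ (fun c hc => ?_) (fun a b => ?_) (fun a => ?_)
    ?_
  · intro he
    exact TransvFive.transC_ne_one
      (congrArg Subtype.val (e.injective (he.trans (map_one e).symm)))
  · rw [← map_mul, ← map_one e]
    refine congrArg e (Subtype.ext ?_)
    rcases TransvFive.Q5_sq TransvFive.transC_mem with h | h
    · exact h
    · exact absurd (mul_eq_left.mp h) TransvFive.transC_ne_one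
  · refine Subgroup.mem_center_iff.mpr fun g => ?_
    obtain ⟨g, rfl⟩ := e.surjective g
    rw [← map_mul, ← map_mul]
    exact congrArg e (Subtype.ext TransvFive.transC_central)
  · obtain ⟨c, rfl⟩ := e.surjective c
    rcases TransvFive.centralizer_Q5 (M := c.1) (fun N hN => by
      have h2 := Subgroup.mem_center_iff.mp hc (e ⟨N, hN⟩)
      rw [← map_mul, ← map_mul] at h2
      exact (congrArg Subtype.val (e.injective h2)).symm) with h | h
    · left; rw [← map_one e]; exact congrArg e (Subtype.ext h)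
    · right; exact congrArg e (Subtype.ext h)
  · obtain ⟨a, rfl⟩ := e.surjective a
    obtain ⟨b, rfl⟩ := e.surjective b
    rw [← map_commutatorElement e, ← map_one e]
    rcases TransvFive.Q5_comm a.2 b.2 with h | h
    · exact Or.inl (congrArg e (Subtype.ext (by simpa [commutatorElement_def] using h)))
    · exact Or.inr (congrArg e (Subtype.ext (by simpa [commutatorElement_def] using h)))
  · obtain ⟨a, rfl⟩ := e.surjective a
    rw [← map_mul, ← map_one e]
    rcases TransvFive.Q5_sq a.2 with h | h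
    · exact Or.inl (congrArg e (Subtype.ext h))
    · exact Or.inr (congrArg e (Subtype.ext h))
  · obtain ⟨a, b, hab⟩ : ∃ a b : Q5, a * b ≠ b * a := by
      by_contra hc
      push Not at hc
      have hcard := hq.2
      rw [show Subgroup.center Q5 = ⊤ from eq_top_iff.mpr fun x _ =>
        Subgroup.mem_center_iff.mpr fun y => hc y x, Subgroup.card_top, TransvFive.card_Q5] at hcard
      omega
    exact ⟨e a, e b, fun h => hab (e.injective (by rw [map_mul, map_mul]; exact h))⟩

theorem centralizer_core (k : ↥M24) {z : ↥M24}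
    (h : (k : Equiv.Perm GolayPt) * z * (k : Equiv.Perm GolayPt)⁻¹ = rep24.den (invRep 0)) :
    Subgroup.centralizer ((Q5.map (embCent k) : Subgroup ↥M24) : Set ↥M24) = Subgroup.zpowers z ∧
      (Subgroup.center ↥(Q5.map (embCent k))).map (Q5.map (embCent k)).subtype =
        Subgroup.zpowers z := by
  have hzQ : z ∈ Q5.map (embCent k) := ⟨transC, TransvFive.transC_mem, embCent_transC h⟩
  have hcases : ∀ a : ↥M24, (∀ b ∈ Q5.map (embCent k), a * b = b * a) →
      a ∈ Subgroup.zpowers z := by
    intro a ha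
    have ha' : a ∈ (embCent k).range := by
      rw [range_embCent h, Subgroup.mem_centralizer_singleton_iff]
      exact ha z hzQ
    obtain ⟨c, rfl⟩ := ha'
    rcases TransvFive.centralizer_Q5 (M := c) (fun N hN => embCent_injective k (by
      rw [map_mul, map_mul]; exact ha _ ⟨N, hN, rfl⟩)) with e | e
    · rw [e, map_one]; exact one_mem _
    · rw [e, embCent_transC h]; exact Subgroup.mem_zpowers _
  have hzc : ∀ b ∈ Q5.map (embCent k), z * b = b * z := by
    rintro _ ⟨c, -, rfl⟩
    rw [← embCent_transC h, ← map_mul, ← map_mul, TransvFive.transC_central]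
  constructor
  · refine le_antisymm (fun a ha => hcases a fun b hb =>
      (Subgroup.mem_centralizer_iff.mp ha b hb).symm) (Subgroup.zpowers_le.mpr ?_)
    exact Subgroup.mem_centralizer_iff.mpr fun b hb => (hzc b hb).symm
  · refine le_antisymm ?_ (Subgroup.zpowers_le.mpr ⟨⟨z, hzQ⟩,
      Subgroup.mem_center_iff.mpr fun b => Subtype.ext (hzc b b.2).symm, rfl⟩)
    rintro _ ⟨a, ha, rfl⟩
    exact hcases a fun b hb => (congrArg Subtype.val (Subgroup.mem_center_iff.mp ha ⟨b, hb⟩)).symm

theorem orderOf_conj_two {x y k : Equiv.Perm GolayPt} (h : k * x * k⁻¹ = y) :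
    orderOf x = orderOf y := by
  rw [← h]
  exact (orderOf_injective (MulAut.conj k).toMonoidHom (MulAut.conj k).injective x).symm

end Cfsg.Agent.Compute
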