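/-
The normaliser and centraliser of a subgroup of order seven.
-/
import Cfsg.Agent.Compute.Centralizers
import Cfsg.Agent.Compute.CentSevenData
import Cfsg.Agent.Compute.UniqFix

set_option autoImplicit false

namespace Cfsg.Agent.Compute

open Cfsg
open scoped Pointwise

theorem seven_checks :
    (rep24.okb ord7Rep && inM24B ord7Rep && !(idB ord7Rep) && idB (rep24.powCode ord7Rep 7) &&
      Nat.beq (3795 * (centSevenMovers.flatten.length * 126)) 244823040 &&
      Nat.beq (fixMask ord7Rep) centSevenFix &&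
      goodFamB 3 centSevenRoot && cfgTrioTree.memB centSevenRoot) = true ∧
    commB centSevenChain ord7Rep = true ∧
    uniqFixB (famObj 3) cfgTrioTree [ord7Rep] centSevenRoot = true ∧
    rep24.checkChain centSevenNChain = true ∧
    chainSize centSevenChain = 42 ∧ chainSize centSevenNChain = 126 ∧
    (topGens centSevenChain).all (fun g => Nat.beq (rep24.sift centSevenNChain g) rep24.one) = true ∧
    (topGens centSevenNChain).all (fun g => inM24B g && [1, 2, 4].any (fun a =>
      Nat.beq (canonCode (rep24.mul g ord7Rep))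
        (canonCode (rep24.mul (rep24.powCode ord7Rep a) g)))) = true := by decide +kernel

theorem seven_movers : centSevenMovers.all (fun l => l.all (fun e =>
    inM24B e.1 && Nat.beq (imgFam 3 e.1 centSevenRoot) centSevenRoot &&
      Nat.beq (imgMask e.1 centSevenFix) e.2)) = true := by decide +kernel

theorem seven_movers_inc : (incB (centSevenMovers.flatten.map fun e => (e.2, 0)) &&
    centSevenMovers.flatten.all (fun e => Nat.blt e.2 16777216)) = true := by decide +kernel

/-- Commuting elements of the normaliser are in the centraliser. -/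
theorem seven_cent_scan : (rep24.chainElems centSevenNChain).all (fun c =>
    !(Nat.beq (canonCode (rep24.mul c ord7Rep)) (canonCode (rep24.mul ord7Rep c))) ||
      Nat.beq (rep24.sift centSevenChain c) rep24.one) = true := by decide +kernel

theorem seven_nonabelian : (topGens centSevenChain).any (fun a => (topGens centSevenChain).any
    (fun b => !(allBelow 24 (fun i => Nat.beq (rep24.act (rep24.mul a b) i)
      (rep24.act (rep24.mul b a) i))))) = true := by decide +kernel

/-- The representative of order seven. -/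
noncomputable abbrev sevenEl : Equiv.Perm GolayPt := rep24.den ord7Rep

theorem seven_basic : rep24.Ok ord7Rep ∧ sevenEl ∈ M24 ∧ sevenEl ≠ 1 ∧ sevenEl ^ 7 = 1 := by
  have h := seven_checks.1
  simp only [Bool.and_eq_true, Bool.not_eq_true'] at h
  obtain ⟨⟨⟨⟨⟨⟨⟨hok, hM⟩, hne⟩, h7⟩, -⟩, -⟩, -⟩, -⟩ := h
  have ho := rep24.okb_sound _ hok
  refine ⟨ho, (mem_M24_of_check hM).2, fun e => ?_, ?_⟩
  · rw [← Bool.not_eq_true, idB_iff ho] at hne
    exact hne e
  · obtain ⟨hp, hd⟩ := rep24.powCode_spec ho 7
    rw [idB_iff hp, hd] at h7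
    exact h7

theorem card_zpowers_seven : Nat.card ↥(Subgroup.zpowers sevenEl) = 7 := by
  have := Fact.mk (show Nat.Prime 7 by norm_num)
  rw [Nat.card_zpowers]
  exact orderOf_eq_prime seven_basic.2.2.2 seven_basic.2.2.1

theorem mem_zpowers_seven {x : Equiv.Perm GolayPt} (hx : x ∈ Subgroup.zpowers sevenEl) :
    ∃ a < 7, x = sevenEl ^ a := by
  obtain ⟨n, rfl⟩ := hx
  refine ⟨(n % 7).toNat, by omega, ?_⟩
  change sevenEl ^ n = _
  rw [← zpow_natCast, Int.toNat_of_nonneg (Int.emod_nonneg _ (by norm_num))]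
  conv_lhs => rw [← Int.emod_add_mul_ediv n 7, zpow_add, zpow_mul]
  rw [show sevenEl ^ (7 : ℤ) = 1 from by
    rw [show (7 : ℤ) = ((7 : ℕ) : ℤ) from rfl, zpow_natCast, seven_basic.2.2.2], one_zpow, mul_one]

theorem trioGood : ∀ c ∈ cfgTrioTree.codes, (famObj 3).Good c :=
  Obj.stab_good (O := famObj 3) cfgTrio_stab (goodFam_of_check cfgTrio_good)

theorem seven_root : centSevenRoot ∈ cfgTrioTree.codes ∧
    decFam 3 centSevenRoot ∈ trios ∧ sevenEl • decFam 3 centSevenRoot = decFam 3 centSevenRoot := by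
  have h := seven_checks.1
  simp only [Bool.and_eq_true] at h
  have hm := OTr.mem_codes_of_memB h.2
  refine ⟨hm, trioCodes_eq ▸ ⟨_, hm, rfl⟩, ?_⟩
  have hu := seven_checks.2.2.1
  simp only [uniqFixB, Bool.and_eq_true, List.all_eq_true, Nat.beq_eq, List.mem_singleton,
    forall_eq] at hu
  change sevenEl • (famObj 3).dec centSevenRoot = (famObj 3).dec centSevenRoot
  rw [(famObj 3).act_dec _ _ seven_basic.1 (trioGood _ hm)]
  exact congrArg _ hu.1.2

/-- Anything conjugating the group of order seven into itself fixes its trio. -/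
theorem seven_trio {n : Equiv.Perm GolayPt} (hn : n ∈ M24)
    (h : n⁻¹ * sevenEl * n ∈ Subgroup.zpowers sevenEl) :
    n • decFam 3 centSevenRoot = decFam 3 centSevenRoot := by
  refine eq_root_of_uniqFix seven_checks.2.2.1 trioGood trioCodes_eq
    (smul_mem_trios hn seven_root.2.1) fun g hg => ?_
  rw [List.mem_singleton] at hg
  subst hg
  have hle : Subgroup.zpowers sevenEl ≤
      MulAction.stabilizer (Equiv.Perm GolayPt) (decFam 3 centSevenRoot) :=
    Subgroup.zpowers_le.mpr seven_root.2.2
  have h3 : (n⁻¹ * sevenEl * n) • decFam 3 centSevenRoot = decFam 3 centSevenRoot := hle h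
  rw [mul_smul, mul_smul, inv_smul_eq_iff] at h3
  exact h3

theorem seven_orbit :
    (MulAction.orbit M24 (decFam 3 centSevenRoot)).ncard = 3795 := by
  have hmem := seven_root.2.1
  rw [trios_eq_orbit] at hmem
  rw [MulAction.orbit_eq_iff.mpr hmem]
  exact trioStab_spec.2.2.2

theorem sevenN_gens {g : ℕ} (hg : g ∈ topGens centSevenNChain) :
    rep24.Ok g ∧ rep24.den g ∈ M24 ∧
      rep24.den g * sevenEl * (rep24.den g)⁻¹ ∈ Subgroup.zpowers sevenEl := by
  have h := List.all_eq_true.mp seven_checks.2.2.2.2.2.2.2 g hg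
  simp only [Bool.and_eq_true, List.any_eq_true, Nat.beq_eq] at h
  obtain ⟨hM, a, -, he⟩ := h
  obtain ⟨hok, hmem⟩ := mem_M24_of_check hM
  refine ⟨hok, hmem, ?_⟩
  obtain ⟨hp, hd⟩ := rep24.powCode_spec seven_basic.1 a
  -- equal canonical codes denote equal permutations
  have e : rep24.den (rep24.mul g ord7Rep) = rep24.den (rep24.mul (rep24.powCode ord7Rep a) g) := by
    refine Equiv.ext fun p => ?_
    have h1 := rep24.ok_mul _ _ hok seven_basic.1
    have h2 := rep24.ok_mul _ _ hp hok
    apply ptIdx_injective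
    rw [ptIdx_den h1, ptIdx_den h2]
    have hlt : ∀ c, rep24.Ok c → ∀ i < 24, rep24.act c i < 2 ^ 5 := fun c hc i hi =>
      lt_trans (rep24.act_lt c i hc hi) (by change (24 : ℕ) < 2 ^ 5; norm_num)
    have := congrArg (fun v => getField 5 v (ptIdx p)) he
    simp only [canonCode] at this
    rwa [getField_pack 5 24 _ (hlt _ h1) (ptIdx_lt p),
      getField_pack 5 24 _ (hlt _ h2) (ptIdx_lt p)] at this
  rw [rep24.den_mul _ _ hok seven_basic.1, rep24.den_mul _ _ hp hok, hd] at e
  rw [mul_inv_eq_iff_eq_mul.mpr e]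
  exact Subgroup.npow_mem_zpowers _ _

theorem sevenN_normalizes {n : Equiv.Perm GolayPt}
    (hn : n ∈ rep24.chainGroup centSevenNChain) :
    n ∈ M24 ∧ n ∈ Subgroup.normalizer (Subgroup.zpowers sevenEl : Set (Equiv.Perm GolayPt)) := by
  have hle : rep24.chainGroup centSevenNChain ≤ M24 ⊓
      Subgroup.normalizer (Subgroup.zpowers sevenEl : Set (Equiv.Perm GolayPt)) := by
    rw [Rep.chainGroup, Rep.span, Subgroup.closure_le]
    rintro _ ⟨g, hg, rfl⟩
    obtain ⟨-, hM, hz⟩ := sevenN_gens hg
    refine Subgroup.mem_inf.mpr ⟨hM, ?_⟩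
    have hsub : ∀ y ∈ Subgroup.zpowers sevenEl,
        rep24.den g * y * (rep24.den g)⁻¹ ∈ Subgroup.zpowers sevenEl := by
      rintro y ⟨k, rfl⟩
      change rep24.den g * sevenEl ^ k * (rep24.den g)⁻¹ ∈ _
      rw [← conj_zpow]
      exact zpow_mem hz k
    let f : Subgroup.zpowers sevenEl → Subgroup.zpowers sevenEl :=
      fun y => ⟨_, hsub y y.2⟩
    have hf : Function.Injective f := fun a b hab =>
      Subtype.ext (mul_left_cancel (mul_right_cancel (congrArg Subtype.val hab)))
    refine Subgroup.mem_normalizer_iff.mpr fun y => ⟨hsub y, fun hy => ?_⟩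
    obtain ⟨z, hz'⟩ := (Finite.injective_iff_surjective.mp hf) ⟨_, hy⟩
    have he : rep24.den g * (z : Equiv.Perm GolayPt) * (rep24.den g)⁻¹ =
        rep24.den g * y * (rep24.den g)⁻¹ := congrArg Subtype.val hz'
    rw [← mul_left_cancel (mul_right_cancel he)]
    exact z.2
  exact Subgroup.mem_inf.mp (hle hn)

theorem centSeven_le_N :
    rep24.chainGroup centSevenChain ≤ rep24.chainGroup centSevenNChain := by
  have hc := seven_checks.2.1
  simp only [commB, Bool.and_eq_true, List.all_eq_true] at hc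
  rw [Rep.chainGroup, Rep.span, Subgroup.closure_le]
  rintro _ ⟨g, hg, rfl⟩
  exact rep24.mem_of_sift _ seven_checks.2.2.2.1 (mem_M24_of_check (hc.2 g hg).1).1
    (Nat.beq_eq.mp (List.all_eq_true.mp seven_checks.2.2.2.2.2.2.1 g hg))

theorem seven_facts :
    3795 * (centSevenMovers.flatten.length * 126) = 244823040 ∧
      fixMask ord7Rep = centSevenFix := by
  have h := seven_checks.1
  simp only [Bool.and_eq_true, Nat.beq_eq] at h
  obtain ⟨⟨⟨⟨-, h1⟩, h2⟩, -⟩, -⟩ := h
  exact ⟨h1, h2⟩

/-- The stabiliser of the trio and of the fixed points is small. -/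
theorem card_stab_seven :
    Nat.card ↥(M24 ⊓ MulAction.stabilizer (Equiv.Perm GolayPt) (decFam 3 centSevenRoot) ⊓
      MulAction.stabilizer (Equiv.Perm GolayPt) (suppM centSevenFix)) ≤ 126 := by
  set H := M24 ⊓ MulAction.stabilizer (Equiv.Perm GolayPt) (decFam 3 centSevenRoot) with hH
  have hm := seven_movers
  simp only [List.all_eq_true, Bool.and_eq_true, Nat.beq_eq] at hm
  have hi := seven_movers_inc
  simp only [Bool.and_eq_true, List.all_eq_true, Nat.blt_eq] at hi
  have hmem : ∀ e ∈ centSevenMovers.flatten, suppM e.2 ∈ MulAction.orbit H (suppM centSevenFix) := by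
    intro e he
    obtain ⟨l, hl, hel⟩ := List.mem_flatten.mp he
    obtain ⟨⟨hM, hroot⟩, himg⟩ := hm l hl e hel
    obtain ⟨hok, hmem⟩ := mem_M24_of_check hM
    have hHm : rep24.den e.1 ∈ H := by
      refine Subgroup.mem_inf.mpr ⟨hmem, ?_⟩
      rw [MulAction.mem_stabilizer_iff]
      change rep24.den e.1 • (famObj 3).dec centSevenRoot = (famObj 3).dec centSevenRoot
      rw [(famObj 3).act_dec _ _ hok (trioGood _ seven_root.1)]
      exact congrArg _ hroot
    refine ⟨⟨_, hHm⟩, ?_⟩
    change rep24.den e.1 • suppM centSevenFix = suppM e.2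
    rw [smul_suppM hok, himg]
  have hnd : (centSevenMovers.flatten.map Prod.snd).Nodup := by
    have hp := pairwise_of_incB hi.1
    rw [List.map_map, show (Prod.fst ∘ fun e : ℕ × ℕ => (e.2, 0)) = Prod.snd from rfl] at hp
    exact hp.imp fun h => Nat.ne_of_lt h
  have horb : centSevenMovers.flatten.length ≤ (MulAction.orbit H (suppM centSevenFix)).ncard := by
    have hf : Function.Injective (fun i : Fin centSevenMovers.flatten.length =>
        (⟨suppM centSevenMovers.flatten[i].2, hmem _ (List.getElem_mem i.2)⟩ :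
          MulAction.orbit H (suppM centSevenFix))) := by
      intro i j hij
      have h2 := (suppM_eq_iff (hi.2 _ (List.getElem_mem i.2)) (hi.2 _ (List.getElem_mem j.2))).mp
        (congrArg Subtype.val hij)
      apply Fin.ext
      refine (List.Nodup.getElem_inj_iff hnd (hi := by rw [List.length_map]; exact i.2)
        (hj := by rw [List.length_map]; exact j.2)).mp ?_
      simp only [List.getElem_map]
      exact h2
    have h3 := Nat.card_le_card_of_injective _ hf
    rwa [Nat.card_fin, Nat.card_coe_set_eq] at h3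
  have h1 := card_stab_mul (H := M24) (x := decFam 3 centSevenRoot)
  rw [seven_orbit, card_m24] at h1
  have h2 := card_stab_mul (H := H) (x := suppM centSevenFix)
  have h4 := seven_facts.1
  have h5 : centSevenMovers.flatten.length = 512 := by omega
  have h6 := Nat.mul_le_mul_right
    (Nat.card ↥(H ⊓ MulAction.stabilizer (Equiv.Perm GolayPt) (suppM centSevenFix))) horb
  rw [← hH] at h1
  rw [← h2, h5] at h6
  omega

theorem normalizerSeven_eq {n : Equiv.Perm GolayPt} :
    (n ∈ M24 ∧ n ∈ Subgroup.normalizer (Subgroup.zpowers sevenEl : Set (Equiv.Perm GolayPt))) ↔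
      n ∈ rep24.chainGroup centSevenNChain := by
  set K := M24 ⊓ MulAction.stabilizer (Equiv.Perm GolayPt) (decFam 3 centSevenRoot) ⊓
    MulAction.stabilizer (Equiv.Perm GolayPt) (suppM centSevenFix) with hK
  have hle : ∀ m : Equiv.Perm GolayPt, m ∈ M24 →
      m ∈ Subgroup.normalizer (Subgroup.zpowers sevenEl : Set (Equiv.Perm GolayPt)) → m ∈ K := by
    intro m hm hN
    have h2 := (Subgroup.mem_normalizer_iff.mp (inv_mem hN) sevenEl).mp (Subgroup.mem_zpowers _)
    rw [inv_inv] at h2
    refine Subgroup.mem_inf.mpr ⟨Subgroup.mem_inf.mpr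
      ⟨hm, MulAction.mem_stabilizer_iff.mpr (seven_trio hm h2)⟩, ?_⟩
    rw [MulAction.mem_stabilizer_iff]
    apply Finset.eq_of_subset_of_card_le
    · intro q hq
      obtain ⟨p, hp, rfl⟩ := Finset.mem_smul_finset.mp hq
      rw [← seven_facts.2, ← fixFilter_rep seven_basic.1, Finset.mem_filter] at hp ⊢
      refine ⟨Finset.mem_univ _, ?_⟩
      have hfix : (m⁻¹ * sevenEl * m) • p = p := by
        have hsub : Subgroup.zpowers sevenEl ≤ MulAction.stabilizer (Equiv.Perm GolayPt) p :=
          Subgroup.zpowers_le.mpr hp.2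
        exact hsub h2
      rw [mul_smul, mul_smul, inv_smul_eq_iff] at hfix
      exact hfix
    · rw [Finset.card_smul_finset]
  refine ⟨fun ⟨hn, hN⟩ => ?_, sevenN_normalizes⟩
  have heq : rep24.chainGroup centSevenNChain = K := by
    refine Subgroup.eq_of_le_of_card_ge
      (fun m hm => hle m (sevenN_normalizes hm).1 (sevenN_normalizes hm).2) ?_
    rw [Rep.card_chainGroup _ seven_checks.2.2.2.1, seven_checks.2.2.2.2.2.1]
    exact card_stab_seven
  rw [heq]
  exact hle n hn hN

theorem centSeven_eq : centM24 sevenEl = rep24.chainGroup centSevenChain := by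
  refine le_antisymm (fun c hc => ?_) (commB_le seven_basic.1 seven_checks.2.1)
  obtain ⟨hM, hcr⟩ := mem_centM24.mp hc
  have hn : c ∈ Subgroup.normalizer (Subgroup.zpowers sevenEl : Set (Equiv.Perm GolayPt)) := by
    refine Subgroup.mem_normalizer_iff.mpr fun y => ?_
    have key : ∀ y ∈ Subgroup.zpowers sevenEl, c * y * c⁻¹ = y := by
      intro y hy
      obtain ⟨m, rfl⟩ := Subgroup.mem_zpowers_iff.mp hy
      rw [mul_inv_eq_iff_eq_mul]
      exact ((show Commute c sevenEl from hcr).zpow_right m).eq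
    refine ⟨fun hy => (key y hy).symm ▸ hy, fun hy => ?_⟩
    obtain ⟨m, hm⟩ := Subgroup.mem_zpowers_iff.mp hy
    have h3 : y = c⁻¹ * sevenEl ^ m * c := by rw [hm]; group
    rw [h3, mul_assoc, ← ((show Commute c sevenEl from hcr).zpow_right m).eq, inv_mul_cancel_left]
    exact zpow_mem (Subgroup.mem_zpowers _) m
  obtain ⟨x, hx, hok, hden⟩ := rep24.exists_elem _ seven_checks.2.2.2.1
    (normalizerSeven_eq.mp ⟨hM, hn⟩)
  have h := List.all_eq_true.mp seven_cent_scan x hx
  simp only [Bool.or_eq_true, Bool.not_eq_true', Nat.beq_eq] at h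
  rcases h with h | h
  · rw [← Bool.not_eq_true, Nat.beq_eq] at h
    refine absurd (canonCode_congr (rep24.ok_mul _ _ hok seven_basic.1)
      (rep24.ok_mul _ _ seven_basic.1 hok) ?_) h
    rw [rep24.den_mul _ _ hok seven_basic.1, rep24.den_mul _ _ seven_basic.1 hok, hden]
    exact hcr
  · have hc' := seven_checks.2.1
    simp only [commB, Bool.and_eq_true] at hc'
    exact hden ▸ rep24.mem_of_sift _ hc'.1 hok h

theorem card_centSeven : Nat.card ↥(centM24 sevenEl) = 42 := by
  have hc := seven_checks.2.1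
  simp only [commB, Bool.and_eq_true] at hc
  rw [centSeven_eq, Rep.card_chainGroup _ hc.1, seven_checks.2.2.2.2.1]

theorem centSeven_nonabelian :
    ∃ a ∈ centM24 sevenEl, ∃ b ∈ centM24 sevenEl, a * b ≠ b * a := by
  obtain ⟨a, ha, h⟩ := List.any_eq_true.mp seven_nonabelian
  obtain ⟨b, hb, h⟩ := List.any_eq_true.mp h
  have hc := seven_checks.2.1
  simp only [commB, Bool.and_eq_true, List.all_eq_true] at hc
  have ha' := (mem_M24_of_check (hc.2 a ha).1).1
  have hb' := (mem_M24_of_check (hc.2 b hb).1).1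
  have hmem : ∀ g ∈ topGens centSevenChain, rep24.den g ∈ centM24 sevenEl := fun g hg => by
    rw [centSeven_eq]; exact Subgroup.subset_closure ⟨g, hg, rfl⟩
  refine ⟨_, hmem a ha, _, hmem b hb, fun e => ?_⟩
  rw [← rep24.den_mul _ _ ha' hb', ← rep24.den_mul _ _ hb' ha'] at e
  rw [Bool.not_eq_true', ← Bool.not_eq_true, allBelow_eq_true] at h
  refine h fun i hi => ?_
  rw [Nat.beq_eq]
  have h1 := ptIdx_den (rep24.ok_mul _ _ ha' hb') (rep24.pt i)
  rw [e, ptIdx_den (rep24.ok_mul _ _ hb' ha'), ptIdx_rep24 hi] at h1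
  exact h1.symm

end Cfsg.Agent.Compute
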