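/-
Kernel checks of the configuration certificates.
-/
import Cfsg.Agent.Compute.CfgDPairData
import Cfsg.Agent.Compute.Config
import Cfsg.Agent.Compute.M24Data
import Cfsg.Agent.Compute.Objects

set_option autoImplicit false

namespace Cfsg.Agent.Compute

open Cfsg
open scoped Pointwise

theorem cfgDPair_stab : (famObj 2).stabB m24aChain cfgDPairChain m24Gens cfgDPairTree cfgDPairRoot 1288 = true := by
  decide +kernel

theorem cfgDPair_good : goodFamB 2 cfgDPairRoot = true := by
  decide +kernel

theorem cfgDPair_genCheck : rep24.genB cfgDPairChain cfgDPairGens cfgDPairSlp = true := by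
  decide +kernel

end Cfsg.Agent.Compute
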