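/-
Kernel checks of a separated partition.
-/
import Cfsg.Agent.Compute.CfgPQBothData
import Cfsg.Agent.Compute.CfgOctData
import Cfsg.Agent.Compute.LabelDefs
import Cfsg.Agent.Compute.Labels
import Cfsg.Agent.Compute.Objects

set_option autoImplicit false

namespace Cfsg.Agent.Compute

open Cfsg
open scoped Pointwise

/-- The invariant separating the suborbits. -/
noncomputable def cfgPQBothOctLab (c : ℕ) : ℕ := Nat.add (interN cfgPQBothRoot c) (Nat.add (bitN c 23 16) (bitN c 0 32))

theorem cfgPQBoth_labOct : labB cfgOctTree cfgPQBothOctLab cfgPQBothOctSubs = true := by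
  decide +kernel

theorem cfgPQBoth_partOct : maskObj.partB cfgPQBothGens cfgOctTree.codes cfgPQBothOctSubs = true := by
  decide +kernel

end Cfsg.Agent.Compute
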