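/-
Elements of prime order of M11 fix a point outside the dodecad.
-/
import Cfsg.Agent.Compute.Classes
import Cfsg.Agent.Compute.Mathieu

set_option autoImplicit false

namespace Cfsg.Agent.Compute

open Cfsg

/-- A fixed point outside the dodecad, or not of prime order dividing the group order. -/
noncomputable def elusiveB (c : ℕ) : Bool :=
  !(allBelow 24 (fun i => bitB dodecadMask i || !(Nat.beq (rep24.act c i) i))) || idB c ||
    !(idB (rep24.powCode c 2) || idB (rep24.powCode c 3) || idB (rep24.powCode c 5) ||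
      idB (rep24.powCode c 11))

theorem m11_elusive_check : (rep24.chainElems m12Chain.tail).all elusiveB = true := by
  decide +kernel

theorem m11_elusive {g : Equiv.Perm GolayPt} (hg : g ∈ Spor.M11) (hord : (orderOf g).Prime) :
    ∃ x : GolayPt, x ∉ Spor.squareDodecad ∧ g x = x := by
  have hd : orderOf g ∣ 7920 := by
    rw [← card_m11, ← orderOf_subgroup hg]
    exact orderOf_dvd_natCard _
  have hpow : ∃ p ∈ [2, 3, 5, 11], g ^ p = 1 := by
    refine ⟨orderOf g, ?_, pow_orderOf_eq_one g⟩
    rcases (Nat.Prime.dvd_mul hord).mp (show orderOf g ∣ 16 * (9 * 55) from hd) with h | h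
    · rw [(Nat.prime_dvd_prime_iff_eq hord Nat.prime_two).mp (hord.dvd_of_dvd_pow (n := 4) h)]
      simp
    · rcases (Nat.Prime.dvd_mul hord).mp h with h | h
      · rw [(Nat.prime_dvd_prime_iff_eq hord Nat.prime_three).mp (hord.dvd_of_dvd_pow (n := 2) h)]
        simp
      · rcases (Nat.Prime.dvd_mul hord).mp (show orderOf g ∣ 5 * 11 from h) with h | h
        · rw [(Nat.prime_dvd_prime_iff_eq hord (by norm_num)).mp h]; simp
        · rw [(Nat.prime_dvd_prime_iff_eq hord (by norm_num)).mp h]; simp
  rw [m11_eq] at hg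
  have hcc : rep24.checkChain m12Chain.tail = true := Rep.checkChain_tail m12_check
  obtain ⟨c, hcm, hok, rfl⟩ := rep24.exists_elem _ hcc hg
  have h := List.all_eq_true.mp m11_elusive_check c hcm
  simp only [elusiveB, Bool.or_eq_true, Bool.not_eq_true', Bool.or_eq_false_iff] at h
  rcases h with (h | h) | h
  · rw [← Bool.not_eq_true, allBelow_eq_true] at h
    push_neg at h
    obtain ⟨i, hi, hfix⟩ := h
    rw [ne_eq, Bool.not_eq_true, Bool.or_eq_false_iff, Bool.not_eq_false', Nat.beq_eq] at hfix
    refine ⟨rep24.pt i, ?_, ?_⟩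
    · rw [squareDodecad_eq, mem_suppM, ptIdx_rep24 hi, ← bitB_eq, hfix.1]
      simp
    · have := rep24.act_spec c i hok hi
      rw [hfix.2] at this
      exact this
  · exact absurd ((idB_iff hok).mp h) (fun e => by
      rw [e, orderOf_one] at hord; exact Nat.not_prime_one hord)
  · obtain ⟨p, hp, hgp⟩ := hpow
    obtain ⟨hokp, hdenp⟩ := rep24.powCode_spec hok p
    have hid : idB (rep24.powCode c p) = true := by rw [idB_iff hokp, hdenp, hgp]
    obtain ⟨⟨⟨h2, h3⟩, h5⟩, h11⟩ := h
    simp only [List.mem_cons, List.not_mem_nil, or_false] at hp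
    rcases hp with rfl | rfl | rfl | rfl <;> simp_all

end Cfsg.Agent.Compute
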