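/-
The two classes of M11 in M12.
-/
import Cfsg.Agent.Compute.MathieuActions
import Cfsg.Agent.Compute.MathieuExtra

set_option autoImplicit false

namespace Cfsg.Agent.Compute

open Cfsg
open scoped Pointwise

theorem coDodecad_word : (List.range 4096).any (fun k =>
    Nat.beq (cw k) ((2 ^ 24 - 1) ^^^ dodecadMask)) = true ∧
    popBits 24 ((2 ^ 24 - 1) ^^^ dodecadMask) = 12 ∧
    dodecadMask.testBit 23 = false := by decide +kernel

theorem compl_squareDodecad :
    Finset.univ \ Spor.squareDodecad = suppM ((2 ^ 24 - 1) ^^^ dodecadMask) := by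
  ext p
  rw [Finset.mem_sdiff, squareDodecad_eq, mem_suppM, mem_suppM, Nat.testBit_xor,
    Nat.testBit_two_pow_sub_one]
  simp [ptIdx_lt p]

theorem compl_squareDodecad_mem : Finset.univ \ Spor.squareDodecad ∈ dodecads := by
  obtain ⟨⟨k, hk, hkc⟩, h12, -⟩ := And.imp_left List.any_eq_true.mp coDodecad_word
  rw [Nat.beq_eq] at hkc
  rw [compl_squareDodecad]
  refine ⟨(mem_supports_iff _).mpr ⟨k, List.mem_range.mp hk, by rw [hkc]⟩, ?_⟩
  rw [card_suppM, h12]

theorem none_mem_compl : (none : GolayPt) ∈ Finset.univ \ Spor.squareDodecad := by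
  rw [Finset.mem_sdiff, squareDodecad_eq, mem_suppM, ← rep24_pt23, ptIdx_rep24 (by norm_num),
    coDodecad_word.2.2]
  simp

theorem m11_moves_outside_check : allBelow 24 (fun i => bitB dodecadMask i ||
    (topGens m12Chain.tail).any (fun t => rep24.okb t && !(Nat.beq (rep24.act t i) i))) = true := by
  decide +kernel

theorem m11_moves_outside {p : GolayPt} (hp : p ∉ Spor.squareDodecad) :
    ∃ x ∈ Spor.M11, x p ≠ p := by
  have h := allBelow_eq_true.mp m11_moves_outside_check (ptIdx p) (ptIdx_lt p)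
  simp only [Bool.or_eq_true, List.any_eq_true, Bool.and_eq_true, Bool.not_eq_true'] at h
  rcases h with h | ⟨t, ht, hok, hne⟩
  · rw [bitB_eq, ← mem_suppM, ← squareDodecad_eq] at h
    exact absurd h hp
  · refine ⟨rep24.den t, ?_, ?_⟩
    · rw [m11_eq, Rep.chainGroup, Rep.span]
      exact Subgroup.subset_closure ⟨t, ht, rfl⟩
    · intro e
      have := rep24.act_spec t (ptIdx p) (rep24.okb_sound _ hok) (ptIdx_lt p)
      rw [rep24_pt_ptIdx, Equiv.Perm.smul_def, e] at this
      have h' := congrArg ptIdx this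
      rw [ptIdx_rep24 (rep24.act_lt t _ (rep24.okb_sound _ hok) (ptIdx_lt p))] at h'
      rw [← Bool.not_eq_true, Nat.beq_eq] at hne
      exact hne h'.symm

theorem m11_conj_eq {g : Equiv.Perm GolayPt} (hg : g ∈ M24)
    (hgd : g • Spor.squareDodecad = Finset.univ \ Spor.squareDodecad) (h0 : g (some 0) = none) :
    MulAut.conj g • Spor.M11 =
      Spor.M12 ⊓ MulAction.stabilizer (Equiv.Perm GolayPt) (none : GolayPt) := by
  ext a
  rw [Subgroup.mem_pointwise_smul_iff_inv_smul_mem]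
  have e : (MulAut.conj g)⁻¹ • a = g⁻¹ * a * g := by simp [MulAut.smul_def, MulAut.conj_inv_apply]
  rw [e]
  have hM : g⁻¹ * a * g ∈ M24 ↔ a ∈ M24 := by
    constructor
    · intro h
      have := mul_mem (mul_mem hg h) (inv_mem hg)
      rwa [show g * (g⁻¹ * a * g) * g⁻¹ = a by group] at this
    · exact fun h => mul_mem (mul_mem (inv_mem hg) h) hg
  have hc : ∀ s : Finset GolayPt, a • (Finset.univ \ s) = Finset.univ \ (a • s) := fun s => by
    rw [Finset.smul_finset_sdiff, Finset.smul_finset_univ]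
  simp only [Spor.M11, Spor.M12, Subgroup.mem_inf, MulAction.mem_stabilizer_iff, hM, mul_smul,
    inv_smul_eq_iff, hgd, show g • (some 0 : GolayPt) = none from h0]
  refine ⟨fun ⟨⟨ha, h1⟩, h2⟩ => ⟨⟨ha, ?_⟩, h2⟩, fun ⟨⟨ha, h1⟩, h2⟩ => ⟨⟨ha, ?_⟩, h2⟩⟩
  · rw [hc] at h1
    rw [← Finset.compl_eq_univ_sdiff, ← Finset.compl_eq_univ_sdiff] at h1
    exact compl_inj_iff.mp h1
  · rw [hc, h1]

end Cfsg.Agent.Compute
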