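/-
The stabiliser of a dodecad and one of its points on the twelve other points.
-/
import Cfsg.Agent.Compute.MathieuConfigs3

set_option autoImplicit false

namespace Cfsg.Agent.Compute

open Cfsg
open scoped Pointwise

theorem maskSet_step {P K : Subgroup (Equiv.Perm GolayPt)} {t : OTr} {r m : ℕ} {bs : List GolayPt}
    (hr : r < 24)
    (hK : P ⊓ MulAction.stabilizer (Equiv.Perm GolayPt) (rep24.pt r) = K)
    (horb : MulAction.orbit P (rep24.pt r) = rep24.pt '' {c | c ∈ t.codes})
    (hcov : (List.range 24).all (fun i => m.testBit i || t.memB i) = true)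
    (hinv : ∀ g ∈ P, g • suppM m = suppM m)
    (hrest : TupleTrans K (maskSet (m ||| 2 ^ r)) bs) :
    TupleTrans P (maskSet m) (rep24.pt r :: bs) := by
  subst hK
  refine tupleTrans_cons inf_le_left (fun g hg => (Subgroup.mem_inf.mp hg).2) ?_ ?_
    (by rw [maskSet_diff hr]; exact hrest)
  · intro g hg p
    have h := Finset.smul_mem_smul_finset_iff (a := g) (s := suppM m) (b := p)
    rw [hinv g hg, Equiv.Perm.smul_def, mem_suppM, mem_suppM] at h
    change m.testBit (ptIdx (g p)) = false ↔ m.testBit (ptIdx p) = false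
    rw [← Bool.not_eq_true, ← Bool.not_eq_true, h]
  · intro p hp
    have hp' : m.testBit (ptIdx p) = false := hp
    obtain ⟨g, hg, hgp⟩ := mem_orbit_of_tree (p := fun i => !m.testBit i) horb
      (by simpa using hcov) (X := p) (by rw [hp']; rfl)
    refine ⟨g⁻¹, inv_mem hg, ?_⟩
    rw [Equiv.Perm.inv_eq_iff_eq]; exact hgp.symm

theorem m11_outside_tupleTrans :
    TupleTrans (rep24.chainGroup cfgDodPtChain) (maskSet cfgDodRoot)
      [rep24.pt cfgDodPtORoot, rep24.pt cfgDodPtOORoot, rep24.pt cfgDodPtOOORoot] := by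
  have hD : ∀ g ∈ rep24.chainGroup cfgDodPtChain, g • suppM cfgDodRoot = suppM cfgDodRoot :=
    fun g hg => (mem_cfgDodPt hg).2.1
  have hpt : ∀ (r : ℕ) (g : Equiv.Perm GolayPt), r < 24 → g • rep24.pt r = rep24.pt r →
      ∀ (m : ℕ), g • suppM m = suppM m → g • suppM (m ||| 2 ^ r) = suppM (m ||| 2 ^ r) := by
    intro r g hr hgr m hm
    have e : suppM (2 ^ r) = {rep24.pt r} := by
      ext p
      rw [mem_suppM, Finset.mem_singleton, Nat.testBit_two_pow, decide_eq_true_eq]
      exact ⟨fun h => by rw [h, rep24_pt_ptIdx], fun h => by rw [h, ptIdx_rep24 hr]⟩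
    rw [suppM_or, Finset.smul_finset_union, hm, e, Finset.smul_finset_singleton, hgr]
  refine maskSet_step root_lt_DodPtO stabDodPtO_spec.2.1 stabDodPtO_spec.2.2.1
    (by decide +kernel) hD ?_
  refine maskSet_step root_lt_DodPtOO stabDodPtOO_spec.2.1 stabDodPtOO_spec.2.2.1
    (by decide +kernel) (fun g hg => hpt _ g root_lt_DodPtO (mem_cfgDodPtO hg).2.2.2 _
      (hD g (cfgDodPtO_le hg))) ?_
  exact maskSet_step root_lt_DodPtOOO stabDodPtOOO_spec.2.1 stabDodPtOOO_spec.2.2.1
    (by decide +kernel) (fun g hg => hpt _ g root_lt_DodPtOO (mem_cfgDodPtOO hg).2.2.2.2 _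
      (hpt _ g root_lt_DodPtO (mem_cfgDodPtOO hg).2.2.2.1 _
        (hD g (cfgDodPtO_le (cfgDodPtOO_le hg))))) (tupleTrans_nil _ _)

end Cfsg.Agent.Compute
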