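/-
Kernel checks for the stabiliser of three points in M12.
-/
import Cfsg.Agent.Compute.Classes
import Cfsg.Agent.Compute.Mathieu

set_option autoImplicit false
set_option synthInstance.maxSize 2000

namespace Cfsg.Agent.Compute

open Cfsg

/-- A quaternion subgroup of the stabiliser of three points. -/
def m9Quat : List ℕ :=
  [0xbdab49ca307b9ac5a928398a418820,
   0x8aa6fa22f2a96093ac8db31c618820,
   0xbae957b6289ba44b1cd0524ac18820,
   0x89df3ac2eda150655992591c918820,
   0x752cb3a4a455cd0acdac7ca2818820,
   0x2ccea5b1c9b448d7d506a42f218820,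
   0x75576518ac3dd28a3e449b63018820,
   0x2bd47b11c65c5929d209aa2ed18820]

/-- Position of an element of the quaternion group in the table. -/
def quatIdx : QuaternionGroup 2 → ℕ
  | QuaternionGroup.a i => i.val
  | QuaternionGroup.xa i => 4 + i.val

theorem m9_quat_check : ∀ x : QuaternionGroup 2,
    rep24.okb (m9Quat.getD (quatIdx x) 0) = true ∧
      memB (m9Quat.getD (quatIdx x) 0) (rep24.chainElems (m12Chain.drop 3)) = true ∧
      (idB (m9Quat.getD (quatIdx x) 0) = true → x = 1) ∧
      ∀ y : QuaternionGroup 2, m9Quat.getD (quatIdx (x * y)) 0 =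
        rep24.mul (m9Quat.getD (quatIdx x) 0) (m9Quat.getD (quatIdx y) 0) := by decide +kernel

theorem m9_three_check : (rep24.chainElems (m12Chain.drop 3)).all (fun c =>
    !(idB (rep24.powCode c 9)) || idB (rep24.powCode c 3)) = true ∧
    ((rep24.chainElems (m12Chain.drop 3)).filter (fun c => idB (rep24.powCode c 3))).length = 9 ∧
    chainSize (m12Chain.drop 3) = 72 ∧ (m12Chain.take 3).map Level.base = [0, 1, 2] := by
  decide +kernel

end Cfsg.Agent.Compute
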