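/-
The stabiliser of a dodecad and three of its points.
-/
import Cfsg.Agent.Compute.M9Check
import Cfsg.Agent.Compute.MathieuActions
import Cfsg.Agent.Compute.IsoTools

set_option autoImplicit false

namespace Cfsg.Agent.Compute

open Cfsg
open scoped Pointwise

theorem m12_tupleTrans3 : TupleTrans Spor.M12 (maskSet coDodecad)
    [rep24.pt 0, rep24.pt 1, rep24.pt 2] := by
  rw [sporM12_eq]
  obtain ⟨d0, d1, d2, d3, d4, c0, c1, c2, c3, c4⟩ := bases_other
  exact tupleTrans_step m12_check c0 coverC0 fixC0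
    (tupleTrans_step (Rep.checkChain_tail m12_check) c1 coverC1 fixC1
      (tupleTrans_step (Rep.checkChain_tail (Rep.checkChain_tail m12_check)) c2 coverC2 fixC2
        (tupleTrans_nil _ _)))

theorem mem_m9_iff {a : Equiv.Perm GolayPt} :
    a ∈ rep24.chainGroup (m12Chain.drop 3) ↔ a ∈ Spor.M12 ∧
      a (rep24.pt 0) = rep24.pt 0 ∧ a (rep24.pt 1) = rep24.pt 1 ∧ a (rep24.pt 2) = rep24.pt 2 := by
  have hb := m9_three_check.2.2.2
  rw [mem_chain_drop m12Chain m12_check 3 (by decide +kernel), ← sporM12_eq]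
  refine and_congr_right fun _ => ?_
  have key : (∀ L ∈ m12Chain.take 3, a • rep24.pt L.base = rep24.pt L.base) ↔
      ∀ i ∈ ([0, 1, 2] : List ℕ), a (rep24.pt i) = rep24.pt i := by
    rw [← hb, List.forall_mem_map]
    rfl
  rw [key]
  simp

/-- The three-point stabiliser in M12 is the stabiliser of a dodecad and three of its points. -/
theorem nonempty_stab_dodecad_three {d : Finset GolayPt} (hd : d ∈ dodecads) {p q r : GolayPt}
    (hp : p ∈ d) (hq : q ∈ d) (hr : r ∈ d) (hpq : p ≠ q) (hpr : p ≠ r) (hqr : q ≠ r) :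
    Nonempty (↥(MulAction.stabilizer M24 d ⊓ MulAction.stabilizer M24 p ⊓
      MulAction.stabilizer M24 q ⊓ MulAction.stabilizer M24 r) ≃*
        ↥(rep24.chainGroup (m12Chain.drop 3))) := by
  obtain ⟨g, hg, hgd⟩ := exists_move_dodecad hd
  have hmem : ∀ {z : GolayPt}, z ∈ d → g z ∈ maskSet coDodecad := fun {z} hz => by
    rw [mem_maskSet_squareDodecad, ← hgd]
    exact Finset.smul_mem_smul_finset hz
  obtain ⟨k, hk, hkx⟩ := m12_tupleTrans3 [g p, g q, g r]
    (by simp [g.injective.ne hpq, g.injective.ne hpr, g.injective.ne hqr])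
    (by
      intro z hz
      simp only [List.mem_cons, List.not_mem_nil, or_false] at hz
      rcases hz with rfl | rfl | rfl
      exacts [hmem hp, hmem hq, hmem hr])
    rfl
  simp only [List.map_cons, List.map_nil, List.cons.injEq, and_true] at hkx
  have hh : k⁻¹ * g ∈ M24 := mul_mem (inv_mem hk.1) hg
  have hd' : (k⁻¹ * g) • d = Spor.squareDodecad := by
    rw [mul_smul, hgd, inv_smul_eq_iff]
    exact (MulAction.mem_stabilizer_iff.mp hk.2).symm
  have hp' : (k⁻¹ * g) p = rep24.pt 0 := by rw [Equiv.Perm.mul_apply, Equiv.Perm.inv_eq_iff_eq, hkx.1]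
  have hq' : (k⁻¹ * g) q = rep24.pt 1 := by rw [Equiv.Perm.mul_apply, Equiv.Perm.inv_eq_iff_eq, hkx.2.1]
  have hr' : (k⁻¹ * g) r = rep24.pt 2 := by rw [Equiv.Perm.mul_apply, Equiv.Perm.inv_eq_iff_eq, hkx.2.2]
  refine ⟨subEquivConj _ _ (k⁻¹ * g) fun a => ?_⟩
  simp only [mem_m9_iff, Spor.M12, Subgroup.mem_inf, conj_mem_M24_iff hh,
    MulAction.mem_stabilizer_iff, conj_smul_eq_iff hd', Equiv.Perm.smul_def, conj_apply_eq_iff hp',
    conj_apply_eq_iff hq', conj_apply_eq_iff hr']
  exact ⟨fun ⟨ha, ⟨⟨h0, h1⟩, h2⟩, h3⟩ => ⟨⟨ha, h0⟩, h1, h2, h3⟩,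
    fun ⟨⟨ha, h0⟩, h1, h2, h3⟩ => ⟨ha, ⟨⟨h0, h1⟩, h2⟩, h3⟩⟩

theorem card_m9 : Nat.card ↥(rep24.chainGroup (m12Chain.drop 3)) = 72 := by
  rw [Rep.card_chainGroup _ (checkChain_drop m12_check 3), m9_three_check.2.2.1]

theorem m9_three (P : Sylow 3 ↥(rep24.chainGroup (m12Chain.drop 3))) :
    (P : Subgroup ↥(rep24.chainGroup (m12Chain.drop 3))).Normal ∧ Nat.card ↥P = 9 ∧
      ∀ x ∈ (P : Subgroup ↥(rep24.chainGroup (m12Chain.drop 3))), x ^ 3 = 1 := by
  haveI : Fact (Nat.Prime 3) := ⟨Nat.prime_three⟩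
  have hP : Nat.card ↥P = 9 := by
    change Nat.card ↥(P : Subgroup ↥(rep24.chainGroup (m12Chain.drop 3))) = 9
    rw [Sylow.card_eq_multiplicity, card_m9, show (72 : ℕ) = 3 ^ 2 * 8 by norm_num,
      Nat.factorization_mul (by norm_num) (by norm_num), Finsupp.add_apply,
      Nat.Prime.factorization_pow Nat.prime_three, Finsupp.single_eq_same,
      Nat.factorization_eq_zero_of_not_dvd (by norm_num)]
    norm_num
  have hcc := checkChain_drop m12_check 3
  have hcube : ∀ x ∈ (P : Subgroup ↥(rep24.chainGroup (m12Chain.drop 3))), x ^ 3 = 1 := by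
    intro x hx
    obtain ⟨c, hcm, hok, hden⟩ := rep24.exists_elem _ hcc x.2
    have h9 : x ^ 9 = 1 := by
      have := pow_card_eq_one' (G := ↥P) (x := ⟨x, hx⟩)
      rw [hP] at this
      exact congrArg Subtype.val this
    have h := List.all_eq_true.mp m9_three_check.1 c hcm
    obtain ⟨hok9, hd9⟩ := rep24.powCode_spec hok 9
    obtain ⟨hok3, hd3⟩ := rep24.powCode_spec hok 3
    have e9 : idB (rep24.powCode c 9) = true := by
      rw [idB_iff hok9, hd9, hden, ← Subgroup.coe_pow, h9, Subgroup.coe_one]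
    rw [e9, Bool.not_true, Bool.false_or, idB_iff hok3, hd3, hden] at h
    exact Subtype.ext h
  refine ⟨?_, hP, hcube⟩
  classical
  have hset : {x : ↥(rep24.chainGroup (m12Chain.drop 3)) | x ^ 3 = 1}.ncard ≤ 9 := by
    have h1 := Set.ncard_le_ncard_of_injOn
      (fun x : ↥(rep24.chainGroup (m12Chain.drop 3)) => (x : Equiv.Perm GolayPt))
      (s := {x | x ^ 3 = 1})
      (t := ((((rep24.chainElems (m12Chain.drop 3)).filter
        (fun c => idB (rep24.powCode c 3))).map rep24.den).toFinset : Set (Equiv.Perm GolayPt)))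
      (fun x hx => by
        obtain ⟨c, hcm, hok, hden⟩ := rep24.exists_elem _ hcc x.2
        obtain ⟨hok3, hd3⟩ := rep24.powCode_spec hok 3
        rw [Finset.mem_coe, List.mem_toFinset, List.mem_map]
        refine ⟨c, List.mem_filter.mpr ⟨hcm, ?_⟩, hden⟩
        rw [idB_iff hok3, hd3, hden, ← Subgroup.coe_pow, show x ^ 3 = 1 from hx, Subgroup.coe_one])
      (fun x _ y _ h => Subtype.ext h) (Finset.finite_toSet _)
    rw [Set.ncard_coe_finset] at h1
    exact h1.trans ((List.toFinset_card_le _).trans (by rw [List.length_map]; exact m9_three_check.2.1.le))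
  have heq : ((P : Subgroup ↥(rep24.chainGroup (m12Chain.drop 3))) :
      Set ↥(rep24.chainGroup (m12Chain.drop 3))) = {x | x ^ 3 = 1} :=
    Set.eq_of_subset_of_ncard_le (fun x hx => hcube x hx) (hset.trans (by
      rw [← Nat.card_coe_set_eq]; exact hP.ge))
  refine ⟨fun x hx g => ?_⟩
  have : g * x * g⁻¹ ∈ {x : ↥(rep24.chainGroup (m12Chain.drop 3)) | x ^ 3 = 1} := by
    rw [Set.mem_setOf_eq, conj_pow, hcube x hx, mul_one, mul_inv_cancel]
  rw [← heq] at this
  exact this

/-- The quaternion group inside the three-point stabiliser. -/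
noncomputable def quatHom : QuaternionGroup 2 →* ↥(rep24.chainGroup (m12Chain.drop 3)) :=
  MonoidHom.mk' (fun x => ⟨rep24.den (m9Quat.getD (quatIdx x) 0),
    (Rep.chainElems_mem rep24 _ (checkChain_drop m12_check 3)
      (memB_eq_true.mp (m9_quat_check x).2.1)).2⟩) fun x y => by
    apply Subtype.ext
    change rep24.den _ = rep24.den _ * rep24.den _
    rw [← rep24.den_mul _ _ (rep24.okb_sound _ (m9_quat_check x).1)
      (rep24.okb_sound _ (m9_quat_check y).1), (m9_quat_check x).2.2.2 y]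

theorem quatHom_injective : Function.Injective quatHom := by
  rw [injective_iff_map_eq_one]
  intro x hx
  exact (m9_quat_check x).2.2.1
    ((idB_iff (rep24.okb_sound _ (m9_quat_check x).1)).mpr (congrArg Subtype.val hx))

theorem m9_two (P : Sylow 2 ↥(rep24.chainGroup (m12Chain.drop 3))) :
    Nonempty (↥P ≃* QuaternionGroup 2) := by
  haveI : Fact (Nat.Prime 2) := ⟨Nat.prime_two⟩
  have hr : Nat.card ↥quatHom.range = 8 := by
    rw [← Nat.card_congr (MonoidHom.ofInjective quatHom_injective).toEquiv,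
      Nat.card_eq_fintype_card, QuaternionGroup.card]
  let R : Sylow 2 ↥(rep24.chainGroup (m12Chain.drop 3)) := Sylow.ofCard quatHom.range (by
    rw [hr, card_m9, show (72 : ℕ) = 2 ^ 3 * 9 by norm_num,
      Nat.factorization_mul (by norm_num) (by norm_num), Finsupp.add_apply,
      Nat.Prime.factorization_pow Nat.prime_two, Finsupp.single_eq_same,
      Nat.factorization_eq_zero_of_not_dvd (by norm_num)]
    norm_num)
  exact ⟨(P.equiv R).trans (MonoidHom.ofInjective quatHom_injective).symm⟩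

end Cfsg.Agent.Compute
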