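/-
The disjointness graph of the octads.
-/
import Cfsg.Agent.Compute.MathieuMoves

set_option autoImplicit false

namespace Cfsg.Agent.Compute

open Cfsg
open scoped Pointwise

theorem octInter_vals :
    cfgOctTree.codes.all (fun c => memB (interN cfgOctRoot c) [8, 0, 4, 2]) = true ∧
    cfgOctTree.codes.all (fun c => !(Nat.beq (interN cfgOctRoot c) 4) ||
      cfgOctTree.codes.any (fun e => Nat.beq (interN cfgOctRoot e) 0 &&
        Nat.beq (interN c e) 0)) = true ∧
    cfgOctTree.codes.all (fun c => !(Nat.beq (interN cfgOctRoot c) 2) ||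
      (cfgOctTree.codes.all (fun e => !(Nat.beq (interN cfgOctRoot e) 0) ||
        !(Nat.beq (interN c e) 0)) &&
       cfgOctTree.codes.any (fun e => Nat.beq (interN cfgOctRoot e) 0 &&
        Nat.beq (interN c e) 4))) = true := by
  decide +kernel

theorem card_inter_vals {o o' : Finset GolayPt} (ho : o ∈ octads) (ho' : o' ∈ octads) (hne : o ≠ o') :
    (o ∩ o').card = 0 ∨ (o ∩ o').card = 4 ∨ (o ∩ o').card = 2 := by
  obtain ⟨g, hg, hgo⟩ := exists_move_oct ho
  have hm : g • o' ∈ octads := (smul_mem_octads_iff hg).mpr ho'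
  rw [octads_eq_codes] at hm
  obtain ⟨c, hc, hco⟩ := hm
  have hval : interN cfgOctRoot c = (o ∩ o').card := by
    rw [← interN_spec, hco, ← hgo, card_inter_smul]
  have hv := memB_eq_true.mp (List.all_eq_true.mp octInter_vals.1 c hc)
  rw [hval] at hv
  simp only [List.mem_cons, List.not_mem_nil, or_false] at hv
  rcases hv with h | h
  · refine absurd ?_ hne
    have h1 : o ∩ o' = o :=
      Finset.eq_of_subset_of_card_le Finset.inter_subset_left (by rw [ho.2, h])
    have h2 : o ∩ o' = o' :=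
      Finset.eq_of_subset_of_card_le Finset.inter_subset_right (by rw [ho'.2, h])
    exact h1.symm.trans h2
  · exact h

theorem exists_common_disjoint {o o' : Finset GolayPt} (ho : o ∈ octads) (ho' : o' ∈ octads)
    (h : (o ∩ o').card = 4) :
    ∃ e ∈ octads, (o ∩ e).card = 0 ∧ (o' ∩ e).card = 0 := by
  obtain ⟨g, hg, hgo⟩ := exists_move_oct ho
  have hm : g • o' ∈ octads := (smul_mem_octads_iff hg).mpr ho'
  rw [octads_eq_codes] at hm
  obtain ⟨c, hc, hco⟩ := hm
  have hval : interN cfgOctRoot c = 4 := by rw [← interN_spec, hco, ← hgo, card_inter_smul, h]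
  have hv := List.all_eq_true.mp octInter_vals.2.1 c hc
  rw [hval, show Nat.beq 4 4 = true from rfl, Bool.not_true, Bool.false_or, List.any_eq_true] at hv
  obtain ⟨e, he, hev⟩ := hv
  rw [Bool.and_eq_true, Nat.beq_eq, Nat.beq_eq, ← interN_spec, ← interN_spec, hco, ← hgo] at hev
  refine ⟨g⁻¹ • suppM e, (smul_mem_octads_iff (inv_mem hg)).mpr ?_, ?_, ?_⟩
  · rw [octads_eq_codes]; exact ⟨e, he, rfl⟩
  · rw [← card_inter_smul g, smul_inv_smul, hev.1]
  · rw [← card_inter_smul g, smul_inv_smul, hev.2]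

theorem no_common_disjoint {o o' : Finset GolayPt} (ho : o ∈ octads) (ho' : o' ∈ octads)
    (h : (o ∩ o').card = 2) :
    (∀ e ∈ octads, (o ∩ e).card = 0 → (o' ∩ e).card ≠ 0) ∧
      ∃ e ∈ octads, (o ∩ e).card = 0 ∧ (o' ∩ e).card = 4 := by
  obtain ⟨g, hg, hgo⟩ := exists_move_oct ho
  have hm : g • o' ∈ octads := (smul_mem_octads_iff hg).mpr ho'
  rw [octads_eq_codes] at hm
  obtain ⟨c, hc, hco⟩ := hm
  have hval : interN cfgOctRoot c = 2 := by rw [← interN_spec, hco, ← hgo, card_inter_smul, h]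
  have hv := List.all_eq_true.mp octInter_vals.2.2 c hc
  rw [hval, show Nat.beq 2 2 = true from rfl, Bool.not_true, Bool.false_or, Bool.and_eq_true,
    List.all_eq_true, List.any_eq_true] at hv
  obtain ⟨hall, e, he, hev⟩ := hv
  refine ⟨fun a ha h1 h2 => ?_, ?_⟩
  · have hm' : g • a ∈ octads := (smul_mem_octads_iff hg).mpr ha
    rw [octads_eq_codes] at hm'
    obtain ⟨b, hb, hba⟩ := hm'
    have := hall b hb
    rw [Bool.or_eq_true, Bool.not_eq_true', Bool.not_eq_true', Bool.eq_false_iff,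
      Bool.eq_false_iff, ne_eq, ne_eq, Nat.beq_eq, Nat.beq_eq, ← interN_spec, ← interN_spec, hco,
      hba, ← hgo, card_inter_smul, card_inter_smul] at this
    exact this.elim (fun k => k h1) (fun k => k h2)
  · rw [Bool.and_eq_true, Nat.beq_eq, Nat.beq_eq, ← interN_spec, ← interN_spec, hco, ← hgo] at hev
    refine ⟨g⁻¹ • suppM e, (smul_mem_octads_iff (inv_mem hg)).mpr ?_, ?_, ?_⟩
    · rw [octads_eq_codes]; exact ⟨e, he, rfl⟩
    · rw [← card_inter_smul g, smul_inv_smul, hev.1]
    · rw [← card_inter_smul g, smul_inv_smul, hev.2]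

theorem blockGraph_adj_iff (o o' : octads) :
    (blockGraph octads).Adj o o' ↔ ((o : Finset GolayPt) ∩ o').card = 0 := by
  rw [blockGraph, SimpleGraph.fromRel_adj, Finset.card_eq_zero, ← Finset.disjoint_iff_inter_eq_empty]
  constructor
  · rintro ⟨-, h | h⟩
    · exact h
    · exact h.symm
  · intro h
    refine ⟨?_, Or.inl h⟩
    rintro rfl
    have := o.2.2
    rw [disjoint_self.mp h] at this
    simp at this

theorem blockGraph_dist (o o' : octads) (hne : o ≠ o') :
    (blockGraph octads).Reachable o o' ∧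
    (((o : Finset GolayPt) ∩ o').card = 0 → (blockGraph octads).dist o o' = 1) ∧
    (((o : Finset GolayPt) ∩ o').card = 4 → (blockGraph octads).dist o o' = 2) ∧
    (((o : Finset GolayPt) ∩ o').card = 2 → (blockGraph octads).dist o o' = 3) := by
  have hne' : (o : Finset GolayPt) ≠ o' := fun h => hne (Subtype.ext h)
  have h4 : ∀ a b : octads, ((a : Finset GolayPt) ∩ b).card = 4 →
      ∃ w : (blockGraph octads).Walk a b, w.length = 2 := by
    intro a b h
    obtain ⟨e, he, h1, h2⟩ := exists_common_disjoint a.2 b.2 h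
    exact ⟨.cons ((blockGraph_adj_iff a ⟨e, he⟩).mpr h1)
      (.cons ((blockGraph_adj_iff b ⟨e, he⟩).mpr h2).symm .nil), rfl⟩
  have h2 : ∀ a b : octads, ((a : Finset GolayPt) ∩ b).card = 2 →
      ∃ w : (blockGraph octads).Walk a b, w.length = 3 := by
    intro a b h
    obtain ⟨e, he, h1, h2⟩ := (no_common_disjoint a.2 b.2 h).2
    obtain ⟨w, hw⟩ := h4 ⟨e, he⟩ b (by rw [Finset.inter_comm]; exact h2)
    exact ⟨.cons ((blockGraph_adj_iff a ⟨e, he⟩).mpr h1) w, by rw [SimpleGraph.Walk.length_cons, hw]⟩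
  refine ⟨?_, fun h => ?_, fun h => ?_, fun h => ?_⟩
  · rcases card_inter_vals o.2 o'.2 hne' with h | h | h
    · exact ((blockGraph_adj_iff o o').mpr h).reachable
    · exact ⟨(h4 o o' h).choose⟩
    · exact ⟨(h2 o o' h).choose⟩
  · exact SimpleGraph.dist_eq_one_iff_adj.mpr ((blockGraph_adj_iff o o').mpr h)
  · obtain ⟨w, hw⟩ := h4 o o' h
    refine le_antisymm (hw ▸ SimpleGraph.dist_le w) ?_
    have hpos : 0 < (blockGraph octads).dist o o' := w.reachable.pos_dist_of_ne hne
    by_contra hlt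
    have := (blockGraph_adj_iff o o').mp (SimpleGraph.dist_eq_one_iff_adj.mp (by omega))
    omega
  · obtain ⟨w, hw⟩ := h2 o o' h
    refine le_antisymm (hw ▸ SimpleGraph.dist_le w) ?_
    obtain ⟨p, hp⟩ := w.reachable.exists_walk_length_eq_dist
    rw [← hp]
    by_contra hlt
    rcases p with _ | ⟨h1, _ | ⟨h2', _ | ⟨h3, q⟩⟩⟩
    · exact hne rfl
    · have := (blockGraph_adj_iff _ _).mp h1; omega
    · rename_i m
      exact (no_common_disjoint o.2 o'.2 h).1 m.1 m.2 ((blockGraph_adj_iff _ _).mp h1)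
        ((blockGraph_adj_iff _ _).mp h2'.symm)
    · simp only [SimpleGraph.Walk.length_cons] at hlt; omega

theorem blockGraph_connected : (blockGraph octads).Connected := by
  have : Nonempty octads := ⟨⟨suppM baseOctad, baseOctad_mem⟩⟩
  refine ⟨fun a b => ?_⟩
  by_cases h : a = b
  · exact h ▸ SimpleGraph.Reachable.refl _
  · exact (blockGraph_dist a b h).1

end Cfsg.Agent.Compute
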