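/-
The fifteen trios through an octad.
-/
import Cfsg.Agent.Compute.MathieuConfigs3
import Cfsg.Agent.Compute.MathieuPointwise

set_option autoImplicit false

namespace Cfsg.Agent.Compute

open Cfsg
open scoped Pointwise

theorem triosThru_scan : cfgTrioTree.codes.all (fun c =>
    cond (memB cfgOctRoot (masksOf 3 c)) (cfgOctTrioTree.memB c) true) = true ∧
    cfgOctTrioTree.codes.all (fun c => cfgTrioTree.memB c &&
      memB cfgOctRoot (masksOf 3 c)) = true := by decide +kernel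

theorem trioTree_good : ∀ c ∈ cfgTrioTree.codes, (famObj 3).Good c :=
  Obj.stab_good (O := famObj 3) cfgTrio_stab (goodFam_of_check cfgTrio_good)

theorem triosThru_eq : {T | T ∈ trios ∧ suppM cfgOctRoot ∈ T} =
    decFam 3 '' {c | c ∈ cfgOctTrioTree.codes} := by
  ext T
  rw [Set.mem_ofPred_eq, trios_eq_orbit, trioStab_spec.2.2.1]
  constructor
  · rintro ⟨⟨c, hc, rfl⟩, hm⟩
    obtain ⟨a, ha, hao⟩ := mem_decFam.mp hm
    obtain ⟨l, hl, hlt, -, hcl⟩ := trioTree_good c hc
    have hmk : masksOf 3 c = l := by rw [hcl, ← hl]; exact masksOf_packMasks l hlt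
    have he := (suppM_eq_iff (hlt a (hmk ▸ ha)) roots_lt.1).mp hao
    subst he
    have h := List.all_eq_true.mp triosThru_scan.1 c hc
    rw [memB_eq_true.mpr ha, cond_true] at h
    exact ⟨c, OTr.mem_codes_of_memB h, rfl⟩
  · rintro ⟨c, hc, rfl⟩
    have h := List.all_eq_true.mp triosThru_scan.2 c hc
    rw [Bool.and_eq_true] at h
    exact ⟨⟨c, OTr.mem_codes_of_memB h.1, rfl⟩, mem_decFam.mpr ⟨_, memB_eq_true.mp h.2, rfl⟩⟩

theorem smul_mem_trios_iff {g : Equiv.Perm GolayPt} (hg : g ∈ M24)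
    {T : Finset (Finset GolayPt)} : g • T ∈ trios ↔ T ∈ trios := by
  refine ⟨fun h => ?_, fun h => smul_mem_trios hg h⟩
  rw [← inv_smul_smul g T]; exact smul_mem_trios (inv_mem hg) h

theorem orbit_octTrio : MulAction.orbit (rep24.chainGroup cfgOctChain)
    (decFam 3 cfgOctTrioRoot) = {T | T ∈ trios ∧ suppM cfgOctRoot ∈ T} :=
  stabOctTrio_spec.2.2.1.trans triosThru_eq.symm

theorem exists_move_octTrio {o : Finset GolayPt} (ho : o ∈ octads) {T : Finset (Finset GolayPt)}
    (hT : T ∈ trios) (hoT : o ∈ T) :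
    ∃ g ∈ M24, g • o = suppM cfgOctRoot ∧ g • T = decFam 3 cfgOctTrioRoot := by
  obtain ⟨g, hg, hgo⟩ := exists_move_oct ho
  have h : g • T ∈ MulAction.orbit (rep24.chainGroup cfgOctChain) (decFam 3 cfgOctTrioRoot) := by
    rw [orbit_octTrio]
    exact ⟨(smul_mem_trios_iff hg).mpr hT, hgo ▸ Finset.smul_mem_smul_finset hoT⟩
  obtain ⟨k, hk, hkT⟩ := exists_inv_mem_orbit h
  obtain ⟨hm, hfix⟩ := mem_cfgOct hk
  exact ⟨k * g, mul_mem hm hg, by rw [mul_smul, hgo, hfix], by rw [mul_smul, hkT]⟩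

theorem octTrio_two_trans {X Y : Finset (Finset GolayPt)}
    (hX : X ∈ trios) (hY : Y ∈ trios) (hoX : suppM cfgOctRoot ∈ X) (hoY : suppM cfgOctRoot ∈ Y)
    (hX1 : X ≠ decFam 3 cfgOctTrioRoot) (hY1 : Y ≠ decFam 3 cfgOctTrioRoot) :
    ∃ h ∈ rep24.chainGroup cfgOctTrioChain, h • X = Y := by
  classical
  obtain ⟨h1, -⟩ := Obj.lab_spec (O := famObj 3)
    (fun T => if T = decFam 3 cfgOctTrioRoot then 1 else 0) span_cfgOctTrio
    cfgOctTrio_partOctTrio cfgOctTrio_labOctTrio tree_good_OctTrio fun c hc => by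
      have e : ((famObj 3).dec c = decFam 3 cfgOctTrioRoot) ↔ Nat.beq c cfgOctTrioRoot = true := by
        rw [Nat.beq_eq]
        exact ⟨(famObj 3).dec_inj _ _ hc root_good_OctTrio, fun h => by rw [h]; rfl⟩
      rw [cfgOctTrioOctTrioLab]
      cases hb : Nat.beq c cfgOctTrioRoot
      · rw [if_neg (fun h => Bool.noConfusion (hb.symm.trans (e.mp h)))]; rfl
      · rw [if_pos (e.mpr hb)]; rfl
  refine h1 X ?_ Y ?_ ?_
  · exact triosThru_eq.subset ⟨hX, hoX⟩
  · exact triosThru_eq.subset ⟨hY, hoY⟩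
  · simp only [if_neg hX1, if_neg hY1]

theorem drop6c_fixes_trios : (topGens (m24cChain.drop 6)).all (fun g => rep24.okb g &&
    cfgOctTrioTree.codes.all (fun c => Nat.beq ((famObj 3).act g c) c)) = true := by
  decide +kernel

theorem octT4_facts : (topGens cfgOctT4Chain).all (fun g => rep24.okb g &&
    (List.range 24).all (fun i => !(baseOctad.testBit i) || Nat.beq (rep24.act g i) i)) = true ∧
    (cfgOctTrioTree.memB cfgOctT2Root && cfgOctTrioTree.memB cfgOctT3Root &&
      cfgOctTrioTree.memB cfgOctT4Root && cfgOctTrioTree.memB cfgOctTrioRoot) = true := by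
  decide +kernel

theorem fix_trios_iff {a : Equiv.Perm GolayPt} (ha : a ∈ M24)
    (hao : a • suppM cfgOctRoot = suppM cfgOctRoot) :
    (∀ c ∈ cfgOctTrioTree.codes, a • decFam 3 c = decFam 3 c) ↔
      ∀ p ∈ suppM cfgOctRoot, a p = p := by
  constructor
  · intro h p hp
    obtain ⟨⟨h2, h3⟩, h4⟩ : (cfgOctTrioTree.memB cfgOctT2Root = true ∧
        cfgOctTrioTree.memB cfgOctT3Root = true) ∧ cfgOctTrioTree.memB cfgOctT4Root = true := by
      have := octT4_facts.2
      simp only [Bool.and_eq_true] at this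
      exact this.1
    have h1 : cfgOctTrioTree.memB cfgOctTrioRoot = true := by
      have := octT4_facts.2
      simp only [Bool.and_eq_true] at this
      exact this.2
    have hO : a ∈ rep24.chainGroup cfgOctChain := by
      rw [← octStab_spec.2.1]; exact Subgroup.mem_inf.mpr ⟨ha, hao⟩
    have hT1 : a ∈ rep24.chainGroup cfgOctTrioChain :=
      stabOctTrio_spec.2.1 ▸ Subgroup.mem_inf.mpr ⟨hO, h _ (OTr.mem_codes_of_memB h1)⟩
    have hT2 : a ∈ rep24.chainGroup cfgOctT2Chain :=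
      stabOctT2_spec.2.1 ▸ Subgroup.mem_inf.mpr ⟨hT1, h _ (OTr.mem_codes_of_memB h2)⟩
    have hT3 : a ∈ rep24.chainGroup cfgOctT3Chain :=
      stabOctT3_spec.2.1 ▸ Subgroup.mem_inf.mpr ⟨hT2, h _ (OTr.mem_codes_of_memB h3)⟩
    have hT4 : a ∈ rep24.chainGroup cfgOctT4Chain :=
      stabOctT4_spec.2.1 ▸ Subgroup.mem_inf.mpr ⟨hT3, h _ (OTr.mem_codes_of_memB h4)⟩
    have hle : rep24.chainGroup cfgOctT4Chain ≤ MulAction.stabilizer (Equiv.Perm GolayPt) p := by
      rw [Rep.chainGroup, Rep.span, Subgroup.closure_le]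
      rintro _ ⟨t, ht, rfl⟩
      have h := List.all_eq_true.mp octT4_facts.1 t ht
      simp only [Bool.and_eq_true, List.all_eq_true] at h
      have h' := h.2 _ (List.mem_range.mpr (ptIdx_lt p))
      rw [octRoot_eq] at hp
      rw [mem_suppM.mp hp, Bool.not_true, Bool.false_or, Nat.beq_eq] at h'
      rw [SetLike.mem_coe, MulAction.mem_stabilizer_iff, ← rep24_pt_ptIdx p,
        rep24.act_spec _ _ (rep24.okb_sound _ h.1) (ptIdx_lt p), h']
    exact hle hT4
  · intro h c hc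
    have hle : rep24.chainGroup (m24cChain.drop 6) ≤
        MulAction.stabilizer (Equiv.Perm GolayPt) ((famObj 3).dec c) := by
      rw [Rep.chainGroup, Rep.span, Subgroup.closure_le]
      rintro _ ⟨t, ht, rfl⟩
      have h' := List.all_eq_true.mp drop6c_fixes_trios t ht
      simp only [Bool.and_eq_true, List.all_eq_true, Nat.beq_eq] at h'
      rw [SetLike.mem_coe, MulAction.mem_stabilizer_iff,
        (famObj 3).act_dec _ _ (rep24.okb_sound _ h'.1) (tree_good_OctTrio c hc), h'.2 c hc]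
    exact hle ((mem_fix_baseOctad a).mpr ⟨ha, octRoot_eq ▸ h⟩)

end Cfsg.Agent.Compute
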