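/-
Tools for structure statements about certified chains: induced permutations, normal
subgroups, and identification of quotients by tables.
-/
import Cfsg.Agent.Compute.MathieuConj

set_option autoImplicit false

namespace Cfsg.Agent.Compute

open scoped Pointwise

section perms

variable {G β : Type*} [Group G] [MulAction G β] [DecidableEq β]

/-- Transpositions generate every permutation of a finite set. -/
theorem exists_perm_of_swaps {H : Subgroup G} {S : Finset β}
    (h : ∀ a ∈ S, ∀ b ∈ S, a ≠ b → ∃ x ∈ H, x • a = b ∧ x • b = a ∧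
      ∀ c ∈ S, c ≠ a → c ≠ b → x • c = c)
    (e : Equiv.Perm ↥S) : ∃ x ∈ H, ∀ t : ↥S, x • (t : β) = (e t : β) := by
  induction e using Equiv.Perm.swap_induction_on with
  | one => exact ⟨1, one_mem H, fun t => one_smul G _⟩
  | swap_mul f a b hab ih =>
    obtain ⟨y, hy, hy'⟩ := ih
    obtain ⟨x, hx, hxa, hxb, hxc⟩ := h a a.2 b b.2 fun e => hab (Subtype.ext e)
    refine ⟨x * y, mul_mem hx hy, fun t => ?_⟩
    rw [mul_smul, hy', Equiv.Perm.mul_apply]
    by_cases ha : f t = a
    · rw [ha, Equiv.swap_apply_left, hxa]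
    by_cases hb : f t = b
    · rw [hb, Equiv.swap_apply_right, hxb]
    rw [Equiv.swap_apply_of_ne_of_ne ha hb]
    exact hxc _ (f t).2 (fun e => ha (Subtype.ext e)) fun e => hb (Subtype.ext e)

/-- The elements fixing each member of a fully permuted invariant set. -/
theorem card_fix_mul [Finite G] {H : Subgroup G} {S : Finset β}
    (hS : ∀ x ∈ H, ∀ a ∈ S, x • a ∈ S)
    (h : ∀ e : Equiv.Perm ↥S, ∃ x ∈ H, ∀ t : ↥S, x • (t : β) = (e t : β)) :
    Nat.card {x : H // ∀ a ∈ S, (x : G) • a = a} * S.card.factorial = Nat.card H := by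
  let f : H →* Equiv.Perm ↥S :=
    { toFun := fun x =>
        { toFun := fun t => ⟨(x : G) • (t : β), hS _ x.2 _ t.2⟩
          invFun := fun t => ⟨(x : G)⁻¹ • (t : β), hS _ (inv_mem x.2) _ t.2⟩
          left_inv := fun t => Subtype.ext (inv_smul_smul _ _)
          right_inv := fun t => Subtype.ext (smul_inv_smul _ _) }
      map_one' := Equiv.ext fun t => Subtype.ext (one_smul G _)
      map_mul' := fun x y => Equiv.ext fun t => Subtype.ext (mul_smul (x : G) (y : G) _) }
  have hsurj : Function.Surjective f := fun e => by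
    obtain ⟨x, hx, hxe⟩ := h e
    exact ⟨⟨x, hx⟩, Equiv.ext fun t => Subtype.ext (hxe t)⟩
  have hk : Nat.card {x : H // ∀ a ∈ S, (x : G) • a = a} = Nat.card f.ker := by
    refine Nat.card_congr (Equiv.subtypeEquivRight fun x => ?_)
    rw [MonoidHom.mem_ker, Equiv.ext_iff]
    exact ⟨fun hx t => Subtype.ext (hx t t.2), fun hx a ha => congrArg Subtype.val (hx ⟨a, ha⟩)⟩
  have h1 := Subgroup.card_mul_index f.ker
  rw [Subgroup.index_ker, MonoidHom.range_eq_top.mpr hsurj, Subgroup.card_top, Nat.card_perm,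
    Nat.card_eq_fintype_card (α := ↥S), Fintype.card_coe] at h1
  rw [hk, h1]

end perms

variable {G : Type*} [Group G] {Ω : Type*} [MulAction G Ω]

/-- Membership of a code in the group of a chain. -/
noncomputable def Rep.inB (R : Rep G Ω) (K : List Level) (c : ℕ) : Bool :=
  R.okb c && Nat.beq (R.sift K c) R.one

theorem Rep.inB_spec {R : Rep G Ω} {K : List Level} (hK : R.checkChain K = true) {c : ℕ}
    (h : R.inB K c = true) : R.Ok c ∧ R.den c ∈ R.chainGroup K := by
  simp only [Rep.inB, Bool.and_eq_true, Nat.beq_eq] at h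
  exact ⟨R.okb_sound _ h.1, R.mem_of_sift K hK (R.okb_sound _ h.1) h.2⟩

/-- Check that some witness exchanges any two of the listed objects and fixes the others. -/
noncomputable def swapsB (act : ℕ → ℕ → ℕ) (l ws : List ℕ) : Bool :=
  l.all fun a => l.all fun b => Nat.beq a b || ws.any fun w =>
    Nat.beq (act w a) b && Nat.beq (act w b) a &&
      l.all fun c => Nat.beq c a || Nat.beq c b || Nat.beq (act w c) c

theorem exists_perm_fam [Finite G] {β : Type*} [MulAction G β] [DecidableEq β] {R : Rep G Ω}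
    (O : Obj R β) {K : List Level} (hK : R.checkChain K = true) {l ws : List ℕ}
    (hl : ∀ a ∈ l, O.Good a) (hws : ws.all (R.inB K) = true) (h : swapsB O.act l ws = true)
    {S : Finset β} (hS : ∀ x, x ∈ S ↔ ∃ a ∈ l, O.dec a = x) (e : Equiv.Perm ↥S) :
    ∃ x ∈ R.chainGroup K, ∀ t : ↥S, x • (t : β) = (e t : β) := by
  refine exists_perm_of_swaps (fun u hu v hv huv => ?_) e
  obtain ⟨a, ha, rfl⟩ := (hS u).mp hu
  obtain ⟨b, hb, rfl⟩ := (hS v).mp hv
  simp only [swapsB, List.all_eq_true, List.any_eq_true, Bool.or_eq_true, Bool.and_eq_true,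
    Nat.beq_eq] at h
  obtain ⟨w, hw, ⟨hwa, hwb⟩, hwc⟩ := (h a ha b hb).resolve_left fun e => huv (congrArg O.dec e)
  obtain ⟨hok, hmem⟩ := Rep.inB_spec hK (List.all_eq_true.mp hws w hw)
  refine ⟨R.den w, hmem, by rw [O.act_dec _ _ hok (hl a ha), hwa],
    by rw [O.act_dec _ _ hok (hl b hb), hwb], fun z hz hza hzb => ?_⟩
  obtain ⟨c, hc, rfl⟩ := (hS z).mp hz
  rw [O.act_dec _ _ hok (hl c hc), ((hwc c hc).resolve_left fun e => e.elim
    (fun e => hza (congrArg O.dec e)) fun e => hzb (congrArg O.dec e))]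

/-- Check that the group of `N` is a normal subgroup of the group of `K`. -/
noncomputable def Rep.normalB (R : Rep G Ω) (K N : List Level) (invs : List ℕ) : Bool :=
  (topGens N).all (R.inB K) && (topGens K).all (fun g => R.okb g && invs.any fun gi =>
    R.okb gi && Nat.beq (R.mul gi g) R.one &&
      (topGens N).all fun n => R.inB N (R.mul (R.mul g n) gi))

theorem Rep.normalB_spec [Finite G] {R : Rep G Ω} {K N : List Level} {invs : List ℕ}
    (hK : R.checkChain K = true) (hN : R.checkChain N = true) (h : R.normalB K N invs = true) :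
    R.chainGroup N ≤ R.chainGroup K ∧
      ((R.chainGroup N).subgroupOf (R.chainGroup K)).Normal := by
  simp only [Rep.normalB, List.all_eq_true, List.any_eq_true, Bool.and_eq_true, Nat.beq_eq] at h
  obtain ⟨h1, h2⟩ := h
  have hle : R.chainGroup N ≤ R.chainGroup K := by
    rw [Rep.chainGroup, Rep.span, Subgroup.closure_le]
    rintro _ ⟨n, hn, rfl⟩
    exact (Rep.inB_spec hK (h1 n hn)).2
  refine ⟨hle, (Subgroup.normal_subgroupOf_iff_le_normalizer hle).mpr ?_⟩
  conv_lhs => rw [Rep.chainGroup, Rep.span]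
  rw [Subgroup.closure_le]
  rintro _ ⟨g, hg, rfl⟩
  obtain ⟨hok, gi, -, ⟨hoki, hinv⟩, hconj⟩ := h2 g hg
  have hok' := R.okb_sound _ hok
  have hoki' := R.okb_sound _ hoki
  have hgi : R.den gi = (R.den g)⁻¹ := eq_inv_of_mul_eq_one_left (by
    rw [← R.den_mul _ _ hoki' hok', hinv, R.den_one])
  have hsub : (R.chainGroup N).map (MulAut.conj (R.den g)).toMonoidHom ≤ R.chainGroup N := by
    conv_lhs => rw [Rep.chainGroup, Rep.span]
    rw [MonoidHom.map_closure, Subgroup.closure_le]
    rintro _ ⟨_, ⟨n, hn, rfl⟩, rfl⟩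
    have hokn := (Rep.inB_spec hK (h1 n hn)).1
    have hm := (Rep.inB_spec hN (hconj n hn)).2
    rw [R.den_mul _ _ (R.ok_mul _ _ hok' hokn) hoki', R.den_mul _ _ hok' hokn, hgi] at hm
    exact hm
  have heq : (R.chainGroup N).map (MulAut.conj (R.den g)).toMonoidHom = R.chainGroup N :=
    Subgroup.eq_of_le_of_card_ge hsub
      (le_of_eq (Subgroup.card_map_of_injective (MulEquiv.injective _)).symm)
  rw [SetLike.mem_coe, Subgroup.mem_normalizer_iff]
  intro x
  conv_rhs => rw [← heq]
  exact (Subgroup.mem_map_iff_mem (MulEquiv.injective _)).symm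

/-- Check that all elements of a chain group are involutions or trivial. -/
noncomputable def Rep.squareB (R : Rep G Ω) (N : List Level) : Bool :=
  (R.chainElems N).all fun c => Nat.beq (R.mul c c) R.one

theorem Rep.squareB_spec [Finite G] {R : Rep G Ω} {N : List Level}
    (hN : R.checkChain N = true) (h : R.squareB N = true) {x : G} (hx : x ∈ R.chainGroup N) :
    x * x = 1 := by
  obtain ⟨c, hc, hok, rfl⟩ := R.exists_elem N hN hx
  have := List.all_eq_true.mp h c hc
  rw [Nat.beq_eq] at this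
  rw [← R.den_mul _ _ hok hok, this, R.den_one]

/-- Two groups are isomorphic when one table describes both. -/
theorem nonempty_mulEquiv_of_table {A B : Type*} [Group A] [Group B] [Finite A] [Finite B]
    {m r : ℕ} (i₀ : Fin m) (a : Fin m → A) (b : Fin m → B) (s : Fin r → A) (t : Fin r → B)
    (succ : Fin r → Fin m → Fin m) (hs : Subgroup.closure (Set.range s) = ⊤)
    (ha0 : a i₀ = 1) (hb0 : b i₀ = 1) (ha : ∀ j i, s j * a i = a (succ j i))
    (hb : ∀ j i, t j * b i = b (succ j i)) (hA : Nat.card A = m) (hB : Nat.card B = m)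
    (hinj : Function.Injective b) : Nonempty (A ≃* B) := by
  let T : Set (A × B) := Set.range fun i => (a i, b i)
  let Γ : Subgroup (A × B) := Subgroup.closure (Set.range fun j => (s j, t j))
  have step : ∀ p ∈ Set.range (fun j => (s j, t j)), ∀ x ∈ T, p * x ∈ T := by
    rintro _ ⟨j, rfl⟩ _ ⟨i, rfl⟩
    exact ⟨succ j i, Prod.ext (ha j i).symm (hb j i).symm⟩
  have hT : ∀ x ∈ Γ, x ∈ T := by
    intro x hx
    have key : ∀ p ∈ Set.range (fun j => (s j, t j)), ∀ x ∈ T, p⁻¹ * x ∈ T := by
      intro p hp x hxT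
      have hi : Function.Injective (fun z : T => (⟨p * z, step p hp z z.2⟩ : T)) :=
        fun u v huv => Subtype.ext (mul_left_cancel (congrArg Subtype.val huv))
      obtain ⟨⟨z, hz⟩, hzx⟩ := (Finite.injective_iff_surjective.mp hi) ⟨x, hxT⟩
      have hzx' : p * z = x := congrArg Subtype.val hzx
      rw [← hzx', inv_mul_cancel_left]
      exact hz
    exact Subgroup.closure_induction_left (p := fun z _ => z ∈ T)
      ⟨i₀, Prod.ext ha0 hb0⟩ (fun p hp z _ hz => step p hp z hz)
      (fun p hp z _ hz => key p hp z hz) hx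
  let f : Γ →* A := (MonoidHom.fst A B).comp Γ.subtype
  have hsurj : Function.Surjective f := by
    rw [← MonoidHom.range_eq_top, eq_top_iff, ← hs, Subgroup.closure_le]
    rintro _ ⟨j, rfl⟩
    exact ⟨⟨_, Subgroup.subset_closure ⟨j, rfl⟩⟩, rfl⟩
  have hcard : Nat.card Γ ≤ m := by
    calc Nat.card Γ ≤ Nat.card T :=
          Nat.card_le_card_of_injective (fun x : Γ => (⟨x.1, hT _ x.2⟩ : T))
            fun u v e => Subtype.ext (congrArg (fun z : T => (z : A × B)) e)
      _ ≤ Nat.card (Fin m) := Finite.card_range_le _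
      _ = m := Nat.card_fin m
  have hbij : Function.Bijective f :=
    (Nat.bijective_iff_surjective_and_card _).mpr
      ⟨hsurj, le_antisymm (hcard.trans hA.ge) (Nat.card_le_card_of_surjective f hsurj)⟩
  let F : A →* B := ((MonoidHom.snd A B).comp Γ.subtype).comp
    (MulEquiv.ofBijective f hbij).symm.toMonoidHom
  have hF : Function.Injective F := by
    intro u v e
    obtain ⟨x, rfl⟩ := hsurj u
    obtain ⟨y, rfl⟩ := hsurj v
    have hx : (MulEquiv.ofBijective f hbij).symm (f x) = x :=
      (MulEquiv.ofBijective f hbij).symm_apply_apply x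
    have hy : (MulEquiv.ofBijective f hbij).symm (f y) = y :=
      (MulEquiv.ofBijective f hbij).symm_apply_apply y
    obtain ⟨i, hi⟩ := hT _ x.2
    obtain ⟨j, hj⟩ := hT _ y.2
    have e' : (x : A × B).2 = (y : A × B).2 := by
      simpa [F, hx, hy] using e
    rw [← hi, ← hj] at e'
    obtain rfl := hinj e'
    exact congrArg f (Subtype.ext (hi.symm.trans hj))
  exact ⟨MulEquiv.ofBijective F
    ((Nat.bijective_iff_injective_and_card _).mpr ⟨hF, hA.trans hB.symm⟩)⟩

/-- Check a table of coset representatives against the generators. -/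
noncomputable def Rep.tableB (R : Rep G Ω) (K N : List Level) (gens : List ℕ)
    (m : ℕ) (cs cis : ℕ → ℕ) (succ : ℕ → ℕ → ℕ) : Bool :=
  gens.all (R.inB K) &&
    allBelow m (fun i => R.inB K (cs i) && R.okb (cis i) &&
      Nat.beq (R.mul (cis i) (cs i)) R.one) &&
    allBelow gens.length (fun j => allBelow m fun i =>
      Nat.blt (succ j i) m &&
        R.inB N (R.mul (cis (succ j i)) (R.mul (gens.getD j 0) (cs i))))

/-- A quotient of a chain group identified by a table. -/
theorem Rep.nonempty_quotient_equiv [Finite G] {R : Rep G Ω} {K N : List Level}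
    (hK : R.checkChain K = true) (hN : R.checkChain N = true)
    {gens : List ℕ} {m : ℕ} {cs cis : ℕ → ℕ} {succ : ℕ → ℕ → ℕ}
    (h : R.tableB K N gens m cs cis succ = true)
    (hgen : R.span gens = R.chainGroup K) (hle : R.chainGroup N ≤ R.chainGroup K)
    [((R.chainGroup N).subgroupOf (R.chainGroup K)).Normal]
    {r : ℕ} (hr : gens.length = r)
    (hsize : chainSize K = m * chainSize N)
    {B : Type*} [Group B] [Finite B] (i₀ : Fin m) (hi₀ : cs i₀ = R.one) (b : Fin m → B)
    (t : Fin r → B) (hb0 : b i₀ = 1)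
    (hb : ∀ (j : Fin r) (i : Fin m), ∀ hk : succ j i < m,
      t j * b i = b ⟨_, hk⟩)
    (hinj : Function.Injective b) (hB : Nat.card B = m) :
    Nonempty ((↥(R.chainGroup K) ⧸ (R.chainGroup N).subgroupOf (R.chainGroup K)) ≃* B) := by
  simp only [Rep.tableB, Bool.and_eq_true, List.all_eq_true, allBelow_eq_true, Nat.beq_eq,
    Nat.blt_eq] at h
  obtain ⟨⟨hg, hc⟩, hstep⟩ := h
  subst hr
  set Q := (↥(R.chainGroup K) ⧸ (R.chainGroup N).subgroupOf (R.chainGroup K))
  have hcm : ∀ i : Fin m, R.Ok (cs i) ∧ R.den (cs i) ∈ R.chainGroup K :=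
    fun i => Rep.inB_spec hK (hc i i.2).1.1
  have hci : ∀ i, i < m → R.okb (cis i) = true ∧ R.mul (cis i) (cs i) = R.one :=
    fun i hi => ⟨(hc i hi).1.2, (hc i hi).2⟩
  have hgm : ∀ j : Fin gens.length, R.Ok (gens.getD j 0) ∧
      R.den (gens.getD j 0) ∈ R.chainGroup K :=
    fun j => Rep.inB_spec hK (hg _ (by rw [List.getD_eq_getElem _ _ j.2]; exact List.getElem_mem j.2))
  refine nonempty_mulEquiv_of_table (A := Q) i₀
    (fun i => QuotientGroup.mk ⟨R.den (cs i), (hcm i).2⟩) b
    (fun j => QuotientGroup.mk ⟨R.den (gens.getD j 0), (hgm j).2⟩) t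
    (fun j i => ⟨_, (hstep j j.2 i i.2).1⟩) ?_ ?_ hb0 ?_ ?_ ?_ hB hinj
  · rw [eq_top_iff]
    rintro ⟨x⟩ -
    obtain ⟨x, hx⟩ := x
    rw [← hgen] at hx
    induction hx using Subgroup.closure_induction with
    | mem z hz =>
      obtain ⟨c, hcm', rfl⟩ := hz
      obtain ⟨j, hj, rfl⟩ := List.getElem_of_mem hcm'
      exact Subgroup.subset_closure ⟨⟨j, hj⟩, by simp only [List.getD_eq_getElem _ _ hj]; rfl⟩
    | one => exact one_mem _
    | mul z w hz hw ihz ihw => exact mul_mem (ihz (hgen ▸ hz)) (ihw (hgen ▸ hw))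
    | inv z hz ihz => exact inv_mem (ihz (hgen ▸ hz))
  · rw [QuotientGroup.eq_one_iff, Subgroup.mem_subgroupOf]
    change R.den (cs i₀) ∈ _
    rw [hi₀, R.den_one]; exact one_mem _
  · intro j i
    obtain ⟨hk, hin⟩ := hstep j j.2 i i.2
    obtain ⟨hio, hie⟩ := hci _ hk
    have hio' := R.okb_sound _ hio
    have hok2 := R.ok_mul _ _ (hgm j).1 (hcm i).1
    have hm2 := (Rep.inB_spec hN hin).2
    have hck := (hcm ⟨_, hk⟩).1
    rw [R.den_mul _ _ hio' hok2, R.den_mul _ _ (hgm j).1 (hcm i).1,
      show R.den (cis (succ j i)) = (R.den (cs (succ j i)))⁻¹ from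
          eq_inv_of_mul_eq_one_left (by rw [← R.den_mul _ _ hio' hck, hie, R.den_one])] at hm2
    exact (QuotientGroup.eq.mpr (Subgroup.mem_subgroupOf.mpr hm2)).symm
  · intro j i; exact hb j i _
  · have h1 := Subgroup.card_mul_index ((R.chainGroup N).subgroupOf (R.chainGroup K))
    rw [Nat.card_congr (Subgroup.subgroupOfEquivOfLe hle).toEquiv, Rep.card_chainGroup _ hN,
      Rep.card_chainGroup _ hK, hsize, mul_comm m] at h1
    have hpos : 0 < chainSize N := Rep.card_chainGroup (R := R) _ hN ▸ Nat.card_pos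
    exact Nat.eq_of_mul_eq_mul_left hpos h1

/-- The listed numbers are distinct, tested with a bit mask. -/
noncomputable def bitDistinctB (l : List ℕ) : Bool :=
  List.rec (motive := fun _ => ℕ → Bool) (fun _ => true)
    (fun k _ rec acc => Nat.beq (Nat.land (Nat.shiftRight acc k) 1) 0 &&
      rec (Nat.lor acc (Nat.shiftLeft 1 k))) l 0

theorem nodup_of_bitDistinctB {l : List ℕ} (h : bitDistinctB l = true) : l.Nodup := by
  suffices ∀ acc : ℕ, (List.rec (motive := fun _ => ℕ → Bool) (fun _ => true)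
      (fun k _ rec acc => Nat.beq (Nat.land (Nat.shiftRight acc k) 1) 0 &&
        rec (Nat.lor acc (Nat.shiftLeft 1 k))) l acc) = true →
      l.Nodup ∧ ∀ x ∈ l, acc.testBit x = false from (this 0 h).1
  clear h
  induction l with
  | nil => intro acc _; simp
  | cons a l ih =>
    intro acc h
    have h' : (Nat.beq (Nat.land (Nat.shiftRight acc a) 1) 0 &&
        (List.rec (motive := fun _ => ℕ → Bool) (fun _ => true)
          (fun k _ rec acc => Nat.beq (Nat.land (Nat.shiftRight acc k) 1) 0 &&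
            rec (Nat.lor acc (Nat.shiftLeft 1 k))) l (Nat.lor acc (Nat.shiftLeft 1 a)))) = true := h
    rw [Bool.and_eq_true, Nat.beq_eq] at h'
    obtain ⟨hnd, hacc⟩ := ih _ h'.2
    have hbit : ∀ x ∈ l, acc.testBit x = false ∧ a ≠ x := fun x hx => by
      have h1 := hacc x hx
      rw [show Nat.lor acc (Nat.shiftLeft 1 a) = acc ||| 2 ^ a by rw [← Nat.one_shiftLeft]; rfl,
        Nat.testBit_or, Bool.or_eq_false_iff, Nat.testBit_two_pow, decide_eq_false_iff_not] at h1
      exact h1
    refine ⟨List.nodup_cons.mpr ⟨fun ha => (hbit a ha).2 rfl, hnd⟩, fun x hx => ?_⟩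
    rcases List.mem_cons.mp hx with rfl | hx
    · have h0 : x = x := rfl
      have h2 : acc / 2 ^ x % 2 = 0 := by
        rw [← Nat.shiftRight_eq_div_pow, ← Nat.and_one_is_mod]; exact h'.1
      rw [Nat.testBit_eq_decide_div_mod_eq, h2]; rfl
    · exact (hbit x hx).1

/-- Moving a normal subgroup along an isomorphism. -/
theorem exists_normal_of_equiv {A B : Type*} [Group A] [Group B] (e : A ≃* B) (N : Subgroup B)
    (hN : N.Normal) : ∃ (M : Subgroup A) (_ : M.Normal), Nat.card M = Nat.card N ∧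
      (∀ x ∈ M, e x ∈ N) ∧ Nonempty (A ⧸ M ≃* B ⧸ N) := by
  have hM : (N.comap e.toMonoidHom).Normal := hN.comap _
  refine ⟨N.comap e.toMonoidHom, hM, Nat.card_congr (e.toEquiv.subtypeEquiv fun _ => Iff.rfl),
    fun x hx => hx, ⟨QuotientGroup.congr _ _ e ?_⟩⟩
  exact Subgroup.map_comap_eq_self_of_surjective e.surjective N

end Cfsg.Agent.Compute
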