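/-
PSL(2, 23) inside M24: the point stabiliser 23:11 is maximal in M23.
-/
import Cfsg.Agent.Compute.StructTools
import Cfsg.Agent.Compute.Psl23Data
import Cfsg.Agent.Compute.Mathieu

set_option autoImplicit false

namespace Cfsg.Agent.Compute

open Cfsg
open scoped Pointwise

theorem psl_checks : rep24.checkChain psl23Chain = true ∧ chainSize psl23Chain = 6072 ∧
    rep24.checkChain borelChain = true ∧ chainSize borelChain = 253 ∧
    rep24.checkChain transChain = true ∧ chainSize transChain = 23 ∧
    rep24.checkChain dilChain = true ∧ chainSize dilChain = 11 ∧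
    rep24.checkChain dilNormChain = true ∧ chainSize dilNormChain = 55 := by
  decide +kernel

theorem psl_genB : rep24.genB psl23Chain [m24Gens.getD 0 0, m24Gens.getD 1 0, dilCode] psl23Slp = true ∧
    rep24.genB borelChain [m24Gens.getD 0 0, dilCode] borelSlp = true := by
  decide +kernel

theorem psl_inM24 : [m24Gens.getD 0 0, m24Gens.getD 1 0, dilCode].all inM24B = true := by
  decide +kernel

theorem borel_inB : (topGens borelChain).all (rep24.inB psl23Chain) = true ∧
    (topGens borelChain).all (fun g => Nat.beq (rep24.act g 23) 23) = true ∧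
    Nat.beq (chainSize psl23Chain.tail) 253 = true := by
  decide +kernel

theorem psl_base : psl23L0.base = 23 := rfl

theorem trans_normal : rep24.normalB borelChain transChain borelInvs = true := by decide +kernel

theorem dil_le : (topGens dilChain).all (rep24.inB borelChain) = true ∧
    rep24.inB transChain (m24Gens.getD 0 0) = true ∧ rep24.inB dilChain dilCode = true := by
  decide +kernel

theorem decK_cw : allBelow 4096 (fun k => Nat.beq (decK (cw k)) k) = true := by decide +kernel

theorem imgMask_lt' {g m : ℕ} (hg : rep24.Ok g) : imgMask g m < 2 ^ 24 := imgMask_lt hg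

/-- The test of membership is complete. -/
theorem inM24B_of_mem {g : ℕ} (hok : rep24.okb g = true) (h : rep24.den g ∈ M24) :
    inM24B g = true := by
  have hg := rep24.okb_sound _ hok
  simp only [inM24B, Bool.and_eq_true, allBelow_eq_true]
  refine ⟨hok, fun i hi => ?_⟩
  have hw := decW_cw_mem _ (coeff_lt ⟨i, hi⟩)
  have h2 := (mem_M24_iff_words _).mp h _ hw
  rw [decW_comp_symm hg, mem_golayCode_iff] at h2
  obtain ⟨k, hk, he⟩ := h2
  have he' : imgMask g (cw (golayCoeff.getD i 0)) = cw k := by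
    refine (suppM_eq_iff (imgMask_lt hg) (cw_lt hk)).mp ?_
    rw [← support₂_decW, he, support₂_decW]
  rw [he', inCodeB, Bool.and_eq_true, Nat.blt_eq, Nat.beq_eq]
  have hk2 := allBelow_eq_true.mp decK_cw k hk
  rw [Nat.beq_eq] at hk2
  rw [hk2]
  exact ⟨hk, rfl⟩

/-- Candidates for an element normalising the translations. -/
noncomputable def transCand (k b : ℕ) : ℕ :=
  pack 5 24 fun i => cond (Nat.blt i 23) ((b + k * i) % 23) 23

/-- Candidates for an element normalising the dilations. -/
noncomputable def dilCand (k a b : ℕ) : ℕ :=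
  pack 5 24 fun i => cond (Nat.blt i 23)
    (cond (Nat.beq i 0) 0
      ((k ^ dlogs.getD i 0 * cond (Nat.beq (sqFlags.getD i 0) 1) a b) % 23)) 23

theorem transCand_check : allBelow 23 (fun k => allBelow 23 fun b =>
    !(inM24B (transCand k b)) || rep24.inB borelChain (transCand k b)) = true := by
  decide +kernel

theorem dilCand_check : allBelow 23 (fun k => !(Nat.beq (k ^ 11 % 23) 1) ||
    allBelow 23 fun a => allBelow 23 fun b =>
      !(inM24B (dilCand k a b)) || rep24.inB dilNormChain (dilCand k a b)) = true := by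
  decide +kernel

theorem transElems_check : (rep24.chainElems transChain).all (fun c =>
    allBelow 23 fun i => Nat.beq (rep24.act c i) ((rep24.act c 0 + i) % 23)) = true ∧
    allBelow 23 (fun i => Nat.beq (rep24.act (m24Gens.getD 0 0) i) ((i + 1) % 23)) = true := by
  decide +kernel

theorem dilElems_check : (rep24.chainElems dilChain).all (fun c =>
    Nat.beq (rep24.act c 0) 0 && Nat.beq (rep24.act c 1 ^ 11 % 23) 1 &&
      allBelow 23 fun i => Nat.beq (rep24.act c i) ((rep24.act c 1 * i) % 23)) = true ∧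
    allBelow 23 (fun i => Nat.beq (rep24.act dilCode i) ((2 * i) % 23)) = true ∧
    Nat.beq (rep24.act dilCode 23) 23 = true := by
  decide +kernel

theorem dlogs_check : allBelow 22 (fun n => Nat.blt (dlogs.getD (n + 1) 0) 11 &&
    Nat.beq ((2 ^ dlogs.getD (n + 1) 0 * cond (Nat.beq (sqFlags.getD (n + 1) 0) 1) 1 22) % 23) (n + 1)) =
      true := by
  decide +kernel

theorem okb_of_perm {c : ℕ} {x : Equiv.Perm GolayPt}
    (h : ∀ i < 24, getField 5 c i = ptIdx (x (rep24.pt i))) : rep24.okb c = true := by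
  change codePermB 5 24 c = true
  simp only [codePermB, Bool.and_eq_true, allBelow_eq_true, Nat.blt_eq, Nat.beq_eq]
  refine ⟨fun i hi => by rw [h i hi]; exact ptIdx_lt _, ?_⟩
  have key : ∀ n, n ≤ 24 → ∀ j, ((Nat.rec (motive := fun _ => ℕ) 0
      (fun k r => Nat.lor r (Nat.shiftLeft 1 (getField 5 c k))) n) : ℕ).testBit j = true ↔
        ∃ i < n, getField 5 c i = j := by
    intro n hn j
    refine ⟨testBit_orFields _ n j, ?_⟩
    rintro ⟨i, hi, rfl⟩
    induction n with
    | zero => omega
    | succ n ih =>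
      change (Nat.lor _ _).testBit _ = true
      rw [show ∀ a b : ℕ, Nat.lor a b = a ||| b from fun _ _ => rfl, Nat.testBit_or, Bool.or_eq_true]
      rcases Nat.lt_succ_iff_lt_or_eq.mp hi with hlt | rfl
      · exact Or.inl (ih (by omega) hlt)
      · right
        rw [show Nat.shiftLeft 1 (getField 5 c i) = 2 ^ getField 5 c i from Nat.one_shiftLeft _]
        exact Nat.testBit_two_pow_self
  refine Nat.eq_of_testBit_eq fun j => ?_
  rw [show Nat.sub (Nat.shiftLeft 1 24) 1 = 2 ^ 24 - 1 from rfl, Nat.testBit_two_pow_sub_one,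
    Bool.eq_iff_iff, key 24 le_rfl j, decide_eq_true_iff]
  constructor
  · rintro ⟨i, hi, rfl⟩
    rw [h i hi]; exact ptIdx_lt _
  · intro hj
    refine ⟨ptIdx (x.symm (rep24.pt j)), ptIdx_lt _, ?_⟩
    rw [h _ (ptIdx_lt _), rep24_pt_ptIdx, Equiv.apply_symm_apply, ptIdx_rep24 hj]

theorem den_of_perm {c : ℕ} {x : Equiv.Perm GolayPt}
    (h : ∀ i < 24, getField 5 c i = ptIdx (x (rep24.pt i))) :
    rep24.okb c = true ∧ rep24.den c = x := by
  refine ⟨okb_of_perm h, den_eq_of_apply (okb_of_perm h) x fun i => ?_⟩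
  rw [h i i.2, rep24_pt i.2]

/-- The translation and dilation groups, the Borel subgroup. -/
noncomputable abbrev transGrp : Subgroup (Equiv.Perm GolayPt) := rep24.chainGroup transChain

/-- The dilations. -/
noncomputable abbrev dilGrp : Subgroup (Equiv.Perm GolayPt) := rep24.chainGroup dilChain

/-- The group of order 253. -/
noncomputable abbrev borelGrp : Subgroup (Equiv.Perm GolayPt) := rep24.chainGroup borelChain

theorem borel_le_m23 : borelGrp ≤ M24 ⊓ MulAction.stabilizer (Equiv.Perm GolayPt) (none : GolayPt) := by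
  rw [borelGrp, ← Rep.span_of_genB psl_checks.2.2.1 psl_genB.2, Rep.span, Subgroup.closure_le]
  rintro _ ⟨c, hc, rfl⟩
  have hc' : c ∈ [m24Gens.getD 0 0, m24Gens.getD 1 0, dilCode] := by
    simp only [Set.mem_ofPred_eq, List.mem_cons, List.not_mem_nil, or_false] at hc ⊢
    tauto
  obtain ⟨hok, hmem⟩ := mem_M24_of_check (List.all_eq_true.mp psl_inM24 c hc')
  refine Subgroup.mem_inf.mpr ⟨hmem, ?_⟩
  have h23 : Nat.beq (rep24.act (m24Gens.getD 0 0) 23) 23 = true := by decide +kernel
  rw [MulAction.mem_stabilizer_iff, ← rep24_pt23, rep24.act_spec _ _ hok (by norm_num : (23 : ℕ) < 24)]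
  simp only [Set.mem_ofPred_eq, List.mem_cons, List.not_mem_nil, or_false] at hc
  rcases hc with rfl | rfl
  · rw [Nat.eq_of_beq_eq_true h23]
  · rw [Nat.eq_of_beq_eq_true dilElems_check.2.2]

/-- An element fixing the extra point and normalising the translations is in the Borel group. -/
theorem mem_borel_of_normalizes {x : Equiv.Perm GolayPt} (hx : x ∈ M24)
    (hx23 : x none = none) (hn : ∀ y ∈ transGrp, x * y * x⁻¹ ∈ transGrp) : x ∈ borelGrp := by
  obtain ⟨hok, hs⟩ := Rep.inB_spec psl_checks.2.2.2.2.1 dil_le.2.1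
  obtain ⟨c, hc, hcok, hcx⟩ := rep24.exists_elem _ psl_checks.2.2.2.2.1 (hn _ hs)
  have hc' := allBelow_eq_true.mp (List.all_eq_true.mp transElems_check.1 c hc)
  set k := rep24.act c 0
  set φ : ℕ → ℕ := fun i => ptIdx (x (rep24.pt i))
  have h23 : φ 23 = 23 := by
    simp only [φ]; rw [rep24_pt23, hx23, ← rep24_pt23, ptIdx_rep24 (by norm_num)]
  have hne : ∀ i < 23, φ i < 23 := by
    intro i hi
    have h1 : φ i < 24 := ptIdx_lt _
    by_contra hle
    have h2 : φ i = φ 23 := by omega
    have h3 := congrArg ptIdx (x.injective (ptIdx_injective h2))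
    rw [ptIdx_rep24 (by omega), ptIdx_rep24 (by norm_num)] at h3
    omega
  have hrec : ∀ i < 23, φ ((i + 1) % 23) = (k + φ i) % 23 := by
    intro i hi
    have e : rep24.den c (x (rep24.pt i)) = x (rep24.den (m24Gens.getD 0 0) (rep24.pt i)) := by
      rw [hcx]; simp
    have hact := allBelow_eq_true.mp transElems_check.2 i hi
    rw [Nat.beq_eq] at hact
    rw [← Equiv.Perm.smul_def (rep24.den (m24Gens.getD 0 0)), rep24.act_spec _ _ hok (show i < 24 by omega),
      hact] at e
    have e2 := congrArg ptIdx e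
    rw [ptIdx_den hcok] at e2
    have h4 := hc' _ (hne i hi)
    rw [Nat.beq_eq] at h4
    change φ _ = _
    rw [← h4]
    exact e2.symm
  have hall : ∀ i < 23, φ i = (φ 0 + k * i) % 23 := by
    intro i
    induction i with
    | zero => intro _; rw [Nat.mul_zero, Nat.add_zero, Nat.mod_eq_of_lt (hne 0 (by norm_num))]
    | succ i ih =>
      intro hi
      have h5 := hrec i (by omega)
      rw [Nat.mod_eq_of_lt hi, ih (by omega)] at h5
      rw [h5, Nat.mul_succ, Nat.add_mod_mod]
      congr 1
      omega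
  have hk : k < 23 := by
    have h4 := hc' 0 (by norm_num)
    rw [Nat.beq_eq] at h4
    have h5 : k % 23 = k := by simpa [k] using h4.symm
    omega
  have hfield : ∀ i < 24, getField 5 (transCand k (φ 0)) i = ptIdx (x (rep24.pt i)) := by
    intro i hi
    rw [transCand, getField_pack 5 24 _ (fun j _ => by
      rw [cond_eq]; split_ifs
      · exact lt_trans (Nat.mod_lt _ (by norm_num)) (by norm_num)
      · norm_num) hi, cond_eq]
    split_ifs with h
    · rw [Nat.blt_eq] at h; exact (hall i h).symm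
    · rw [Nat.blt_eq] at h
      obtain rfl : i = 23 := by omega
      exact h23.symm
  obtain ⟨hokc, hden⟩ := den_of_perm hfield
  have h6 := allBelow_eq_true.mp (allBelow_eq_true.mp transCand_check k hk) _ (hne 0 (by norm_num))
  rw [inM24B_of_mem hokc (hden.symm ▸ hx), Bool.not_true, Bool.false_or] at h6
  rw [← hden]
  exact (Rep.inB_spec psl_checks.2.2.1 h6).2

/-- An element fixing the extra point and normalising the dilations lies in a group of order 55. -/
theorem mem_dilNorm_of_normalizes {x : Equiv.Perm GolayPt} (hx : x ∈ M24)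
    (hx23 : x none = none) (hn : ∀ y ∈ dilGrp, x * y * x⁻¹ ∈ dilGrp) :
    x ∈ rep24.chainGroup dilNormChain := by
  obtain ⟨hok, hs⟩ := Rep.inB_spec psl_checks.2.2.2.2.2.2.1 dil_le.2.2
  obtain ⟨c, hc, hcok, hcx⟩ := rep24.exists_elem _ psl_checks.2.2.2.2.2.2.1 (hn _ hs)
  have hc' := List.all_eq_true.mp dilElems_check.1 c hc
  simp only [Bool.and_eq_true, Nat.beq_eq, allBelow_eq_true] at hc'
  obtain ⟨⟨hc0, hk11⟩, hmul⟩ := hc'
  set k := rep24.act c 1
  set φ : ℕ → ℕ := fun i => ptIdx (x (rep24.pt i))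
  have h23 : φ 23 = 23 := by
    simp only [φ]; rw [rep24_pt23, hx23, ← rep24_pt23, ptIdx_rep24 (by norm_num)]
  have hne : ∀ i < 23, φ i < 23 := by
    intro i hi
    have h1 : φ i < 24 := ptIdx_lt _
    by_contra hle
    have h2 : φ i = φ 23 := by omega
    have h3 := congrArg ptIdx (x.injective (ptIdx_injective h2))
    rw [ptIdx_rep24 (by omega), ptIdx_rep24 (by norm_num)] at h3
    omega
  have hrec : ∀ i < 23, φ (2 * i % 23) = k * φ i % 23 := by
    intro i hi
    have e : rep24.den c (x (rep24.pt i)) = x (rep24.den dilCode (rep24.pt i)) := by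
      rw [hcx]; simp
    have hact := allBelow_eq_true.mp dilElems_check.2.1 i hi
    rw [Nat.beq_eq] at hact
    rw [← Equiv.Perm.smul_def (rep24.den dilCode), rep24.act_spec _ _ hok (show i < 24 by omega),
      hact] at e
    have e2 := congrArg ptIdx e
    rw [ptIdx_den hcok] at e2
    change φ _ = _
    rw [← hmul _ (hne i hi)]
    exact e2.symm
  have hk : k < 23 := by
    have h4 := hmul 1 (by norm_num)
    have h5 : k % 23 = k := by simpa [k] using h4.symm
    omega
  have hk1 : k ≠ 1 ∨ k = 1 := ne_or_eq k 1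
  have h0 : φ 0 = 0 := by
    have h4 := hrec 0 (by norm_num)
    rw [Nat.mul_zero, Nat.zero_mod] at h4
    by_contra hne0
    have h5 := hne 0 (by norm_num)
    -- the image is fixed by a non-trivial dilation
    rcases hk1 with hk1 | hk1
    · have : ∀ k : Fin 23, ∀ v : Fin 23, k.val ≠ 1 → v.val ≠ 0 → k.val * v.val % 23 ≠ v.val := by
        decide +kernel
      exact this ⟨k, hk⟩ ⟨φ 0, h5⟩ hk1 hne0 h4.symm
    · have h6 := hrec 1 (by norm_num)
      rw [hk1, one_mul, Nat.mod_eq_of_lt (hne 1 (by norm_num))] at h6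
      have h7 := congrArg ptIdx (x.injective (ptIdx_injective h6))
      rw [ptIdx_rep24 (by norm_num), ptIdx_rep24 (by norm_num)] at h7
      norm_num at h7
  have hpow : ∀ i < 23, ∀ n, φ (2 ^ n * i % 23) = k ^ n * φ i % 23 := by
    intro i hi n
    induction n with
    | zero => rw [pow_zero, pow_zero, one_mul, one_mul, Nat.mod_eq_of_lt hi, Nat.mod_eq_of_lt (hne i hi)]
    | succ n ih =>
      have h5 := hrec (2 ^ n * i % 23) (Nat.mod_lt _ (by norm_num))
      rw [Nat.mul_mod_mod, ← mul_assoc, ← pow_succ'] at h5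
      rw [h5, ih, Nat.mul_mod_mod, ← mul_assoc, ← pow_succ']
  have hfield : ∀ i < 24, getField 5 (dilCand k (φ 1) (φ 22)) i = ptIdx (x (rep24.pt i)) := by
    intro i hi
    rw [dilCand, getField_pack 5 24 _ (fun j _ => by
      rw [cond_eq, cond_eq]; split_ifs
      · norm_num
      · exact lt_trans (Nat.mod_lt _ (by norm_num)) (by norm_num)
      · norm_num) hi, cond_eq, cond_eq, cond_eq]
    by_cases h : i = 23
    · subst h; simp only [Nat.blt_eq]; simp; exact h23.symm
    rw [if_pos (Nat.blt_eq.mpr (show i < 23 by omega))]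
    rcases Nat.eq_zero_or_pos i with rfl | hpos
    · simp only [Nat.beq_eq, if_true]; exact h0.symm
    rw [if_neg (by rw [Nat.beq_eq]; omega)]
    have hd := allBelow_eq_true.mp dlogs_check (i - 1) (by omega)
    rw [show i - 1 + 1 = i by omega, Bool.and_eq_true, Nat.beq_eq, cond_eq] at hd
    split_ifs at hd ⊢
    · rw [mul_one] at hd
      have h5 := hpow 1 (by norm_num) (dlogs.getD i 0)
      rw [mul_one, hd.2] at h5
      exact h5.symm
    · have h5 := hpow 22 (by norm_num) (dlogs.getD i 0)
      rw [hd.2] at h5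
      exact h5.symm
  obtain ⟨hokc, hden⟩ := den_of_perm hfield
  have h6 := allBelow_eq_true.mp dilCand_check k hk
  rw [show Nat.beq (k ^ 11 % 23) 1 = true from Nat.beq_eq.mpr hk11, Bool.not_true, Bool.false_or] at h6
  have h7 := allBelow_eq_true.mp (allBelow_eq_true.mp h6 _ (hne 1 (by norm_num))) _ (hne 22 (by norm_num))
  rw [inM24B_of_mem hokc (hden.symm ▸ hx), Bool.not_true, Bool.false_or] at h7
  rw [← hden]
  exact (Rep.inB_spec psl_checks.2.2.2.2.2.2.2.2.1 h7).2

/-- The orders that Sylow counting at 23 allows. -/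
theorem count23 : allBelow 1754 (fun j => !(Nat.beq (40320 % (23 * j + 1)) 0) ||
    memB (23 * j + 1) [1, 24, 70, 576, 1680, 40320]) = true := by
  decide +kernel

/-- The group of order 253 is maximal in M23. -/
theorem borel_maximal {H : Subgroup (Equiv.Perm GolayPt)}
    (hH : H ≤ M24 ⊓ MulAction.stabilizer (Equiv.Perm GolayPt) (none : GolayPt))
    (hP : borelGrp ≤ H) :
    H = borelGrp ∨ H = M24 ⊓ MulAction.stabilizer (Equiv.Perm GolayPt) (none : GolayPt) := by
  classical
  have hM : Nat.card ↥(M24 ⊓ MulAction.stabilizer (Equiv.Perm GolayPt) (none : GolayPt)) = 10200960 :=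
    card_m23
  have hcardB : Nat.card borelGrp = 253 := by
    rw [borelGrp, Rep.card_chainGroup _ psl_checks.2.2.1, psl_checks.2.2.2.1]
  have hcardZ : Nat.card transGrp = 23 := by
    rw [transGrp, Rep.card_chainGroup _ psl_checks.2.2.2.2.1, psl_checks.2.2.2.2.2.1]
  have hcardT : Nat.card dilGrp = 11 := by
    rw [dilGrp, Rep.card_chainGroup _ psl_checks.2.2.2.2.2.2.1, psl_checks.2.2.2.2.2.2.2.1]
  have hfix : ∀ x ∈ H, x ∈ M24 ∧ x none = none := fun x hx =>
    ⟨(Subgroup.mem_inf.mp (hH hx)).1, (Subgroup.mem_inf.mp (hH hx)).2⟩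
  obtain ⟨hZB, hZn⟩ := Rep.normalB_spec psl_checks.2.2.1 psl_checks.2.2.2.2.1 trans_normal
  have hTB : dilGrp ≤ borelGrp := by
    conv_lhs => rw [dilGrp, Rep.chainGroup, Rep.span]
    rw [Subgroup.closure_le]
    rintro _ ⟨c, hc, rfl⟩
    exact (Rep.inB_spec psl_checks.2.2.1 (List.all_eq_true.mp dil_le.1 c hc)).2
  have hdvdH : Nat.card H ∣ 10200960 := hM ▸ Subgroup.card_dvd_of_le hH
  -- Sylow counting in a group between the two
  have count : ∀ (p : ℕ) [Fact p.Prime] (Q : Subgroup (Equiv.Perm GolayPt)), Nat.card Q = p → Q ≤ H →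
      ¬ p * p ∣ 10200960 →
      ∃ m, m = Nat.card (Subgroup.normalizer ((Q.subgroupOf H : Subgroup H) : Set H)) ∧
        p ∣ m ∧ m ∣ Nat.card H ∧ (Nat.card H / m) % p = 1 % p := by
    intro p hp Q hQ hQH hp2
    have hQ' : Nat.card (Q.subgroupOf H) = p := by
      rw [Nat.card_congr (Subgroup.subgroupOfEquivOfLe hQH).toEquiv, hQ]
    have hpg : IsPGroup p (Q.subgroupOf H) := IsPGroup.of_card (n := 1) (by rw [hQ', pow_one])
    have hidx : ¬ p ∣ (Q.subgroupOf H).index := fun hd => hp2 (by
      have h1 := (Q.subgroupOf H).card_mul_index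
      rw [hQ'] at h1
      exact (h1 ▸ mul_dvd_mul_left p hd).trans hdvdH)
    let S : Sylow p H := hpg.toSylow hidx
    have h1 : Nat.card (Sylow p H) =
        (Subgroup.normalizer ((Q.subgroupOf H : Subgroup H) : Set H)).index :=
      Sylow.card_eq_index_normalizer S
    refine ⟨_, rfl, ?_, Subgroup.card_subgroup_dvd_card _, ?_⟩
    · rw [← hQ']; exact Subgroup.card_dvd_of_le Subgroup.le_normalizer
    · have h2 := (Subgroup.normalizer ((Q.subgroupOf H : Subgroup H) : Set H)).card_mul_index
      rw [← h2, Nat.mul_div_cancel_left _ Nat.card_pos, ← h1]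
      exact card_sylow_modEq_one p H
  have hconj : ∀ (Q : Subgroup (Equiv.Perm GolayPt)), Q ≤ H →
      ∀ x : H, x ∈ Subgroup.normalizer ((Q.subgroupOf H : Subgroup H) : Set H) →
        ∀ y ∈ Q, (x : Equiv.Perm GolayPt) * y * (x : Equiv.Perm GolayPt)⁻¹ ∈ Q := fun Q hQH x hx y hy =>
    (Subgroup.mem_normalizer_iff.mp hx ⟨y, hQH hy⟩).mp hy
  have : Fact (Nat.Prime 23) := ⟨by norm_num⟩
  have : Fact (Nat.Prime 11) := ⟨by norm_num⟩
  obtain ⟨m, hm, hpm, hmH, hmod⟩ := count 23 transGrp hcardZ (hZB.trans hP) (by norm_num)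
  have hm253 : m = 253 := by
    refine Nat.dvd_antisymm ?_ ?_
    · rw [hm, ← hcardB, ← Nat.card_congr (Subgroup.subgroupOfEquivOfLe hP).toEquiv]
      refine Subgroup.card_dvd_of_le fun x hx => Subgroup.mem_subgroupOf.mpr ?_
      exact mem_borel_of_normalizes (hfix _ x.2).1 (hfix _ x.2).2
        (hconj _ (hZB.trans hP) x hx)
    · rw [hm, ← hcardB, ← Nat.card_congr (Subgroup.subgroupOfEquivOfLe hP).toEquiv]
      refine Subgroup.card_dvd_of_le fun x hx => Subgroup.mem_normalizer_iff.mpr fun y => ?_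
      have hx' := (Subgroup.normal_subgroupOf_iff_le_normalizer hZB).mp hZn (Subgroup.mem_subgroupOf.mp hx)
      exact Subgroup.mem_normalizer_iff.mp hx' (y : Equiv.Perm GolayPt)
  subst hm253
  obtain ⟨n, hn⟩ := hmH
  rw [hn, Nat.mul_div_cancel_left _ (by norm_num)] at hmod
  have hn1 : n ∣ 40320 := by
    have h1 := hdvdH
    rw [hn, show (10200960 : ℕ) = 253 * 40320 by norm_num] at h1
    exact Nat.dvd_of_mul_dvd_mul_left (by norm_num) h1
  have hlist : n ∈ [1, 24, 70, 576, 1680, 40320] := by
    have hle := Nat.le_of_dvd (by norm_num) hn1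
    have hform : n = 23 * (n / 23) + 1 := by omega
    have h1 := allBelow_eq_true.mp count23 (n / 23) (by omega)
    rw [← hform, Bool.or_eq_true, memB_eq_true] at h1
    refine h1.resolve_left fun h2 => ?_
    rw [Bool.not_eq_true', ← Bool.not_eq_true, Nat.beq_eq] at h2
    exact h2 (Nat.mod_eq_zero_of_dvd hn1)
  obtain ⟨r, hr, hpr, hrH, hrmod⟩ := count 11 dilGrp hcardT (hTB.trans hP) (by norm_num)
  have hr55 : r ∣ 55 := by
    have h55 : Nat.card ↥(rep24.chainGroup dilNormChain) = 55 := by
      rw [Rep.card_chainGroup _ psl_checks.2.2.2.2.2.2.2.2.1, psl_checks.2.2.2.2.2.2.2.2.2]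
    rw [hr, ← h55, ← Subgroup.card_map_of_injective (f := H.subtype) Subtype.val_injective]
    refine Subgroup.card_dvd_of_le ?_
    rintro _ ⟨x, hx, rfl⟩
    exact mem_dilNorm_of_normalizes (hfix _ x.2).1 (hfix _ x.2).2 (hconj _ (hTB.trans hP) x hx)
  rw [hn] at hrH hrmod
  have hr' : r = 11 ∨ r = 55 := by
    have := Nat.le_of_dvd (by norm_num) hr55
    obtain ⟨a, rfl⟩ := hpr
    have ha : a ≤ 5 := by omega
    revert hr55
    interval_cases a <;> norm_num
  simp only [List.mem_cons, List.not_mem_nil, or_false] at hlist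
  rcases hlist with rfl | rfl | rfl | rfl | rfl | rfl
  · left
    exact (Subgroup.eq_of_le_of_card_ge hP (by rw [hn, hcardB])).symm
  · rcases hr' with rfl | rfl <;> revert hrH hrmod <;> norm_num
  · rcases hr' with rfl | rfl <;> revert hrH hrmod <;> norm_num
  · rcases hr' with rfl | rfl <;> revert hrH hrmod <;> norm_num
  · rcases hr' with rfl | rfl <;> revert hrH hrmod <;> norm_num
  · right
    exact Subgroup.eq_of_le_of_card_ge hH (by rw [hM, hn])

end Cfsg.Agent.Compute
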