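/-
Coordinates for the lattice of the Rudvalis group and Boolean checkers for its short vectors.
-/
import Cfsg.Prelude.Def_Spor_Ru
import Cfsg.Agent.Compute.Basic
import Cfsg.Agent.Compute.RuShortData

set_option autoImplicit false

namespace Cfsg.Agent.Compute

open Cfsg Cfsg.Spor

/-- The index of the component and coefficient of a real coordinate. -/
def ruPos (i : Fin 56) : RuIdx :=
  (⟨i.val / 8, Nat.div_lt_of_lt_mul i.2⟩, ⟨i.val % 8 / 2, by omega⟩)

/-- The real coordinate number `i`. -/
def ruCoord (v : RuVec) (i : Fin 56) : ℤ := if i.val % 2 = 0 then (v (ruPos i)).re else (v (ruPos i)).im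

/-- A coordinate of a packed vector, three bits each. -/
def ruEnt (c i : ℕ) : ℤ := Int.ofNat ((c >>> (3 * (55 - i) + 6)) % 8)

/-- Decode a certificate with fuel: sixteen bits for each term, six for the index plus one. -/
def ruDecFuel : ℕ → ℕ → List (ℕ × ℤ)
  | 0, _ => []
  | f + 1, n => if n = 0 then [] else
      ((n % 65536) / 1024 - 1, Int.ofNat (n % 1024) - 512) :: ruDecFuel f (n / 65536)

/-- Decode a certificate. -/
def ruCert (certs : List ℕ) (k : ℕ) : List (ℕ × ℤ) := ruDecFuel 64 (certs.getD k 0)

/-- The vector with packed coordinates. -/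
def ruVecOf (c : ℕ) : RuVec := fun p =>
  ⟨ruEnt c (8 * p.1.val + 2 * p.2.val), ruEnt c (8 * p.1.val + 2 * p.2.val + 1)⟩

/-- A vector of the basis. -/
def ruB (k : ℕ) : ℕ := ruBasisCodes.getD k 0

/-- The integral combination given by a certificate. -/
noncomputable def ruComb (cert : List (ℕ × ℤ)) : RuVec :=
  (cert.map fun e => e.2 • ruVecOf (ruB e.1)).sum

/-- A coordinate of a combination. -/
def ruCombAt (cert : List (ℕ × ℤ)) (i : ℕ) : ℤ := (cert.map fun e => e.2 * ruEnt (ruB e.1) i).sum

/-- A certificate gives the coordinates of a vector. -/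
def ruImgB (cert : List (ℕ × ℤ)) (v : RuVec) : Bool :=
  (List.finRange 56).all fun i => decide (ruCoord v i = ruCombAt cert i)

/-- Certificates for the images of the basis under a map. -/
def ruMapB (f : RuVec → RuVec) (certs : List ℕ) : Bool :=
  (List.range 56).all fun k => ruImgB (ruCert certs k) (f (ruVecOf (ruB k)))

/-- The dot product of two coordinate lists. -/
noncomputable def ruDotL (a b : ℕ) : ℕ :=
  Nat.rec (motive := fun _ => ℕ) 0
    (fun i r => Nat.add r (Nat.mul (Nat.mod (Nat.shiftRight a (Nat.add (Nat.mul 3 (Nat.sub 55 i)) 6)) 8)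
      (Nat.mod (Nat.shiftRight b (Nat.add (Nat.mul 3 (Nat.sub 55 i)) 6)) 8))) 56

/-- The number of set bits below `n`. -/
noncomputable def ruPop (n w : ℕ) : ℕ :=
  Nat.rec (motive := fun _ => ℕ) 0 (fun i r => Nat.add r (Nat.land (Nat.shiftRight w i) 1)) n

/-- The expected parity check number `j`. -/
def ruParityAt (A : List (ℕ × ℕ)) (j i : ℕ) : ℤ :=
  2 * ((if i = j then 1 else 0) + (A.map fun e => if e.1 = i ∧ e.2.testBit j = true then 1 else 0).sum)

/-- Certificates for the parity checks. -/
def ruParityB (A : List (ℕ × ℕ)) (certs : List ℕ) : Bool :=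
  (List.range 56).all fun j => (List.range 56).all fun i =>
    decide (ruCombAt (ruCert certs j) i = ruParityAt A j i)

/-- Zero, one of the words of weight eight, or more than eight bits. -/
noncomputable def ruGoodWord (w : ℕ) : Bool :=
  Nat.beq w 0 || memB w ruWords || Nat.blt 8 (ruPop 56 w)

/-- All words from at most `k` further columns. -/
noncomputable def ruWalk : List (ℕ × ℕ) → ℕ → ℕ → Bool
  | [], _, acc => ruGoodWord acc
  | e :: r, 0, acc => ruWalk r 0 acc
  | e :: r, k + 1, acc => ruWalk r (k + 1) acc && ruWalk r k (acc ^^^ e.2)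

/-- Some vector of the basis has dot product not divisible by four. -/
def ruBadSigns (acc : List (ℕ × ℤ)) : Bool :=
  ruBasisCodes.any fun g => !decide ((acc.map fun e => e.2 * ruEnt g e.1).sum % 4 = 0)

/-- All choices of signs on a support. -/
def ruSignWalk : List ℕ → List (ℕ × ℤ) → Bool
  | [], acc => ruBadSigns acc
  | i :: r, acc => ruSignWalk r ((i, 1) :: acc) && ruSignWalk r ((i, -1) :: acc)

/-- The support of a word. -/
def ruSupp (w : ℕ) : List ℕ := (List.range 56).filter fun i => w.testBit i

end Cfsg.Agent.Compute
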