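/-
Kernel checks of the certificates for the lattice of the Rudvalis group.
-/
import Cfsg.Agent.Compute.RuShortDefs

set_option autoImplicit false

namespace Cfsg.Agent.Compute

open Cfsg Cfsg.Spor

theorem ru_table_check :
    (List.range 20).all (fun k => ruImgB (ruCert ruTableCert k) (ruTable.getD k 0)) = true ∧
      ruTable.length = 20 ∧ ruBasisCodes.length = 56 := by decide +kernel

theorem ru_gI_check : ruMapB (fun v => gI • v) ruImgICert = true := by decide +kernel

theorem ru_rj_check : ruMapB ruRj ruImgJCert = true := by decide +kernel

theorem ru_rk_check : ruMapB ruRk ruImgKCert = true := by decide +kernel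

theorem ru_sign_check : ruMapB ruSign ruImgSignCert = true := by decide +kernel

theorem ru_shift_check : ruMapB ruShift ruImgShiftCert = true := by decide +kernel

theorem ru_dot_check : ruBasisCodes.all (fun a => Nat.beq (ruDotL a a % 8) 0 &&
    ruBasisCodes.all (fun b => Nat.beq (ruDotL a b % 4) 0)) = true := by decide +kernel

theorem ru_parityA_check : ruParityB ruInfoA ruParityACert = true := by decide +kernel

theorem ru_parityB_check : ruParityB ruInfoB ruParityBCert = true := by decide +kernel

theorem ru_infos_disjoint : ((ruInfoA.map Prod.fst) ++ (ruInfoB.map Prod.fst)).Nodup ∧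
    ((ruInfoA.map Prod.fst) ++ (ruInfoB.map Prod.fst)).all (fun a => Nat.blt a 56) = true := by
  decide +kernel

theorem ru_walkA_check : ruWalk ruInfoA 4 0 = true := by decide +kernel

theorem ru_walkB_check : ruWalk ruInfoB 4 0 = true := by decide +kernel

theorem ru_words_check : ruWords.all (fun w => Nat.beq (ruSupp w).length 8 &&
    ruSignWalk (ruSupp w) []) = true := by decide +kernel

theorem ru_pair_check : (List.range 56).all (fun a => (List.range 56).all (fun b =>
    Nat.beq a b || ruBasisCodes.any (fun g => !decide ((ruEnt g a + ruEnt g b) % 2 = 0)))) = true := by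
  decide +kernel

end Cfsg.Agent.Compute
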