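/-
The lattice of the Rudvalis group is even and has no short vectors.
-/
import Cfsg.Agent.Compute.RuShortCheck

set_option autoImplicit false

namespace Cfsg.Agent.Compute

open Cfsg Cfsg.Spor

theorem ruCoord_add (v w : RuVec) (i : Fin 56) : ruCoord (v + w) i = ruCoord v i + ruCoord w i := by
  unfold ruCoord; split <;> simp

theorem ruCoord_zero (i : Fin 56) : ruCoord 0 i = 0 := by
  unfold ruCoord; split <;> simp

theorem ruCoord_neg (v : RuVec) (i : Fin 56) : ruCoord (-v) i = -ruCoord v i := by
  unfold ruCoord; split <;> simp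

theorem ruCoord_zsmul (c : ℤ) (v : RuVec) (i : Fin 56) : ruCoord (c • v) i = c * ruCoord v i := by
  unfold ruCoord; split <;> simp [zsmul_eq_mul]

theorem ru_ext {v w : RuVec} (h : ∀ i, ruCoord v i = ruCoord w i) : v = w := by
  funext p
  obtain ⟨⟨n, hn⟩, ⟨t, ht⟩⟩ := p
  have e : ∀ k (hk : 8 * n + 2 * t + k < 56), k < 2 →
      ruPos ⟨8 * n + 2 * t + k, hk⟩ = (⟨n, hn⟩, ⟨t, ht⟩) := fun k hk hk2 => by
    refine Prod.ext (Fin.ext ?_) (Fin.ext ?_)
    · show (8 * n + 2 * t + k) / 8 = n
      omega
    · show (8 * n + 2 * t + k) % 8 / 2 = t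
      omega
  have h0 := h ⟨8 * n + 2 * t + 0, by omega⟩
  have h1 := h ⟨8 * n + 2 * t + 1, by omega⟩
  rw [ruCoord, ruCoord, if_pos (by show (8 * n + 2 * t + 0) % 2 = 0; omega),
    if_pos (by show (8 * n + 2 * t + 0) % 2 = 0; omega), e 0 (by omega) (by norm_num)] at h0
  rw [ruCoord, ruCoord, if_neg (by show ¬(8 * n + 2 * t + 1) % 2 = 0; omega),
    if_neg (by show ¬(8 * n + 2 * t + 1) % 2 = 0; omega), e 1 (by omega) (by norm_num)] at h1
  exact Zsqrtd.ext h0 h1

theorem ruCoord_vecOf (l : ℕ) (i : Fin 56) : ruCoord (ruVecOf l) i = ruEnt l i := by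
  unfold ruCoord
  split
  · next h =>
    show ruEnt l (8 * (i.val / 8) + 2 * (i.val % 8 / 2)) = _
    congr 1; omega
  · next h =>
    show ruEnt l (8 * (i.val / 8) + 2 * (i.val % 8 / 2) + 1) = _
    congr 1; omega

theorem ruCoord_comb (cert : List (ℕ × ℤ)) (i : Fin 56) :
    ruCoord (ruComb cert) i = ruCombAt cert i := by
  induction cert with
  | nil => exact ruCoord_zero i
  | cons e r ih =>
      simp only [ruComb, ruCombAt, List.map_cons, List.sum_cons] at ih ⊢
      rw [ruCoord_add, ruCoord_zsmul, ruCoord_vecOf, ih]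

/-- The span of the basis. -/
def ruSpan : AddSubgroup RuVec := AddSubgroup.closure {v | ∃ l ∈ ruBasisCodes, ruVecOf l = v}

theorem ruVecOf_nil : ruVecOf 0 = 0 := ru_ext fun i => by
  rw [ruCoord_vecOf, ruCoord_zero]; simp [ruEnt]

theorem ruComb_mem (cert : List (ℕ × ℤ)) : ruComb cert ∈ ruSpan := by
  induction cert with
  | nil => exact zero_mem _
  | cons e r ih =>
      rw [show ruComb (e :: r) = e.2 • ruVecOf (ruB e.1) + ruComb r from rfl]
      refine add_mem (zsmul_mem ?_ _) ih
      by_cases h : e.1 < ruBasisCodes.length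
      · exact AddSubgroup.subset_closure ⟨_, by rw [ruB, List.getD_eq_getElem _ _ h]; exact List.getElem_mem h, rfl⟩
      · rw [ruB, List.getD_eq_default _ _ (not_lt.mp h), ruVecOf_nil]; exact zero_mem _

theorem mem_of_imgB {cert : List (ℕ × ℤ)} {v : RuVec} (h : ruImgB cert v = true) : v ∈ ruSpan := by
  have e : v = ruComb cert := ru_ext fun i => by
    rw [ruCoord_comb]
    exact of_decide_eq_true (List.all_eq_true.mp h i (List.mem_finRange i))
  exact e ▸ ruComb_mem cert

theorem map_mem_span {f : RuVec → RuVec} (hf : ∀ v w, f (v + w) = f v + f w) {certs : List ℕ}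
    (h : ruMapB f certs = true) {v : RuVec} (hv : v ∈ ruSpan) : f v ∈ ruSpan := by
  let F : RuVec →+ RuVec := AddMonoidHom.mk' f hf
  suffices ruSpan ≤ ruSpan.comap F from this hv
  rw [ruSpan, AddSubgroup.closure_le]
  rintro _ ⟨l, hl, rfl⟩
  obtain ⟨k, hk, rfl⟩ := List.getElem_of_mem hl
  have := List.all_eq_true.mp h k (List.mem_range.mpr (by rw [← ru_table_check.2.2]; exact hk))
  rw [ruB, List.getD_eq_getElem _ _ hk] at this
  exact mem_of_imgB this

theorem gI_add (v w : RuVec) : gI • (v + w) = gI • v + gI • w := smul_add _ _ _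

theorem ruRj_add (v w : RuVec) : ruRj (v + w) = ruRj v + ruRj w := by
  funext ⟨a, b⟩
  fin_cases b <;> simp [ruRj, mul_add] <;> ring

theorem ruRk_add (v w : RuVec) : ruRk (v + w) = ruRk v + ruRk w := by
  funext ⟨a, b⟩
  fin_cases b <;> simp [ruRk, mul_add] <;> ring

theorem ruSign_add (v w : RuVec) : ruSign (v + w) = ruSign v + ruSign w := by
  funext p
  simp only [ruSign, Pi.add_apply]
  split <;> ring

theorem ruShift_add (v w : RuVec) : ruShift (v + w) = ruShift v + ruShift w := rfl

theorem ruLattice_le_span : ruLattice ≤ ruSpan := by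
  refine sInf_le ⟨fun v hv => ?_, fun v hv => ⟨map_mem_span gI_add ru_gI_check hv,
    map_mem_span ruRj_add ru_rj_check hv, map_mem_span ruRk_add ru_rk_check hv,
    map_mem_span ruSign_add ru_sign_check hv, map_mem_span ruShift_add ru_shift_check hv⟩⟩
  obtain ⟨k, hk, rfl⟩ := List.getElem_of_mem hv
  have := List.all_eq_true.mp ru_table_check.1 k (List.mem_range.mpr (ru_table_check.2.1 ▸ hk))
  rw [List.getD_eq_getElem _ _ hk] at this
  exact mem_of_imgB this

/-- The real scalar product. -/
def ruDot (v w : RuVec) : ℤ := ∑ i, ruCoord v i * ruCoord w i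

theorem ruDot_vecOf (a b : ℕ) : ruDot (ruVecOf a) (ruVecOf b) = (ruDotL a b : ℤ) := by
  have key : ∀ n, ((Nat.rec (motive := fun _ => ℕ) 0
      (fun i r => Nat.add r (Nat.mul (Nat.mod (Nat.shiftRight a (Nat.add (Nat.mul 3 (Nat.sub 55 i)) 6)) 8)
        (Nat.mod (Nat.shiftRight b (Nat.add (Nat.mul 3 (Nat.sub 55 i)) 6)) 8))) n : ℕ) : ℤ) =
      ∑ i ∈ Finset.range n, ruEnt a i * ruEnt b i := by
    intro n
    induction n with
    | zero => simp
    | succ n ih =>
        rw [Finset.sum_range_succ, ← ih]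
        simp only [ruEnt, Int.ofNat_eq_natCast, ← Nat.cast_mul, ← Nat.cast_add]
        rfl
  simp only [ruDot, ruCoord_vecOf]
  rw [Fin.sum_univ_eq_sum_range (fun i => ruEnt a i * ruEnt b i) 56, ← key]
  rfl

theorem ruPop_eq (n w : ℕ) : ruPop n w = ((List.range n).filter fun i => w.testBit i).length := by
  induction n with
  | zero => rfl
  | succ n ih =>
      have e : ruPop (n + 1) w = ruPop n w + ((w >>> n) &&& 1) := rfl
      rw [e, ih, List.range_succ, List.filter_append, List.length_append, Nat.and_one_is_mod]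
      congr 1
      rcases Nat.mod_two_eq_zero_or_one (w >>> n) with h | h
      · have : w.testBit n = false := by
          rw [Nat.testBit_eq_decide_div_mod_eq, ← Nat.shiftRight_eq_div_pow, h]; rfl
        simp [this, h]
      · have : w.testBit n = true := by
          rw [Nat.testBit_eq_decide_div_mod_eq, ← Nat.shiftRight_eq_div_pow, h]; rfl
        simp [this, h]

theorem ruDot_add_left (u v w : RuVec) : ruDot (u + v) w = ruDot u w + ruDot v w := by
  simp only [ruDot, ruCoord_add, add_mul, Finset.sum_add_distrib]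

theorem ruDot_comm (v w : RuVec) : ruDot v w = ruDot w v := by
  simp only [ruDot, mul_comm]

theorem ruDot_zero_left (w : RuVec) : ruDot 0 w = 0 := by simp [ruDot, ruCoord_zero]

theorem ruDot_neg_left (v w : RuVec) : ruDot (-v) w = -ruDot v w := by
  simp [ruDot, ruCoord_neg]

theorem four_dvd_dot {v w : RuVec} (hv : v ∈ ruSpan) (hw : w ∈ ruSpan) : 4 ∣ ruDot v w := by
  have base : ∀ b ∈ ruBasisCodes, ∀ u ∈ ruSpan, 4 ∣ ruDot u (ruVecOf b) := by
    intro b hb u hu
    induction hu using AddSubgroup.closure_induction with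
    | mem x hx =>
        obtain ⟨a, ha, rfl⟩ := hx
        rw [ruDot_vecOf a b]
        have h := List.all_eq_true.mp ru_dot_check a ha
        rw [Bool.and_eq_true] at h
        exact Int.natCast_dvd_natCast.mpr (Nat.dvd_of_mod_eq_zero (Nat.beq_eq.mp (List.all_eq_true.mp h.2 b hb)))
    | zero => rw [ruDot_zero_left]; exact dvd_zero _
    | add x y _ _ hx hy => rw [ruDot_add_left]; exact dvd_add hx hy
    | neg x _ hx => rw [ruDot_neg_left]; exact hx.neg_right
  induction hw using AddSubgroup.closure_induction with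
  | mem x hx => obtain ⟨b, hb, rfl⟩ := hx; exact base b hb v hv
  | zero => rw [ruDot_comm, ruDot_zero_left]; exact dvd_zero _
  | add x y _ _ hx hy => rw [ruDot_comm, ruDot_add_left, ruDot_comm x, ruDot_comm y]; exact dvd_add hx hy
  | neg x _ hx => rw [ruDot_comm, ruDot_neg_left, ruDot_comm]; exact hx.neg_right

theorem eight_dvd_self {v : RuVec} (hv : v ∈ ruSpan) : 8 ∣ ruDot v v := by
  induction hv using AddSubgroup.closure_induction with
  | mem x hx =>
      obtain ⟨a, ha, rfl⟩ := hx
      rw [ruDot_vecOf a a]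
      have h := List.all_eq_true.mp ru_dot_check a ha
      rw [Bool.and_eq_true] at h
      exact Int.natCast_dvd_natCast.mpr (Nat.dvd_of_mod_eq_zero (Nat.beq_eq.mp h.1))
  | zero => rw [ruDot_zero_left]; exact dvd_zero _
  | add x y hx' hy' hx hy =>
      have e : ruDot (x + y) (x + y) = ruDot x x + ruDot y y + 2 * ruDot x y := by
        rw [ruDot_add_left, ruDot_comm x (x + y), ruDot_comm y (x + y), ruDot_add_left, ruDot_add_left,
          ruDot_comm y x]
        ring
      obtain ⟨k, hk⟩ := four_dvd_dot hx' hy'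
      rw [e, hk]
      omega
  | neg x _ hx => rw [ruDot_neg_left, ruDot_comm, ruDot_neg_left, neg_neg]; exact hx

/-- Real coordinates numbered by component, coefficient and part. -/
def ruIdxEquiv : RuIdx × Fin 2 ≃ Fin 56 where
  toFun x := ⟨8 * x.1.1.val + 2 * x.1.2.val + x.2.val, by omega⟩
  invFun i := (ruPos i, ⟨i.val % 2, by omega⟩)
  left_inv := by
    rintro ⟨⟨⟨n, hn⟩, ⟨t, ht⟩⟩, ⟨s, hs⟩⟩
    refine Prod.ext (Prod.ext (Fin.ext ?_) (Fin.ext ?_)) (Fin.ext ?_)
    · show (8 * n + 2 * t + s) / 8 = n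
      omega
    · show (8 * n + 2 * t + s) % 8 / 2 = t
      omega
    · show (8 * n + 2 * t + s) % 2 = s
      omega
  right_inv i := by
    apply Fin.ext
    show 8 * (i.val / 8) + 2 * (i.val % 8 / 2) + i.val % 2 = i.val
    omega

theorem ruNorm_eq (v : RuVec) : ruNorm v = ruDot v v := by
  rw [ruDot, ← ruIdxEquiv.sum_comp, Fintype.sum_prod_type, ruNorm]
  refine Finset.sum_congr rfl fun p _ => ?_
  have e : ∀ s : Fin 2, ruPos (ruIdxEquiv (p, s)) = p := fun s => by
    have := congrArg Prod.fst (ruIdxEquiv.symm_apply_apply (p, s))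
    exact this
  rw [Fin.sum_univ_two, ruCoord, ruCoord, e, e,
    if_pos (by show (8 * p.1.val + 2 * p.2.val + (0 : Fin 2).val) % 2 = 0; simp; omega),
    if_neg (by show ¬(8 * p.1.val + 2 * p.2.val + (1 : Fin 2).val) % 2 = 0; simp; omega),
    Zsqrtd.norm_def]
  ring

theorem sum_mul_indicator (f : Fin 56 → ℤ) (a : ℕ) (ha : a < 56) :
    ∑ i : Fin 56, f i * (if a = i.val then 1 else 0) = f ⟨a, ha⟩ := by
  rw [Finset.sum_eq_single (⟨a, ha⟩ : Fin 56)]
  · simp
  · intro b _ hb
    rw [if_neg (fun e => hb (Fin.ext e.symm)), mul_zero]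
  · simp

theorem sum_parity (f : Fin 56 → ℤ) (g : ℕ → ℤ) (hg : ∀ i : Fin 56, g i.val = f i) (j : ℕ)
    (hj : j < 56) : ∀ A : List (ℕ × ℕ), (∀ e ∈ A, e.1 < 56) →
      ∑ i : Fin 56, f i * ruParityAt A j i.val =
        2 * (g j + (A.map fun e => if e.2.testBit j then g e.1 else 0).sum) := by
  intro A
  induction A with
  | nil =>
      intro _
      have h1 : ∀ i : Fin 56, f i * ruParityAt [] j i.val = 2 * (f i * (if j = i.val then 1 else 0)) :=
        fun i => by rcases eq_or_ne j i.val with h | h <;> simp [ruParityAt, h, Ne.symm] <;> ring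
      simp only [h1, ← Finset.mul_sum, sum_mul_indicator f j hj, List.map_nil, List.sum_nil, add_zero,
        hg ⟨j, hj⟩ |>.symm]
  | cons e r ih =>
      intro hA
      have he : e.1 < 56 := hA e (by simp)
      have hsplit : ∀ i : Fin 56, f i * ruParityAt (e :: r) j i.val = f i * ruParityAt r j i.val +
          (if e.2.testBit j then 2 else 0) * (f i * (if e.1 = i.val then 1 else 0)) := by
        intro i
        by_cases h1 : e.1 = i.val <;> cases h2 : e.2.testBit j <;> simp [ruParityAt, h1, h2] <;> ring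
      simp only [hsplit, Finset.sum_add_distrib, ← Finset.mul_sum, sum_mul_indicator f e.1 he,
        ih (fun x hx => hA x (by simp [hx])), List.map_cons, List.sum_cons, ← hg ⟨e.1, he⟩]
      cases e.2.testBit j <;> simp <;> ring

theorem walk_spec : ∀ (A : List (ℕ × ℕ)) (k acc : ℕ) (q : ℕ → Bool),
    A.countP (fun e => q e.1) ≤ k → ruWalk A k acc = true →
      ruGoodWord (A.foldl (fun w e => if q e.1 then w ^^^ e.2 else w) acc) = true := by
  intro A
  induction A with
  | nil => intro k acc q _ h; cases k <;> simpa [ruWalk] using h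
  | cons e r ih =>
      intro k acc q hc h
      rw [List.countP_cons] at hc
      rw [List.foldl_cons]
      cases k with
      | zero =>
          cases hq : q e.1 with
          | false => rw [hq] at hc; exact ih 0 acc q (by simpa using hc) (by simpa [ruWalk] using h)
          | true => rw [hq] at hc; simp at hc
      | succ k =>
          rw [ruWalk, Bool.and_eq_true] at h
          cases hq : q e.1 with
          | false => rw [hq] at hc; exact ih (k + 1) acc q (by simpa using hc) h.1
          | true => rw [hq] at hc; exact ih k (acc ^^^ e.2) q (by simpa using hc) h.2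

theorem fold_testBit (g : ℕ → ℤ) (j : ℕ) : ∀ (A : List (ℕ × ℕ)) (acc : ℕ),
    (A.foldl (fun w e => if decide (g e.1 % 2 = 1) then w ^^^ e.2 else w) acc).testBit j =
      decide (((if acc.testBit j then 1 else 0) +
        (A.map fun e => if e.2.testBit j then g e.1 else 0).sum) % 2 = (1 : ℤ)) := by
  intro A
  induction A with
  | nil => intro acc; cases h : acc.testBit j <;> simp [h]
  | cons e r ih =>
      intro acc
      rw [List.foldl_cons, ih, List.map_cons, List.sum_cons, decide_eq_decide]
      by_cases hg : g e.1 % 2 = 1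
      · rw [if_pos (decide_eq_true hg), Nat.testBit_xor]
        cases h1 : acc.testBit j <;> cases h2 : e.2.testBit j <;> simp <;> omega
      · rw [if_neg (show ¬ (decide (g e.1 % 2 = 1) = true) by rw [decide_eq_true_eq]; exact hg)]
        cases h1 : acc.testBit j <;> cases h2 : e.2.testBit j <;> simp <;> omega

theorem signWalk_spec (g : ℕ → ℤ) : ∀ (l : List ℕ), (∀ i ∈ l, g i = 1 ∨ g i = -1) →
    ∀ acc : List (ℕ × ℤ), (∀ e ∈ acc, g e.1 = e.2) → ruSignWalk l acc = true →
      ∃ b ∈ ruBasisCodes, ¬ ((l.map fun i => g i * ruEnt b i).sum +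
        (acc.map fun e : ℕ × ℤ => e.2 * ruEnt b e.1).sum) % 4 = 0 := by
  intro l
  induction l with
  | nil =>
      intro _ acc _ h
      obtain ⟨b, hb, hne⟩ := List.any_eq_true.mp (show ruBadSigns acc = true from h)
      exact ⟨b, hb, by simpa using hne⟩
  | cons i r ih =>
      intro hl acc hacc h
      rw [ruSignWalk, Bool.and_eq_true] at h
      rcases hl i (by simp) with hi | hi
      · obtain ⟨b, hb, hne⟩ := ih (fun x hx => hl x (by simp [hx])) ((i, 1) :: acc)
          (by simpa [hi] using hacc) h.1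
        refine ⟨b, hb, fun e => hne ?_⟩
        rw [← e, List.map_cons, List.map_cons, List.sum_cons, List.sum_cons, hi]
        ring_nf
      · obtain ⟨b, hb, hne⟩ := ih (fun x hx => hl x (by simp [hx])) ((i, -1) :: acc)
          (by simpa [hi] using hacc) h.2
        refine ⟨b, hb, fun e => hne ?_⟩
        rw [← e, List.map_cons, List.map_cons, List.sum_cons, List.sum_cons, hi]
        ring_nf

theorem odd_word {g : ℕ → ℤ} {A : List (ℕ × ℕ)} {certs : List ℕ} {v : RuVec}
    (hg : ∀ i : Fin 56, g i.val = ruCoord v i) (hv : v ∈ ruSpan) (hA : ∀ e ∈ A, e.1 < 56)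
    (hp : ruParityB A certs = true) {j : ℕ} (hj : j < 56) :
    (A.foldl (fun (w : ℕ) (e : ℕ × ℕ) => if decide (g e.1 % 2 = 1) then w ^^^ e.2 else w) 0).testBit j =
      decide (g j % 2 = 1) := by
  have h := four_dvd_dot hv (ruComb_mem (ruCert certs j))
  have hd : ruDot v (ruComb (ruCert certs j)) = ∑ i : Fin 56, ruCoord v i * ruParityAt A j i.val := by
    refine Finset.sum_congr rfl fun i _ => ?_
    rw [ruCoord_comb, of_decide_eq_true (List.all_eq_true.mp (List.all_eq_true.mp hp j
      (List.mem_range.mpr hj)) i.val (List.mem_range.mpr i.2))]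
  rw [hd, sum_parity _ g hg j hj A hA] at h
  rw [fold_testBit, decide_eq_decide]
  simp only [Nat.zero_testBit, Bool.false_eq_true, if_false, zero_add]
  omega

theorem no_norm_eight {v : RuVec} (hv : v ∈ ruSpan) : ruDot v v ≠ 8 := by
  intro h8
  let g : ℕ → ℤ := fun i => if h : i < 56 then ruCoord v ⟨i, h⟩ else 0
  have hg : ∀ i : Fin 56, g i.val = ruCoord v i := fun i => by simp [g]
  have hsum : ∑ i : Fin 56, g i.val ^ 2 = 8 := by
    rw [← h8, ruDot]; exact Finset.sum_congr rfl fun i _ => by rw [hg, sq]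
  have hone : ∀ i : Fin 56, g i.val % 2 = 1 → 1 ≤ g i.val ^ 2 := fun i hi => by
    have : g i.val ≠ 0 := fun e => by rw [e] at hi; norm_num at hi
    have := sq_pos_of_ne_zero this
    omega
  classical
  let S : Finset (Fin 56) := Finset.univ.filter fun i => g i.val % 2 = 1
  have hS : S.card ≤ 8 := by
    have : (S.card : ℤ) ≤ 8 := by
      rw [← hsum]
      calc (S.card : ℤ) = ∑ i ∈ S, (1 : ℤ) := by simp
        _ ≤ ∑ i ∈ S, g i.val ^ 2 := Finset.sum_le_sum fun i hi => hone i (Finset.mem_filter.mp hi).2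
        _ ≤ ∑ i : Fin 56, g i.val ^ 2 :=
          Finset.sum_le_sum_of_subset_of_nonneg (Finset.subset_univ _) fun i _ _ => sq_nonneg _
    exact_mod_cast this
  obtain ⟨hnd, hlt⟩ := ru_infos_disjoint
  have hltA : ∀ e ∈ ruInfoA, e.1 < 56 := fun e he => Nat.blt_eq.mp (List.all_eq_true.mp hlt e.1
    (List.mem_append_left _ (List.mem_map_of_mem he)))
  have hltB : ∀ e ∈ ruInfoB, e.1 < 56 := fun e he => Nat.blt_eq.mp (List.all_eq_true.mp hlt e.1
    (List.mem_append_right _ (List.mem_map_of_mem he)))
  let q : ℕ → Bool := fun i => decide (g i % 2 = 1)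
  have hcount : ruInfoA.countP (fun e => q e.1) + ruInfoB.countP (fun e => q e.1) ≤ 8 := by
    set l := ruInfoA.map Prod.fst ++ ruInfoB.map Prod.fst with hl
    have e1 : ruInfoA.countP (fun e => q e.1) + ruInfoB.countP (fun e => q e.1) =
        (l.filter q).length := by
      rw [hl, ← List.countP_eq_length_filter, List.countP_append, List.countP_map, List.countP_map]
      rfl
    rw [e1, ← List.toFinset_card_of_nodup (hnd.filter q)]
    refine le_trans ?_ hS
    rw [← Finset.card_map Fin.valEmbedding]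
    refine Finset.card_le_card fun i hi => ?_
    rw [List.mem_toFinset, List.mem_filter] at hi
    have hi56 : i < 56 := Nat.blt_eq.mp (List.all_eq_true.mp hlt i hi.1)
    rw [Finset.mem_map]
    exact ⟨⟨i, hi56⟩, Finset.mem_filter.mpr ⟨Finset.mem_univ _, of_decide_eq_true hi.2⟩, rfl⟩
  obtain ⟨w, hw, hbit⟩ : ∃ w, ruGoodWord w = true ∧
      ∀ j, j < 56 → w.testBit j = decide (g j % 2 = 1) := by
    rcases le_or_gt (ruInfoA.countP fun e => q e.1) 4 with h | h
    · exact ⟨_, walk_spec ruInfoA 4 0 q h ru_walkA_check, fun j hj =>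
        odd_word hg hv hltA ru_parityA_check hj⟩
    · exact ⟨_, walk_spec ruInfoB 4 0 q (by omega) ru_walkB_check, fun j hj =>
        odd_word hg hv hltB ru_parityB_check hj⟩
  have hsupp : (ruSupp w).toFinset = S.map Fin.valEmbedding := by
    ext i
    rw [List.mem_toFinset, ruSupp, List.mem_filter, List.mem_range, Finset.mem_map]
    constructor
    · rintro ⟨hi, hb⟩
      rw [hbit i hi] at hb
      exact ⟨⟨i, hi⟩, Finset.mem_filter.mpr ⟨Finset.mem_univ _, of_decide_eq_true hb⟩, rfl⟩
    · rintro ⟨⟨i, hi⟩, hm, rfl⟩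
      refine ⟨hi, ?_⟩
      show w.testBit i = true
      rw [hbit i hi]; exact decide_eq_true (Finset.mem_filter.mp hm).2
  have hlen : (ruSupp w).length = S.card := by
    rw [← List.toFinset_card_of_nodup (show (ruSupp w).Nodup from (List.nodup_range).filter _),
      ← Finset.card_map Fin.valEmbedding, ← hsupp]
  simp only [ruGoodWord, Bool.or_eq_true, Nat.beq_eq, Nat.blt_eq, memB_eq_true] at hw
  rcases hw with (rfl | hw) | hw
  · -- all coordinates are even
    have heven : ∀ i : Fin 56, g i.val % 2 = 0 := fun i => by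
      have := hbit i i.2
      rw [Nat.zero_testBit, eq_comm, decide_eq_false_iff_not] at this
      omega
    let y : Fin 56 → ℤ := fun i => g i.val / 2
    have hy : ∀ i, g i.val = 2 * y i := fun i => by have := heven i; simp only [y]; omega
    have hy2 : ∑ i, y i ^ 2 = 2 := by
      have e : ∑ i : Fin 56, g i.val ^ 2 = 4 * ∑ i, y i ^ 2 := by
        rw [Finset.mul_sum]; exact Finset.sum_congr rfl fun i _ => by rw [hy i]; ring
      omega
    have hle : ∀ i, y i ^ 2 ≤ 2 := fun i => by
      rw [← hy2]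
      exact Finset.single_le_sum (f := fun j => y j ^ 2) (fun j _ => sq_nonneg _) (Finset.mem_univ i)
    have hy01 : ∀ i, y i ≠ 0 → y i ^ 2 = 1 := fun i hi => by
      have h1 := hle i
      have h3 : y i ≤ 1 := by nlinarith
      have h4 : -1 ≤ y i := by nlinarith
      interval_cases (y i) <;> simp_all
    let T : Finset (Fin 56) := Finset.univ.filter fun i => y i ≠ 0
    have hT : T.card = 2 := by
      have e1 : ∑ i, y i ^ 2 = (T.card : ℤ) := by
        rw [← Finset.sum_filter_add_sum_filter_not Finset.univ (fun i => y i ≠ 0),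
          Finset.sum_congr rfl (fun i hi => hy01 i (Finset.mem_filter.mp hi).2),
          Finset.sum_eq_zero (s := Finset.univ.filter fun i => ¬ y i ≠ 0)
            (fun i hi => by rw [not_not.mp (Finset.mem_filter.mp hi).2]; norm_num)]
        simp [T]
      omega
    obtain ⟨a, b, hab, hTab⟩ := Finset.card_eq_two.mp hT
    have h := List.all_eq_true.mp (List.all_eq_true.mp ru_pair_check a.val (List.mem_range.mpr a.2))
      b.val (List.mem_range.mpr b.2)
    rw [Bool.or_eq_true, Nat.beq_eq] at h
    rcases h with h | h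
    · exact hab (Fin.ext h)
    obtain ⟨l, hl, hne⟩ := List.any_eq_true.mp h
    rw [Bool.not_eq_true', decide_eq_false_iff_not] at hne
    have h4 := four_dvd_dot hv (AddSubgroup.subset_closure ⟨l, hl, rfl⟩)
    have hd : ruDot v (ruVecOf l) = 2 * (y a * ruEnt l a.val) + 2 * (y b * ruEnt l b.val) := by
      rw [ruDot, ← Finset.sum_subset (Finset.subset_univ {a, b})]
      · rw [Finset.sum_pair hab, ← hg, ← hg, hy, hy, ruCoord_vecOf, ruCoord_vecOf]; ring
      · intro i _ hi
        have : y i = 0 := by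
          by_contra hn
          exact hi (hTab ▸ Finset.mem_filter.mpr ⟨Finset.mem_univ _, hn⟩)
        rw [← hg, hy, this]; ring
    rw [hd] at h4
    have ha : y a ≠ 0 := (Finset.mem_filter.mp (show a ∈ T by rw [hTab]; simp)).2
    have hb : y b ≠ 0 := (Finset.mem_filter.mp (show b ∈ T by rw [hTab]; simp)).2
    have pm : ∀ i, y i ≠ 0 → y i = 1 ∨ y i = -1 := fun i hi => sq_eq_one_iff.mp (hy01 i hi)
    rcases pm a ha with ha' | ha' <;> rcases pm b hb with hb' | hb' <;>
      rw [ha', hb'] at h4 <;> omega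
  · -- a word of weight eight
    have hc := List.all_eq_true.mp ru_words_check w hw
    rw [Bool.and_eq_true, Nat.beq_eq] at hc
    have hS8 : S.card = 8 := hlen ▸ hc.1
    have hsplit := Finset.sum_filter_add_sum_filter_not Finset.univ
      (fun i : Fin 56 => g i.val % 2 = 1) (fun i => g i.val ^ 2)
    rw [hsum] at hsplit
    have h1 : (8 : ℤ) ≤ ∑ i ∈ S, g i.val ^ 2 := by
      calc (8 : ℤ) = ∑ i ∈ S, (1 : ℤ) := by simp [hS8]
        _ ≤ _ := Finset.sum_le_sum fun i hi => hone i (Finset.mem_filter.mp hi).2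
    have hout : ∀ i : Fin 56, ¬ g i.val % 2 = 1 → g i.val = 0 := fun i hi => by
      have h2 := Finset.single_le_sum (f := fun j : Fin 56 => g j.val ^ 2) (fun j _ => sq_nonneg _)
        (show i ∈ Finset.univ.filter (fun j : Fin 56 => ¬ g j.val % 2 = 1) from
          Finset.mem_filter.mpr ⟨Finset.mem_univ _, hi⟩)
      have h3 : g i.val ^ 2 ≤ 0 := le_trans h2 (by linarith)
      exact sq_eq_zero_iff.mp (le_antisymm h3 (sq_nonneg _))
    have hin : ∀ i ∈ S, g i.val = 1 ∨ g i.val = -1 := fun i hi => by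
      have hrest : ∑ j ∈ S.erase i, g j.val ^ 2 ≥ 7 := by
        calc (7 : ℤ) = ∑ j ∈ S.erase i, (1 : ℤ) := by simp [Finset.card_erase_of_mem hi, hS8]
          _ ≤ _ := Finset.sum_le_sum fun j hj => hone j (Finset.mem_filter.mp (Finset.mem_of_mem_erase hj)).2
      have h2 := Finset.add_sum_erase S (fun j => g j.val ^ 2) hi
      have h3 : ∑ j ∈ S, g j.val ^ 2 ≤ 8 := by
        rw [← hsum]
        exact Finset.sum_le_sum_of_subset_of_nonneg (Finset.subset_univ _) fun i _ _ => sq_nonneg _
      have h4 : g i.val ^ 2 = 1 := le_antisymm (by linarith) (hone i (Finset.mem_filter.mp hi).2)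
      exact sq_eq_one_iff.mp h4
    obtain ⟨b, hb, hne⟩ := signWalk_spec g (ruSupp w) (fun i hi => by
        have : i ∈ S.map Fin.valEmbedding := hsupp ▸ List.mem_toFinset.mpr hi
        obtain ⟨j, hj, rfl⟩ := Finset.mem_map.mp this
        exact hin j hj) [] (by simp) hc.2
    apply hne
    have h4 := four_dvd_dot hv (AddSubgroup.subset_closure ⟨b, hb, rfl⟩)
    have hd : ruDot v (ruVecOf b) = ((ruSupp w).map fun i => g i * ruEnt b i).sum := by
      rw [← List.sum_toFinset _ (show (ruSupp w).Nodup from (List.nodup_range).filter _), hsupp, Finset.sum_map, ruDot, ← Finset.sum_subset (Finset.subset_univ S)]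
      · exact Finset.sum_congr rfl fun i _ => by rw [ruCoord_vecOf, ← hg]; rfl
      · intro i _ hi
        rw [← hg, hout i (fun e => hi (Finset.mem_filter.mpr ⟨Finset.mem_univ _, e⟩)), zero_mul]
    rw [hd] at h4
    simp only [List.map_nil, List.sum_nil, add_zero]
    exact Int.emod_eq_zero_of_dvd h4
  · -- more than eight odd coordinates
    have : (ruSupp w).length > 8 := by rw [ruPop_eq] at hw; exact hw
    omega

theorem ruLattice_norm {v : RuVec} (hv : v ∈ ruLattice) :
    8 ∣ ruNorm v ∧ ruNorm v ≠ 8 ∧ (v ≠ 0 → 16 ≤ ruNorm v) := by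
  have hs := ruLattice_le_span hv
  rw [ruNorm_eq]
  refine ⟨eight_dvd_self hs, no_norm_eight hs, fun hne => ?_⟩
  have h1 := no_norm_eight hs
  obtain ⟨k, hk⟩ := eight_dvd_self hs
  have h0 : 0 < ruDot v v := by
    obtain ⟨i, hi⟩ : ∃ i, ruCoord v i ≠ 0 := by
      by_contra hn
      push_neg at hn
      exact hne (ru_ext fun i => by rw [hn, ruCoord_zero])
    exact Finset.sum_pos' (fun j _ => mul_self_nonneg _) ⟨i, Finset.mem_univ _, mul_self_pos.mpr hi⟩
  omega

theorem exists_norm_sixteen : ∃ x ∈ ruLattice, ruNorm x = 16 :=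
  ⟨ruTable.getD 0 0, AddSubgroup.mem_sInf.mpr fun L hL => hL.1 _ (by
    rw [List.getD_eq_getElem _ _ (by rw [ru_table_check.2.1]; norm_num)]
    exact List.getElem_mem _), by decide +kernel⟩

end Cfsg.Agent.Compute
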