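/- Generated data: the structure of a sextet stabiliser. -/
import Mathlib

set_option autoImplicit false
set_option linter.all false

namespace Cfsg.Agent.Compute

/-- Elements inducing the adjacent transpositions on the tetrads. -/
def sextSwap : List ℕ :=
  [0x15ab43464d52e0573d233cd8445c20,
   0x136ac3bdd0946d452d09998a41dc20,
   0x1592754a2d3160b64ea8a3dc41dc20,
   0x14e09b49d57c4e85aa8c690a61dc20,
   0xb5e6aac8a27b8285d12c39a201c1a4]

/-- The elementary abelian normal subgroup of order 64. -/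
def sextElem : List ℕ :=
  [0xbdab49ca307b9ac5a928398a418820,
   0xbc0ea332364b892451ebaccad18820,
   0xbb4c93ae2453ac893e8c9d4b018820,
   0xb926faa22da3a0b6255231cb618820,
   0xbd8cf3b1d0a45b24254b9d46428820,
   0xbc269ac9d65448c5be8831c6d28820,
   0xbb6aa9a1c44c6cb651f23987028820,
   0xb90f432dcd7c6089292cacc7628820,
   0xbda6aaacb048da8951ec31e2470820,
   0xbc0d43a0b678c8b629329d62d70820,
   0xbb4ef348a4a0ecc5a548ace3070820,
   0xb92a99b0ad50e1243e8b39a3670820,
   0xbd8e932070515ab63e92acdc488820,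
   0xbc2af9ac76a14889254c399cd88820,
   0xbb674ab064796d24292b31dd088820,
   0xb90ca3c86d4960c5d1e89d5d688820,
   0x158ca3a2304b9ab651f29d4a41dc01,
   0x14274aae367b8889292c31cad1dc01,
   0x136af9b224a3ad24254b398b01dc01,
   0x110e934a2d53a0c5be88accb61dc01,
   0x15aa99add0545a893e8c398642dc01,
   0x140ef321d6a448b62552acc6d2dc01,
   0x134d43c9c47c6cc5a9289d4702dc01,
   0x1126aab1cd4c612451eb31c762dc01,
   0x158f4330b078db24292bace2475c01,
   0x142aa9c8b648c8c5d1e839a2d75c01,
   0x13669aa0a450ecb63e9231e3075c01,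
   0x110cf3acada0e089254c9d63675c01,
   0x15a6fac870a15ac5a54831dc48dc01,
   0x140c93b0765149243e8b9d5cd8dc01,
   0x134ea32c64496c8951ecacdd08dc01,
   0x112b49a06d7960b62932399d68dc01,
   0xd8ef32e30a39a89254cacca4182e2,
   0xc2a99a2365388b63e92398ad182e2,
   0xb66aaca244bacc5d1e831cb0182e2,
   0x90d43b22d7ba124292b9d4b6182e2,
   0xda74aa1d07c5ab6293231c64282e2,
   0xc0ca3add64c488951ec9d46d282e2,
   0xb4e9331c4546d243e8bacc70282e2,
   0x92af9c9cda460c5a54839876282e2,
   0xd8c93c8b050dac5be889d624702e2,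
   0xc26fab0b6a0c924254b31e2d702e2,
   0xb6b49aca478ec89292c39a30702e2,
   0x90ea320ad48e0b651f2ace36702e2,
   0xdaaa9b070495b2451eb399c4882e2,
   0xc0f4348767948c5a928acdcd882e2,
   0xb4cf3a064a16cb625529d5d0882e2,
   0x9269aac6d5160893e8c31dd6882e2,
   0x5a69ab230539b243e8b31ca418457,
   0x40cf3ca36a388c5a5489d4ad18457,
   0x34f4322247bacb62932accb018457,
   0x12aa9ae2d4ba08951ec398b618457,
   0x58ea349d04c5ac5d1e8acc6428457,
   0x42b49b1d67c4924292b3986d28457,
   0x366faadc4a46c89254c31c7028457,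
   0x10c93a1cd5460b63e929d47628457,
   0x5aaf9a0b0a0dab6255239a2470457,
   0x40e932cb650c8893e8cace2d70457,
   0x34ca3b0a448ed2451eb9d63070457,
   0x1274ac8ad78e0c5a92831e3670457,
   0x58d43ac70795a89292c9d5c488457,
   0x426aaa0764948b651f231dcd88457,
   0x36a99c864516cc5be88399d088457,
   0x10ef3306da16124254bacdd688457]

end Cfsg.Agent.Compute
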