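/-
Kernel checks for the structure of a sextet stabiliser.
-/
import Cfsg.Agent.Compute.ListSubgroup
import Cfsg.Agent.Compute.Objects
import Cfsg.Agent.Compute.CfgSextData
import Cfsg.Agent.Compute.SextStructData

set_option autoImplicit false

namespace Cfsg.Agent.Compute

open Cfsg

/-- The transposition of adjacent indices. -/
def adjSwap (j i : ℕ) : ℕ := if i = j then j + 1 else if i = j + 1 then j else i

theorem sext_elem_check : listNormalB cfgSextChain sextElem = true ∧ sextElem.length = 64 := by
  decide +kernel

theorem sext_swap_check : allBelow 5 (fun j => rep24.okb (sextSwap.getD j 0) &&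
    Nat.beq (rep24.sift cfgSextChain (sextSwap.getD j 0)) rep24.one &&
    allBelow 6 (fun i => Nat.beq (imgMask (sextSwap.getD j 0) ((masksOf 6 cfgSextRoot).getD i 0))
      ((masksOf 6 cfgSextRoot).getD (adjSwap j i) 0))) = true ∧
    chainSize cfgSextChain = 138240 := by decide +kernel

end Cfsg.Agent.Compute
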