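/-
Transport of stabilisers to chain groups.
-/
import Cfsg.Agent.Compute.MathieuSets
import Cfsg.Agent.Compute.ListSubgroup

set_option autoImplicit false

namespace Cfsg.Agent.Compute

open Cfsg
open scoped Pointwise

/-- A moving element identifies a stabiliser in M24 with a chain group. -/
theorem exists_stab_equiv {γ : Type*} [MulAction (Equiv.Perm GolayPt) γ] {K : List Level}
    {x x₀ : γ} {g : Equiv.Perm GolayPt} (hg : g ∈ M24) (hgx : g • x = x₀)
    (hK : M24 ⊓ MulAction.stabilizer (Equiv.Perm GolayPt) x₀ = rep24.chainGroup K) :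
    ∃ E : ↥(MulAction.stabilizer M24 x) ≃* ↥(rep24.chainGroup K),
      ∀ a, ((E a : ↥(rep24.chainGroup K)) : Equiv.Perm GolayPt) =
        g * ((a : ↥M24) : Equiv.Perm GolayPt) * g⁻¹ := by
  have h1 : ∀ a : ↥M24, a ∈ MulAction.stabilizer M24 x →
      g * (a : Equiv.Perm GolayPt) * g⁻¹ ∈ rep24.chainGroup K := fun a ha => by
    rw [← hK, Subgroup.mem_inf]
    refine ⟨(conj_mem_M24_iff hg).mpr a.2, ?_⟩
    rw [MulAction.mem_stabilizer_iff, mul_smul, mul_smul, ← hgx, inv_smul_smul]
    exact congrArg (g • ·) (MulAction.mem_stabilizer_iff.mp ha)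
  have h2 : ∀ c ∈ rep24.chainGroup K, g⁻¹ * c * g ∈ M24 ∧ (g⁻¹ * c * g) • x = x := fun c hc => by
    rw [← hK, Subgroup.mem_inf, MulAction.mem_stabilizer_iff] at hc
    refine ⟨mul_mem (mul_mem (inv_mem hg) hc.1) hg, ?_⟩
    rw [mul_smul, mul_smul, hgx, hc.2, ← hgx, inv_smul_smul]
  refine ⟨{ toFun := fun a => ⟨_, h1 a a.2⟩
            invFun := fun c => ⟨⟨_, (h2 c c.2).1⟩, (h2 c c.2).2⟩
            left_inv := fun a => Subtype.ext (Subtype.ext ?_)
            right_inv := fun c => Subtype.ext ?_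
            map_mul' := fun a b => Subtype.ext ?_ }, fun a => rfl⟩
  · change g⁻¹ * (g * (((a : ↥M24)) : Equiv.Perm GolayPt) * g⁻¹) * g = _
    group
  · change g * (g⁻¹ * (c : Equiv.Perm GolayPt) * g) * g⁻¹ = _
    group
  · change g * ((a : ↥M24) * (b : ↥M24) : Equiv.Perm GolayPt) * g⁻¹ = _ * _
    group

/-- The action of the stabiliser of a family on the members. -/
noncomputable def memberHom (T : Finset (Finset GolayPt)) :
    ↥(MulAction.stabilizer M24 T) →* Equiv.Perm ↥T where
  toFun a :=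
    { toFun := fun t => ⟨((a : ↥M24) : Equiv.Perm GolayPt) • (t : Finset GolayPt), by
        have h : ((a : ↥M24) : Equiv.Perm GolayPt) • T = T := MulAction.mem_stabilizer_iff.mp a.2
        exact (h ▸ Finset.smul_mem_smul_finset t.2 :)⟩
      invFun := fun t => ⟨((a : ↥M24) : Equiv.Perm GolayPt)⁻¹ • (t : Finset GolayPt), by
        have h : ((a : ↥M24) : Equiv.Perm GolayPt) • T = T := MulAction.mem_stabilizer_iff.mp a.2
        exact Finset.inv_smul_mem_iff.mpr (h.symm ▸ t.2)⟩
      left_inv := fun t => Subtype.ext (inv_smul_smul _ _)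
      right_inv := fun t => Subtype.ext (smul_inv_smul _ _) }
  map_one' := Equiv.ext fun t => Subtype.ext (one_smul _ _)
  map_mul' a b := Equiv.ext fun t => Subtype.ext (mul_smul _ _ _)

end Cfsg.Agent.Compute
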