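/-
Automorphisms of Steiner systems S(5,6,12) and S(4,5,11).
-/
import Cfsg.Agent.SmallCodes.TernaryAut
import Cfsg.Agent.Leech.Unique.TwelveUnique
import Cfsg.Agent.Compute.MathieuActions
import Cfsg.Agent.Compute.MathieuExtra

set_option autoImplicit false

namespace Cfsg.Agent.Compute

open Cfsg
open scoped Pointwise

theorem smul_finset_eq_image {α : Type*} [DecidableEq α] (σ : Equiv.Perm α) (b : Finset α) :
    σ • b = b.image σ :=
  Finset.ext fun x => by simp [Finset.mem_smul_finset, Equiv.Perm.smul_def]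

theorem mem_setSystemAut_of {α : Type*} [DecidableEq α] [Finite α] {B : Set (Finset α)}
    {σ : Equiv.Perm α} (h : ∀ b ∈ B, b.image σ ∈ B) : σ ∈ setSystemAut B := by
  refine MulAction.mem_stabilizer_iff.mpr (Set.eq_of_subset_of_ncard_le ?_ ?_ (Set.toFinite _))
  · rintro _ ⟨b, hb, rfl⟩
    change σ • b ∈ B
    rw [smul_finset_eq_image]; exact h b hb
  · rw [Set.ncard_smul_set]

theorem image_mem_of_aut {α : Type*} [DecidableEq α] {B : Set (Finset α)} {σ : Equiv.Perm α}
    (h : σ ∈ setSystemAut B) {b : Finset α} (hb : b ∈ B) : b.image σ ∈ B := by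
  rw [← smul_finset_eq_image]
  exact (MulAction.mem_stabilizer_iff.mp h) ▸ Set.smul_mem_smul_set hb

theorem permCongr_mem_aut {α β : Type*} [DecidableEq α] [DecidableEq β] [Finite β]
    {B : Set (Finset α)} {B' : Set (Finset β)} (e : α ≃ β)
    (he : (fun b => b.image e) '' B = B') {σ : Equiv.Perm α} (hσ : σ ∈ setSystemAut B) :
    e.permCongr σ ∈ setSystemAut B' := by
  refine mem_setSystemAut_of fun b' hb' => ?_
  rw [← he] at hb' ⊢
  obtain ⟨b, hb, rfl⟩ := hb'
  refine ⟨b.image σ, image_mem_of_aut hσ hb, ?_⟩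
  ext x
  simp [Finset.mem_image, Equiv.permCongr_apply]

/-- An isomorphism of systems gives an isomorphism of their automorphism groups. -/
def autEquiv {α β : Type*} [DecidableEq α] [DecidableEq β] [Finite α] [Finite β]
    {B : Set (Finset α)} {B' : Set (Finset β)} (e : α ≃ β)
    (he : (fun b => b.image e) '' B = B') : setSystemAut B ≃* setSystemAut B' where
  toFun σ := ⟨e.permCongr σ.1, permCongr_mem_aut e he σ.2⟩
  invFun τ := ⟨e.symm.permCongr τ.1, permCongr_mem_aut e.symm (by
    rw [← he, Set.image_image]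
    simp [Finset.image_image]) τ.2⟩
  left_inv σ := Subtype.ext (by ext x; simp [Equiv.permCongr_apply])
  right_inv τ := Subtype.ext (by ext x; simp [Equiv.permCongr_apply])
  map_mul' σ τ := Subtype.ext (by ext x; simp [Equiv.permCongr_apply])

/-! ### The system of hexads -/

theorem card_aut_hexads : Nat.card (setSystemAut SmallCodes.hexads) = 95040 := by
  rw [← SmallCodes.tPerms_eq]; exact SmallCodes.card_tPerms

theorem hexads_aut_transitive (x y : Fin 5 ↪ ArrayPt) :
    ∃ g ∈ setSystemAut SmallCodes.hexads, ∀ i, g (x i) = y i := by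
  obtain ⟨a, ha, hax⟩ := SmallCodes.tPerms_transitive x x.injective
  obtain ⟨b, hb, hby⟩ := SmallCodes.tPerms_transitive y y.injective
  refine ⟨b * a⁻¹, SmallCodes.tPerms_eq ▸ mul_mem hb (inv_mem ha), fun i => ?_⟩
  rw [Equiv.Perm.mul_apply, ← hax i, Equiv.Perm.inv_def, Equiv.symm_apply_apply, hby]

theorem hexads_aut_sharp {σ : Equiv.Perm ArrayPt} (hσ : σ ∈ setSystemAut SmallCodes.hexads)
    (x : Fin 5 ↪ ArrayPt) (h : ∀ i, σ (x i) = x i) : σ = 1 := by
  obtain ⟨a, ha, hax⟩ := SmallCodes.tPerms_transitive x x.injective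
  have ha' : a ∈ setSystemAut SmallCodes.hexads := SmallCodes.tPerms_eq ▸ ha
  have hc := SmallCodes.eq_one_of_fix
    (MulAction.mem_stabilizer_iff.mp (mul_mem (mul_mem (inv_mem ha') hσ) ha')) fun i => by
      rw [Equiv.Perm.mul_apply, Equiv.Perm.mul_apply, hax, h, ← hax i, Equiv.Perm.inv_def,
        Equiv.symm_apply_apply]
  calc σ = a * (a⁻¹ * σ * a) * a⁻¹ := by group
    _ = 1 := by rw [hc]; group

/-- The points of the standard dodecad. -/
abbrev DPt : Type := {p : GolayPt // p ∈ Spor.squareDodecad}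

/-- The hexads on the standard dodecad, as subsets of its points. -/
def dodecadHexads : Set (Finset DPt) :=
  {F | F.map ⟨Subtype.val, Subtype.val_injective⟩ ∈ hexadsOn Spor.squareDodecad}

theorem octad_dodecad_check : (idxOfWeight 8).all (fun k =>
    !(Nat.beq (popBits 24 (Nat.land (cw k) dodecadMask)) 5) &&
      Nat.ble (popBits 24 (Nat.land (cw k) dodecadMask)) 6) = true := by decide +kernel

theorem card_octad_inter_dodecad {o : Finset GolayPt} (ho : o ∈ octads)
    (h5 : 5 ≤ (o ∩ Spor.squareDodecad).card) : (o ∩ Spor.squareDodecad).card = 6 := by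
  obtain ⟨k, hk, hpop, rfl⟩ := exists_cw_of_mem ho
  have h := List.all_eq_true.mp octad_dodecad_check k (by simp [idxOfWeight, hk, hpop])
  simp only [Bool.and_eq_true, Bool.not_eq_true', Nat.ble_eq] at h
  rw [squareDodecad_eq, ← suppM_and, card_suppM] at h5 ⊢
  have h' := h.1
  rw [← Bool.not_eq_true, Nat.beq_eq] at h'
  have h2 : popBits 24 (cw k &&& dodecadMask) ≤ 6 := h.2
  have h3 : popBits 24 (cw k &&& dodecadMask) ≠ 5 := h'
  omega

theorem dodecadHexads_steiner : IsSteinerSystem 5 6 dodecadHexads := by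
  refine ⟨fun F hF => ?_, fun s hs => ?_⟩
  · rw [← Finset.card_map ⟨Subtype.val, Subtype.val_injective⟩]
    exact hF.1
  · set v : DPt ↪ GolayPt := ⟨Subtype.val, Subtype.val_injective⟩ with hv
    obtain ⟨o, ⟨ho, hso⟩, huniq⟩ := isSteinerSystem_octads.2 (s.map v) (by rw [Finset.card_map, hs])
    have hsD : s.map v ⊆ o ∩ Spor.squareDodecad := fun p hp => Finset.mem_inter.mpr ⟨hso hp, by
      obtain ⟨q, -, rfl⟩ := Finset.mem_map.mp hp
      exact q.2⟩
    have h6 := card_octad_inter_dodecad ho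
      (by rw [← hs, ← Finset.card_map v]; exact Finset.card_le_card hsD)
    refine ⟨(o ∩ Spor.squareDodecad).subtype _, ⟨?_, fun q hq => ?_⟩, ?_⟩
    · have e : ((o ∩ Spor.squareDodecad).subtype (· ∈ Spor.squareDodecad)).map v =
          o ∩ Spor.squareDodecad := by
        ext p
        simp [hv]
      change _ ∈ hexadsOn _
      rw [← hv, e]
      exact ⟨h6, o, ho, rfl⟩
    · rw [Finset.mem_subtype]
      exact hsD (Finset.mem_map_of_mem v hq)
    · rintro F ⟨⟨-, o', ho', hoF⟩, hsF⟩
      have hsF' : s.map v ⊆ o' := fun p hp => by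
        have := Finset.map_subset_map.mpr hsF hp
        rw [hv, ← hoF] at this
        exact (Finset.mem_inter.mp this).1
      obtain rfl := huniq o' ⟨ho', hsF'⟩
      apply Finset.map_injective v
      rw [hv, ← hoF]
      ext p
      simp

/-- M12 acting on its dodecad. -/
noncomputable def dodecadHom : Spor.M12 →* Equiv.Perm DPt where
  toFun g := (g : Equiv.Perm GolayPt).subtypePerm fun p => by
    have hD : (g : Equiv.Perm GolayPt) • Spor.squareDodecad = Spor.squareDodecad :=
      MulAction.mem_stabilizer_iff.mp g.2.2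
    have := Finset.smul_mem_smul_finset_iff (g : Equiv.Perm GolayPt) (s := Spor.squareDodecad) (b := p)
    rw [hD] at this
    exact this
  map_one' := by ext p; simp
  map_mul' g h := Equiv.ext fun p => Subtype.ext rfl

theorem dodecadHom_mem (g : Spor.M12) : dodecadHom g ∈ setSystemAut dodecadHexads := by
  refine mem_setSystemAut_of fun F hF => ?_
  have hD : (g : Equiv.Perm GolayPt) • Spor.squareDodecad = Spor.squareDodecad :=
    MulAction.mem_stabilizer_iff.mp g.2.2
  obtain ⟨hc, o, ho, hoF⟩ := hF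
  have e : (F.image (dodecadHom g)).map ⟨Subtype.val, Subtype.val_injective⟩ =
      (g : Equiv.Perm GolayPt) • (F.map ⟨Subtype.val, Subtype.val_injective⟩) := by
    rw [Finset.map_eq_image, Finset.image_image, smul_finset_eq_image, Finset.map_eq_image,
      Finset.image_image]
    rfl
  change _ ∈ hexadsOn _
  rw [e]
  refine ⟨by rw [Finset.card_smul_finset]; exact hc, _,
    (smul_mem_octads_iff g.2.1).mpr ho, ?_⟩
  conv_lhs => rw [← hD]
  rw [← Finset.smul_finset_inter, hoF]

theorem dodecadHom_injective : Function.Injective dodecadHom := by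
  rw [injective_iff_map_eq_one]
  intro g hg
  refine Subtype.ext (m12_eq_one_of_fixes g.2 fun p hp => ?_)
  exact congrArg Subtype.val
    (Equiv.congr_fun hg ⟨p, (mem_maskSet_squareDodecad p).mp hp⟩)

theorem card_DPt : Fintype.card DPt = 12 := by
  rw [Fintype.card_coe]; exact squareDodecad_mem.2

theorem aut_twelve_facts {α : Type*} [Fintype α] [DecidableEq α] (hα : Fintype.card α = 12)
    {B : Set (Finset α)} (hB : IsSteinerSystem 5 6 B) :
    Nat.card (setSystemAut B) = 95040 ∧ Nonempty (Spor.M12 ≃* setSystemAut B) ∧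
      (∀ x y : Fin 5 ↪ α, ∃ g ∈ setSystemAut B, ∀ i, g (x i) = y i) ∧
      (∀ σ ∈ setSystemAut B, ∀ x : Fin 5 ↪ α, (∀ i, σ (x i) = x i) → σ = 1) := by
  have h12 : Fintype.card ArrayPt = 12 := by
    rw [← Fintype.card_congr (Equiv.ofBijective _ SmallCodes.tPt_bijective), Fintype.card_fin]
  obtain ⟨e, he⟩ := Leech.Unique.unique_twelve hα h12 hB SmallCodes.hexads_steiner
  obtain ⟨d, hd⟩ := Leech.Unique.unique_twelve card_DPt hα dodecadHexads_steiner hB
  let φ := autEquiv e he
  have hcard : Nat.card (setSystemAut B) = 95040 := by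
    rw [Nat.card_congr φ.toEquiv, card_aut_hexads]
  let f : Spor.M12 →* setSystemAut B :=
    (autEquiv d hd).toMonoidHom.comp (dodecadHom.codRestrict _ dodecadHom_mem)
  have hf : Function.Injective f := fun a b h =>
    dodecadHom_injective (congrArg Subtype.val ((autEquiv d hd).injective h))
  refine ⟨hcard, ⟨MulEquiv.ofBijective f ((Nat.bijective_iff_injective_and_card f).mpr
    ⟨hf, by rw [card_m12, hcard]⟩)⟩, fun x y => ?_, fun σ hσ x hx => ?_⟩
  · obtain ⟨g, hg, hgx⟩ := hexads_aut_transitive (x.trans e.toEmbedding) (y.trans e.toEmbedding)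
    refine ⟨_, (φ.symm ⟨g, hg⟩).2, fun i => ?_⟩
    change e.symm (g (e.symm.symm (x i))) = y i
    rw [Equiv.symm_symm, show g (e (x i)) = e (y i) from hgx i, Equiv.symm_apply_apply]
  · have h1 := hexads_aut_sharp (φ ⟨σ, hσ⟩).2 (x.trans e.toEmbedding) fun i => by
      change e (σ (e.symm (e (x i)))) = e (x i)
      rw [Equiv.symm_apply_apply, hx]
    have : φ ⟨σ, hσ⟩ = φ 1 := by rw [map_one]; exact Subtype.ext h1
    exact congrArg Subtype.val (φ.injective this)

/-! ### Eleven points -/

theorem optionCongr_mem_aut {α : Type*} [Fintype α] [DecidableEq α] {B : Set (Finset α)}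
    {σ : Equiv.Perm α} (hσ : σ ∈ setSystemAut B) :
    σ.optionCongr ∈ setSystemAut (Leech.Unique.extend11 B) := by
  refine mem_setSystemAut_of ?_
  rintro _ ⟨b, hb, rfl | rfl⟩
  · refine ⟨b.image σ, image_mem_of_aut hσ hb, Or.inl ?_⟩
    ext x
    rcases x with _ | x <;> simp [Finset.mem_image]
  · refine ⟨b.image σ, image_mem_of_aut hσ hb, Or.inr ?_⟩
    have ec : (b.image σ)ᶜ = bᶜ.image σ := by
      ext x
      constructor
      · intro hx
        refine Finset.mem_image.mpr ⟨σ.symm x, Finset.mem_compl.mpr fun hxb => ?_,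
          σ.apply_symm_apply x⟩
        exact Finset.mem_compl.mp hx (Finset.mem_image.mpr ⟨_, hxb, σ.apply_symm_apply x⟩)
      · intro hx
        obtain ⟨y, hy, rfl⟩ := Finset.mem_image.mp hx
        exact Finset.mem_compl.mpr fun hm => Finset.mem_compl.mp hy (by
          obtain ⟨z, hz, hzy⟩ := Finset.mem_image.mp hm
          exact σ.injective hzy ▸ hz)
    rw [ec]
    ext x
    rcases x with _ | x <;> simp [Finset.mem_image]

theorem exists_restrict {α : Type*} [Fintype α] [DecidableEq α] {B : Set (Finset α)}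
    {τ : Equiv.Perm (Option α)} (hτ : τ ∈ setSystemAut (Leech.Unique.extend11 B))
    (h0 : τ none = none) : ∃ σ ∈ setSystemAut B, σ.optionCongr = τ := by
  have e : (Equiv.removeNone τ).optionCongr = τ := by
    ext x : 1
    rcases x with _ | x
    · simp [h0]
    · rw [Equiv.optionCongr_apply, Option.map_some]
      exact Equiv.removeNone_some _ (Option.ne_none_iff_exists'.mp fun h => by
        simpa using τ.injective (h.trans h0.symm))
  refine ⟨Equiv.removeNone τ, mem_setSystemAut_of fun b hb => ?_, e⟩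
  obtain ⟨c, hc, hcb | hcb⟩ := image_mem_of_aut hτ
    (show Finset.insertNone b ∈ Leech.Unique.extend11 B from ⟨b, hb, Or.inl rfl⟩)
  · convert hc using 1
    ext x
    have := congrArg (fun F => some x ∈ F) hcb
    simp only [Finset.mem_image, eq_iff_iff, Finset.some_mem_insertNone] at this ⊢
    rw [← this]
    constructor
    · rintro ⟨y, hy, rfl⟩
      exact ⟨some y, by simpa using hy, by rw [← e]; rfl⟩
    · rintro ⟨o, ho, hox⟩
      rcases o with _ | y
      · rw [h0] at hox; exact absurd hox (by simp)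
      · refine ⟨y, by simpa using ho, ?_⟩
        rw [← e] at hox
        exact Option.some_injective _ hox
  · exfalso
    have hn : none ∈ (Finset.insertNone b).image τ :=
      Finset.mem_image.mpr ⟨none, by simp, h0⟩
    rw [hcb] at hn
    simp at hn

theorem aut_eleven_facts {α : Type*} [Fintype α] [DecidableEq α] (hα : Fintype.card α = 11)
    {B : Set (Finset α)} (hB : IsSteinerSystem 4 5 B) :
    Nonempty (Spor.M11 ≃* setSystemAut B) ∧
      (∀ x y : Fin 4 ↪ α, ∃ g ∈ setSystemAut B, ∀ i, g (x i) = y i) ∧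
      (∀ σ ∈ setSystemAut B, ∀ x : Fin 4 ↪ α, (∀ i, σ (x i) = x i) → σ = 1) := by
  have hB' := Leech.Unique.extend11_steiner hB hα
  have h12 : Fintype.card (Option α) = 12 := by rw [Fintype.card_option, hα]
  obtain ⟨-, ⟨φ⟩, htr, hsharp⟩ := aut_twelve_facts h12 hB'
  obtain ⟨d, hd⟩ := Leech.Unique.unique_twelve card_DPt h12 dodecadHexads_steiner hB'
  have hemb : ∀ x : Fin 4 ↪ α, ∃ z : Fin 5 ↪ Option α, z 0 = none ∧
      ∀ i : Fin 4, z i.succ = some (x i) := fun x =>
    ⟨⟨Fin.cons none fun i => some (x i), Fin.cons_injective_iff.mpr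
      ⟨by simp, (Option.some_injective α).comp x.injective⟩⟩, rfl, fun i => rfl⟩
  refine ⟨?_, fun x y => ?_, fun σ hσ x hx => ?_⟩
  · -- the stabiliser of the new point
    have h0 : (rep24.pt 0) ∈ Spor.squareDodecad := by
      rw [← mem_maskSet_squareDodecad]; exact pt_mem_maskSet (by norm_num) (by decide +kernel)
    rw [rep24_pt0] at h0
    let z0 : DPt := ⟨some 0, h0⟩
    obtain ⟨w, -⟩ : ∃ w : Fin 4 ↪ α, True :=
      ⟨(Fin.castLEEmb (by norm_num)).trans (Fintype.equivFinOfCardEq hα).symm.toEmbedding, trivial⟩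
    obtain ⟨z, hz, -⟩ := hemb w
    obtain ⟨z', hz'⟩ : ∃ z' : Fin 5 ↪ Option α, z' 0 = d z0 :=
      ⟨z.trans (Equiv.swap (z 0) (d z0)).toEmbedding, Equiv.swap_apply_left _ _⟩
    obtain ⟨τ, hτ, hτz⟩ := htr z' z
    have hτ0 : τ (d z0) = none := by rw [← hz', hτz, hz]
    let ψ : Spor.M12 →* Equiv.Perm (Option α) :=
      ((MulAut.conj τ).toMonoidHom.comp d.permCongrHom.toMonoidHom).comp dodecadHom
    have hψmem : ∀ g, ψ g ∈ setSystemAut (Leech.Unique.extend11 B) := fun g =>
      mul_mem (mul_mem hτ (permCongr_mem_aut d hd (dodecadHom_mem g))) (inv_mem hτ)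
    have hψinj : Function.Injective ψ := fun a b h =>
      dodecadHom_injective (d.permCongrHom.injective ((MulAut.conj τ).injective h))
    have hψbij : ∀ y ∈ setSystemAut (Leech.Unique.extend11 B), ∃ g, ψ g = y := by
      intro y hy
      obtain ⟨g, hg⟩ := ((Nat.bijective_iff_injective_and_card (ψ.codRestrict _ hψmem)).mpr
        ⟨fun a b h => hψinj (congrArg Subtype.val h), Nat.card_congr φ.toEquiv⟩).2 ⟨y, hy⟩
      exact ⟨g, congrArg Subtype.val hg⟩
    have hτinv : τ⁻¹ none = d z0 := by
      rw [← hτ0, Equiv.Perm.inv_def, Equiv.symm_apply_apply]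
    have hfix : ∀ g : Spor.M12,
        ψ g none = none ↔ (g : Equiv.Perm GolayPt) (some 0) = some 0 := by
      intro g
      change τ (d (dodecadHom g (d.symm (τ⁻¹ none)))) = none ↔ _
      rw [hτinv, Equiv.symm_apply_apply]
      conv_lhs => rw [← hτ0]
      rw [τ.injective.eq_iff, d.injective.eq_iff]
      exact Subtype.ext_iff
    let f : Spor.M11 →* Equiv.Perm α :=
      { toFun := fun g => Equiv.removeNone (ψ ⟨g.1, g.2.1⟩)
        map_one' := by
          have : (⟨(1 : Spor.M11).1, (1 : Spor.M11).2.1⟩ : Spor.M12) = 1 := rfl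
          rw [this, map_one]
          exact Equiv.removeNone_optionCongr (1 : Equiv.Perm α)
        map_mul' := fun g h => by
          obtain ⟨a, -, hea⟩ := exists_restrict (hψmem ⟨g.1, g.2.1⟩) ((hfix _).mpr g.2.2)
          obtain ⟨b, -, heb⟩ := exists_restrict (hψmem ⟨h.1, h.2.1⟩) ((hfix _).mpr h.2.2)
          rw [show (⟨(g * h).1, (g * h).2.1⟩ : Spor.M12) = ⟨g.1, g.2.1⟩ * ⟨h.1, h.2.1⟩ from rfl,
            map_mul, ← hea, ← heb,
            show (a.optionCongr * b.optionCongr : Equiv.Perm (Option α)) = (a * b).optionCongr by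
              ext x : 1; rcases x with _ | x <;> rfl]
          simp only [Equiv.removeNone_optionCongr] }
    have hfspec : ∀ g : Spor.M11, (f g).optionCongr = ψ ⟨g.1, g.2.1⟩ ∧
        f g ∈ setSystemAut B := by
      intro g
      obtain ⟨a, ha, hea⟩ := exists_restrict (hψmem ⟨g.1, g.2.1⟩) ((hfix _).mpr g.2.2)
      have : f g = a := by
        change Equiv.removeNone (ψ ⟨g.1, g.2.1⟩) = a
        rw [← hea, Equiv.removeNone_optionCongr]
      exact ⟨by rw [this, hea], this ▸ ha⟩
    refine ⟨MulEquiv.ofBijective (f.codRestrict _ fun g => (hfspec g).2) ⟨fun a b h => ?_, ?_⟩⟩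
    · have h' : f a = f b := congrArg Subtype.val h
      have h2 := hψinj ((hfspec a).1.symm.trans (h' ▸ (hfspec b).1))
      exact Subtype.ext (congrArg (fun t : Spor.M12 => t.1) h2)
    · rintro ⟨σ, hσ⟩
      obtain ⟨g, hg⟩ := hψbij _ (optionCongr_mem_aut hσ)
      have hgfix : (g : Equiv.Perm GolayPt) (some 0) = some 0 := by
        rw [← hfix, hg]; rfl
      refine ⟨⟨g.1, g.2, hgfix⟩, Subtype.ext ?_⟩
      change Equiv.removeNone (ψ _) = σ
      rw [show (⟨g.1, g.2⟩ : Spor.M12) = g from rfl, hg, Equiv.removeNone_optionCongr]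
  · obtain ⟨u, hu0, hux⟩ := hemb x
    obtain ⟨v, hv0, hvy⟩ := hemb y
    obtain ⟨τ, hτ, hτuv⟩ := htr u v
    have h0 : τ none = none := by rw [← hu0, hτuv, hv0, hu0]
    obtain ⟨σ, hσ, rfl⟩ := exists_restrict hτ h0
    refine ⟨σ, hσ, fun i => Option.some_injective _ ?_⟩
    have := hτuv i.succ
    rw [hux, hvy] at this
    exact this
  · obtain ⟨u, hu0, hux⟩ := hemb x
    have h := hsharp _ (optionCongr_mem_aut hσ) u fun i => by
      refine Fin.cases ?_ (fun j => ?_) i
      · rw [hu0]; rfl
      · rw [hux]; change some (σ (x j)) = _; rw [hx]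
    have := Equiv.removeNone_optionCongr σ
    rw [h] at this
    rw [← this]
    exact Equiv.removeNone_optionCongr (1 : Equiv.Perm α)

end Cfsg.Agent.Compute
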