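/-
Structure of stabilisers of sextets, trios and quartets.
-/
import Cfsg.Agent.Compute.StructTools
import Cfsg.Agent.Compute.MathieuSuborbits

set_option autoImplicit false

namespace Cfsg.Agent.Compute

open Cfsg
open scoped Pointwise

theorem conjTo_one {γ : Type*} [MulAction (Equiv.Perm GolayPt) γ] {g : Equiv.Perm GolayPt}
    {K : Subgroup (Equiv.Perm GolayPt)} {x x₀ : γ} (hg : g ∈ M24) (hx : g • x = x₀)
    (hK : M24 ⊓ MulAction.stabilizer (Equiv.Perm GolayPt) x₀ = K) :
    ConjTo (MulAction.stabilizer M24 x) g K := by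
  subst hK
  refine ⟨hg, inf_le_left, fun a => ?_⟩
  rw [Subgroup.mem_inf, conj_mem_M24_iff hg, ← hx]
  have e : (g * (a : Equiv.Perm GolayPt) * g⁻¹) • g • x = g • x ↔ (a : Equiv.Perm GolayPt) • x = x := by
    rw [mul_smul, mul_smul, inv_smul_smul, smul_left_cancel_iff]
  exact ⟨fun h => ⟨a.2, e.mpr h⟩, fun h => e.mp h.2⟩

/-- Every permutation of the members of a family is induced by its stabiliser. -/
theorem exists_perm_stab {K : List Level} {k r : ℕ} (hK : rep24.checkChain K = true)
    (hr : GoodFam k r) {H : Subgroup ↥M24} {g : Equiv.Perm GolayPt}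
    (hc : ConjTo H g (rep24.chainGroup K)) {S : Finset (Finset GolayPt)}
    (hgS : g • S = decFam k r) {ws : List ℕ} (hws : ws.all (rep24.inB K) = true)
    (h : swapsB imgMask (masksOf k r) ws = true) (e : Equiv.Perm ↥S) :
    ∃ x ∈ H, ∀ t : ↥S, x • (t : Finset GolayPt) = (e t : Finset GolayPt) := by
  have hlt : ∀ a ∈ masksOf k r, a < 2 ^ 24 := by
    obtain ⟨l, hl, hlt, -, rfl⟩ := hr
    rw [← hl, masksOf_packMasks l hlt]
    exact hlt
  have hgood : ∀ a ∈ masksOf k r, maskObj.Good a := hlt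
  have hS0 : ∀ x, x ∈ decFam k r ↔ ∃ a ∈ masksOf k r, maskObj.dec a = x := fun _ => mem_decFam
  refine exists_perm_of_swaps (fun a ha b hb hab => ?_) e
  have ha' : g • a ∈ decFam k r := hgS ▸ Finset.smul_mem_smul_finset ha
  have hb' : g • b ∈ decFam k r := hgS ▸ Finset.smul_mem_smul_finset hb
  obtain ⟨u, hu, hu'⟩ := exists_perm_fam maskObj hK hgood hws h hS0
    (Equiv.swap ⟨g • a, ha'⟩ ⟨g • b, hb'⟩)
  have hua : u • g • a = g • b := by
    have := hu' ⟨g • a, ha'⟩; rwa [Equiv.swap_apply_left] at this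
  have hub : u • g • b = g • a := by
    have := hu' ⟨g • b, hb'⟩; rwa [Equiv.swap_apply_right] at this
  refine ⟨⟨g⁻¹ * u * g, conj_mem hc.mem_g (hc.le hu)⟩, (hc.mem_iff _).mpr (by
    simpa [mul_assoc] using hu), map_conj hua, map_conj hub, fun c hcS hca hcb => ?_⟩
  have hc' : g • c ∈ decFam k r := hgS ▸ Finset.smul_mem_smul_finset hcS
  have huc : u • g • c = g • c := by
    have := hu' ⟨g • c, hc'⟩
    rwa [Equiv.swap_apply_of_ne_of_ne (fun e => hca (MulAction.injective g (congrArg Subtype.val e)))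
      fun e => hcb (MulAction.injective g (congrArg Subtype.val e))] at this
  exact fix_conj rfl huc

end Cfsg.Agent.Compute
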