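import Mathlib
import Cfsg.Agent.Compute.MathieuActions
import Cfsg.Agent.BlockApp.M24Cent

/-!
No subgroups of index 56 or 210 in the stabiliser of two points in M24.

A subgroup of index 56 would be transitive with a point stabiliser having an orbit of six points,
hence would preserve a strongly regular graph with parameters (22, 6, 0, 2), which does not exist.
-/

set_option autoImplicit false

namespace Cfsg.Agent.Compute.M22Index

open Cfsg MulAction
open scoped Pointwise

/-! ### Double counting -/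

variable {G α : Type*} [Group G] [Fintype α] [DecidableEq α] [MulAction G α]

theorem choose_dvd {Y X : Finset α} (hY : ∀ g : G, g • Y = Y) (hXY : X ⊆ Y) {t : ℕ}
    (htr : ∀ A B : Finset α, A ⊆ Y → B ⊆ Y → A.card = t → B.card = t → ∃ g : G, g • A = B) :
    Nat.choose Y.card t ∣ (orbit G X).ncard * Nat.choose X.card t := by
  classical
  let O : Finset (Finset α) := (Set.toFinite (orbit G X)).toFinset
  have hO : O.card = (orbit G X).ncard := (Set.ncard_eq_toFinset_card _).symm
  have hOx : ∀ Z ∈ O, Z ⊆ Y ∧ Z.card = X.card := by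
    intro Z hZ
    simp only [O, Set.Finite.mem_toFinset] at hZ
    obtain ⟨g, rfl⟩ := hZ
    refine ⟨?_, Finset.card_smul_finset g X⟩
    rw [← hY g]
    exact Finset.smul_finset_subset_smul_finset hXY
  have key := Finset.sum_card_bipartiteAbove_eq_sum_card_bipartiteBelow
    (fun (Z : Finset α) (A : Finset α) => A ⊆ Z) (s := O) (t := Y.powersetCard t)
  have hl : ∀ Z ∈ O, ((Y.powersetCard t).bipartiteAbove (fun Z A : Finset α => A ⊆ Z) Z).card =
      Nat.choose X.card t := by
    intro Z hZ
    rw [show (Y.powersetCard t).bipartiteAbove (fun Z A : Finset α => A ⊆ Z) Z = Z.powersetCard t from ?_,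
      Finset.card_powersetCard, (hOx Z hZ).2]
    ext A
    simp only [Finset.bipartiteAbove, Finset.mem_filter, Finset.mem_powersetCard]
    exact ⟨fun h => ⟨h.2, h.1.2⟩, fun h => ⟨⟨h.1.trans (hOx Z hZ).1, h.2⟩, h.1⟩⟩
  rw [Finset.sum_const_nat hl, hO] at key
  rw [key, ← Finset.card_powersetCard]
  rcases (Y.powersetCard t).eq_empty_or_nonempty with hT0 | ⟨A₀, hA₀⟩
  · simp [hT0]
  refine ⟨(O.bipartiteBelow (fun Z A : Finset α => A ⊆ Z) A₀).card, ?_⟩
  refine Finset.sum_const_nat fun A hA => ?_
  rw [Finset.mem_powersetCard] at hA hA₀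
  obtain ⟨g, hg⟩ := htr A A₀ hA.1 hA₀.1 hA.2 hA₀.2
  refine Finset.card_bij' (fun Z _ => g • Z) (fun Z _ => g⁻¹ • Z) ?_ ?_
    (fun Z _ => inv_smul_smul g Z) (fun Z _ => smul_inv_smul g Z)
  all_goals
    intro Z hZ
    simp only [Finset.bipartiteBelow, Finset.mem_filter, O, Set.Finite.mem_toFinset] at hZ ⊢
    refine ⟨?_, ?_⟩
  · exact mem_orbit_of_mem_orbit g hZ.1
  · rw [← hg]; exact Finset.smul_finset_subset_smul_finset hZ.2
  · exact mem_orbit_of_mem_orbit g⁻¹ hZ.1
  · rw [← inv_smul_smul g A, hg]; exact Finset.smul_finset_subset_smul_finset hZ.2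

/-! ### The graph -/

omit [Group G] [MulAction G α] in
/-- No graph with parameters (22, 6, 0, 2): its adjacency matrix plus 1 would square to `5 + 2 J`,
whose determinant is not a square. -/
theorem no_graph (Y : Finset α) (hY : Y.card = 22) (C : α → Finset α) (hC : ∀ a ∈ Y, C a ⊆ Y)
    (hsymm : ∀ a ∈ Y, ∀ b ∈ Y, (b ∈ C a ↔ a ∈ C b))
    (h7 : ∀ a ∈ Y, (C a).card = 7) (h2 : ∀ a ∈ Y, ∀ b ∈ Y, a ≠ b → (C a ∩ C b).card = 2) : False := by
  classical
  let B : Matrix ↥Y ↥Y ℤ := Matrix.of fun a b => if (b : α) ∈ C a then 1 else 0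
  have hBB : ∀ a c : ↥Y, (B * B) a c = if a = c then 7 else 2 := by
    intro a c
    have h1 : (B * B) a c =
        ((Finset.univ.filter fun b : ↥Y => (b : α) ∈ C a ∧ (b : α) ∈ C c).card : ℤ) := by
      rw [Matrix.mul_apply, Finset.card_filter]
      push_cast
      refine Finset.sum_congr rfl fun b _ => ?_
      simp only [B, Matrix.of_apply]
      simp only [hsymm b b.2 c c.2]
      split_ifs <;> simp_all
    have h3 : (Finset.univ.filter fun b : ↥Y => (b : α) ∈ C a ∧ (b : α) ∈ C c).card =
        (C a ∩ C c).card := by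
      rw [← Finset.card_map (Function.Embedding.subtype _)]
      congr 1
      ext v
      simp only [Finset.mem_map, Finset.mem_filter, Finset.mem_univ, true_and,
        Function.Embedding.coe_subtype, Finset.mem_inter]
      exact ⟨fun ⟨b, hb, e⟩ => e ▸ hb, fun h => ⟨⟨v, hC a a.2 h.1⟩, h, rfl⟩⟩
    rw [h1, h3]
    split
    · next e => subst e; rw [Finset.inter_self, h7 a a.2]; rfl
    · next e => rw [h2 a a.2 c c.2 fun h => e (Subtype.ext h)]; rfl
  let B' : Matrix ↥Y ↥Y ℚ := B.map (Int.castRingHom ℚ)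
  have hdet : B'.det = (B.det : ℚ) := (RingHom.map_det (Int.castRingHom ℚ) B).symm
  have hsq : B' * B' = (5 : ℚ) • (1 + Matrix.replicateCol Unit (fun _ : ↥Y => (2 / 5 : ℚ)) *
      Matrix.replicateRow Unit (fun _ : ↥Y => (1 : ℚ))) := by
    ext a c
    rw [← Matrix.map_mul, Matrix.map_apply, hBB]
    by_cases e : a = c <;> simp [e, Matrix.mul_apply, Matrix.one_apply] <;> norm_num
  have h := congrArg Matrix.det hsq
  rw [Matrix.det_mul, hdet, Matrix.det_smul, Matrix.det_one_add_replicateCol_mul_replicateRow,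
    Fintype.card_coe, hY] at h
  simp only [dotProduct, one_mul, Finset.sum_const, Finset.card_univ, Fintype.card_coe, hY,
    nsmul_eq_mul] at h
  have h' : B.det * B.det = ((5 ^ 21 * 49 : ℕ) : ℤ) := by
    have : ((B.det * B.det : ℤ) : ℚ) = (((5 ^ 21 * 49 : ℕ) : ℤ) : ℚ) := by
      rw [Int.cast_mul, h]; norm_num
    exact_mod_cast this
  have h'' := congrArg Int.natAbs h'
  rw [Int.natAbs_mul, Int.natAbs_natCast] at h''
  have hs := congrArg Nat.sqrt h''
  rw [Nat.sqrt_eq] at hs
  rw [hs] at h''
  revert h''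
  norm_num

/-! ### Index 56 -/

theorem sizes22 : ∀ O < 57, O ∣ 56 → ∀ k < 12, k = 0 ∨
    ∃ t ∈ [1, 2], ¬ (Nat.choose 22 t ∣ O * Nat.choose k t) := by decide +kernel

theorem sizes21 : ∀ O < 57, O ∣ 56 → ∀ k < 11, k = 0 ∨ k = 6 ∨
    ∃ t ∈ [1, 2], ¬ (Nat.choose 21 t ∣ O * Nat.choose k t) := by decide +kernel

/-- An abstract version. -/
theorem false_of_index_fiftysix [Finite G] (H : Subgroup G) (hH : H.index = 56)
    (hcard : Nat.card H = 7920) (Y : Finset α) (hY22 : Y.card = 22) (hY : ∀ g : G, g • Y = Y)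
    (htr : ∀ A B : Finset α, A ⊆ Y → B ⊆ Y → A.card = B.card → A.card ≤ 2 → ∃ g : G, g • A = B)
    (htr1 : ∀ r ∈ Y, ∀ A B : Finset α, A ⊆ Y.erase r → B ⊆ Y.erase r → A.card = B.card →
      A.card ≤ 2 → ∃ g : G, g • r = r ∧ g • A = B) : False := by
  classical
  have hsmem : ∀ (g : G) {y : α}, y ∈ Y → g • y ∈ Y := fun g y hy => by
    rw [← hY g]; exact Finset.smul_mem_smul_finset hy
  -- invariant sets
  have inv22 : ∀ X : Finset α, X ⊆ Y → (∀ h ∈ H, h • X = X) → X.card ≤ 11 → X = ∅ := by
    intro X hXY hX h11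
    have hd : (stabilizer G X).index ∣ 56 :=
      hH ▸ Subgroup.index_dvd_of_le fun h hh => mem_stabilizer_iff.2 (hX h hh)
    rw [index_stabilizer] at hd
    rcases sizes22 _ (Nat.lt_succ_of_le (Nat.le_of_dvd (by norm_num) hd)) hd X.card (by omega) with
      h | ⟨t, ht, hnd⟩
    · exact Finset.card_eq_zero.1 h
    · refine absurd ?_ hnd
      rw [← hY22]
      simp only [List.mem_cons, List.not_mem_nil, or_false] at ht
      exact choose_dvd hY hXY fun A B hA hB hAt hBt =>
        htr A B hA hB (hAt.trans hBt.symm) (by omega)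
  let orb : α → Finset α := fun y => Finset.univ.filter fun v => ∃ h ∈ H, h • y = v
  have horb : ∀ y, ∀ h ∈ H, h • orb y = orb y := by
    intro y h hh
    refine Finset.eq_of_subset_of_card_le (fun v hv => ?_) (Finset.card_smul_finset h _).ge
    obtain ⟨w, hw, rfl⟩ := Finset.mem_smul_finset.1 hv
    obtain ⟨k, hk, rfl⟩ := (Finset.mem_filter.1 hw).2
    exact Finset.mem_filter.2 ⟨Finset.mem_univ _, h * k, mul_mem hh hk, mul_smul h k y⟩
  have horbY : ∀ y ∈ Y, orb y = Y := by
    intro y hy
    have hsub : orb y ⊆ Y := fun v hv => by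
      obtain ⟨k, -, rfl⟩ := (Finset.mem_filter.1 hv).2
      exact hsmem k hy
    have hmem : y ∈ orb y := Finset.mem_filter.2 ⟨Finset.mem_univ y, 1, one_mem H, one_smul G y⟩
    refine Finset.Subset.antisymm hsub ?_
    by_contra hne
    have h1 : 11 < (orb y).card := by
      by_contra h
      exact Finset.ne_empty_of_mem hmem (inv22 _ hsub (horb y) (by omega))
    have h2 := inv22 (Y \ orb y) Finset.sdiff_subset (fun h hh => by
      rw [Finset.smul_finset_sdiff, hY, horb y h hh]) (by
      rw [Finset.card_sdiff_of_subset hsub, hY22]; omega)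
    exact hne (Finset.sdiff_eq_empty_iff_subset.1 h2)
  have htrans : ∀ a ∈ Y, ∀ b ∈ Y, ∃ h ∈ H, h • a = b := fun a ha b hb =>
    (Finset.mem_filter.1 (show b ∈ orb a by rw [horbY a ha]; exact hb)).2
  -- the point stabilisers
  have hidx : ∀ r ∈ Y, (H.subgroupOf (stabilizer G r)).index = 56 ∧
      Nat.card ↥(stabilizer ↥H r) = 360 := by
    intro r hr
    have h1 : (orbit ↥H r).ncard = 22 := by
      rw [show orbit ↥H r = (Y : Set α) from ?_, Set.ncard_coe_finset, hY22]
      ext v
      refine ⟨?_, fun hv => ?_⟩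
      · rintro ⟨h, rfl⟩; exact hsmem (h : G) hr
      · obtain ⟨h, hh, e⟩ := htrans r hr v hv; exact ⟨⟨h, hh⟩, e⟩
    have h2 : (orbit G r).ncard = 22 := by
      rw [show orbit G r = (Y : Set α) from ?_, Set.ncard_coe_finset, hY22]
      ext v
      refine ⟨?_, fun hv => ?_⟩
      · rintro ⟨h, rfl⟩; exact hsmem h hr
      · obtain ⟨h, -, e⟩ := htrans r hr v hv; exact ⟨h, e⟩
    have h3 : Nat.card ↥(H.subgroupOf (stabilizer G r)) = Nat.card ↥(stabilizer ↥H r) :=
      Nat.card_congr
        { toFun := fun v => ⟨⟨v.1.1, v.2⟩, v.1.2⟩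
          invFun := fun v => ⟨⟨v.1.1, v.2⟩, v.1.2⟩
          left_inv := fun _ => rfl
          right_inv := fun _ => rfl }
    have h4 := (stabilizer ↥H r).card_mul_index
    rw [index_stabilizer, h1, hcard] at h4
    have h5 := (stabilizer G r).card_mul_index
    have h6 := H.card_mul_index
    rw [index_stabilizer, h2] at h5
    rw [hH, hcard] at h6
    have h7 := (H.subgroupOf (stabilizer G r)).card_mul_index
    rw [h3] at h7
    have h8 : Nat.card ↥(stabilizer ↥H r) = 360 := by omega
    rw [h8] at h7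
    exact ⟨by omega, h8⟩
  have inv21 : ∀ r ∈ Y, ∀ X : Finset α, X ⊆ Y.erase r → (∀ h ∈ H, h • r = r → h • X = X) →
      X.card ≤ 10 → X = ∅ ∨ X.card = 6 := by
    intro r hr X hXY hX h10
    have hd : (stabilizer ↥(stabilizer G r) X).index ∣ 56 :=
      (hidx r hr).1 ▸ Subgroup.index_dvd_of_le fun h hh =>
        mem_stabilizer_iff.2 (hX (h : G) hh h.2)
    rw [index_stabilizer] at hd
    rcases sizes21 _ (Nat.lt_succ_of_le (Nat.le_of_dvd (by norm_num) hd)) hd X.card (by omega) with
      h | h | ⟨t, ht, hnd⟩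
    · exact Or.inl (Finset.card_eq_zero.1 h)
    · exact Or.inr h
    · refine absurd ?_ hnd
      rw [show 21 = (Y.erase r).card by rw [Finset.card_erase_of_mem hr, hY22]]
      simp only [List.mem_cons, List.not_mem_nil, or_false] at ht
      refine choose_dvd (fun g => ?_) hXY fun A B hA hB hAt hBt => ?_
      · have hg : (g : G) • r = r := g.2
        show (g : G) • Y.erase r = Y.erase r
        rw [Finset.erase_eq, Finset.smul_finset_sdiff, hY, Finset.smul_finset_singleton, hg]
      · obtain ⟨g, hg, hgA⟩ := htr1 r hr A B hA hB (hAt.trans hBt.symm) (by omega)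
        exact ⟨⟨g, hg⟩, hgA⟩
  -- the six neighbours
  have hfix : ∀ r, ∀ h ∈ H, h • r = r → h • Y.erase r = Y.erase r := fun r h _ e => by
    rw [Finset.erase_eq, Finset.smul_finset_sdiff, hY, Finset.smul_finset_singleton, e]
  have hex : ∀ r ∈ Y, ∃ X : Finset α, X ⊆ Y.erase r ∧ (∀ h ∈ H, h • r = r → h • X = X) ∧ X.card = 6 := by
    intro r hr
    obtain ⟨y, hy⟩ : (Y.erase r).Nonempty := by
      rw [← Finset.card_pos, Finset.card_erase_of_mem hr, hY22]; norm_num
    let o : Finset α := (Set.toFinite (orbit ↥(stabilizer ↥H r) y)).toFinset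
    have ho : ∀ h ∈ H, h • r = r → h • o = o := by
      intro h hh hr'
      apply Finset.coe_injective
      simp only [o, Finset.coe_smul_finset, Set.Finite.coe_toFinset]
      exact smul_orbit (⟨⟨h, hh⟩, hr'⟩ : ↥(stabilizer ↥H r)) y
    have hsub : o ⊆ Y.erase r := by
      intro v hv
      simp only [o, Set.Finite.mem_toFinset] at hv
      obtain ⟨k, rfl⟩ := hv
      rw [← hfix r _ k.1.2 k.2]
      exact Finset.smul_mem_smul_finset hy
    have hmem : y ∈ o := by simp [o, mem_orbit_self]
    by_cases h10 : o.card ≤ 10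
    · exact ⟨o, hsub, ho, (inv21 r hr o hsub ho h10).resolve_left (Finset.ne_empty_of_mem hmem)⟩
    have hinv : ∀ h ∈ H, h • r = r → h • (Y.erase r \ o) = Y.erase r \ o := fun h hh e => by
      rw [Finset.smul_finset_sdiff, hfix r h hh e, ho h hh e]
    refine ⟨_, Finset.sdiff_subset, hinv, (inv21 r hr _ Finset.sdiff_subset hinv ?_).resolve_left fun e => ?_⟩
    · rw [Finset.card_sdiff_of_subset hsub, Finset.card_erase_of_mem hr, hY22]; omega
    · have he : o = Y.erase r :=
        Finset.Subset.antisymm hsub (Finset.sdiff_eq_empty_iff_subset.1 e)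
      have h1 : (stabilizer ↥(stabilizer ↥H r) y).index ∣ 360 :=
        (hidx r hr).2 ▸ Subgroup.index_dvd_card _
      rw [index_stabilizer, Set.ncard_eq_toFinset_card _] at h1
      change o.card ∣ 360 at h1
      rw [he, Finset.card_erase_of_mem hr, hY22] at h1
      norm_num at h1
  choose! N hN using hex
  have huniq : ∀ r ∈ Y, ∀ X : Finset α, X ⊆ Y.erase r → (∀ h ∈ H, h • r = r → h • X = X) →
      X.card = 6 → X = N r := by
    intro r hr X hXY hX h6
    obtain ⟨hNY, hN', hN6⟩ := hN r hr
    rcases inv21 r hr (X ∩ N r) (Finset.inter_subset_left.trans hXY)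
      (fun h hh e => by rw [Finset.smul_finset_inter, hX h hh e, hN' h hh e])
      ((Finset.card_le_card Finset.inter_subset_left).trans (by omega)) with h0 | h0
    · exfalso
      have hu : (X ∪ N r).card = 12 := by
        rw [Finset.card_union_of_disjoint (Finset.disjoint_iff_inter_eq_empty.2 h0), h6, hN6]
      have hc : (Y.erase r \ (X ∪ N r)).card = 9 := by
        rw [Finset.card_sdiff_of_subset (Finset.union_subset hXY hNY), hu,
          Finset.card_erase_of_mem hr, hY22]
      rcases inv21 r hr (Y.erase r \ (X ∪ N r)) Finset.sdiff_subset (fun h hh e => by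
        rw [Finset.smul_finset_sdiff, Finset.smul_finset_union, hfix r h hh e, hX h hh e, hN' h hh e])
        (by omega) with h1 | h1
      · rw [h1, Finset.card_empty] at hc; omega
      · omega
    · have hx : X ∩ N r = X := Finset.eq_of_subset_of_card_le Finset.inter_subset_left (by omega)
      exact Finset.eq_of_subset_of_card_le (Finset.inter_eq_left.1 hx) (by omega)
  have hequiv : ∀ r ∈ Y, ∀ g ∈ H, g • N r = N (g • r) := by
    intro r hr g hg
    refine huniq _ (hsmem g hr) _ ?_ (fun h hh e => ?_) (by rw [Finset.card_smul_finset, (hN r hr).2.2])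
    · have := Finset.smul_finset_subset_smul_finset (a := g) (hN r hr).1
      rwa [Finset.erase_eq, Finset.smul_finset_sdiff, hY, Finset.smul_finset_singleton,
        ← Finset.erase_eq] at this
    · have h1 := (hN r hr).2.1 (g⁻¹ * h * g) (mul_mem (mul_mem (inv_mem hg) hh) hg) (by
        rw [mul_smul, mul_smul, e, inv_smul_smul])
      rw [mul_smul, mul_smul, inv_smul_eq_iff] at h1
      exact h1
  have hloop : ∀ r ∈ Y, r ∉ N r := fun r hr h => (Finset.mem_erase.1 ((hN r hr).1 h)).1 rfl
  have hNsub : ∀ r ∈ Y, N r ⊆ Y := fun r hr => (hN r hr).1.trans (Finset.erase_subset _ _)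
  -- symmetry
  have hsymm : ∀ r ∈ Y, Y.filter (fun a => r ∈ N a) = N r := by
    intro r hr
    have hmove : ∀ r ∈ Y, ∀ g ∈ H,
        g • Y.filter (fun a => r ∈ N a) = Y.filter (fun a => g • r ∈ N a) := by
      intro r hr g hg
      ext v
      rw [← Finset.inv_smul_mem_iff, Finset.mem_filter, Finset.mem_filter]
      have hv : g⁻¹ • v ∈ Y ↔ v ∈ Y :=
        ⟨fun h => by simpa using hsmem g h, fun h => hsmem _ h⟩
      rw [hv, and_congr_right fun hvY => ?_]
      rw [← hequiv v hvY g⁻¹ (inv_mem hg), Finset.mem_inv_smul_finset_iff]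
    refine huniq r hr _ (fun a ha => ?_) (fun h hh e => by rw [hmove r hr h hh, e]) ?_
    · rw [Finset.mem_filter] at ha
      exact Finset.mem_erase.2 ⟨fun e => hloop r hr (e ▸ ha.2), ha.1⟩
    · have hconst : ∀ b ∈ Y, (Y.filter fun a => b ∈ N a).card = (Y.filter fun a => r ∈ N a).card := by
        intro b hb
        obtain ⟨g, hg, rfl⟩ := htrans r hr b hb
        rw [← hmove r hr g hg, Finset.card_smul_finset]
      have key := Finset.sum_card_bipartiteAbove_eq_sum_card_bipartiteBelow
        (fun b a : α => b ∈ N a) (s := Y) (t := Y)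
      simp only [Finset.bipartiteAbove, Finset.bipartiteBelow] at key
      rw [Finset.sum_const_nat hconst, Finset.sum_const_nat (m := 6) fun a ha => by
        rw [Finset.filter_mem_eq_inter, Finset.inter_eq_right.2 (hNsub a ha), (hN a ha).2.2], hY22] at key
      omega
  -- constant intersection numbers at a base point
  have hconstL : ∀ r ∈ Y, ∀ S : Finset α, S ⊆ Y.erase r → (∀ h ∈ H, h • r = r → h • S = S) →
      (S = N r ∨ (Disjoint S (N r) ∧ S.card ≤ 21)) → ∀ a ∈ S, ∀ b ∈ S,
        S.card ≤ 15 → (N r ∩ N a).card = (N r ∩ N b).card := by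
    intro r hr S hS hSi hcase a ha b hb h15
    obtain ⟨-, hN', hN6⟩ := hN r hr
    by_contra hne
    have hlev : ∀ c ∈ S, 11 ≤ (S.filter fun v => (N r ∩ N v).card = (N r ∩ N c).card).card ∨
        S.filter (fun v => (N r ∩ N v).card = (N r ∩ N c).card) = N r := by
      intro c hc
      by_contra! hlt
      have hinv : ∀ h ∈ H, h • r = r → h • S.filter (fun v => (N r ∩ N v).card = (N r ∩ N c).card) =
          S.filter (fun v => (N r ∩ N v).card = (N r ∩ N c).card) := by
        intro h hh e
        refine Finset.eq_of_subset_of_card_le (fun v hv => ?_) (Finset.card_smul_finset h _).ge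
        obtain ⟨w, hw, rfl⟩ := Finset.mem_smul_finset.1 hv
        rw [Finset.mem_filter] at hw ⊢
        refine ⟨hSi h hh e ▸ Finset.smul_mem_smul_finset hw.1, ?_⟩
        rw [← hequiv w (Finset.mem_of_mem_erase (hS hw.1)) h hh, ← hw.2,
          ← Finset.card_smul_finset h (N r ∩ N w), Finset.smul_finset_inter, hN' h hh e]
      rcases inv21 r hr _ ((Finset.filter_subset _ _).trans hS) hinv (by omega) with h0 | h0
      · exact Finset.ne_empty_of_mem (s := S.filter fun v => (N r ∩ N v).card = (N r ∩ N c).card)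
          (Finset.mem_filter.2 ⟨hc, rfl⟩) h0
      · exact hlt.2 (huniq r hr _ ((Finset.filter_subset _ _).trans hS) hinv h0)
    rcases hcase with hSN | ⟨hd, -⟩
    · have h6 : ∀ c ∈ S, S.filter (fun v => (N r ∩ N v).card = (N r ∩ N c).card) = S := fun c hc => by
        rcases hlev c hc with h | h
        · have := Finset.card_filter_le S fun v => (N r ∩ N v).card = (N r ∩ N c).card
          rw [hSN, hN6] at this
          rw [hSN] at h
          omega
        · exact h.trans hSN.symm
      exact hne (((Finset.mem_filter.1 ((h6 b hb).symm ▸ ha : a ∈ S.filter _)).2))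
    · have h11 : ∀ c ∈ S, 11 ≤ (S.filter fun v => (N r ∩ N v).card = (N r ∩ N c).card).card := fun c hc =>
        (hlev c hc).resolve_right fun h => Finset.disjoint_left.1 hd hc
          (h ▸ Finset.mem_filter.2 ⟨hc, rfl⟩)
      have hdj : Disjoint (S.filter fun v => (N r ∩ N v).card = (N r ∩ N a).card)
          (S.filter fun v => (N r ∩ N v).card = (N r ∩ N b).card) :=
        Finset.disjoint_filter.2 fun v _ e1 e2 => hne (e1.symm.trans e2)
      have := Finset.card_le_card (Finset.union_subset (Finset.filter_subset _ S)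
        (Finset.filter_subset _ S) :
        (S.filter fun v => (N r ∩ N v).card = (N r ∩ N a).card) ∪
          (S.filter fun v => (N r ∩ N v).card = (N r ∩ N b).card) ⊆ S)
      rw [Finset.card_union_of_disjoint hdj] at this
      have := h11 a ha
      have := h11 b hb
      omega
  have hpar : ∀ r ∈ Y, ((∀ a ∈ N r, (N r ∩ N a).card = 0) ∧
        ∀ a ∈ Y, a ≠ r → a ∉ N r → (N r ∩ N a).card = 2) ∨
      ((∀ a ∈ N r, (N r ∩ N a).card = 5) ∧ ∀ a ∈ Y, a ≠ r → a ∉ N r → (N r ∩ N a).card = 0) := by
    intro r hr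
    obtain ⟨hNY, hN', hN6⟩ := hN r hr
    set M := Y.erase r \ N r
    have hM15 : M.card = 15 := by
      rw [Finset.card_sdiff_of_subset hNY, hN6, Finset.card_erase_of_mem hr, hY22]
    have hMi : ∀ h ∈ H, h • r = r → h • M = M := fun h hh e => by
      rw [Finset.smul_finset_sdiff, hfix r h hh e, hN' h hh e]
    obtain ⟨a₀, ha₀⟩ := Finset.card_pos.1 (show 0 < (N r).card by omega)
    obtain ⟨b₀, hb₀⟩ := Finset.card_pos.1 (show 0 < M.card by omega)
    have hl : ∀ a ∈ N r, (N r ∩ N a).card = (N r ∩ N a₀).card := fun a ha =>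
      hconstL r hr (N r) hNY hN' (Or.inl rfl) a ha a₀ ha₀ (by omega)
    have hm : ∀ a ∈ M, (N r ∩ N a).card = (N r ∩ N b₀).card := fun a ha =>
      hconstL r hr M Finset.sdiff_subset hMi (Or.inr ⟨Finset.sdiff_disjoint, by omega⟩) a ha b₀ hb₀ (by omega)
    have hl5 : (N r ∩ N a₀).card ≤ 5 := by
      have h1 : N r ∩ N a₀ ⊆ (N r).erase a₀ := fun v hv => by
        rw [Finset.mem_inter] at hv
        exact Finset.mem_erase.2 ⟨fun e => hloop a₀ (hNsub r hr ha₀) (e ▸ hv.2), hv.1⟩
      have := Finset.card_le_card h1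
      rw [Finset.card_erase_of_mem ha₀, hN6] at this
      exact this
    have key := Finset.sum_card_bipartiteAbove_eq_sum_card_bipartiteBelow
      (fun a b : α => b ∈ N a) (s := Y) (t := N r)
    simp only [Finset.bipartiteAbove, Finset.bipartiteBelow] at key
    rw [Finset.sum_const_nat (s := N r) (m := 6) fun b hb => by
      rw [hsymm b (hNsub r hr hb), (hN b (hNsub r hr hb)).2.2]] at key
    simp only [Finset.filter_mem_eq_inter] at key
    rw [← Finset.add_sum_erase _ _ hr, Finset.inter_self, hN6,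
      ← Finset.sum_sdiff hNY, Finset.sum_const_nat hm, Finset.sum_const_nat hl, hM15, hN6] at key
    have hmem : ∀ a ∈ Y, a ≠ r → a ∉ N r → a ∈ M := fun a ha h1 h2 =>
      Finset.mem_sdiff.2 ⟨Finset.mem_erase.2 ⟨h1, ha⟩, h2⟩
    rcases Nat.eq_zero_or_pos (N r ∩ N b₀).card with h0 | h0
    · exact Or.inr ⟨fun a ha => (hl a ha).trans (by omega),
        fun a ha h1 h2 => (hm a (hmem a ha h1 h2)).trans h0⟩
    · exact Or.inl ⟨fun a ha => (hl a ha).trans (by omega),
        fun a ha h1 h2 => (hm a (hmem a ha h1 h2)).trans (by omega)⟩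
  have hsymm' : ∀ a ∈ Y, ∀ b ∈ Y, (b ∈ N a ↔ a ∈ N b) := fun a ha b hb => by
    constructor <;> intro h
    · rw [← hsymm a ha] at h; exact (Finset.mem_filter.1 h).2
    · rw [← hsymm b hb] at h; exact (Finset.mem_filter.1 h).2
  let C : α → Finset α := fun a => insert a (N a)
  have hC7 : ∀ a ∈ Y, (C a).card = 7 := fun a ha => by
    rw [Finset.card_insert_of_notMem (hloop a ha), (hN a ha).2.2]
  have hCY : ∀ a ∈ Y, C a ⊆ Y := fun a ha => Finset.insert_subset ha (hNsub a ha)
  have hCsymm : ∀ a ∈ Y, ∀ b ∈ Y, (b ∈ C a ↔ a ∈ C b) := fun a ha b hb => by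
    simp only [C, Finset.mem_insert, eq_comm (a := a) (b := b), hsymm' a ha b hb]
  have hCinter : ∀ a ∈ Y, ∀ b ∈ Y, a ≠ b → (C a ∩ C b).card =
      (N a ∩ N b).card + (if b ∈ N a then 2 else 0) := by
    intro a ha b hb hab
    by_cases hba : b ∈ N a
    · have hab' : a ∈ N b := (hsymm' a ha b hb).1 hba
      have : C a ∩ C b = insert a (insert b (N a ∩ N b)) := by
        ext v
        simp only [C, Finset.mem_inter, Finset.mem_insert]
        constructor
        · rintro ⟨rfl | h1, rfl | h2⟩ <;> tauto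
        · rintro (rfl | rfl | ⟨h1, h2⟩) <;> tauto
      rw [this, if_pos hba, Finset.card_insert_of_notMem, Finset.card_insert_of_notMem]
      · simp [hloop b hb]
      · simp [hab, hloop a ha]
    · rw [if_neg hba, add_zero]
      congr 1
      ext v
      simp only [C, Finset.mem_inter, Finset.mem_insert]
      constructor
      · rintro ⟨rfl | h1, rfl | h2⟩
        · exact absurd rfl hab
        · exact absurd ((hsymm' b hb v ha).1 h2) hba
        · exact absurd h1 hba
        · exact ⟨h1, h2⟩
      · exact fun ⟨h1, h2⟩ => ⟨Or.inr h1, Or.inr h2⟩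
  by_cases hall : ∃ r ∈ Y, ∃ a ∈ N r, (N r ∩ N a).card = 0
  · refine no_graph Y hY22 C hCY hCsymm hC7 fun a ha b hb hab => ?_
    obtain ⟨r, hr, a₁, ha₁, h0⟩ := hall
    obtain ⟨g, hg, rfl⟩ := htrans r hr a ha
    have hb' : g⁻¹ • b ∈ Y := hsmem _ hb
    have e : (N (g • r) ∩ N b).card = (N r ∩ N (g⁻¹ • b)).card := by
      rw [← Finset.card_smul_finset g (N r ∩ _), Finset.smul_finset_inter, hequiv r hr g hg,
        hequiv _ hb' g hg, smul_inv_smul]
    have hiff : b ∈ N (g • r) ↔ g⁻¹ • b ∈ N r := by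
      rw [← hequiv r hr g hg, ← Finset.inv_smul_mem_iff]
    rw [hCinter _ ha b hb hab, e]
    obtain ⟨h1, h2⟩ := (hpar r hr).resolve_right fun h => by
      have := h.1 a₁ ha₁; omega
    by_cases hm : b ∈ N (g • r)
    · rw [if_pos hm, h1 _ (hiff.1 hm)]
    · rw [if_neg hm, h2 _ hb' (fun e' => hab (by rw [← e', smul_inv_smul])) fun h => hm (hiff.2 h)]
  · push Not at hall
    -- the graph is a union of complete graphs on seven points
    have hcl : ∀ r ∈ Y, ∀ a ∈ C r, C a = C r := by
      intro r hr a ha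
      rcases Finset.mem_insert.1 ha with rfl | ha
      · rfl
      have haY := hNsub r hr ha
      obtain ⟨h1, -⟩ := (hpar r hr).resolve_left fun h => hall r hr a ha (h.1 a ha)
      have h5 := hCinter r hr a haY fun e => hloop r hr (e ▸ ha)
      rw [if_pos ha, h1 a ha] at h5
      have e1 : C r ∩ C a = C r :=
        Finset.eq_of_subset_of_card_le Finset.inter_subset_left (by rw [hC7 r hr, h5])
      exact (Finset.eq_of_subset_of_card_le (Finset.inter_eq_left.1 e1)
        (by rw [hC7 r hr, hC7 a haY])).symm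
    have hsum := Finset.card_eq_sum_card_image C Y
    rw [Finset.sum_const_nat (m := 7) fun s hs => ?_, hY22] at hsum
    · omega
    · obtain ⟨r, hr, rfl⟩ := Finset.mem_image.1 hs
      rw [show Y.filter (fun a => C a = C r) = C r from ?_, hC7 r hr]
      ext a
      rw [Finset.mem_filter]
      exact ⟨fun h => h.2 ▸ Finset.mem_insert_self a _, fun h => ⟨hCY r hr h, hcl r hr a h⟩⟩

/-! ### Index 210 -/

/-- No group of order 2112 embeds in M24. -/
theorem false_of_card_2112 {H : Type*} [Group H] [Finite H] (hcard : Nat.card H = 2112)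
    (f : H →* ↥M24) (hf : Function.Injective f) : False := by
  classical
  haveI : Fact (Nat.Prime 11) := ⟨by norm_num⟩
  obtain ⟨P⟩ : Nonempty (Sylow 11 H) := inferInstance
  have hP : Nat.card (P : Subgroup H) = 11 := by
    rw [P.card_eq_multiplicity, hcard, show (2112 : ℕ) = 11 * 192 from rfl,
      Nat.factorization_mul (by norm_num) (by norm_num), Finsupp.add_apply,
      Nat.Prime.factorization_self (by norm_num), Nat.factorization_eq_zero_of_not_dvd (by norm_num)]
    norm_num
  have hall : ∀ r : ℕ, r.Prime → r ∣ Nat.card (Subgroup.centralizer ((P : Subgroup H) : Set H)) → r = 11 := by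
    intro r hr hrd
    have := Fact.mk hr
    obtain ⟨z, hz⟩ := exists_prime_orderOf_dvd_card' r hrd
    obtain ⟨x, hx⟩ := exists_prime_orderOf_dvd_card' (G := (P : Subgroup H)) 11 (by rw [hP])
    refine BlockApp.M24Cent.big_prime (f x) (f z) ?_ (Or.inl rfl) hr
      (by rw [orderOf_injective f hf, Subgroup.orderOf_coe, hx])
      (by rw [orderOf_injective f hf, Subgroup.orderOf_coe, hz])
    exact (show Commute (x : H) (z : H) from Subgroup.mem_centralizer_iff.1 z.2 x x.2).map f
  have hC : Nat.card (Subgroup.centralizer ((P : Subgroup H) : Set H)) ∣ 11 := by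
    obtain ⟨e, he⟩ : ∃ e, Nat.card (Subgroup.centralizer ((P : Subgroup H) : Set H)) = 11 ^ e :=
      ⟨_, Nat.eq_prime_pow_of_unique_prime_dvd Nat.card_pos.ne' fun {r} hr hrd => hall r hr hrd⟩
    have hd := hcard ▸ Subgroup.card_subgroup_dvd_card (Subgroup.centralizer ((P : Subgroup H) : Set H))
    rw [he] at hd ⊢
    rcases e with _ | _ | e
    · simp
    · simp
    · exfalso
      have h121 : 11 ^ 2 ∣ 2112 := (pow_dvd_pow 11 (by omega)).trans hd
      norm_num at h121
  set N := Subgroup.normalizer ((P : Subgroup H) : Set H)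
  have hN : Nat.card N ∣ 110 := by
    let φ := (P : Subgroup H).normalizerMonoidHom
    have h1 := φ.ker.card_mul_index
    rw [Subgroup.index_ker] at h1
    rw [← h1, show (110 : ℕ) = 11 * 10 from rfl]
    refine Nat.mul_dvd_mul ?_ ?_
    · rw [Subgroup.normalizerMonoidHom_ker]
      refine dvd_trans ?_ hC
      rw [← Subgroup.card_map_of_injective N.subtype_injective]
      exact Subgroup.card_dvd_of_le (Subgroup.map_subgroupOf_eq_of_le
        (Subgroup.centralizer_le_normalizer _)).le
    · haveI : IsCyclic (P : Subgroup H) := isCyclic_of_prime_card (p := 11) hP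
      have h2 := IsCyclic.card_mulAut (P : Subgroup H)
      rw [hP, Nat.totient_prime (by norm_num)] at h2
      have h3 := φ.range.card_subgroup_dvd_card
      rw [h2] at h3
      exact h3
  have h1 := N.card_mul_index
  rw [show N.index = Nat.card (Sylow 11 H) from P.card_eq_index_normalizer.symm, hcard] at h1
  have h2 := card_sylow_modEq_one 11 H
  have h3 : Nat.card N ≤ 110 := Nat.le_of_dvd (by norm_num) hN
  have h4 : ∀ d < 111, d ∣ 110 → ∀ m, d * m = 2112 → m % 11 = 1 → False := by
    intro d hd hd110 m hm hm11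
    have hd0 : 0 < d := Nat.pos_of_ne_zero fun e => by rw [e, zero_mul] at hm; omega
    have : m = 2112 / d := by rw [← hm, Nat.mul_div_cancel_left m hd0]
    subst this
    revert hm11 hm
    revert hd110
    revert hd0
    revert d
    decide +kernel
  exact h4 _ (by omega) hN _ h1 h2

end Cfsg.Agent.Compute.M22Index
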