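import Mathlib
import Cfsg.Agent.Compute.MathieuPointwise
import Cfsg.Agent.Compute.MathieuSets
import Cfsg.Agent.Compute.MathieuMoves
import Cfsg.Agent.Compute.TwentyTwoIndex

/-!
Subgroups of M24 of index 759, 276, 1771 and 253.

An intransitive subgroup fixes an octad or a pair; a transitive one is excluded, except for the
sextet stabiliser, by looking at the invariant sets of a point stabiliser on the other 23 points
and at the fixed points of an element of order five.
-/

set_option autoImplicit false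

namespace Cfsg.Agent.Compute.M24Index

open Cfsg MulAction
open scoped Pointwise

/-! ### The group -/

theorem exists_fix_move (F : List GolayPt) {A B : Finset GolayPt} (hF : F.Nodup)
    (hA : ∀ f ∈ F, f ∉ A) (hB : ∀ f ∈ F, f ∉ B) (hAB : A.card = B.card) (h5 : F.length + A.card ≤ 5) :
    ∃ g : ↥M24, (∀ f ∈ F, g • f = f) ∧ g • A = B := by
  classical
  obtain ⟨a, ha, hax⟩ := exists_move5 (F ++ A.toList)
    (List.nodup_append.2 ⟨hF, A.nodup_toList, fun f hf v hv e => hA f hf (e ▸ Finset.mem_toList.1 hv)⟩)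
    (by simp; omega)
  obtain ⟨b, hb, hbx⟩ := exists_move5 (F ++ B.toList)
    (List.nodup_append.2 ⟨hF, B.nodup_toList, fun f hf v hv e => hB f hf (e ▸ Finset.mem_toList.1 hv)⟩)
    (by simp; omega)
  rw [List.length_append, Finset.length_toList, hAB] at hax
  rw [List.length_append, Finset.length_toList, ← hax, List.map_append, List.map_append] at hbx
  obtain ⟨h1, h2⟩ := List.append_inj hbx (by simp)
  refine ⟨⟨b⁻¹ * a, mul_mem (inv_mem hb) ha⟩, fun f hf => ?_, ?_⟩
  · show b⁻¹ (a f) = f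
    rw [← List.map_inj_left.1 h1 f hf]
    exact b.symm_apply_apply f
  · show A.image (fun v => b⁻¹ (a v)) = B
    have h3 : A.toList.map (fun v => b⁻¹ (a v)) = B.toList := by
      rw [← List.map_id B.toList, show (fun v => b⁻¹ (a v)) = (b⁻¹ : Equiv.Perm GolayPt) ∘ a from rfl,
        ← List.map_map, ← h2, List.map_map]
      exact List.map_congr_left fun v _ => b.symm_apply_apply v
    ext v
    rw [Finset.mem_image, ← Finset.mem_toList (s := B), ← h3, List.mem_map]
    simp only [Finset.mem_toList]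

theorem exists_move_pt (a b : GolayPt) : ∃ g : ↥M24, g • a = b := by
  obtain ⟨g, -, hg⟩ := exists_fix_move [] (A := {a}) (B := {b}) List.nodup_nil (by simp) (by simp)
    (by simp) (by simp)
  refine ⟨g, ?_⟩
  rwa [Finset.smul_finset_singleton, Finset.singleton_inj] at hg

/-- The elements fixing all points of a set. -/
def fixer (S : Finset GolayPt) : Subgroup ↥M24 where
  carrier := {g | ∀ p ∈ S, g • p = p}
  one_mem' := fun p _ => one_smul _ p
  mul_mem' := fun {a b} ha hb p hp => by rw [mul_smul, hb p hp, ha p hp]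
  inv_mem' := fun {a} ha p hp => by rw [inv_smul_eq_iff, ha p hp]

theorem mem_fixer {S : Finset GolayPt} {g : ↥M24} : g ∈ fixer S ↔ ∀ p ∈ S, g • p = p := Iff.rfl

theorem fixer_anti {S T : Finset GolayPt} (h : S ⊆ T) : fixer T ≤ fixer S :=
  fun _ hg p hp => hg p (h hp)

theorem card_fixer_six {S : Finset GolayPt} (hS : S.card = 6) :
    ((∃ o ∈ octads, S ⊆ o) → Nat.card (fixer S) = 16) ∧
      ((¬ ∃ o ∈ octads, S ⊆ o) → Nat.card (fixer S) = 3) := by
  classical
  have hiff : (∃ o ∈ octads, ∀ p ∈ S.toList, p ∈ o) ↔ ∃ o ∈ octads, S ⊆ o := by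
    simp [Finset.subset_iff]
  obtain ⟨g, hg, hgx⟩ := exists_move6 S.toList S.nodup_toList (by simp [hS])
  have hc : Nat.card (fixer S) =
      Nat.card {h : Equiv.Perm GolayPt // h ∈ M24 ∧ ∀ p ∈ S.toList, h p = p} :=
    Nat.card_congr
      { toFun := fun h => ⟨(h.1 : Equiv.Perm GolayPt), h.1.2, fun p hp => h.2 p (Finset.mem_toList.1 hp)⟩
        invFun := fun h => ⟨⟨h.1, h.2.1⟩, fun p hp => h.2.2 p (Finset.mem_toList.2 hp)⟩
        left_inv := fun _ => rfl
        right_inv := fun _ => rfl }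
  rw [hc]
  refine ⟨fun h => ?_, fun h => ?_⟩
  · rw [if_pos (hiff.2 h)] at hgx
    exact card_fix_six m24c_eq m24c_check drop6_c.2.2 drop6_c.1 drop6_c.2.1 hg hgx
  · rw [if_neg (fun h' => h (hiff.1 h'))] at hgx
    exact card_fix_six m24_eq m24a_check drop6_a.2.2 drop6_a.1 drop6_a.2.1 hg hgx

theorem card_fixer_le {S : Finset GolayPt} (hS : 6 ≤ S.card) : Nat.card (fixer S) ≤ 16 := by
  obtain ⟨T, hTS, hT⟩ := Finset.exists_subset_card_eq hS
  refine le_trans (Subgroup.card_le_of_le (fixer_anti hTS)) ?_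
  by_cases h : ∃ o ∈ octads, T ⊆ o
  · rw [(card_fixer_six hT).1 h]
  · rw [(card_fixer_six hT).2 h]; norm_num

theorem octad_card {o : Finset GolayPt} (ho : o ∈ octads) : o.card = 8 := ho.2

theorem smul_octad {o : Finset GolayPt} (ho : o ∈ octads) (g : ↥M24) : g • o ∈ octads :=
  smul_mem_wordsOfWeight g.2 ho

theorem smul_inter_card (g : ↥M24) (s t : Finset GolayPt) : (g • s ∩ g • t).card = (s ∩ t).card := by
  rw [← Finset.smul_finset_inter, Finset.card_smul_finset]

/-- Fixing an octad and a point outside it forces the identity. -/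
theorem fix_octad_point {o : Finset GolayPt} (ho : o ∈ octads) {a : GolayPt} (ha : a ∉ o) {g : ↥M24}
    (hg : g ∈ fixer o) (hga : g • a = a) : g = 1 := by
  classical
  obtain ⟨T, hTo, hT⟩ := Finset.exists_subset_card_eq (show 6 ≤ o.card by rw [octad_card ho]; norm_num)
  obtain ⟨A, hAo, hA⟩ := Finset.exists_subset_card_eq (show 5 ≤ o.card by rw [octad_card ho]; norm_num)
  have hno : ¬ ∃ o' ∈ octads, insert a A ⊆ o' := by
    rintro ⟨o', ho', hs⟩
    have he : o = o' := octad_eq_of_inter ho ho' (by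
      rw [← hA]; exact Finset.card_le_card (Finset.subset_inter hAo ((Finset.subset_insert _ _).trans hs)))
    exact ha (he ▸ hs (Finset.mem_insert_self a A))
  have h1 := Subgroup.orderOf_dvd_natCard (fixer T) (fixer_anti hTo hg)
  have h2 := Subgroup.orderOf_dvd_natCard (fixer (insert a A)) (x := g) (fun p hp => by
    rcases Finset.mem_insert.1 hp with rfl | hp
    · exact hga
    · exact hg p (hAo hp))
  rw [(card_fixer_six hT).1 ⟨o, ho, hTo⟩] at h1
  rw [(card_fixer_six (by rw [Finset.card_insert_of_notMem (fun h => ha (hAo h)), hA])).2 hno] at h2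
  exact orderOf_eq_one_iff.1 (Nat.eq_one_of_dvd_coprimes (by norm_num : Nat.Coprime 16 3) h1 h2)

theorem inter_octads {o o' : Finset GolayPt} (ho : o ∈ octads) (ho' : o' ∈ octads) :
    (o ∩ o').card = 0 ∨ (o ∩ o').card = 2 ∨ (o ∩ o').card = 4 ∨ o = o' := by
  by_cases h5 : 5 ≤ (o ∩ o').card
  · exact Or.inr (Or.inr (Or.inr (octad_eq_of_inter ho ho' h5)))
  obtain ⟨hs1, hs8⟩ := ho
  obtain ⟨ht1, ht8⟩ := ho'
  obtain ⟨a, ha, rfl⟩ := (mem_supports_iff o).mp hs1
  obtain ⟨b, hb, rfl⟩ := (mem_supports_iff o').mp ht1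
  have hsd : suppM (cw (a ^^^ b)) = symmDiff (suppM (cw a)) (suppM (cw b)) := by
    ext p
    simp only [mem_suppM, cw_xor, Nat.testBit_xor, Finset.mem_symmDiff]
    cases (cw a).testBit (ptIdx p) <;> cases (cw b).testBit (ptIdx p) <;> decide
  have hcard : (suppM (cw (a ^^^ b))).card + 2 * (suppM (cw a) ∩ suppM (cw b)).card = 16 := by
    rw [hsd, symmDiff_def, Finset.sup_eq_union, Finset.card_union_of_disjoint disjoint_sdiff_sdiff]
    have e1 := Finset.card_sdiff_add_card_inter (suppM (cw a)) (suppM (cw b))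
    have e2 := Finset.card_sdiff_add_card_inter (suppM (cw b)) (suppM (cw a))
    rw [Finset.inter_comm] at e2
    omega
  rw [card_suppM] at hcard
  rcases weight_cw (Nat.xor_lt_two_pow (n := 12) ha hb) with h1 | h1 | h1 | h1 | h1 <;> omega

theorem exists_octad {A : Finset GolayPt} (hA : A.card = 5) : ∃ o ∈ octads, A ⊆ o :=
  ((isSteinerSystem_octads.2 A hA).exists)

/-! ### Elements of prime order -/

/-- The fixed points. -/
noncomputable def Fx (g : ↥M24) : Finset GolayPt := Finset.univ.filter fun p => g • p = p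

theorem mem_Fx {g : ↥M24} {p : GolayPt} : p ∈ Fx g ↔ g • p = p := by simp [Fx]

theorem Fx_eq (g : ↥M24) : Fx g = BlockApp.M24Cent.fxg g := by
  ext p
  rw [mem_Fx, BlockApp.M24Cent.mem_fxg]
  rfl

theorem card_Fx_five {g : ↥M24} (hg : orderOf g = 5) : (Fx g).card = 4 := by
  have h := BlockApp.M24Cent.fix_count g (by norm_num : Nat.Prime 5) hg
  simp only [List.mem_cons, Prod.mk.injEq, List.not_mem_nil, or_false] at h
  rw [Fx_eq]; omega

theorem card_Fx_seven {g : ↥M24} (hg : orderOf g = 7) : (Fx g).card = 3 := by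
  have h := BlockApp.M24Cent.fix_count g (by norm_num : Nat.Prime 7) hg
  simp only [List.mem_cons, Prod.mk.injEq, List.not_mem_nil, or_false] at h
  rw [Fx_eq]; omega

theorem card_Fx_three {g : ↥M24} (hg : orderOf g = 3) : (Fx g).card ≤ 6 := by
  have h := BlockApp.M24Cent.fix_count g (by norm_num : Nat.Prime 3) hg
  simp only [List.mem_cons, Prod.mk.injEq, List.not_mem_nil, or_false] at h
  rw [Fx_eq]; omega

theorem smul_pow_fix {g : ↥M24} {X : Finset GolayPt} (h : g • X = X) : ∀ n : ℕ, g ^ n • X = X := by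
  intro n
  induction n with
  | zero => simp
  | succ n ih => rw [pow_succ, mul_smul, h, ih]

/-- The cycle of a moved point. -/
theorem exists_cycle {g : ↥M24} {p : ℕ} (hp : p.Prime) (hg : orderOf g = p) {Z : Finset GolayPt}
    (hZ : g • Z = Z) {a : GolayPt} (ha : a ∈ Z) (hmoved : a ∉ Fx g) :
    ∃ C : Finset GolayPt, a ∈ C ∧ C ⊆ Z ∧ C.card = p ∧ g • C = C ∧ Disjoint C (Fx g) := by
  classical
  let C : Finset GolayPt := (Set.toFinite (orbit ↥(Subgroup.zpowers g) a)).toFinset
  have hmem : ∀ v, v ∈ C ↔ v ∈ orbit ↥(Subgroup.zpowers g) a := fun v => Set.Finite.mem_toFinset _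
  refine ⟨C, (hmem a).2 (mem_orbit_self a), ?_, ?_, ?_, ?_⟩
  · intro v hv
    obtain ⟨⟨k, hk⟩, rfl⟩ := (hmem v).1 hv
    obtain ⟨n, rfl⟩ := mem_powers_iff_mem_zpowers.2 hk
    rw [← smul_pow_fix hZ n]
    exact Finset.smul_mem_smul_finset ha
  · rw [← Set.ncard_eq_toFinset_card _, ← index_stabilizer]
    have hd := Subgroup.index_dvd_card (stabilizer ↥(Subgroup.zpowers g) a)
    rw [Nat.card_zpowers, hg] at hd
    refine (hp.eq_one_or_self_of_dvd _ hd).resolve_left fun h1 => hmoved ?_
    rw [Subgroup.index_eq_one] at h1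
    exact mem_Fx.2 (h1.ge (Subgroup.mem_top (⟨g, Subgroup.mem_zpowers g⟩ : ↥(Subgroup.zpowers g))))
  · refine Finset.eq_of_subset_of_card_le (fun v hv => ?_) (Finset.card_smul_finset g C).ge
    obtain ⟨w, hw, rfl⟩ := Finset.mem_smul_finset.1 hv
    exact (hmem _).2 (mem_orbit_of_mem_orbit (⟨g, Subgroup.mem_zpowers g⟩ : ↥(Subgroup.zpowers g))
      ((hmem w).1 hw))
  · refine Finset.disjoint_left.2 fun v hv hvF => hmoved ?_
    obtain ⟨⟨k, hk⟩, rfl⟩ := (hmem v).1 hv
    obtain ⟨n, rfl⟩ := mem_powers_iff_mem_zpowers.2 hk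
    rw [mem_Fx] at hvF ⊢
    change g • (g ^ n • a) = g ^ n • a at hvF
    rw [← mul_smul, (Commute.refl g).pow_right n |>.eq, mul_smul] at hvF
    exact MulAction.injective _ hvF

theorem card_modEq {g : ↥M24} {p : ℕ} (hp : p.Prime) (hg : orderOf g = p) :
    ∀ Z : Finset GolayPt, g • Z = Z → Z.card % p = (Z ∩ Fx g).card % p := by
  classical
  intro Z
  induction Z using Finset.strongInduction with
  | H Z ih =>
    intro hZ
    by_cases h : ∃ a ∈ Z, a ∉ Fx g
    · obtain ⟨a, ha, hm⟩ := h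
      obtain ⟨C, haC, hCZ, hC, hgC, hd⟩ := exists_cycle hp hg hZ ha hm
      have h1 := ih (Z \ C) (Finset.sdiff_ssubset hCZ ⟨a, haC⟩)
        (by rw [Finset.smul_finset_sdiff, hZ, hgC])
      have h2 : (Z \ C) ∩ Fx g = Z ∩ Fx g := by
        ext v
        simp only [Finset.mem_inter, Finset.mem_sdiff]
        exact ⟨fun h => ⟨h.1.1, h.2⟩, fun h => ⟨⟨h.1, fun hv => Finset.disjoint_left.1 hd hv h.2⟩, h.2⟩⟩
      rw [h2, Finset.card_sdiff_of_subset hCZ, hC] at h1
      have h3 := Finset.card_le_card hCZ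
      rw [hC] at h3
      rw [← h1, ← Nat.sub_add_cancel h3, Nat.add_mod_right]
      simp
    · push Not at h
      rw [Finset.inter_eq_left.2 h]

theorem exists_cycle_five {x : ↥M24} (hx : orderOf x = 5) {Z : Finset GolayPt} (hZ : x • Z = Z)
    (hbig : (Z ∩ Fx x).card < Z.card) :
    ∃ C : Finset GolayPt, C ⊆ Z ∧ C.card = 5 ∧ x • C = C ∧ Disjoint C (Fx x) := by
  obtain ⟨a, ha, hm⟩ : ∃ a ∈ Z, a ∉ Fx x := by
    by_contra! h
    rw [Finset.inter_eq_left.2 h] at hbig
    exact lt_irrefl _ hbig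
  obtain ⟨C, -, h⟩ := exists_cycle (by norm_num) hx hZ ha hm
  exact ⟨C, h⟩

/-- An element of order five fixes the octad through a cycle, and three points of it. -/
theorem five_octad {x : ↥M24} (hx : orderOf x = 5) {C : Finset GolayPt} (hC : C.card = 5)
    (hxC : x • C = C) (hd : Disjoint C (Fx x)) :
    ∃ O ∈ octads, C ⊆ O ∧ x • O = O ∧ O \ C = O ∩ Fx x ∧ (O ∩ Fx x).card = 3 := by
  classical
  obtain ⟨O, hO, hCO⟩ := exists_octad hC
  have hxO : x • O = O := octad_eq_of_inter (smul_octad hO x) hO (by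
    rw [← hC]
    refine Finset.card_le_card (Finset.subset_inter ?_ hCO)
    rw [← hxC]; exact Finset.smul_finset_subset_smul_finset hCO)
  have h3 : (O \ C).card = 3 := by rw [Finset.card_sdiff_of_subset hCO, octad_card hO, hC]
  have hm := card_modEq (by norm_num) hx (O \ C) (by rw [Finset.smul_finset_sdiff, hxO, hxC])
  have hle := Finset.card_le_card (Finset.inter_subset_left : (O \ C) ∩ Fx x ⊆ O \ C)
  have heq : (O \ C) ∩ Fx x = O \ C :=
    Finset.eq_of_subset_of_card_le Finset.inter_subset_left (by rw [h3] at hm hle ⊢; omega)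
  have heq' : O \ C = O ∩ Fx x := by
    rw [← heq]
    ext v
    simp only [Finset.mem_inter, Finset.mem_sdiff]
    exact ⟨fun h => ⟨h.1.1, h.2⟩, fun h => ⟨⟨h.1, fun hv => Finset.disjoint_left.1 hd hv h.2⟩, h.2⟩⟩
  exact ⟨O, hO, hCO, hxO, heq', heq' ▸ h3⟩

/-! ### Invariant sets of a subgroup -/

variable (H : Subgroup ↥M24)

/-- Invariant under the stabiliser of `r` in `H`. -/
def Inv (r : GolayPt) (X : Finset GolayPt) : Prop := ∀ h ∈ H, h • r = r → h • X = X

/-- The hypotheses on a transitive subgroup whose point stabilisers have order `N`. -/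
structure Trans (N : ℕ) : Prop where
  move : ∀ a b : GolayPt, ∃ h ∈ H, h • a = b
  card : ∀ r : GolayPt, Nat.card ↥(stabilizer ↥H r) = N

variable {H}

theorem inv_sdiff {r : GolayPt} {X Y : Finset GolayPt} (hX : Inv H r X) (hY : Inv H r Y) :
    Inv H r (X \ Y) := fun h hh e => by rw [Finset.smul_finset_sdiff, hX h hh e, hY h hh e]

theorem inv_union {r : GolayPt} {X Y : Finset GolayPt} (hX : Inv H r X) (hY : Inv H r Y) :
    Inv H r (X ∪ Y) := fun h hh e => by rw [Finset.smul_finset_union, hX h hh e, hY h hh e]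

theorem inv_inter {r : GolayPt} {X Y : Finset GolayPt} (hX : Inv H r X) (hY : Inv H r Y) :
    Inv H r (X ∩ Y) := fun h hh e => by rw [Finset.smul_finset_inter, hX h hh e, hY h hh e]

theorem inv_point (r : GolayPt) : Inv H r {r} := fun h _ e => by
  rw [Finset.smul_finset_singleton, e]

theorem inv_univ (r : GolayPt) : Inv H r Finset.univ := fun h _ _ => Finset.smul_finset_univ

theorem inv_erase (r : GolayPt) : Inv H r (Finset.univ.erase r) := by
  rw [Finset.erase_eq]
  exact inv_sdiff (inv_univ r) (inv_point r)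

theorem inv_conj {r : GolayPt} {X : Finset GolayPt} (hX : Inv H r X) {g : ↥M24} (hg : g ∈ H) :
    Inv H (g • r) (g • X) := fun h hh e => by
  have h1 := hX (g⁻¹ * h * g) (mul_mem (mul_mem (inv_mem hg) hh) hg) (by
    rw [mul_smul, mul_smul, e, inv_smul_smul])
  rw [mul_smul, mul_smul, inv_smul_eq_iff] at h1
  exact h1

variable (H) in
/-- The orbit of a point under the stabiliser of `r`. -/
noncomputable def orb (r a : GolayPt) : Finset GolayPt :=
  (Set.toFinite (orbit ↥(stabilizer ↥H r) a)).toFinset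

theorem mem_orb_self (r a : GolayPt) : a ∈ orb H r a := by simp [orb, mem_orbit_self]

theorem inv_orb (r a : GolayPt) : Inv H r (orb H r a) := by
  intro h hh hr
  apply Finset.coe_injective
  simp only [orb, Finset.coe_smul_finset, Set.Finite.coe_toFinset]
  exact smul_orbit (⟨⟨h, hh⟩, hr⟩ : ↥(stabilizer ↥H r)) a

theorem orb_subset {r a : GolayPt} {X : Finset GolayPt} (hX : Inv H r X) (ha : a ∈ X) :
    orb H r a ⊆ X := by
  intro v hv
  simp only [orb, Set.Finite.mem_toFinset] at hv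
  obtain ⟨k, rfl⟩ := hv
  rw [← hX _ k.1.2 k.2]
  exact Finset.smul_mem_smul_finset ha

theorem card_orb_dvd {N : ℕ} (T : Trans H N) (r a : GolayPt) : (orb H r a).card ∣ N := by
  rw [orb, ← Set.ncard_eq_toFinset_card, ← index_stabilizer, ← T.card r]
  exact Subgroup.index_dvd_card _

theorem not_subset_orb {N : ℕ} (T : Trans H N) {r : GolayPt} {X : Finset GolayPt} (hX : Inv H r X)
    {a : GolayPt} (ha : a ∈ X) (hnd : ¬ X.card ∣ N) : (orb H r a).card < X.card ∧
      (X \ orb H r a).Nonempty := by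
  have hsub := orb_subset hX ha
  have hne : orb H r a ≠ X := fun e => hnd (e ▸ card_orb_dvd T r a)
  refine ⟨Finset.card_lt_card (hsub.ssubset_of_ne hne), ?_⟩
  rw [Finset.sdiff_nonempty]
  exact fun h => hne (Finset.Subset.antisymm hsub h)

theorem exists_elem {N : ℕ} (T : Trans H N) (r : GolayPt) {p : ℕ} [Fact p.Prime] (hp : p ∣ N) :
    ∃ x ∈ H, x • r = r ∧ orderOf x = p := by
  obtain ⟨x, hx⟩ := exists_prime_orderOf_dvd_card' (G := ↥(stabilizer ↥H r)) p ((T.card r).symm ▸ hp)
  refine ⟨((x : ↥H) : ↥M24), x.1.2, x.2, ?_⟩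
  rw [Subgroup.orderOf_coe, Subgroup.orderOf_coe, hx]

/-- A map on the stabiliser of `r` with fibres inside cosets of a fixer. -/
theorem card_stab_le {N : ℕ} (T : Trans H N) {r : GolayPt} {X A : Finset GolayPt} (hX : Inv H r X)
    (hA : A ⊆ X) : N ≤ X.card.descFactorial A.card * Nat.card (fixer (insert r A)) := by
  classical
  haveI := Fintype.ofFinite ↥(stabilizer ↥H r)
  haveI := Fintype.ofFinite ↥(fixer (insert r A))
  let val : ↥(stabilizer ↥H r) → ↥M24 := fun k => ((k : ↥H) : ↥M24)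
  have hmap : ∀ (k : ↥(stabilizer ↥H r)) (a : ↥A), val k • (a : GolayPt) ∈ X := fun k a => by
    rw [← hX (val k) k.1.2 k.2]; exact Finset.smul_mem_smul_finset (hA a.2)
  let ψ : ↥(stabilizer ↥H r) → (↥A ↪ ↥X) := fun k => ⟨fun a => ⟨_, hmap k a⟩, fun a b e =>
    Subtype.ext (MulAction.injective (val k) (congrArg Subtype.val e))⟩
  have hfib : ∀ e, (Finset.univ.filter fun k => ψ k = e).card ≤ Nat.card (fixer (insert r A)) := by
    intro e
    rcases (Finset.univ.filter fun k => ψ k = e).eq_empty_or_nonempty with h0 | ⟨k₀, hk₀⟩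
    · simp [h0]
    rw [Finset.mem_filter] at hk₀
    rw [Nat.card_eq_fintype_card, ← Fintype.card_coe]
    refine Fintype.card_le_of_injective (fun k => ⟨(val k₀)⁻¹ * val k.1, fun v hv => ?_⟩) ?_
    · rw [mul_smul, inv_smul_eq_iff]
      rcases Finset.mem_insert.1 hv with rfl | hv
      · exact (k.1.2).trans k₀.2.symm
      · exact congrArg Subtype.val
          (DFunLike.congr_fun ((Finset.mem_filter.1 k.2).2.trans hk₀.2.symm) ⟨v, hv⟩)
    · intro a b hab
      exact Subtype.ext (Subtype.ext (Subtype.ext (mul_left_cancel (congrArg Subtype.val hab))))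
  have h1 := Finset.card_le_mul_card_image (s := (Finset.univ : Finset ↥(stabilizer ↥H r))) (f := ψ)
    (Nat.card (fixer (insert r A))) (fun e _ => hfib e)
  have h2 := Finset.card_le_univ ((Finset.univ : Finset ↥(stabilizer ↥H r)).image ψ)
  rw [Fintype.card_embedding_eq, Fintype.card_coe, Fintype.card_coe] at h2
  rw [Finset.card_univ, ← Nat.card_eq_fintype_card, T.card r] at h1
  exact h1.trans ((Nat.mul_le_mul_left _ h2).trans_eq (Nat.mul_comm _ _))

/-- The kernel on an invariant set. -/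
theorem exists_kernel {N : ℕ} (T : Trans H N) {r : GolayPt} {X : Finset GolayPt} (hX : Inv H r X) :
    ∃ K : Subgroup ↥M24, K ≤ H ∧ K ≤ fixer (insert r X) ∧ N ∣ Nat.card K * X.card.factorial := by
  classical
  let K : Subgroup ↥M24 := H ⊓ fixer (insert r X)
  refine ⟨K, inf_le_left, inf_le_right, ?_⟩
  let φ : ↥(stabilizer ↥H r) →* Equiv.Perm ↥X :=
    { toFun := fun k => ((MulAction.toPerm ((k : ↥H) : ↥M24) : Equiv.Perm GolayPt)).subtypePerm
        (p := fun v => v ∈ X) (fun v => by
          simp only [MulAction.toPerm_apply]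
          conv_lhs => rw [← hX _ k.1.2 k.2]
          rw [Finset.smul_mem_smul_finset_iff])
      map_one' := Equiv.ext fun v => Subtype.ext (one_smul ↥M24 (v : GolayPt))
      map_mul' := fun a b => Equiv.ext fun v => Subtype.ext
        (mul_smul ((a : ↥H) : ↥M24) ((b : ↥H) : ↥M24) (v : GolayPt)) }
  have hker : Nat.card φ.ker = Nat.card K := Nat.card_congr
    { toFun := fun k => ⟨((k.1 : ↥H) : ↥M24), k.1.1.2, fun v hv => by
        rcases Finset.mem_insert.1 hv with rfl | hv
        · exact k.1.2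
        · exact congrArg Subtype.val (Equiv.ext_iff.1 (MonoidHom.mem_ker.1 k.2) ⟨v, hv⟩)⟩
      invFun := fun k => ⟨⟨⟨k.1, k.2.1⟩, k.2.2 r (Finset.mem_insert_self r X)⟩,
        MonoidHom.mem_ker.2 (Equiv.ext fun v => Subtype.ext (k.2.2 v (Finset.mem_insert_of_mem v.2)))⟩
      left_inv := fun _ => rfl
      right_inv := fun _ => rfl }
  have h1 := φ.ker.card_mul_index
  rw [Subgroup.index_ker, hker, T.card r] at h1
  rw [← h1]
  refine Nat.mul_dvd_mul_left _ ?_
  have h2 := φ.range.card_subgroup_dvd_card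
  rw [Nat.card_perm] at h2
  rwa [Nat.card_eq_finsetCard] at h2

end Cfsg.Agent.Compute.M24Index
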