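import Mathlib
import Cfsg.Agent.Compute.TwentyFourIndex

/-!
A transitive subgroup of M24 whose point stabilisers have order 5760, 13440 or 40320 has no point
stabiliser fixing a heptad, nor an invariant set of five to eight other points.
-/

set_option autoImplicit false

namespace Cfsg.Agent.Compute.M24Index

open Cfsg MulAction
open scoped Pointwise

variable {H : Subgroup ↥M24} {N : ℕ}

theorem card_stab_pt (r : GolayPt) : Nat.card ↥(stabilizer ↥M24 r) = 10200960 := by
  obtain ⟨e⟩ := nonempty_stab1 r
  rw [Nat.card_congr e.toEquiv, card_m23]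

theorem ncard_octads : octads.ncard = 759 := by
  rw [octads_eq_orbit]; exact octStab_spec.2.2.2

theorem orbit_dvd (T : Trans H N) {I : ℕ} (hI : N * I = 10200960) {r : GolayPt} {X : Finset GolayPt}
    (hX : Inv H r X) : (orbit ↥(stabilizer ↥M24 r) X).ncard ∣ I := by
  rw [← index_stabilizer]
  refine dvd_trans (Subgroup.index_dvd_of_le (H := H.subgroupOf (stabilizer ↥M24 r))
    (fun h hh => mem_stabilizer_iff.2 (hX (h : ↥M24) hh h.2))) (dvd_of_eq ?_)
  have h1 := (H.subgroupOf (stabilizer ↥M24 r)).card_mul_index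
  have h3 : Nat.card ↥(H.subgroupOf (stabilizer ↥M24 r)) = N := by
    rw [← T.card r]
    exact Nat.card_congr
      { toFun := fun v => ⟨⟨v.1.1, v.2⟩, v.1.2⟩
        invFun := fun v => ⟨⟨v.1.1, v.2⟩, v.1.2⟩
        left_inv := fun _ => rfl
        right_inv := fun _ => rfl }
  rw [h3, card_stab_pt, ← hI] at h1
  exact Nat.eq_of_mul_eq_mul_left (Nat.pos_of_ne_zero fun e => by rw [e, zero_mul] at hI; omega) h1

/-- The octads avoiding a point form one orbit of length 506. -/
theorem ncard_orbit_avoiding {o : Finset GolayPt} (ho : o ∈ octads) {r : GolayPt} (hr : r ∉ o) :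
    (orbit ↥(stabilizer ↥M24 r) o).ncard = 506 := by
  classical
  let O : Finset (Finset GolayPt) := (Set.toFinite octads).toFinset
  let A : GolayPt → Finset (Finset GolayPt) := fun v => O.filter fun w => v ∉ w
  have hO : ∀ w, w ∈ O ↔ w ∈ octads := fun w => Set.Finite.mem_toFinset _
  have horb : orbit ↥(stabilizer ↥M24 r) o = (A r : Set (Finset GolayPt)) := by
    ext w
    simp only [A, Finset.coe_filter, Set.mem_ofPred_eq, hO]
    constructor
    · rintro ⟨g, rfl⟩
      refine ⟨smul_octad ho g.1, fun h => hr ?_⟩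
      have h2 : (g : ↥M24) • r = r := g.2
      obtain ⟨v, hv, hgv⟩ := Finset.mem_smul_finset.1 h
      rwa [← MulAction.injective (g : ↥M24) (hgv.trans h2.symm)]
    · rintro ⟨hw, hrw⟩
      obtain ⟨a, ha, hao, hax⟩ := exists_move_octOut ho hr
      obtain ⟨b, hb, hbw, hbx⟩ := exists_move_octOut hw hrw
      refine ⟨⟨⟨b⁻¹ * a, mul_mem (inv_mem hb) ha⟩, ?_⟩, ?_⟩
      · show (b⁻¹ * a) • r = r
        rw [mul_smul, hax, ← hbx, inv_smul_smul]
      · show (b⁻¹ * a) • o = w
        rw [mul_smul, hao, ← hbw, inv_smul_smul]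
  rw [horb, Set.ncard_coe_finset]
  have hconst : ∀ v, (A v).card = (A r).card := by
    intro v
    obtain ⟨g, rfl⟩ := exists_move_pt r v
    rw [← Finset.card_smul_finset g (A r)]
    congr 1
    ext w
    rw [← Finset.inv_smul_mem_iff]
    simp only [A, Finset.mem_filter, hO, Finset.mem_inv_smul_finset_iff]
    refine and_congr ⟨fun h => smul_octad h g⁻¹, fun h => ?_⟩ Iff.rfl
    simpa using smul_octad h g
  have key := Finset.sum_card_bipartiteAbove_eq_sum_card_bipartiteBelow
    (fun (v : GolayPt) (w : Finset GolayPt) => v ∉ w) (s := Finset.univ) (t := O)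
  simp only [Finset.bipartiteAbove, Finset.bipartiteBelow] at key
  rw [Finset.sum_const_nat (fun v _ => hconst v), Finset.sum_const_nat (m := 16) fun w hw => by
      rw [Finset.filter_not, Finset.filter_mem_eq_inter, Finset.univ_inter,
        Finset.card_sdiff_of_subset (Finset.subset_univ w), octad_card ((hO w).1 hw), Finset.card_univ]
      rfl,
    ← Set.ncard_eq_toFinset_card, ncard_octads, Finset.card_univ, show Fintype.card GolayPt = 24 from rfl] at key
  omega

/-- The stabiliser of `r` fixes a heptad. -/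
def Hept (H : Subgroup ↥M24) (r : GolayPt) : Prop := ∃ o ∈ octads, r ∈ o ∧ Inv H r o

theorem hept_of_subset {r : GolayPt} {X o : Finset GolayPt} (hX : Inv H r X) (h5 : 5 ≤ X.card)
    (ho : o ∈ octads) (hs : insert r X ⊆ o) : Hept H r := by
  refine ⟨o, ho, hs (Finset.mem_insert_self r X), fun h hh e => ?_⟩
  refine octad_eq_of_inter (smul_octad ho h) ho (h5.trans ?_)
  refine Finset.card_le_card (Finset.subset_inter ?_ ((Finset.subset_insert _ _).trans hs))
  rw [← hX h hh e]
  exact Finset.smul_finset_subset_smul_finset ((Finset.subset_insert _ _).trans hs)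

theorem generic_or_octad {r : GolayPt} {X : Finset GolayPt} (hr : r ∉ X) (h5 : 5 ≤ X.card) :
    (∃ A, A ⊆ X ∧ A.card = 5 ∧ ¬ ∃ o ∈ octads, insert r A ⊆ o) ∨ ∃ o ∈ octads, insert r X ⊆ o := by
  classical
  by_contra! hc
  obtain ⟨h1, h2⟩ := hc
  obtain ⟨A, hAX, hA⟩ := Finset.exists_subset_card_eq h5
  obtain ⟨o, ho, hAo⟩ := h1 A hAX hA
  refine h2 o ho (Finset.insert_subset (hAo (Finset.mem_insert_self r A)) fun v hv => ?_)
  by_cases hvA : v ∈ A
  · exact hAo (Finset.mem_insert_of_mem hvA)
  obtain ⟨a, ha⟩ := Finset.card_pos.1 (show 0 < A.card by omega)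
  obtain ⟨o', ho', hAo'⟩ := h1 (insert v (A.erase a))
    (Finset.insert_subset hv ((Finset.erase_subset _ _).trans hAX)) (by
    rw [Finset.card_insert_of_notMem (fun e => hvA (Finset.mem_of_mem_erase e)),
      Finset.card_erase_of_mem ha, hA])
  have heq : o = o' := by
    refine octad_eq_of_inter ho ho' ?_
    calc 5 = (insert r (A.erase a)).card := by
          rw [Finset.card_insert_of_notMem (fun e => hr (hAX (Finset.mem_of_mem_erase e))),
            Finset.card_erase_of_mem ha, hA]
      _ ≤ _ := Finset.card_le_card fun w hw => by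
        rw [Finset.mem_insert] at hw
        exact Finset.mem_inter.2 ⟨hAo (Finset.mem_insert.2 (hw.imp id Finset.mem_of_mem_erase)),
          hAo' (Finset.mem_insert.2 (hw.imp id Finset.mem_insert_of_mem))⟩
  rw [heq]
  exact hAo' (Finset.mem_insert_of_mem (Finset.mem_insert_self v _))

variable (T : Trans H N) (hN : N = 5760 ∨ N = 13440 ∨ N = 40320)
include T hN

theorem five_dvd : 5 ∣ N := by rcases hN with rfl | rfl | rfl <;> norm_num

theorem exists_five (r : GolayPt) : ∃ x ∈ H, x • r = r ∧ orderOf x = 5 := by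
  haveI : Fact (Nat.Prime 5) := ⟨by norm_num⟩
  exact exists_elem T r (five_dvd T hN)

theorem no_five {r : GolayPt} {X : Finset GolayPt} (hX : Inv H r X) (hr : r ∉ X) (h : X.card = 5) :
    False := by
  have h1 := card_stab_le T hX (Finset.Subset.refl X)
  have h2 := card_fixer_le (S := insert r X) (by rw [Finset.card_insert_of_notMem hr, h])
  have h3 := h1.trans (Nat.mul_le_mul_left _ h2)
  rw [h] at h3
  norm_num [Nat.descFactorial] at h3
  omega

theorem hept_six_seven {r : GolayPt} {X : Finset GolayPt} (hX : Inv H r X) (hr : r ∉ X)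
    (h : X.card = 6 ∨ X.card = 7) : Hept H r := by
  classical
  rcases generic_or_octad hr (show 5 ≤ X.card by omega) with ⟨A, hAX, hA, hno⟩ | ⟨o, ho, hs⟩
  · exfalso
    have hc := (card_fixer_six (show (insert r A).card = 6 by
      rw [Finset.card_insert_of_notMem (fun e => hr (hAX e)), hA])).2 hno
    rcases h with h | h
    · have h1 := card_stab_le T hX hAX
      rw [h, hA, hc] at h1
      norm_num [Nat.descFactorial] at h1
      omega
    · obtain ⟨K, -, hK, hd⟩ := exists_kernel T hX
      have hK3 : Nat.card K ∣ 3 := hc ▸ Subgroup.card_dvd_of_le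
        (hK.trans (fixer_anti (Finset.insert_subset_insert r hAX)))
      rw [h] at hd
      have hd' := hd.trans (Nat.mul_dvd_mul_right hK3 _)
      rcases hN with rfl | rfl | rfl <;> norm_num [Nat.factorial] at hd'
  · exact hept_of_subset hX (by omega) ho hs

theorem hept_eight {I : ℕ} (hI : N * I = 10200960) {r : GolayPt} {X : Finset GolayPt} (hX : Inv H r X)
    (hr : r ∉ X) (h : X.card = 8) : Hept H r := by
  classical
  obtain ⟨x, hxH, hxr, hx⟩ := exists_five T hN r
  have hxX : x • X = X := hX x hxH hxr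
  have hF := card_Fx_five hx
  have hrF : r ∈ Fx x := mem_Fx.2 hxr
  have hsub : X ∩ Fx x ⊆ (Fx x).erase r := fun v hv => by
    rw [Finset.mem_inter] at hv
    exact Finset.mem_erase.2 ⟨fun e => hr (e ▸ hv.1), hv.2⟩
  have h3 := Finset.card_le_card hsub
  rw [Finset.card_erase_of_mem hrF, hF] at h3
  have hm := card_modEq (by norm_num) hx X hxX
  have hfix : X ∩ Fx x = (Fx x).erase r :=
    Finset.eq_of_subset_of_card_le hsub (by rw [Finset.card_erase_of_mem hrF, hF]; omega)
  obtain ⟨C, hCX, hC, hxC, hd⟩ := exists_cycle_five hx hxX (by omega)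
  obtain ⟨O, hO, hCO, -, hOC, hO3⟩ := five_octad hx hC hxC hd
  by_cases hrO : r ∈ O
  · have h7 : 7 ≤ (O ∩ X).card := by
      have hs : C ∪ (O ∩ Fx x).erase r ⊆ O ∩ X := by
        refine Finset.union_subset (Finset.subset_inter hCO hCX) fun v hv => ?_
        rw [Finset.mem_erase, Finset.mem_inter] at hv
        refine Finset.mem_inter.2 ⟨hv.2.1, ?_⟩
        have : v ∈ X ∩ Fx x := hfix ▸ Finset.mem_erase.2 ⟨hv.1, hv.2.2⟩
        exact (Finset.mem_inter.1 this).1
      have := Finset.card_le_card hs
      rw [Finset.card_union_of_disjoint, hC, Finset.card_erase_of_mem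
        (Finset.mem_inter.2 ⟨hrO, hrF⟩), hO3] at this
      · omega
      · exact Finset.disjoint_left.2 fun v hv hv' =>
          Finset.disjoint_left.1 hd hv (Finset.mem_inter.1 (Finset.mem_of_mem_erase hv')).2
    refine ⟨O, hO, hrO, fun g hg hgr => ?_⟩
    refine octad_eq_of_inter (smul_octad hO g) hO ?_
    have e1 : (g • O ∩ X).card = (O ∩ X).card := by
      conv_lhs => rw [← hX g hg hgr]
      exact smul_inter_card g O X
    have e2 := Finset.card_union_add_card_inter (g • O ∩ X) (O ∩ X)
    have e3 : (g • O ∩ X ∪ O ∩ X).card ≤ 8 :=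
      h ▸ Finset.card_le_card (Finset.union_subset Finset.inter_subset_right Finset.inter_subset_right)
    have e4 : ((g • O ∩ X) ∩ (O ∩ X)).card ≤ (g • O ∩ O).card := Finset.card_le_card fun v hv => by
      simp only [Finset.mem_inter] at hv ⊢; tauto
    omega
  · exfalso
    have hOX : O ⊆ X := by
      intro v hv
      by_cases hvC : v ∈ C
      · exact hCX hvC
      have h1 : v ∈ O ∩ Fx x := hOC ▸ Finset.mem_sdiff.2 ⟨hv, hvC⟩
      have h2 : v ∈ X ∩ Fx x := hfix ▸ Finset.mem_erase.2
        ⟨fun e => hrO (e ▸ hv), (Finset.mem_inter.1 h1).2⟩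
      exact (Finset.mem_inter.1 h2).1
    have hXO : O = X := Finset.eq_of_subset_of_card_le hOX (by rw [h, octad_card hO])
    have hd' := orbit_dvd T hI hX
    rw [← hXO, ncard_orbit_avoiding hO hrO] at hd'
    obtain ⟨c, rfl⟩ := hd'
    rcases hN with rfl | rfl | rfl <;> omega

/-- Outside a fixed heptad the stabiliser has no small orbits. -/
theorem outside_trans {r : GolayPt} {o : Finset GolayPt} (ho : o ∈ octads) (hro : r ∈ o)
    (hinv : Inv H r o) {Z : Finset GolayPt} (hZ : Inv H r Z) (hZo : Disjoint Z o) (hne : Z.Nonempty) :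
    Z = Finset.univ \ o := by
  classical
  have hout : ∀ {Z : Finset GolayPt}, Inv H r Z → Disjoint Z o → Z.Nonempty → 8 ≤ Z.card := by
    intro Z hZ hZo hne
    have hc : Inv H r (o.erase r) := by
      rw [Finset.erase_eq]; exact inv_sdiff hinv (inv_point r)
    obtain ⟨K, hKH, hK, hd⟩ := exists_kernel T hc
    rw [Finset.insert_erase hro] at hK
    rw [Finset.card_erase_of_mem hro, octad_card ho, show Nat.factorial (8 - 1) = 16 * 315 from rfl] at hd
    have h8 : 8 ∣ Nat.card K := by
      have h128 : 128 ∣ N := by rcases hN with rfl | rfl | rfl <;> norm_num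
      have h1 : 16 * 8 ∣ 16 * (Nat.card K * 315) := by
        rw [mul_left_comm]; exact h128.trans hd
      exact (by norm_num : Nat.Coprime 8 315).dvd_of_dvd_mul_right (Nat.dvd_of_mul_dvd_mul_left (by norm_num) h1)
    obtain ⟨a, ha⟩ := hne
    have hao : a ∉ o := Finset.disjoint_left.1 hZo ha
    haveI := Fintype.ofFinite ↥K
    have hle : Fintype.card ↥K ≤ Z.card := by
      rw [← Finset.card_univ]
      refine Finset.card_le_card_of_injOn (fun k : ↥K => (k : ↥M24) • a) (fun k _ => ?_) ?_
      · rw [Finset.mem_coe, ← hZ k (hKH k.2) (hK k.2 r hro)]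
        exact Finset.smul_mem_smul_finset ha
      · intro k _ k' _ e
        have h1 : (k'⁻¹ * k : ↥K) = 1 := Subtype.ext (fix_octad_point ho hao (hK (k'⁻¹ * k : ↥K).2) (by
          rw [Subgroup.coe_mul, Subgroup.coe_inv, mul_smul, inv_smul_eq_iff]; exact e))
        exact (inv_mul_eq_one.1 h1).symm
    rw [← Nat.card_eq_fintype_card] at hle
    exact le_trans (Nat.le_of_dvd Nat.card_pos h8) hle
  have hsub : Z ⊆ Finset.univ \ o := fun v hv =>
    Finset.mem_sdiff.2 ⟨Finset.mem_univ v, Finset.disjoint_left.1 hZo hv⟩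
  by_contra hne'
  have hcomp : ((Finset.univ \ o) \ Z).Nonempty :=
    Finset.sdiff_nonempty.2 fun h => hne' (Finset.Subset.antisymm hsub h)
  have h1 := hout hZ hZo hne
  have h2 := hout (inv_sdiff (inv_sdiff (inv_univ r) hinv) hZ)
    (Finset.disjoint_left.2 fun v hv hvo => (Finset.mem_sdiff.1 (Finset.mem_sdiff.1 hv).1).2 hvo) hcomp
  have hc16 : (Finset.univ \ o).card = 16 := by
    rw [Finset.card_sdiff_of_subset (Finset.subset_univ o), octad_card ho]; rfl
  rw [Finset.card_sdiff_of_subset hsub, hc16] at h2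
  have hZ8 : Z.card = 8 := by
    have := Finset.card_le_card hsub; omega
  -- an element of order five
  obtain ⟨x, hxH, hxr, hx⟩ := exists_five T hN r
  have hxo : x • o = o := hinv x hxH hxr
  have e1 := card_modEq (by norm_num) hx o hxo
  have e2 := card_modEq (by norm_num) hx Z (hZ x hxH hxr)
  have hF := card_Fx_five hx
  have e3 : (o ∩ Fx x ∪ Z ∩ Fx x).card ≤ 4 :=
    hF ▸ Finset.card_le_card (Finset.union_subset Finset.inter_subset_right Finset.inter_subset_right)
  rw [Finset.card_union_of_disjoint (Finset.disjoint_left.2 fun v hv hv' =>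
    Finset.disjoint_left.1 hZo (Finset.mem_inter.1 hv').1 (Finset.mem_inter.1 hv).1)] at e3
  rw [octad_card ho] at e1
  omega

/-- No point stabiliser fixes a heptad. -/
theorem hept_false {r₀ : GolayPt} (h₀ : Hept H r₀) : False := by
  classical
  have hex : ∀ r, Hept H r := by
    intro r
    obtain ⟨g, hg, rfl⟩ := T.move r₀ r
    obtain ⟨o, ho, hro, hinv⟩ := h₀
    exact ⟨g • o, smul_octad ho g, Finset.smul_mem_smul_finset hro, inv_conj hinv hg⟩
  choose oc hoc hmem hinv using hex
  have huniq : ∀ r o, o ∈ octads → r ∈ o → Inv H r o → o = oc r := by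
    intro r o ho hro hi
    by_contra hne
    have hne' : ¬ o ⊆ oc r := fun h => hne
      (Finset.eq_of_subset_of_card_le h (by rw [octad_card ho, octad_card (hoc r)]))
    have h1 := outside_trans T hN (hoc r) (hmem r) (hinv r) (inv_sdiff hi (hinv r))
      Finset.sdiff_disjoint (Finset.sdiff_nonempty.2 hne')
    have h2 := congrArg Finset.card h1
    rw [Finset.card_sdiff_of_subset (Finset.subset_univ _), Finset.card_univ, octad_card (hoc r),
      show Fintype.card GolayPt = 24 from rfl] at h2
    have h3 := Finset.card_le_card (Finset.sdiff_subset (s := o) (t := oc r))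
    rw [octad_card ho] at h3
    omega
  have hequiv : ∀ g ∈ H, ∀ r, g • oc r = oc (g • r) := fun g hg r =>
    huniq _ _ (smul_octad (hoc r) g) (Finset.smul_mem_smul_finset (hmem r)) (inv_conj (hinv r) hg)
  obtain ⟨r⟩ : Nonempty GolayPt := ⟨none⟩
  obtain ⟨x, hxH, hxr, hx⟩ := exists_five T hN r
  have hF := card_Fx_five hx
  have hfixed : ∀ a ∈ Fx x, (oc a ∩ Fx x).card = 3 := by
    intro a ha
    have hxa : x • a = a := mem_Fx.1 ha
    have hxo : x • oc a = oc a := hinv a x hxH hxa
    have e1 := card_modEq (by norm_num) hx (oc a) hxo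
    have e2 : (oc a ∩ Fx x).card ≤ 4 := hF ▸ Finset.card_le_card Finset.inter_subset_right
    rw [octad_card (hoc a)] at e1
    omega
  -- a point outside the heptad of `r`
  obtain ⟨e, heF, her⟩ : ∃ e ∈ Fx x, e ∉ oc r := by
    by_contra! hall
    have h1 := hfixed r (mem_Fx.2 hxr)
    rw [Finset.inter_eq_right.2 hall, hF] at h1
    omega
  let f : GolayPt → ℕ := fun a => (oc r ∩ oc a).card
  have hlevel : ∀ a ∉ oc r, f a = f e := by
    let Z := (Finset.univ \ oc r).filter fun a => f a = f e
    have hZ : Inv H r Z := by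
      intro g hg hgr
      refine Finset.eq_of_subset_of_card_le (fun v hv => ?_) (Finset.card_smul_finset g Z).ge
      obtain ⟨w, hw, rfl⟩ := Finset.mem_smul_finset.1 hv
      rw [Finset.mem_filter] at hw ⊢
      refine ⟨?_, ?_⟩
      · rw [← inv_sdiff (inv_univ r) (hinv r) g hg hgr]
        exact Finset.smul_mem_smul_finset hw.1
      · rw [← hw.2]
        show (oc r ∩ oc (g • w)).card = (oc r ∩ oc w).card
        rw [← hequiv g hg w]
        conv_lhs => rw [← hinv r g hg hgr]
        exact smul_inter_card g _ _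
    have h1 := outside_trans T hN (hoc r) (hmem r) (hinv r) hZ
      (Finset.disjoint_left.2 fun v hv hv' => (Finset.mem_sdiff.1 (Finset.mem_filter.1 hv).1).2 hv')
      ⟨e, Finset.mem_filter.2 ⟨Finset.mem_sdiff.2 ⟨Finset.mem_univ e, her⟩, rfl⟩⟩
    intro a ha
    exact (Finset.mem_filter.1 (show a ∈ Z by rw [h1]; exact Finset.mem_sdiff.2 ⟨Finset.mem_univ a, ha⟩)).2
  have he2 : f e = 2 ∨ f e = 4 := by
    rcases inter_octads (hoc r) (hoc e) with h | h | h | h
    · exfalso
      have h1 := hfixed e heF
      have h2 := hfixed r (mem_Fx.2 hxr)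
      have h3 : ((oc r ∩ Fx x) ∪ (oc e ∩ Fx x)).card ≤ 4 :=
        hF ▸ Finset.card_le_card (Finset.union_subset Finset.inter_subset_right Finset.inter_subset_right)
      rw [Finset.card_union_of_disjoint, h1, h2] at h3
      · omega
      · exact Finset.disjoint_left.2 fun v hv hv' => Finset.notMem_empty v (Finset.card_eq_zero.1 h ▸
          Finset.mem_inter.2 ⟨(Finset.mem_inter.1 hv).1, (Finset.mem_inter.1 hv').1⟩)
    · exact Or.inl h
    · exact Or.inr h
    · exact absurd (h.symm ▸ hmem e) her
  -- every point lies in eight heptads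
  have hconst : ∀ b : GolayPt, (Finset.univ.filter fun a => b ∈ oc a).card =
      (Finset.univ.filter fun a => r ∈ oc a).card := by
    intro b
    obtain ⟨g, hg, rfl⟩ := T.move r b
    rw [← Finset.card_smul_finset g (Finset.univ.filter fun a => r ∈ oc a)]
    congr 1
    ext v
    rw [← Finset.inv_smul_mem_iff]
    simp only [Finset.mem_filter, Finset.mem_univ, true_and]
    rw [← hequiv g⁻¹ (inv_mem hg) v, Finset.mem_inv_smul_finset_iff]
  have key := Finset.sum_card_bipartiteAbove_eq_sum_card_bipartiteBelow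
    (fun b a : GolayPt => b ∈ oc a) (s := Finset.univ) (t := Finset.univ)
  simp only [Finset.bipartiteAbove, Finset.bipartiteBelow] at key
  rw [Finset.sum_const_nat (fun b _ => hconst b), Finset.sum_const_nat (m := 8) fun a _ => by
    rw [Finset.filter_mem_eq_inter, Finset.univ_inter, octad_card (hoc a)], Finset.card_univ,
    show Fintype.card GolayPt = 24 from rfl] at key
  have key2 := Finset.sum_card_bipartiteAbove_eq_sum_card_bipartiteBelow
    (fun a b : GolayPt => b ∈ oc a) (s := Finset.univ) (t := oc r)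
  simp only [Finset.bipartiteAbove, Finset.bipartiteBelow] at key2
  rw [Finset.sum_const_nat (s := oc r) (m := 8) fun b _ => by rw [hconst b]; omega,
    octad_card (hoc r)] at key2
  simp only [Finset.filter_mem_eq_inter] at key2
  rw [← Finset.sum_sdiff (Finset.subset_univ (oc r)),
    Finset.sum_const_nat (s := Finset.univ \ oc r) (m := f e) (fun a ha => hlevel a (Finset.mem_sdiff.1 ha).2),
    Finset.card_sdiff_of_subset (Finset.subset_univ _), octad_card (hoc r), Finset.card_univ,
    show Fintype.card GolayPt = 24 from rfl, ← Finset.add_sum_erase _ _ (hmem r), Finset.inter_self,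
    octad_card (hoc r)] at key2
  -- the orbit of a cycle point inside the heptad
  have hc : Inv H r ((oc r).erase r) := by
    rw [Finset.erase_eq]; exact inv_sdiff (hinv r) (inv_point r)
  have hxc : x • (oc r).erase r = (oc r).erase r := hc x hxH hxr
  have hc7 : ((oc r).erase r).card = 7 := by
    rw [Finset.card_erase_of_mem (hmem r), octad_card (hoc r)]
  obtain ⟨a, ha, ham⟩ : ∃ a ∈ (oc r).erase r, a ∉ Fx x := by
    by_contra! hall
    have := Finset.card_le_card (show (oc r).erase r ⊆ Fx x from hall)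
    omega
  set D := orb H r a
  have hDc : D ⊆ (oc r).erase r := orb_subset hc ha
  have hD5 : 5 ≤ D.card := by
    obtain ⟨C, -, hCD, hC, -⟩ := exists_cycle (by norm_num) hx (inv_orb r a x hxH hxr)
      (mem_orb_self r a) ham
    exact hC ▸ Finset.card_le_card hCD
  have hrD : r ∉ D := fun h => (Finset.mem_erase.1 (hDc h)).1 rfl
  have hD6 : D.card ≠ 5 := fun h => no_five T hN (inv_orb r a) hrD h
  have hD7 := Finset.card_le_card hDc
  rw [hc7] at hD7
  have hfD : ∀ b ∈ D, f b = f a := by
    intro b hb
    simp only [D, orb, Set.Finite.mem_toFinset] at hb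
    obtain ⟨k, rfl⟩ := hb
    show (oc r ∩ oc (((k : ↥H) : ↥M24) • a)).card = (oc r ∩ oc a).card
    rw [← hequiv _ k.1.2 a]
    conv_lhs => rw [← hinv r _ k.1.2 k.2]
    exact smul_inter_card _ _ _
  rw [← Finset.sum_sdiff hDc, Finset.sum_const_nat (s := D) hfD] at key2
  have hrange : ∀ b ∈ oc r, f b = 2 ∨ f b = 4 ∨ f b = 8 := by
    intro b hb
    rcases inter_octads (hoc r) (hoc b) with h | h | h | h
    · exfalso
      exact Finset.notMem_empty b (Finset.card_eq_zero.1 h ▸ Finset.mem_inter.2 ⟨hb, hmem b⟩)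
    · exact Or.inl h
    · exact Or.inr (Or.inl h)
    · refine Or.inr (Or.inr ?_)
      show (oc r ∩ oc b).card = 8
      rw [← h, Finset.inter_self, octad_card (hoc r)]
  have hrest : (((oc r).erase r) \ D).card = 7 - D.card := by
    rw [Finset.card_sdiff_of_subset hDc, hc7]



  rcases (show D.card = 6 ∨ D.card = 7 by omega) with h6 | h6
  · rw [h6] at hrest
    obtain ⟨w, hw⟩ := Finset.card_eq_one.1 hrest
    rw [h6, hw, Finset.sum_singleton] at key2
    have hwr := hrange w (Finset.mem_of_mem_erase (Finset.mem_sdiff.1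
      (hw ▸ Finset.mem_singleton_self w : w ∈ (oc r).erase r \ D)).1)
    have har := hrange a (Finset.mem_of_mem_erase ha)

    simp only [f] at hwr har he2 key2
    rcases he2 with h | h <;> rcases hwr with h' | h' | h' <;> rcases har with h'' | h'' | h'' <;> omega
  · rw [h6] at hrest
    rw [h6, Finset.card_eq_zero.1 hrest, Finset.sum_empty] at key2
    have har := hrange a (Finset.mem_of_mem_erase ha)
    simp only [f] at har he2 key2
    rcases he2 with h | h <;> rcases har with h'' | h'' | h'' <;> omega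

/-- No invariant set of five to eight other points. -/
theorem mid_false {I : ℕ} (hI : N * I = 10200960) {r : GolayPt} {X : Finset GolayPt} (hX : Inv H r X)
    (hr : r ∉ X) (h5 : 5 ≤ X.card) (h8 : X.card ≤ 8) : False := by
  obtain h | h | h : X.card = 5 ∨ (X.card = 6 ∨ X.card = 7) ∨ X.card = 8 := by omega
  · exact no_five T hN hX hr h
  · exact hept_false T hN (hept_six_seven T hN hX hr h)
  · exact hept_false T hN (hept_eight T hN hI hX hr h)

end Cfsg.Agent.Compute.M24Index
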