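import Mathlib
import Cfsg.Agent.Compute.TwentyFourHeptad

/-!
The subgroups of M24 of index 759, 276, 1771 and 253.
-/

set_option autoImplicit false

namespace Cfsg.Agent.Compute.M24Index

open Cfsg MulAction
open scoped Pointwise

variable {H : Subgroup ↥M24} {N : ℕ}

/-! ### Tables -/

set_option synthInstance.maxSize 2000 in
theorem sizes_all : ∀ I ∈ [759, 276, 1771, 253], ∀ O < I + 1, O ∣ I → ∀ k < 13,
    k = 0 ∨ (I = 759 ∧ k = 8 ∧ O = 759) ∨ (I = 276 ∧ k = 2 ∧ O = 276) ∨
      ∃ t ∈ [1, 2, 3, 4, 5], ¬ (Nat.choose 24 t ∣ O * Nat.choose k t) := by decide +kernel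

set_option synthInstance.maxSize 2000 in
theorem sizes_point : ∀ I ∈ [759, 276, 1771, 253], ∀ O < I + 1, O ∣ I → ∀ k < 12,
    k = 0 ∨ k = 1 ∨ (I ≠ 276 ∧ (k = 2 ∨ (5 ≤ k ∧ k ≤ 8) ∨ (I = 1771 ∧ (k = 3 ∨ k = 10 ∨ k = 11)))) ∨
      ∃ t ∈ [1, 2, 3, 4], ¬ (Nat.choose 23 t ∣ O * Nat.choose k t) := by decide +kernel

set_option synthInstance.maxSize 2000 in
theorem sizes_pair : ∀ I ∈ [759, 276, 1771, 253], ∀ O < I + 1, O ∣ I → ∀ k < 12,
    k = 0 ∨ (I = 1771 ∧ (k = 6 ∨ k = 10)) ∨
      ∃ t ∈ [1, 2, 3], ¬ (Nat.choose 22 t ∣ O * Nat.choose k t) := by decide +kernel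

theorem pos_of_mem {I : ℕ} (h : I ∈ [759, 276, 1771, 253]) : 0 < I := by
  simp only [List.mem_cons, List.not_mem_nil, or_false] at h; omega

/-! ### Invariant sets of a point stabiliser -/

theorem point_sizes (T : Trans H N) {I : ℕ} (hI : N * I = 10200960) (hmem : I ∈ [759, 276, 1771, 253])
    {r : GolayPt} {X : Finset GolayPt} (hX : Inv H r X) (hr : r ∉ X) (hne : X.Nonempty) (h11 : X.card ≤ 11) :
    X.card = 1 ∨ (I ≠ 276 ∧ (X.card = 2 ∨ (5 ≤ X.card ∧ X.card ≤ 8) ∨
      (I = 1771 ∧ (X.card = 3 ∨ X.card = 10 ∨ X.card = 11)))) := by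
  have hd := orbit_dvd T hI hX
  rcases sizes_point I hmem _ (Nat.lt_succ_of_le (Nat.le_of_dvd (pos_of_mem hmem) hd)) hd X.card (by omega) with
    h | h | h | ⟨t, ht, hnd⟩
  · exact absurd h hne.card_pos.ne'
  · exact Or.inl h
  · exact Or.inr h
  · refine absurd ?_ hnd
    have h23 : ((Finset.univ : Finset GolayPt).erase r).card = 23 := by
      rw [Finset.card_erase_of_mem (Finset.mem_univ r), Finset.card_univ]; rfl
    suffices hs : Nat.choose ((Finset.univ : Finset GolayPt).erase r).card t ∣
        (orbit ↥(stabilizer ↥M24 r) X).ncard * X.card.choose t by rwa [h23] at hs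
    simp only [List.mem_cons, List.not_mem_nil, or_false] at ht
    refine M22Index.choose_dvd (fun g => ?_) (fun v hv => Finset.mem_erase.2 ⟨fun e => hr (by subst e; exact hv), Finset.mem_univ v⟩)
      fun A B hA hB hAt hBt => ?_
    · have hg : (g : ↥M24) • r = r := g.2
      show (g : ↥M24) • Finset.univ.erase r = Finset.univ.erase r
      rw [Finset.erase_eq, Finset.smul_finset_sdiff, Finset.smul_finset_univ, Finset.smul_finset_singleton, hg]
    · obtain ⟨g, hg, hgA⟩ := exists_fix_move [r] (A := A) (B := B) (by simp)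
        (by intro f hf h; simp at hf; exact (Finset.mem_erase.1 (hA h)).1 hf)
        (by intro f hf h; simp at hf; exact (Finset.mem_erase.1 (hB h)).1 hf)
        (hAt.trans hBt.symm) (by simp; omega)
      exact ⟨⟨g, hg r (by simp)⟩, hgA⟩

theorem pair_sizes (T : Trans H N) {I : ℕ} (hI : N * I = 10200960) (hmem : I ∈ [759, 276, 1771, 253])
    {r u : GolayPt} (hur : u ≠ r) (hu : Inv H r {u}) {X : Finset GolayPt} (hX : Inv H r X) (hr : r ∉ X)
    (hu' : u ∉ X) (hne : X.Nonempty) (h11 : X.card ≤ 11) : I = 1771 ∧ (X.card = 6 ∨ X.card = 10) := by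
  classical
  let G' := ↥(stabilizer ↥M24 r ⊓ stabilizer ↥M24 u)
  have hfix : ∀ h ∈ H, h • r = r → h • u = u := fun h hh e => by
    have := hu h hh e
    rwa [Finset.smul_finset_singleton, Finset.singleton_inj] at this
  have hG : Nat.card G' = 443520 := by
    obtain ⟨e⟩ := nonempty_stab2 r u hur.symm
    rw [Nat.card_congr e.toEquiv, card_m22]
  have hd : (orbit G' X).ncard ∣ I := by
    rw [← index_stabilizer]
    refine dvd_trans (Subgroup.index_dvd_of_le (H := H.subgroupOf (stabilizer ↥M24 r ⊓ stabilizer ↥M24 u))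
      (fun h hh => mem_stabilizer_iff.2 (hX (h : ↥M24) hh h.2.1))) ⟨23, ?_⟩
    have h1 := (H.subgroupOf (stabilizer ↥M24 r ⊓ stabilizer ↥M24 u)).card_mul_index
    have h3 : Nat.card ↥(H.subgroupOf (stabilizer ↥M24 r ⊓ stabilizer ↥M24 u)) = N := by
      rw [← T.card r]
      exact Nat.card_congr
        { toFun := fun v => ⟨⟨v.1.1, v.2⟩, v.1.2.1⟩
          invFun := fun v => ⟨⟨v.1.1, v.2, hfix _ v.1.2 v.2⟩, v.1.2⟩
          left_inv := fun _ => rfl
          right_inv := fun _ => rfl }
    rw [h3, hG] at h1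
    refine Nat.eq_of_mul_eq_mul_left (n := N) (Nat.pos_of_ne_zero fun e => by rw [e, zero_mul] at hI; omega) ?_
    rw [hI, ← mul_assoc, h1]; all_goals norm_num
  rcases sizes_pair I hmem _ (Nat.lt_succ_of_le (Nat.le_of_dvd (pos_of_mem hmem) hd)) hd X.card (by omega) with
    h | h | ⟨t, ht, hnd⟩
  · exact absurd h hne.card_pos.ne'
  · exact h
  · refine absurd ?_ hnd
    have h22 : (((Finset.univ : Finset GolayPt).erase r).erase u).card = 22 := by
      rw [Finset.card_erase_of_mem (Finset.mem_erase.2 ⟨hur, Finset.mem_univ u⟩),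
        Finset.card_erase_of_mem (Finset.mem_univ r), Finset.card_univ]
      rfl
    suffices hs : Nat.choose (((Finset.univ : Finset GolayPt).erase r).erase u).card t ∣
        (orbit G' X).ncard * X.card.choose t by rwa [h22] at hs
    simp only [List.mem_cons, List.not_mem_nil, or_false] at ht
    refine M22Index.choose_dvd (fun g => ?_) (fun v hv => Finset.mem_erase.2 ⟨fun e => hu' (by subst e; exact hv),
      Finset.mem_erase.2 ⟨fun e => hr (by subst e; exact hv), Finset.mem_univ v⟩⟩) fun A B hA hB hAt hBt => ?_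
    · have hgr : (g : ↥M24) • r = r := g.2.1
      have hgu : (g : ↥M24) • u = u := g.2.2
      change (g : ↥M24) • ((Finset.univ : Finset GolayPt).erase r).erase u = _
      rw [Finset.erase_eq, Finset.erase_eq, Finset.smul_finset_sdiff, Finset.smul_finset_sdiff,
        Finset.smul_finset_univ, Finset.smul_finset_singleton, Finset.smul_finset_singleton, hgr, hgu]
    · obtain ⟨g, hg, hgA⟩ := exists_fix_move [r, u] (A := A) (B := B) (by simp [hur.symm])
        (by intro f hf h
            have h1 := Finset.mem_erase.1 (hA h)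
            have h2 := Finset.mem_erase.1 h1.2
            simp at hf; tauto)
        (by intro f hf h
            have h1 := Finset.mem_erase.1 (hB h)
            have h2 := Finset.mem_erase.1 h1.2
            simp at hf; tauto)
        (hAt.trans hBt.symm) (by simp; omega)
      exact ⟨⟨g, hg r (by simp), hg u (by simp)⟩, hgA⟩

theorem exists_half (T : Trans H N) {r : GolayPt} {Z : Finset GolayPt} (hZ : Inv H r Z) (hne : Z.Nonempty)
    (hnd : ¬ Z.card ∣ N) : ∃ X, X ⊆ Z ∧ Inv H r X ∧ X.Nonempty ∧ 2 * X.card ≤ Z.card := by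
  obtain ⟨a, ha⟩ := hne
  obtain ⟨hlt, hne'⟩ := not_subset_orb T hZ ha hnd
  have hsub := orb_subset hZ ha
  by_cases h : 2 * (orb H r a).card ≤ Z.card
  · exact ⟨_, hsub, inv_orb r a, ⟨a, mem_orb_self r a⟩, h⟩
  · exact ⟨Z \ orb H r a, Finset.sdiff_subset, inv_sdiff hZ (inv_orb r a), hne', by
      rw [Finset.card_sdiff_of_subset hsub]; omega⟩

theorem card_erase_univ (r : GolayPt) : ((Finset.univ : Finset GolayPt).erase r).card = 23 := by
  rw [Finset.card_erase_of_mem (Finset.mem_univ r), Finset.card_univ]; rfl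

/-- In the small cases nothing else is fixed by the stabiliser of `r` and a point it fixes. -/
theorem second_point (T : Trans H N) {I : ℕ} (hI : N * I = 10200960) (hmem : I ∈ [759, 276, 1771, 253])
    (h11 : ¬ 22 ∣ N) {r u : GolayPt} (hur : u ≠ r) (hu : Inv H r {u}) :
    I = 1771 ∧ ∃ X : Finset GolayPt, Inv H r X ∧ r ∉ X ∧ u ∉ X ∧ (X.card = 6 ∨ X.card = 10) := by
  set Z := ((Finset.univ : Finset GolayPt).erase r).erase u with hZdef
  have hZ22 : Z.card = 22 := by
    rw [hZdef, Finset.card_erase_of_mem (Finset.mem_erase.2 ⟨hur, Finset.mem_univ u⟩), card_erase_univ]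
  have hZ : Inv H r Z := by
    rw [hZdef, Finset.erase_eq]; exact inv_sdiff (inv_erase r) hu
  obtain ⟨X, hXZ, hX, hne, h2⟩ := exists_half T hZ (Finset.card_pos.1 (by omega)) (by rwa [hZ22])
  have hr : r ∉ X := fun h => (Finset.mem_erase.1 (Finset.mem_of_mem_erase (hXZ h))).1 rfl
  have hu' : u ∉ X := fun h => (Finset.mem_erase.1 (hXZ h)).1 rfl
  obtain ⟨hI', hc⟩ := pair_sizes T hI hmem hur hu hX hr hu' hne (by omega)
  exact ⟨hI', X, hX, hr, hu', hc⟩

theorem singleton_unique (T : Trans H N) {I : ℕ} (hI : N * I = 10200960)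
    (hmem : I ∈ [759, 276, 1771, 253]) {r u u' : GolayPt} (hur : u ≠ r) (hu : Inv H r {u})
    (hur' : u' ≠ r) (hu' : Inv H r {u'}) : u' = u := by
  by_contra hne
  obtain ⟨-, h | h⟩ := pair_sizes T hI hmem hur hu hu' (by simp [hur'.symm]) (by simp [Ne.symm hne])
    (Finset.singleton_nonempty u') (by simp)
  all_goals simp at h

/-- The point fixed by a point stabiliser gives a pairing. -/
theorem pairing (T : Trans H N) {I : ℕ} (hI : N * I = 10200960) (hmem : I ∈ [759, 276, 1771, 253])
    {r₀ u₀ : GolayPt} (hur : u₀ ≠ r₀) (hu : Inv H r₀ {u₀}) :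
    ∃ s : GolayPt → GolayPt, (∀ r, s r ≠ r) ∧ (∀ r, Inv H r {s r}) ∧ (∀ r, s (s r) = r) ∧
      ∀ g ∈ H, ∀ r, g • s r = s (g • r) := by
  have hex : ∀ r, ∃ u, u ≠ r ∧ Inv H r {u} := by
    intro r
    obtain ⟨g, hg, rfl⟩ := T.move r₀ r
    refine ⟨g • u₀, fun e => hur (MulAction.injective g e), ?_⟩
    rw [← Finset.smul_finset_singleton]
    exact inv_conj hu hg
  choose s hs1 hs2 using hex
  refine ⟨s, hs1, hs2, fun r => ?_, fun g hg r => ?_⟩
  · refine (singleton_unique T hI hmem (hs1 (s r)) (hs2 (s r)) (hs1 r).symm ?_).symm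
    have hle : stabilizer ↥H r ≤ stabilizer ↥H (s r) := fun k hk => by
      have := hs2 r _ k.2 hk
      rw [Finset.smul_finset_singleton, Finset.singleton_inj] at this
      exact this
    have heq := Subgroup.eq_of_le_of_card_ge hle (by rw [T.card r, T.card (s r)])
    intro g hg e
    have h1 : (⟨g, hg⟩ : ↥H) ∈ stabilizer ↥H r := heq ▸ e
    rw [Finset.smul_finset_singleton, show g • r = r from h1]
  · refine singleton_unique T hI hmem (hs1 (g • r)) (hs2 _)
      (fun e => hs1 r (MulAction.injective g e)) ?_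
    rw [← Finset.smul_finset_singleton]
    exact inv_conj (hs2 r) hg

/-! ### Index 276 -/

theorem trans_276 (T : Trans H 36960) : False := by
  haveI : Fact (Nat.Prime 7) := ⟨by norm_num⟩
  have hI : 36960 * 276 = 10200960 := by norm_num
  have hmem : 276 ∈ [759, 276, 1771, 253] := by simp
  obtain ⟨r⟩ : Nonempty GolayPt := ⟨none⟩
  obtain ⟨X, hXsub, hX, hne, h2⟩ := exists_half T (inv_erase r)
    (Finset.card_pos.1 (by rw [card_erase_univ]; norm_num)) (by rw [card_erase_univ]; norm_num)
  rw [card_erase_univ] at h2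
  have hr : r ∉ X := fun h => (Finset.mem_erase.1 (hXsub h)).1 rfl
  rcases point_sizes T hI hmem hX hr hne (by omega) with h | ⟨h, -⟩
  swap
  · exact h rfl
  obtain ⟨u, rfl⟩ := Finset.card_eq_one.1 h
  obtain ⟨s, hs1, -, hss, hsg⟩ := pairing T hI hmem (fun e => hr (by simp [e])) hX
  obtain ⟨y, hyH, hyr, hy⟩ := exists_elem T r (p := 7) (by norm_num)
  have hF := card_Fx_seven hy
  let σ : ↥(Fx y) → ↥(Fx y) := fun a => ⟨s a, mem_Fx.2 (by rw [hsg y hyH, mem_Fx.1 a.2])⟩
  have hinv : Function.Involutive σ := fun a => Subtype.ext (hss a)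
  have h0 : (hinv.toPerm σ).supportᶜ = (∅ : Finset ↥(Fx y)) := by
    ext a
    simp only [Finset.mem_compl, Equiv.Perm.mem_support, not_not, Finset.notMem_empty, iff_false]
    exact fun e => hs1 a (congrArg Subtype.val e)
  haveI : Fact (Nat.Prime 2) := ⟨Nat.prime_two⟩
  have hσ := Equiv.Perm.card_compl_support_modEq (p := 2) (n := 1) (σ := hinv.toPerm σ)
    (Equiv.ext fun a => by simp [pow_two, hinv a])
  rw [h0, Finset.card_empty, Fintype.card_coe, hF] at hσ
  exact absurd hσ (by decide)

/-! ### Index 759 and 253 -/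

theorem trans_759_253 (T : Trans H N) (hN : N = 13440 ∨ N = 40320) : False := by
  classical
  haveI : Fact (Nat.Prime 7) := ⟨by norm_num⟩
  have hN' : N = 5760 ∨ N = 13440 ∨ N = 40320 := Or.inr hN
  obtain ⟨I, hI, hmem, h1771, h22⟩ : ∃ I, N * I = 10200960 ∧ I ∈ [759, 276, 1771, 253] ∧
      I ≠ 1771 ∧ ¬ 22 ∣ N := by
    rcases hN with rfl | rfl
    · exact ⟨759, by norm_num, by simp, by norm_num, by norm_num⟩
    · exact ⟨253, by norm_num, by simp, by norm_num, by norm_num⟩
  have h7 : 7 ∣ N := by rcases hN with rfl | rfl <;> norm_num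
  have hnd : ¬ 23 ∣ N := by rcases hN with rfl | rfl <;> norm_num
  -- every point stabiliser fixes a pair
  have hpair : ∀ r, ∃ P : Finset GolayPt, P.card = 2 ∧ r ∉ P ∧ Inv H r P := by
    intro r
    obtain ⟨X, hXsub, hX, hne, h2⟩ := exists_half T (inv_erase r)
      (Finset.card_pos.1 (by rw [card_erase_univ]; norm_num)) (by rwa [card_erase_univ])
    rw [card_erase_univ] at h2
    have hr : r ∉ X := fun h => (Finset.mem_erase.1 (hXsub h)).1 rfl
    rcases point_sizes T hI hmem hX hr hne (by omega) with h | ⟨-, h | h | h⟩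
    · obtain ⟨u, rfl⟩ := Finset.card_eq_one.1 h
      exact absurd (second_point T hI hmem h22 (fun e => hr (by simp [e])) hX).1 h1771
    · exact ⟨X, h, hr, hX⟩
    · exact (mid_false T hN' hI hX hr h.1 h.2).elim
    · exact absurd h.1 h1771
  choose P hP2 hPr hPinv using hpair
  -- the triangle is the fixed set of an element of order seven
  have hy : ∀ r, ∀ y ∈ H, orderOf y = 7 → y • r = r → insert r (P r) = Fx y := by
    intro r y hyH hy7 hyr
    have e1 := card_modEq (by norm_num) hy7 (P r) (hPinv r y hyH hyr)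
    have e2 := Finset.card_le_card (Finset.inter_subset_left : P r ∩ Fx y ⊆ P r)
    rw [hP2 r] at e1 e2
    have hsub : P r ⊆ Fx y := Finset.inter_eq_left.1
      (Finset.eq_of_subset_of_card_le Finset.inter_subset_left (by rw [hP2 r]; omega))
    refine Finset.eq_of_subset_of_card_le (Finset.insert_subset (mem_Fx.2 hyr) hsub) ?_
    rw [Finset.card_insert_of_notMem (hPr r), hP2 r, card_Fx_seven hy7]
  have hC : ∀ r, ∀ a ∈ P r, insert a (P a) = insert r (P r) := by
    intro r a ha
    obtain ⟨y, hyH, hyr, hy7⟩ := exists_elem T r (p := 7) h7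
    have h := hy r y hyH hy7 hyr
    have hya : y • a = a := mem_Fx.1 (h ▸ Finset.mem_insert_of_mem ha)
    rw [h, hy a y hyH hy7 hya]
  obtain ⟨r⟩ : Nonempty GolayPt := ⟨none⟩
  obtain ⟨x, hxH, hxr, hx⟩ := exists_five T hN' r
  have hF := card_Fx_five hx
  have hsub : ∀ a ∈ Fx x, insert a (P a) ⊆ Fx x := by
    intro a ha
    have e1 := card_modEq (by norm_num) hx (P a) (hPinv a x hxH (mem_Fx.1 ha))
    have e2 := Finset.card_le_card (Finset.inter_subset_left : P a ∩ Fx x ⊆ P a)
    rw [hP2 a] at e1 e2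
    exact Finset.insert_subset ha (Finset.inter_eq_left.1
      (Finset.eq_of_subset_of_card_le Finset.inter_subset_left (by rw [hP2 a]; omega)))
  have hC3 : ∀ a, (insert a (P a)).card = 3 := fun a => by
    rw [Finset.card_insert_of_notMem (hPr a), hP2 a]
  obtain ⟨e, he, her⟩ : ∃ e ∈ Fx x, e ∉ insert r (P r) := by
    by_contra! hall
    have := Finset.card_le_card hall
    rw [hF, hC3] at this
    omega
  have hCC : ∀ a, ∀ w ∈ insert a (P a), insert w (P w) = insert a (P a) := fun a w hw => by
    rcases Finset.mem_insert.1 hw with rfl | hw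
    · rfl
    · exact hC a w hw
  have hd : Disjoint (insert r (P r)) (insert e (P e)) := Finset.disjoint_left.2 fun w hw hw' => her (by
    rw [← hCC r w hw, hCC e w hw']; exact Finset.mem_insert_self e _)
  have := Finset.card_le_card (Finset.union_subset (hsub r (mem_Fx.2 hxr)) (hsub e he))
  rw [Finset.card_union_of_disjoint hd, hC3, hC3, hF] at this
  omega

/-! ### Index 1771 -/

theorem no_singleton (T : Trans H 5760) {r₀ u₀ : GolayPt} (hur : u₀ ≠ r₀) (hu : Inv H r₀ {u₀}) : False := by
  classical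
  have hI : 5760 * 1771 = 10200960 := by norm_num
  have hmem : 1771 ∈ [759, 276, 1771, 253] := by simp
  have hN : (5760 : ℕ) = 5760 ∨ (5760 : ℕ) = 13440 ∨ (5760 : ℕ) = 40320 := Or.inl rfl
  obtain ⟨s, hs1, hs2, hss, hsg⟩ := pairing T hI hmem hur hu
  obtain ⟨-, X, hX, hr, hu', hc⟩ := second_point T hI hmem (by norm_num) (hs1 r₀) (hs2 r₀)
  rcases hc with h | h
  · exact mid_false T hN hI hX hr (by omega) (by omega)
  have hne : X.Nonempty := Finset.card_pos.1 (by omega)
  -- the pairing preserves the ten points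
  have hsX : X.image s = X := by
    have hsinj : Function.Injective s := Function.LeftInverse.injective hss
    have hY : Inv H r₀ (X.image s) := by
      intro g hg e
      conv_rhs => rw [← hX g hg e]
      rw [Finset.smul_finset_def, Finset.smul_finset_def, Finset.image_image, Finset.image_image]
      exact Finset.image_congr fun v _ => hsg g hg v
    have hYr : r₀ ∉ X.image s := fun h => by
      obtain ⟨v, hv, e⟩ := Finset.mem_image.1 h
      exact hu' (by rw [← e, hss]; exact hv)
    have hYu : s r₀ ∉ X.image s := fun h => by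
      obtain ⟨v, hv, e⟩ := Finset.mem_image.1 h
      exact hr (hsinj e ▸ hv)
    have hYc : (X.image s).card = 10 := by rw [Finset.card_image_of_injective _ hsinj, h]
    rcases (X ∩ X.image s).eq_empty_or_nonempty with h0 | h0
    · exfalso
      set Z := (((Finset.univ : Finset GolayPt).erase r₀).erase (s r₀)) \ (X ∪ X.image s)
      have hZc : Z.card = 2 := by
        rw [Finset.card_sdiff_of_subset, Finset.card_erase_of_mem
          (Finset.mem_erase.2 ⟨hs1 r₀, Finset.mem_univ _⟩), card_erase_univ,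
          Finset.card_union_of_disjoint (Finset.disjoint_iff_inter_eq_empty.2 h0), h, hYc]
        intro v hv
        refine Finset.mem_erase.2 ⟨fun e => ?_, Finset.mem_erase.2 ⟨fun e => ?_, Finset.mem_univ v⟩⟩
        · rcases Finset.mem_union.1 hv with hv | hv
          · exact hu' (e ▸ hv)
          · exact hYu (e ▸ hv)
        · rcases Finset.mem_union.1 hv with hv | hv
          · exact hr (e ▸ hv)
          · exact hYr (e ▸ hv)
      have hZi : Inv H r₀ Z := by
        refine inv_sdiff ?_ (inv_union hX hY)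
        rw [Finset.erase_eq]; exact inv_sdiff (inv_erase r₀) (hs2 r₀)
      have hnot : r₀ ∉ Z ∧ s r₀ ∉ Z := by simp [Z]
      obtain ⟨-, h' | h'⟩ := pair_sizes T hI hmem (hs1 r₀) (hs2 r₀) hZi hnot.1 hnot.2
        (Finset.card_pos.1 (by omega)) (by omega)
      all_goals omega
    · obtain ⟨-, h' | h'⟩ := pair_sizes T hI hmem (hs1 r₀) (hs2 r₀) (inv_inter hX hY)
        (fun hm => hr (Finset.mem_inter.1 hm).1) (fun hm => hu' (Finset.mem_inter.1 hm).1) h0
        ((Finset.card_le_card Finset.inter_subset_left).trans (by omega))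
      · exact (mid_false T hN hI (inv_inter hX hY) (fun hm => hr (Finset.mem_inter.1 hm).1)
          (by omega) (by omega)).elim
      · have e1 : X ∩ X.image s = X := Finset.eq_of_subset_of_card_le Finset.inter_subset_left (by omega)
        have e2 : X ∩ X.image s = X.image s :=
          Finset.eq_of_subset_of_card_le Finset.inter_subset_right (by omega)
        exact e2.symm.trans e1
  -- a group of order nine on the ten points
  haveI : Fact (Nat.Prime 3) := ⟨by norm_num⟩
  obtain ⟨P, hP⟩ := Sylow.exists_subgroup_card_pow_prime (G := ↥(stabilizer ↥H r₀)) 3 (n := 2)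
    (by rw [T.card r₀]; norm_num)
  let val : ↥P → ↥M24 := fun k => (((k : ↥(stabilizer ↥H r₀)) : ↥H) : ↥M24)
  have hvr : ∀ k : ↥P, val k • r₀ = r₀ := fun k => k.1.2
  have hvH : ∀ k : ↥P, val k ∈ H := fun k => k.1.1.2
  letI : MulAction ↥P ↥X :=
    { smul := fun k v => ⟨val k • (v : GolayPt), by
        have h := Finset.smul_mem_smul_finset (a := val k) v.2
        rwa [hX _ (hvH k) (hvr k)] at h⟩
      one_smul := fun v => Subtype.ext (one_smul ↥M24 (v : GolayPt))
      mul_smul := fun a b v => Subtype.ext (mul_smul (val a) (val b) (v : GolayPt)) }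
  haveI := Fintype.ofFinite ↥P
  haveI := fun k : ↥P => Fintype.ofFinite (MulAction.fixedBy ↥X k)
  haveI := Fintype.ofFinite (MulAction.orbitRel.Quotient ↥P ↥X)
  have key := MulAction.sum_card_fixedBy_eq_card_orbits_mul_card_group ↥P ↥X
  have hfix : ∀ k : ↥P, k ≠ 1 → Fintype.card (MulAction.fixedBy ↥X k) = 4 := by
    intro k hk
    let σ : Equiv.Perm ↥X := MulAction.toPerm k
    have hk9 : k ^ 3 ^ 2 = 1 := by rw [← hP]; exact pow_card_eq_one'
    have hcompl : σ.supportᶜ.card = Fintype.card (MulAction.fixedBy ↥X k) := by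
      rw [Fintype.card_subtype]
      congr 1
      ext v
      simp [σ, MulAction.mem_fixedBy]
    have h3 := Equiv.Perm.card_compl_support_modEq (p := 3) (n := 2) (σ := σ) (by
      show MulAction.toPermHom ↥P ↥X k ^ 3 ^ 2 = 1
      rw [← map_pow, hk9, map_one])
    rw [hcompl, Fintype.card_coe, h] at h3
    -- even, because of the pairing
    let τ : ↥(MulAction.fixedBy ↥X k) → ↥(MulAction.fixedBy ↥X k) := fun v =>
      ⟨⟨s v.1, by
          have h := Finset.mem_image_of_mem s v.1.2
          rwa [hsX] at h⟩, Subtype.ext (by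
        show val k • s (v.1 : GolayPt) = s v.1
        rw [hsg _ (hvH k), show val k • (v.1 : GolayPt) = v.1 from congrArg Subtype.val v.2])⟩
    have hτ : Function.Involutive τ := fun v => Subtype.ext (Subtype.ext (hss _))
    have h0 : (hτ.toPerm τ).supportᶜ = (∅ : Finset ↥(MulAction.fixedBy ↥X k)) := by
      ext a
      simp only [Finset.mem_compl, Equiv.Perm.mem_support, not_not, Finset.notMem_empty, iff_false]
      exact fun e => hs1 (a.1 : GolayPt) (congrArg (fun v => ((v.1 : ↥X) : GolayPt)) e)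
    haveI : Fact (Nat.Prime 2) := ⟨Nat.prime_two⟩
    have h2 := Equiv.Perm.card_compl_support_modEq (p := 2) (n := 1) (σ := hτ.toPerm τ)
      (Equiv.ext fun a => by simp [pow_two, hτ a])
    rw [h0, Finset.card_empty] at h2
    -- at most four, as an element of order three fixes at most six points
    have ho1 : orderOf k ∣ 3 ^ 2 := orderOf_dvd_of_pow_eq_one hk9
    obtain ⟨j, hj, hoj⟩ := (Nat.dvd_prime_pow (by norm_num : Nat.Prime 3)).1 ho1
    have hj0 : j ≠ 0 := fun e => hk (orderOf_eq_one_iff.1 (by rw [hoj, e, pow_zero]))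
    have ho : orderOf (val (k ^ (orderOf k / 3))) = 3 := by
      rw [show orderOf (val (k ^ (orderOf k / 3))) = orderOf (k ^ (orderOf k / 3)) by
        rw [← Subgroup.orderOf_coe (k ^ (orderOf k / 3)), ← Subgroup.orderOf_coe
          ((k ^ (orderOf k / 3) : ↥P) : ↥(stabilizer ↥H r₀)), ← Subgroup.orderOf_coe
          (((k ^ (orderOf k / 3) : ↥P) : ↥(stabilizer ↥H r₀)) : ↥H)]]
      exact orderOf_pow_orderOf_div (orderOf_pos k).ne' (hoj ▸ dvd_pow_self 3 hj0)
    have h6 := card_Fx_three ho
    have hle : Fintype.card (MulAction.fixedBy ↥X k) + 2 ≤ 6 := by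
      refine le_trans ?_ h6
      have hs : ({r₀, s r₀} : Finset GolayPt) ∪
          ((Finset.univ : Finset ↥(MulAction.fixedBy ↥X k)).image fun v => ((v.1 : ↥X) : GolayPt)) ⊆
          Fx (val (k ^ (orderOf k / 3))) := by
        intro v hv
        rw [mem_Fx]
        rcases Finset.mem_union.1 hv with hv | hv
        · rcases Finset.mem_insert.1 hv with rfl | hv
          · exact hvr _
          · rw [Finset.mem_singleton] at hv
            subst hv
            rw [hsg _ (hvH _), hvr]
        · obtain ⟨w, -, rfl⟩ := Finset.mem_image.1 hv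
          have hw : k ^ (orderOf k / 3) • (w.1 : ↥X) = w.1 :=
            (mem_stabilizer_iff.1 (pow_mem (mem_stabilizer_iff.2 w.2 : k ∈ stabilizer ↥P (w.1 : ↥X)) _))
          exact congrArg Subtype.val hw
      refine le_trans (le_of_eq ?_) (Finset.card_le_card hs)
      rw [Finset.card_union_of_disjoint, Finset.card_pair (hs1 r₀).symm, Finset.card_image_of_injective,
        Finset.card_univ, add_comm]
      · exact fun a b e => Subtype.ext (Subtype.ext e)
      · refine Finset.disjoint_left.2 fun v hv hv' => ?_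
        obtain ⟨w, -, rfl⟩ := Finset.mem_image.1 hv'
        rcases Finset.mem_insert.1 hv with e | e
        · exact hr (e ▸ w.1.2)
        · exact hu' ((Finset.mem_singleton.1 e) ▸ w.1.2)
    unfold Nat.ModEq at h2 h3
    omega
  rw [← Finset.add_sum_erase _ _ (Finset.mem_univ (1 : ↥P)),
    Finset.sum_const_nat (m := 4) fun k hk => hfix k (Finset.ne_of_mem_erase hk)] at key
  have h1 : Fintype.card (MulAction.fixedBy ↥X (1 : ↥P)) = 10 := by
    rw [← Nat.card_eq_fintype_card, MulAction.fixedBy_one_eq_univ, Nat.card_univ, Nat.card_eq_fintype_card,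
      Fintype.card_coe, h]
  rw [h1, Finset.card_erase_of_mem (Finset.mem_univ _), Finset.card_univ, ← Nat.card_eq_fintype_card (α := ↥P), hP] at key
  omega

theorem exists_triple (T : Trans H 5760) (r : GolayPt) :
    ∃ X : Finset GolayPt, X.card = 3 ∧ r ∉ X ∧ Inv H r X := by
  classical
  have hI : 5760 * 1771 = 10200960 := by norm_num
  have hmem : 1771 ∈ [759, 276, 1771, 253] := by simp
  have hN : (5760 : ℕ) = 5760 ∨ (5760 : ℕ) = 13440 ∨ (5760 : ℕ) = 40320 := Or.inl rfl
  have no1 : ∀ X : Finset GolayPt, Inv H r X → r ∉ X → X.card ≠ 1 := fun X hX hr h => by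
    obtain ⟨u, rfl⟩ := Finset.card_eq_one.1 h
    exact no_singleton T (fun e => hr (by simp [e])) hX
  have cases' : ∀ X : Finset GolayPt, Inv H r X → r ∉ X → X.Nonempty → X.card ≤ 11 →
      X.card = 2 ∨ X.card = 3 ∨ X.card = 10 ∨ X.card = 11 := fun X hX hr hne h11 => by
    rcases point_sizes T hI hmem hX hr hne h11 with h | ⟨-, h | h | ⟨-, h⟩⟩
    · exact absurd h (no1 X hX hr)
    · exact Or.inl h
    · exact (mid_false T hN hI hX hr h.1 h.2).elim
    · exact Or.inr h
  -- no pair
  have no2 : ∀ X : Finset GolayPt, Inv H r X → r ∉ X → X.card ≠ 2 := by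
    intro P hP hr hP2
    have hsub : P ⊆ Finset.univ.erase r := fun v hv => Finset.mem_erase.2 ⟨fun e => hr (e ▸ hv), Finset.mem_univ v⟩
    set Z := (Finset.univ.erase r) \ P
    have hZ21 : Z.card = 21 := by rw [Finset.card_sdiff_of_subset hsub, card_erase_univ, hP2]
    have step : ∀ X : Finset GolayPt, X ⊆ Z → Inv H r X → X.Nonempty → X.card ≤ 9 → False := by
      intro X hXZ hX hne h9
      have hrX : r ∉ X := fun h => (Finset.mem_erase.1 (Finset.mem_sdiff.1 (hXZ h)).1).1 rfl
      have hd : Disjoint P X := Finset.disjoint_left.2 fun v hv hv' => (Finset.mem_sdiff.1 (hXZ hv')).2 hv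
      have hu : (P ∪ X).card = 2 + X.card := by rw [Finset.card_union_of_disjoint hd, hP2]
      have hru : r ∉ P ∪ X := by simp [hr, hrX]
      have h1 := cases' X hX hrX hne (by omega)
      have h2 := cases' (P ∪ X) (inv_union hP hX) hru (hne.mono Finset.subset_union_right) (by omega)
      omega
    obtain ⟨X, hXZ, hX, hne, h2⟩ := exists_half T (Z := Z) (inv_sdiff (inv_erase r) hP)
      (Finset.card_pos.1 (by omega)) (by rw [hZ21]; norm_num)
    rw [hZ21] at h2
    by_cases h9 : X.card ≤ 9
    · exact step X hXZ hX hne h9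
    have h10 : X.card = 10 := by omega
    obtain ⟨Y, hYZ, hY, hne', h2'⟩ := exists_half T (inv_sdiff (inv_sdiff (inv_erase r) hP) hX)
      (Finset.card_pos.1 (by rw [Finset.card_sdiff_of_subset hXZ, hZ21, h10]; norm_num))
      (by rw [Finset.card_sdiff_of_subset hXZ, hZ21, h10]; norm_num)
    rw [Finset.card_sdiff_of_subset hXZ, hZ21, h10] at h2'
    exact step Y (hYZ.trans Finset.sdiff_subset) hY hne' (by omega)
  obtain ⟨X, hXsub, hX, hne, h2⟩ := exists_half T (inv_erase r)
    (Finset.card_pos.1 (by rw [card_erase_univ]; norm_num)) (by rw [card_erase_univ]; norm_num)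
  rw [card_erase_univ] at h2
  have hr : r ∉ X := fun h => (Finset.mem_erase.1 (hXsub h)).1 rfl
  have finish : ∀ W : Finset GolayPt, Inv H r W → r ∉ W → W.Nonempty → W.card ≤ 6 → W.card = 3 := by
    intro W hW hrW hneW h6
    have h1 := cases' W hW hrW hneW (by omega)
    have := no2 W hW hrW
    omega
  rcases cases' X hX hr hne (by omega) with h | h | h | h
  · exact absurd h (no2 X hX hr)
  · exact ⟨X, h, hr, hX⟩
  · obtain ⟨Y, hYs, hY, hne', h2'⟩ := exists_half T (inv_sdiff (inv_erase r) hX)
      (Finset.card_pos.1 (by rw [Finset.card_sdiff_of_subset hXsub, card_erase_univ, h]; norm_num))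
      (by rw [Finset.card_sdiff_of_subset hXsub, card_erase_univ, h]; norm_num)
    rw [Finset.card_sdiff_of_subset hXsub, card_erase_univ, h] at h2'
    have hrY : r ∉ Y := fun hh => (Finset.mem_erase.1 (Finset.mem_sdiff.1 (hYs hh)).1).1 rfl
    exact ⟨Y, finish Y hY hrY hne' (by omega), hrY, hY⟩
  · obtain ⟨Y, hYs, hY, hne', h2'⟩ := exists_half T hX hne (by rw [h]; norm_num)
    exact ⟨Y, finish Y hY (fun hh => hr (hYs hh)) hne' (by omega), fun hh => hr (hYs hh), hY⟩

theorem trans_1771 (T : Trans H 5760) : ∃ S ∈ sextets, ∀ h ∈ H, h • S = S := by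
  classical
  have hN : (5760 : ℕ) = 5760 ∨ (5760 : ℕ) = 13440 ∨ (5760 : ℕ) = 40320 := Or.inl rfl
  choose X hX3 hXr hXi using exists_triple T
  let C : GolayPt → Finset GolayPt := fun r => insert r (X r)
  have hC4 : ∀ r, (C r).card = 4 := fun r => by rw [Finset.card_insert_of_notMem (hXr r), hX3 r]
  have hCx : ∀ r, ∀ x ∈ H, orderOf x = 5 → x • r = r → C r = Fx x := by
    intro r x hxH hx hxr
    have e1 := card_modEq (by norm_num) hx (X r) (hXi r x hxH hxr)
    have e2 := Finset.card_le_card (Finset.inter_subset_left : X r ∩ Fx x ⊆ X r)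
    rw [hX3 r] at e1 e2
    have hsub : X r ⊆ Fx x := Finset.inter_eq_left.1
      (Finset.eq_of_subset_of_card_le Finset.inter_subset_left (by rw [hX3 r]; omega))
    refine Finset.eq_of_subset_of_card_le (Finset.insert_subset (mem_Fx.2 hxr) hsub) ?_
    rw [hC4, card_Fx_five hx]
  have hCC : ∀ r, ∀ a ∈ C r, C a = C r := by
    intro r a ha
    obtain ⟨x, hxH, hxr, hx⟩ := exists_five T hN r
    have h := hCx r x hxH hx hxr
    rw [h, hCx a x hxH hx (mem_Fx.1 (h ▸ ha))]
  have hCg : ∀ g ∈ H, ∀ r, g • C r = C (g • r) := by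
    intro g hg r
    obtain ⟨x, hxH, hxr, hx⟩ := exists_five T hN r
    have hx' : orderOf (g * x * g⁻¹) = 5 := by
      rw [← MulAut.conj_apply, MulEquiv.orderOf_eq, hx]
    have hxr' : (g * x * g⁻¹) • (g • r) = g • r := by
      rw [mul_smul, inv_smul_smul, mul_smul, hxr]
    rw [hCx r x hxH hx hxr, hCx (g • r) _ (mul_mem (mul_mem hg hxH) (inv_mem hg)) hx' hxr']
    ext v
    rw [← Finset.inv_smul_mem_iff, mem_Fx, mem_Fx, mul_smul, mul_smul]
    exact (smul_eq_iff_eq_inv_smul g).symm
  let S : Finset (Finset GolayPt) := Finset.univ.image C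
  have hS6 : S.card = 6 := by
    have hsum := Finset.card_eq_sum_card_image C (Finset.univ : Finset GolayPt)
    rw [Finset.sum_const_nat (m := 4) fun t ht => ?_, Finset.card_univ,
      show Fintype.card GolayPt = 24 from rfl] at hsum
    · show S.card = 6
      simp only [S]; omega
    · obtain ⟨r, -, rfl⟩ := Finset.mem_image.1 ht
      rw [show (Finset.univ.filter fun a => C a = C r) = C r from ?_, hC4]
      ext a
      rw [Finset.mem_filter]
      exact ⟨fun h => h.2 ▸ Finset.mem_insert_self a _, fun h => ⟨Finset.mem_univ a, hCC r a h⟩⟩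
  refine ⟨S, ⟨hS6, fun t ht => ?_, fun t ht t' ht' hne => ?_⟩, fun g hg => ?_⟩
  · obtain ⟨r, -, rfl⟩ := Finset.mem_image.1 ht
    exact hC4 r
  · obtain ⟨r, -, rfl⟩ := Finset.mem_image.1 ht
    obtain ⟨a, -, rfl⟩ := Finset.mem_image.1 ht'
    have haC : a ∉ C r := fun h => hne (hCC r a h).symm
    -- the setwise stabiliser of `C r` lies in `H`
    have hstab : ∀ g : ↥M24, g • C r = C r → g ∈ H := by
      have horb : Nat.choose 24 4 ≤ (orbit ↥M24 (C r)).ncard := by
        rw [show Nat.choose 24 4 = ((Finset.univ : Finset GolayPt).powersetCard 4).card by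
          rw [Finset.card_powersetCard, Finset.card_univ]; rfl, ← Set.ncard_coe_finset]
        refine Set.ncard_le_ncard (fun A hA => ?_) (Set.toFinite _)
        obtain ⟨g, -, hg⟩ := exists_fix_move [] (A := C r) (B := A) List.nodup_nil (by simp) (by simp)
          ((hC4 r).trans (Finset.mem_powersetCard.1 (Finset.mem_coe.1 hA)).2.symm) (by simp [hC4])
        exact ⟨g, hg⟩
      have h1 := (stabilizer ↥M24 (C r)).card_mul_index
      rw [index_stabilizer, card_m24] at h1
      have hS' : (stabilizer ↥H (C r)).index ≤ 6 := by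
        rw [index_stabilizer, ← hS6, ← Set.ncard_coe_finset]
        refine Set.ncard_le_ncard ?_ (Set.toFinite _)
        rintro _ ⟨k, rfl⟩
        show (k : ↥M24) • C r ∈ (S : Set (Finset GolayPt))
        rw [hCg _ k.2]
        exact Finset.mem_coe.2 (Finset.mem_image_of_mem C (Finset.mem_univ _))
      have h2 := (stabilizer ↥H (C r)).card_mul_index
      have hH : Nat.card H = 138240 := by
        have h3 := (stabilizer ↥H r).card_mul_index
        rw [T.card r, index_stabilizer, show orbit ↥H r = Set.univ from ?_, Set.ncard_univ,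
          Nat.card_eq_fintype_card (α := GolayPt), show Fintype.card GolayPt = 24 from rfl] at h3
        · omega
        · refine Set.eq_univ_of_forall fun b => ?_
          obtain ⟨k, hk, e⟩ := T.move r b
          exact ⟨⟨k, hk⟩, e⟩
      rw [hH] at h2
      have hle : Nat.card ↥(stabilizer ↥M24 (C r)) ≤ Nat.card ↥(stabilizer ↥H (C r)) := by
        have e1 : Nat.card ↥(stabilizer ↥M24 (C r)) * Nat.choose 24 4 ≤ 244823040 :=
          h1 ▸ Nat.mul_le_mul_left _ horb
        have e2 : 138240 ≤ Nat.card ↥(stabilizer ↥H (C r)) * 6 := h2 ▸ Nat.mul_le_mul_left _ hS'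
        rw [show Nat.choose 24 4 = 10626 from rfl] at e1
        omega
      rw [← Subgroup.card_map_of_injective H.subtype_injective] at hle
      have heq : (stabilizer ↥H (C r)).map H.subtype = stabilizer ↥M24 (C r) :=
        Subgroup.eq_of_le_of_card_ge (by rintro _ ⟨k, hk, rfl⟩; exact hk) hle
      intro g hg
      obtain ⟨k, -, rfl⟩ := heq.ge (mem_stabilizer_iff.2 hg)
      exact k.2
    obtain ⟨o, ho, hs⟩ := exists_octad (A := insert a (C r)) (by
      rw [Finset.card_insert_of_notMem haC, hC4])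
    have hd : Disjoint (C r) (C a) := Finset.disjoint_left.2 fun w hw hw' =>
      hne (by rw [← hCC r w hw, hCC a w hw'])
    have hsub : C a ⊆ o := by
      by_contra hnot
      obtain ⟨b, hb, hbo⟩ := Finset.not_subset.1 hnot
      -- then every point outside `o` would lie in `C a`
      have hall : Finset.univ \ o ⊆ C a := by
        intro c hc
        have hco : c ∉ o := (Finset.mem_sdiff.1 hc).2
        let l : GolayPt → List GolayPt := fun v => a :: v :: (C r).toList
        have hnd : ∀ v ∉ o, (l v).Nodup := fun v hv => by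
          have h1 : v ≠ a := fun e => hv (e ▸ hs (Finset.mem_insert_self a _))
          have h2 : v ∉ C r := fun e => hv (hs (Finset.mem_insert_of_mem e))
          simp [l, Finset.nodup_toList, haC, h1.symm, h2]
        have hgen : ∀ v ∉ o, ¬ ∃ o' ∈ octads, ∀ p ∈ l v, p ∈ o' := by
          rintro v hv ⟨o', ho', h⟩
          refine hv ((octad_eq_of_inter ho ho' ?_).symm ▸ h v (by simp [l]))
          rw [← show (insert a (C r)).card = 5 by rw [Finset.card_insert_of_notMem haC, hC4]]
          refine Finset.card_le_card (Finset.subset_inter hs fun w hw => h w ?_)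
          rcases Finset.mem_insert.1 hw with rfl | hw <;> simp [l, *]
        obtain ⟨g₁, hg₁, e₁⟩ := exists_move6 (l b) (hnd b hbo) (by simp [l, hC4])
        obtain ⟨g₂, hg₂, e₂⟩ := exists_move6 (l c) (hnd c hco) (by simp [l, hC4])
        rw [if_neg (hgen b hbo)] at e₁
        rw [if_neg (hgen c hco), ← e₁] at e₂
        simp only [l, List.map_cons, List.cons.injEq] at e₂
        obtain ⟨ha', hb', hl⟩ := e₂
        let g : ↥M24 := ⟨g₂⁻¹ * g₁, mul_mem (inv_mem hg₂) hg₁⟩
        have hga : g • a = a := by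
          show g₂⁻¹ (g₁ a) = a
          rw [← ha']; exact g₂.symm_apply_apply a
        have hgb : g • b = c := by
          show g₂⁻¹ (g₁ b) = c
          rw [← hb']; exact g₂.symm_apply_apply c
        have hgT : ∀ v ∈ C r, g • v = v := fun v hv => by
          show g₂⁻¹ (g₁ v) = v
          rw [← List.map_inj_left.1 hl v (Finset.mem_toList.2 hv)]
          exact g₂.symm_apply_apply v
        have hgH : g ∈ H := hstab g (Finset.eq_of_subset_of_card_le (fun v hv => by
          obtain ⟨w, hw, rfl⟩ := Finset.mem_smul_finset.1 hv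
          rw [hgT w hw]; exact hw) (Finset.card_smul_finset g _).ge)
        rw [← hgb, ← show g • C a = C a by rw [hCg g hgH a, hga]]
        exact Finset.smul_mem_smul_finset hb
      have h16 := Finset.card_le_card hall
      rw [hC4, Finset.card_sdiff_of_subset (Finset.subset_univ o), octad_card ho, Finset.card_univ,
        show Fintype.card GolayPt = 24 from rfl] at h16
      omega
    rw [show C r ∪ C a = o from Finset.eq_of_subset_of_card_le
      (Finset.union_subset ((Finset.subset_insert _ _).trans hs) hsub)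
      (by rw [Finset.card_union_of_disjoint hd, hC4, hC4, octad_card ho])]
    exact ho
  · refine Finset.eq_of_subset_of_card_le (fun t ht => ?_) (Finset.card_smul_finset g S).ge
    obtain ⟨w, hw, rfl⟩ := Finset.mem_smul_finset.1 ht
    obtain ⟨v, -, rfl⟩ := Finset.mem_image.1 hw
    rw [hCg g hg v]
    exact Finset.mem_image_of_mem C (Finset.mem_univ _)

end Cfsg.Agent.Compute.M24Index
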