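import Mathlib
import Cfsg.Agent.Compute.TwentyFourSubgroups

/-!
Classification of the subgroups of M24 of index 759, 276, 1771 and 253.
-/

set_option autoImplicit false

namespace Cfsg.Agent.Compute.M24Index

open Cfsg MulAction
open scoped Pointwise

variable {H : Subgroup ↥M24}

theorem card_mul {I : ℕ} (hI : H.index = I) : Nat.card H * I = 244823040 := by
  rw [← hI, Subgroup.card_mul_index, card_m24]

theorem eq_of_index {K : Subgroup ↥M24} (h : H ≤ K) (hi : K.index = H.index) : H = K := by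
  refine Subgroup.eq_of_le_of_card_ge h (le_of_eq ?_)
  have h1 := card_mul (H := H) rfl
  have h2 := card_mul (H := K) rfl
  rw [hi] at h2
  exact Nat.eq_of_mul_eq_mul_right (Nat.pos_of_ne_zero fun e => by rw [e, mul_zero] at h1; omega)
    (h2.trans h1.symm)

/-- Fibres of the action of an invariant subgroup on a subset. -/
theorem card_inv_le {X A : Finset GolayPt} (hX : ∀ h ∈ H, h • X = X) (hA : A ⊆ X) :
    Nat.card H ≤ X.card.descFactorial A.card * Nat.card (fixer A) := by
  classical
  haveI := Fintype.ofFinite ↥H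
  haveI := Fintype.ofFinite ↥(fixer A)
  have hmap : ∀ (k : ↥H) (a : ↥A), (k : ↥M24) • (a : GolayPt) ∈ X := fun k a => by
    have h := Finset.smul_mem_smul_finset (a := (k : ↥M24)) (hA a.2)
    rwa [hX _ k.2] at h
  let ψ : ↥H → (↥A ↪ ↥X) := fun k => ⟨fun a => ⟨_, hmap k a⟩, fun a b e =>
    Subtype.ext (MulAction.injective (k : ↥M24) (congrArg Subtype.val e))⟩
  have hfib : ∀ e, (Finset.univ.filter fun k => ψ k = e).card ≤ Nat.card (fixer A) := by
    intro e
    rcases (Finset.univ.filter fun k => ψ k = e).eq_empty_or_nonempty with h0 | ⟨k₀, hk₀⟩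
    · simp [h0]
    rw [Finset.mem_filter] at hk₀
    rw [Nat.card_eq_fintype_card, ← Fintype.card_coe]
    refine Fintype.card_le_of_injective (fun k => ⟨(k₀ : ↥M24)⁻¹ * (k.1 : ↥M24), fun v hv => ?_⟩) ?_
    · rw [mul_smul, inv_smul_eq_iff]
      exact congrArg Subtype.val
        (DFunLike.congr_fun ((Finset.mem_filter.1 k.2).2.trans hk₀.2.symm) ⟨v, hv⟩)
    · intro a b hab
      exact Subtype.ext (Subtype.ext (mul_left_cancel (congrArg Subtype.val hab)))
  have h1 := Finset.card_le_mul_card_image (s := (Finset.univ : Finset ↥H)) (f := ψ)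
    (Nat.card (fixer A)) (fun e _ => hfib e)
  have h2 := Finset.card_le_univ ((Finset.univ : Finset ↥H).image ψ)
  rw [Fintype.card_embedding_eq, Fintype.card_coe, Fintype.card_coe] at h2
  rw [Finset.card_univ, ← Nat.card_eq_fintype_card] at h1
  exact h1.trans ((Nat.mul_le_mul_left _ h2).trans_eq (Nat.mul_comm _ _))

theorem eight_is_octad (hI : H.index = 759) {X : Finset GolayPt} (hX : ∀ h ∈ H, h • X = X)
    (h8 : X.card = 8) : X ∈ octads := by
  classical
  obtain ⟨A, hAX, hA⟩ := Finset.exists_subset_card_eq (show 5 ≤ X.card by omega)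
  obtain ⟨o, ho, hAo⟩ := exists_octad hA
  by_contra hnot
  have hno : ¬ X ⊆ o := fun h => hnot (by
    rwa [Finset.eq_of_subset_of_card_le h (by rw [h8, octad_card ho])])
  obtain ⟨b, hb, hbo⟩ := Finset.not_subset.1 hno
  have h6 : (insert b A).card = 6 := by
    rw [Finset.card_insert_of_notMem (fun h => hbo (hAo h)), hA]
  have hgen : ¬ ∃ o' ∈ octads, insert b A ⊆ o' := by
    rintro ⟨o', ho', hs⟩
    have he : o = o' := octad_eq_of_inter ho ho' (by
      rw [← hA]; exact Finset.card_le_card (Finset.subset_inter hAo ((Finset.subset_insert _ _).trans hs)))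
    exact hbo (he ▸ hs (Finset.mem_insert_self b A))
  have h1 := card_inv_le hX (Finset.insert_subset hb hAX)
  have h2 := card_mul hI
  rw [h8, h6, (card_fixer_six h6).2 hgen, show Nat.descFactorial 8 6 = 20160 from rfl] at h1
  omega

/-- A transitive subgroup has point stabilisers of equal order. -/
theorem trans_of_move (hmove : ∀ a b : GolayPt, ∃ h ∈ H, h • a = b) {N : ℕ}
    (hN : Nat.card H = 24 * N) : Trans H N := by
  refine ⟨hmove, fun r => ?_⟩
  have h3 := (stabilizer ↥H r).card_mul_index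
  rw [index_stabilizer, show orbit ↥H r = Set.univ from ?_, Set.ncard_univ,
    Nat.card_eq_fintype_card (α := GolayPt), show Fintype.card GolayPt = 24 from rfl, hN] at h3
  · omega
  · refine Set.eq_univ_of_forall fun b => ?_
    obtain ⟨k, hk, e⟩ := hmove r b
    exact ⟨⟨k, hk⟩, e⟩

theorem exists_small (hno : ¬ ∀ a b : GolayPt, ∃ h ∈ H, h • a = b) :
    ∃ X : Finset GolayPt, (∀ h ∈ H, h • X = X) ∧ X.Nonempty ∧ X.card ≤ 12 := by
  classical
  push Not at hno
  obtain ⟨a, b, hab⟩ := hno
  let C : Finset GolayPt := (Set.toFinite (orbit ↥H a)).toFinset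
  have hC : ∀ h ∈ H, h • C = C := fun h hh => by
    apply Finset.coe_injective
    simp only [C, Finset.coe_smul_finset, Set.Finite.coe_toFinset]
    exact smul_orbit (⟨h, hh⟩ : ↥H) a
  by_cases h12 : C.card ≤ 12
  · exact ⟨C, hC, ⟨a, (Set.Finite.mem_toFinset _).2 (mem_orbit_self a)⟩, h12⟩
  · refine ⟨Finset.univ \ C, fun h hh => by
      rw [Finset.smul_finset_sdiff, Finset.smul_finset_univ, hC h hh], ⟨b, ?_⟩, ?_⟩
    · refine Finset.mem_sdiff.2 ⟨Finset.mem_univ b, fun hb => ?_⟩
      obtain ⟨⟨k, hk⟩, e⟩ := (Set.Finite.mem_toFinset _).1 hb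
      exact hab k hk e
    · rw [Finset.card_sdiff_of_subset (Finset.subset_univ C), Finset.card_univ,
        show Fintype.card GolayPt = 24 from rfl]
      omega

/-- An intransitive subgroup of one of the four indices fixes an octad or a pair. -/
theorem intrans (hmem : H.index ∈ [759, 276, 1771, 253])
    (hno : ¬ ∀ a b : GolayPt, ∃ h ∈ H, h • a = b) :
    (H.index = 759 ∧ ∃ o ∈ octads, H = stabilizer ↥M24 o) ∨
      (H.index = 276 ∧ ∃ s : Finset GolayPt, s.card = 2 ∧ H = stabilizer ↥M24 s) := by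
  obtain ⟨X, hX, hne, h12⟩ := exists_small hno
  have hle : H ≤ stabilizer ↥M24 X := fun h hh => mem_stabilizer_iff.2 (hX h hh)
  have hd : (orbit ↥M24 X).ncard ∣ H.index := by
    rw [← index_stabilizer]; exact Subgroup.index_dvd_of_le hle
  rcases sizes_all _ hmem _ (Nat.lt_succ_of_le (Nat.le_of_dvd (pos_of_mem hmem) hd)) hd X.card (by omega)
    with h | ⟨hI, hk, hO⟩ | ⟨hI, hk, hO⟩ | ⟨t, ht, hnd⟩
  · exact absurd h hne.card_pos.ne'
  · exact Or.inl ⟨hI, X, eight_is_octad hI hX hk, eq_of_index hle (by rw [index_stabilizer, hO, hI])⟩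
  · exact Or.inr ⟨hI, X, hk, eq_of_index hle (by rw [index_stabilizer, hO, hI])⟩
  · refine absurd ?_ hnd
    suffices hs : Nat.choose (Finset.univ : Finset GolayPt).card t ∣
        (orbit ↥M24 X).ncard * X.card.choose t by
      rwa [Finset.card_univ, show Fintype.card GolayPt = 24 from rfl] at hs
    simp only [List.mem_cons, List.not_mem_nil, or_false] at ht
    refine M22Index.choose_dvd (fun g => Finset.smul_finset_univ) (Finset.subset_univ X)
      fun A B _ _ hA hB => ?_
    obtain ⟨g, -, hg⟩ := exists_fix_move [] (A := A) (B := B) List.nodup_nil (by simp) (by simp)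
      (hA.trans hB.symm) (by simp; omega)
    exact ⟨g, hg⟩

theorem classify :
    (∀ H : Subgroup ↥M24, H.index = 759 → ∃ o ∈ octads, H = stabilizer ↥M24 o) ∧
      (∀ H : Subgroup ↥M24, H.index = 276 → ∃ s : Finset GolayPt, s.card = 2 ∧ H = stabilizer ↥M24 s) ∧
      (∀ H : Subgroup ↥M24, H.index = 1771 → ∃ S ∈ sextets, H = stabilizer ↥M24 S) ∧
      ∀ H : Subgroup ↥M24, H.index ≠ 253 := by
  refine ⟨fun H hI => ?_, fun H hI => ?_, fun H hI => ?_, fun H hI => ?_⟩
  all_goals
    have hmem : H.index ∈ [759, 276, 1771, 253] := by simp [hI]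
    have hc := card_mul hI
    by_cases hno : ∀ a b : GolayPt, ∃ h ∈ H, h • a = b
  · exact (trans_759_253 (trans_of_move (N := 13440) hno (by omega)) (Or.inl rfl)).elim
  · rcases intrans hmem hno with ⟨-, h⟩ | ⟨h, -⟩
    · exact h
    · omega
  · exact (trans_276 (trans_of_move hno (by omega))).elim
  · rcases intrans hmem hno with ⟨h, -⟩ | ⟨-, h⟩
    · omega
    · exact h
  · obtain ⟨S, hS, hHS⟩ := trans_1771 (trans_of_move hno (by omega))
    refine ⟨S, hS, eq_of_index (fun h hh => mem_stabilizer_iff.2 (hHS h hh)) ?_⟩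
    rw [hI, index_stabilizer, show orbit ↥M24 S = sextets from ?_, ncard_sextets]
    rw [sextets_eq_orbit] at hS ⊢
    exact orbit_eq_iff.2 hS
  · rcases intrans hmem hno with ⟨h, -⟩ | ⟨h, -⟩ <;> omega
  · exact trans_759_253 (trans_of_move (N := 40320) hno (by omega)) (Or.inr rfl)
  · rcases intrans hmem hno with ⟨h, -⟩ | ⟨h, -⟩ <;> omega

end Cfsg.Agent.Compute.M24Index
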