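import Mathlib
import Cfsg.Agent.Compute.MathieuPointwise
import Cfsg.Agent.Compute.MathieuActions

/-!
Subgroups of index 253 in a point stabiliser of M24.
-/

set_option autoImplicit false

namespace Cfsg.Agent.Compute.M23Index

open Cfsg MulAction
open scoped Pointwise

/-- The two allowed sizes and the divisibility conditions for block designs. -/
theorem size_cases : ∀ k < 12, ∀ O ∈ [1, 11, 23, 253], k = 0 ∨ k = 1 ∨ k = 2 ∨ k = 7 ∨ k = 8 ∨
    ∃ t ∈ [1, 2, 3, 4], ¬ (Nat.choose 23 t ∣ O * Nat.choose k t) := by decide +kernel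

theorem dvd_cases : ∀ d < 254, d ∣ 253 → d ∈ [1, 11, 23, 253] := by decide +kernel

variable {x : GolayPt}

theorem card_stab : Nat.card ↥(stabilizer M24 x) = 10200960 := by
  obtain ⟨e⟩ := nonempty_stab1 x
  rw [Nat.card_congr e.toEquiv, card_m23]

theorem fix_x (g : ↥(stabilizer M24 x)) : g • x = x := g.2

/-- The point stabiliser is transitive on small subsets of the other points. -/
theorem exists_move {A B : Finset GolayPt} (hA : x ∉ A) (hB : x ∉ B) (hAB : A.card = B.card)
    (hA4 : A.card ≤ 4) : ∃ g : ↥(stabilizer M24 x), g • A = B := by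
  classical
  obtain ⟨a, ha, hax⟩ := exists_move5 (x :: A.toList) (by simp [hA, Finset.nodup_toList])
    (by simp; omega)
  obtain ⟨b, hb, hbx⟩ := exists_move5 (x :: B.toList) (by simp [hB, Finset.nodup_toList])
    (by simp; omega)
  rw [List.length_cons, Finset.length_toList, hAB] at hax
  rw [List.length_cons, Finset.length_toList, ← hax, List.map_cons, List.map_cons,
    List.cons.injEq] at hbx
  refine ⟨⟨⟨b⁻¹ * a, mul_mem (inv_mem hb) ha⟩, ?_⟩, ?_⟩
  · show b⁻¹ (a x) = x
    rw [← hbx.1]
    exact b.symm_apply_apply x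
  · show A.image (fun v => b⁻¹ (a v)) = B
    have h1 : A.toList.map (fun v => b⁻¹ (a v)) = B.toList := by
      rw [← List.map_id B.toList, show (fun v => b⁻¹ (a v)) = (b⁻¹ : Equiv.Perm GolayPt) ∘ a from rfl,
        ← List.map_map, ← hbx.2, List.map_map]
      exact List.map_congr_left fun v _ => b.symm_apply_apply v
    ext v
    rw [Finset.mem_image, ← Finset.mem_toList (s := B), ← h1, List.mem_map]
    simp only [Finset.mem_toList]

/-- Double counting in an orbit of subsets. -/
theorem choose_dvd {X : Finset GolayPt} (hx : x ∉ X) {t : ℕ} (ht : t ≤ 4) :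
    Nat.choose 23 t ∣ (orbit ↥(stabilizer M24 x) X).ncard * Nat.choose X.card t := by
  classical
  let O : Finset (Finset GolayPt) := (Set.toFinite (orbit ↥(stabilizer M24 x) X)).toFinset
  let T : Finset (Finset GolayPt) := (Finset.univ.erase x).powersetCard t
  have hT : T.card = Nat.choose 23 t := by
    rw [Finset.card_powersetCard, Finset.card_erase_of_mem (Finset.mem_univ x), Finset.card_univ]
    rfl
  have hO : O.card = (orbit ↥(stabilizer M24 x) X).ncard := (Set.ncard_eq_toFinset_card _).symm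
  have hmemO : ∀ Z ∈ O, ∃ g : ↥(stabilizer M24 x), g • X = Z := fun Z hZ => by
    simp only [O, Set.Finite.mem_toFinset] at hZ
    exact hZ
  have hOx : ∀ Z ∈ O, x ∉ Z ∧ Z.card = X.card := by
    intro Z hZ
    obtain ⟨g, rfl⟩ := hmemO Z hZ
    refine ⟨fun h => hx ?_, Finset.card_smul_finset g X⟩
    obtain ⟨v, hv, hgv⟩ := Finset.mem_smul_finset.1 h
    rwa [MulAction.injective g (hgv.trans (fix_x g).symm)] at hv
  have key := Finset.sum_card_bipartiteAbove_eq_sum_card_bipartiteBelow
    (fun (Z : Finset GolayPt) (A : Finset GolayPt) => A ⊆ Z) (s := O) (t := T)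
  have hl : ∀ Z ∈ O, (T.bipartiteAbove (fun Z A : Finset GolayPt => A ⊆ Z) Z).card =
      Nat.choose X.card t := by
    intro Z hZ
    rw [show T.bipartiteAbove (fun Z A : Finset GolayPt => A ⊆ Z) Z = Z.powersetCard t from ?_,
      Finset.card_powersetCard, (hOx Z hZ).2]
    ext A
    simp only [Finset.bipartiteAbove, Finset.mem_filter, T, Finset.mem_powersetCard]
    constructor
    · rintro ⟨⟨-, h2⟩, h3⟩; exact ⟨h3, h2⟩
    · rintro ⟨h3, h2⟩
      exact ⟨⟨fun a ha => Finset.mem_erase.2
        ⟨fun e => (hOx Z hZ).1 (e ▸ h3 ha), Finset.mem_univ a⟩, h2⟩, h3⟩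
  rw [Finset.sum_const_nat hl, hO] at key
  rw [key, ← hT]
  rcases T.eq_empty_or_nonempty with hT0 | ⟨A₀, hA₀⟩
  · simp [hT0]
  refine ⟨(O.bipartiteBelow (fun Z A : Finset GolayPt => A ⊆ Z) A₀).card, ?_⟩
  refine Finset.sum_const_nat fun A hA => ?_
  simp only [T, Finset.mem_powersetCard] at hA hA₀
  obtain ⟨g, hg⟩ := exists_move (x := x) (A := A) (B := A₀)
    (fun h => (Finset.mem_erase.1 (hA.1 h)).1 rfl) (fun h => (Finset.mem_erase.1 (hA₀.1 h)).1 rfl)
    (hA.2.trans hA₀.2.symm) (by omega)
  refine Finset.card_bij' (fun Z _ => g • Z) (fun Z _ => g⁻¹ • Z) ?_ ?_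
    (fun Z _ => inv_smul_smul g Z) (fun Z _ => smul_inv_smul g Z)
  all_goals
    intro Z hZ
    simp only [Finset.bipartiteBelow, Finset.mem_filter, O, Set.Finite.mem_toFinset] at hZ ⊢
    refine ⟨?_, ?_⟩
  · exact mem_orbit_of_mem_orbit g hZ.1
  · rw [← hg]; exact Finset.smul_finset_subset_smul_finset hZ.2
  · exact mem_orbit_of_mem_orbit g⁻¹ hZ.1
  · rw [← inv_smul_smul g A, hg]; exact Finset.smul_finset_subset_smul_finset hZ.2

variable (H : Subgroup ↥(stabilizer M24 x))

/-- A subset is invariant. -/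
def Inv (X : Finset GolayPt) : Prop := ∀ h ∈ H, h • X = X

theorem orbit_index {X : Finset GolayPt} (hH : H.index = 253) (hX : Inv H X) :
    (orbit ↥(stabilizer M24 x) X).ncard ∈ [1, 11, 23, 253] := by
  rw [← index_stabilizer]
  have h : (stabilizer ↥(stabilizer M24 x) X).index ∣ 253 :=
    hH ▸ Subgroup.index_dvd_of_le (fun h hh => mem_stabilizer_iff.2 (hX h hh))
  exact dvd_cases _ (Nat.lt_succ_of_le (Nat.le_of_dvd (by norm_num) h)) h

theorem card_H (hH : H.index = 253) : Nat.card H = 40320 := by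
  have h := H.card_mul_index
  rw [hH, card_stab] at h
  omega

/-- At most three elements of M24 fix six points lying in no octad. -/
theorem card_fix_generic {A : Finset GolayPt} (hA : x ∉ A) (hA5 : A.card = 5)
    (hno : ¬ ∃ o ∈ octads, insert x A ⊆ o) :
    Nat.card {h : Equiv.Perm GolayPt // h ∈ M24 ∧ ∀ p ∈ x :: A.toList, h p = p} = 3 := by
  classical
  obtain ⟨g, hg, hgx⟩ := exists_move6 (x :: A.toList) (by simp [hA, Finset.nodup_toList]) (by simp [hA5])
  rw [if_neg] at hgx
  · exact card_fix_six m24_eq m24a_check drop6_a.2.2 drop6_a.1 drop6_a.2.1 hg hgx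
  · rintro ⟨o, ho, hs⟩
    refine hno ⟨o, ho, fun p hp => hs p ?_⟩
    simpa using Finset.mem_insert.1 hp

theorem not_generic (hH : H.index = 253) {X A : Finset GolayPt} (hX : Inv H X) (hX8 : X.card ≤ 8)
    (hAX : A ⊆ X) (hA : x ∉ A) (hA5 : A.card = 5) : ∃ o ∈ octads, insert x A ⊆ o := by
  classical
  by_contra hno
  haveI := Fintype.ofFinite ↥H
  have hmap : ∀ (h : ↥H) (a : ↥A), (h : ↥(stabilizer M24 x)) • (a : GolayPt) ∈ X := fun h a => by
    rw [← hX h h.2]; exact Finset.smul_mem_smul_finset (hAX a.2)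
  let ψ : ↥H → (↥A ↪ ↥X) := fun h => ⟨fun a => ⟨_, hmap h a⟩, fun a b e =>
    Subtype.ext (MulAction.injective (h : ↥(stabilizer M24 x)) (congrArg Subtype.val e))⟩
  have hfib : ∀ e ∈ (Finset.univ : Finset (↥A ↪ ↥X)),
      (Finset.univ.filter fun h => ψ h = e).card ≤ 3 := by
    intro e _
    rcases (Finset.univ.filter fun h => ψ h = e).eq_empty_or_nonempty with h0 | ⟨h₀, hh₀⟩
    · simp [h0]
    rw [Finset.mem_filter] at hh₀
    rw [← card_fix_generic hA hA5 hno, Nat.card_eq_fintype_card, ← Fintype.card_coe]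
    refine Fintype.card_le_of_injective (fun h => ⟨((((h₀⁻¹ * h.1 : ↥H) : ↥(stabilizer M24 x)) : ↥M24) :
      Equiv.Perm GolayPt), (((h₀⁻¹ * h.1 : ↥H) : ↥(stabilizer M24 x)) : ↥M24).2, ?_⟩) ?_
    · intro p hp
      rcases List.mem_cons.1 hp with rfl | hp
      · exact fix_x ((h₀⁻¹ * h.1 : ↥H) : ↥(stabilizer M24 p))
      · have h1 : ψ h.1 = ψ h₀ := (Finset.mem_filter.1 h.2).2.trans hh₀.2.symm
        have h2 : (h.1 : ↥(stabilizer M24 x)) • p = (h₀ : ↥(stabilizer M24 x)) • p :=
          congrArg Subtype.val (DFunLike.congr_fun h1 ⟨p, Finset.mem_toList.1 hp⟩)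
        show ((h₀⁻¹ * h.1 : ↥H) : ↥(stabilizer M24 x)) • p = p
        rw [Subgroup.coe_mul, mul_smul, h2, Subgroup.coe_inv, inv_smul_smul]
    · intro a b hab
      have h1 : h₀⁻¹ * a.1 = h₀⁻¹ * b.1 :=
        Subtype.ext (Subtype.ext (Subtype.ext (by simpa only [Subtype.mk.injEq] using hab)))
      exact Subtype.ext (mul_left_cancel h1)
  have hle := Finset.card_le_mul_card_image (s := (Finset.univ : Finset ↥H)) (f := ψ) 3
    (fun e _ => hfib e (Finset.mem_univ e))
  have himg : ((Finset.univ : Finset ↥H).image ψ).card ≤ 6720 := by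
    refine (Finset.card_le_univ _).trans ?_
    rw [Fintype.card_embedding_eq, Fintype.card_coe, Fintype.card_coe, hA5]
    exact (Nat.descFactorial_le 5 hX8).trans (by decide)
  rw [Finset.card_univ, ← Nat.card_eq_fintype_card, card_H H hH] at hle
  omega

/-- Small invariant sets. -/
theorem small_invariant (hH : H.index = 253) {X : Finset GolayPt} (hX : Inv H X) (hx : x ∉ X)
    (h0 : X.Nonempty) (h11 : X.card ≤ 11) :
    X.card = 1 ∨ X.card = 2 ∨ (X.card = 7 ∧ insert x X ∈ octads) := by
  classical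
  rcases size_cases X.card (by omega) _ (orbit_index H hH hX) with h | h | h | h | h | ⟨t, ht, hnd⟩
  · exact absurd h h0.card_pos.ne'
  · exact Or.inl h
  · exact Or.inr (Or.inl h)
  rotate_left 2
  · exact absurd (choose_dvd hx (by
      simp only [List.mem_cons, List.not_mem_nil, or_false] at ht; omega)) hnd
  all_goals
    -- every five-subset lies in an octad through `x`; these octads coincide
    obtain ⟨A, hAX, hA⟩ := Finset.exists_subset_card_eq (show 5 ≤ X.card by omega)
    obtain ⟨o, ho, hAo⟩ := not_generic H hH hX (by omega) hAX (fun e => hx (hAX e)) hA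
    have hsub : insert x X ⊆ o := by
      intro v hv
      rw [Finset.mem_insert] at hv
      by_cases hvA : v = x ∨ v ∈ A
      · exact hAo (Finset.mem_insert.2 hvA)
      push Not at hvA
      obtain ⟨a, ha⟩ := Finset.card_pos.1 (show 0 < A.card by omega)
      have hvX : v ∈ X := hv.resolve_left hvA.1
      have hA' : (insert v (A.erase a)) ⊆ X :=
        Finset.insert_subset hvX ((Finset.erase_subset _ _).trans hAX)
      obtain ⟨o', ho', hAo'⟩ := not_generic H hH hX (by omega) hA' (fun e => hx (hA' e)) (by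
        rw [Finset.card_insert_of_notMem (fun e => hvA.2 (Finset.mem_of_mem_erase e)),
          Finset.card_erase_of_mem ha, hA])
      have heq : o = o' := by
        refine octad_eq_of_inter ho ho' ?_
        calc 5 = (insert x (A.erase a)).card := by
              rw [Finset.card_insert_of_notMem (fun e => hx (hAX (Finset.mem_of_mem_erase e))),
                Finset.card_erase_of_mem ha, hA]
          _ ≤ _ := Finset.card_le_card fun w hw => by
            rw [Finset.mem_insert] at hw
            exact Finset.mem_inter.2 ⟨hAo (Finset.mem_insert.2 (hw.imp id Finset.mem_of_mem_erase)),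
              hAo' (Finset.mem_insert.2 (hw.imp id Finset.mem_insert_of_mem))⟩
      rw [heq]
      exact hAo' (Finset.mem_insert_of_mem (Finset.mem_insert_self v _))
    have hle := Finset.card_le_card hsub
    rw [Finset.card_insert_of_notMem hx, ho.2] at hle
  · exact Or.inr (Or.inr ⟨h, (Finset.eq_of_subset_of_card_le hsub (by
      rw [ho.2, Finset.card_insert_of_notMem hx]; omega)).symm ▸ ho⟩)
  · omega

theorem exists_small (hH : H.index = 253) (Z : Finset GolayPt) (hZ : Inv H Z) (h0 : Z.Nonempty)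
    (hle : Z.card ≤ 23) (hnd : ¬ Z.card ∣ 40320) :
    ∃ X, X ⊆ Z ∧ X.Nonempty ∧ X.card ≤ 11 ∧ Inv H X := by
  classical
  let orb : GolayPt → Finset GolayPt := fun y => (Set.toFinite (orbit ↥H y)).toFinset
  have horb : ∀ y, Inv H (orb y) := by
    intro y h hh
    apply Finset.coe_injective
    rw [Finset.coe_smul_finset, Set.Finite.coe_toFinset]
    exact smul_orbit (⟨h, hh⟩ : ↥H) y
  have hsub : ∀ y ∈ Z, orb y ⊆ Z := by
    intro y hy v hv
    obtain ⟨h, rfl⟩ := (Set.Finite.mem_toFinset _).1 hv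
    rw [← hZ h h.2]
    exact Finset.smul_mem_smul_finset hy
  have hne : ∀ y, (orb y).Nonempty := fun y =>
    ⟨y, (Set.Finite.mem_toFinset _).2 (mem_orbit_self y)⟩
  obtain ⟨y, hy⟩ := h0
  by_cases h : (orb y).card ≤ 11
  · exact ⟨_, hsub y hy, hne y, h, horb y⟩
  obtain ⟨v, hv, hvy⟩ : ∃ v ∈ Z, v ∉ orb y := by
    by_contra! hall
    refine hnd ?_
    rw [show Z = orb y from (Finset.Subset.antisymm (hsub y hy) hall).symm,
      ← Set.ncard_eq_toFinset_card, ← index_stabilizer, ← card_H H hH]
    exact Subgroup.index_dvd_card _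
  refine ⟨_, hsub v hv, hne v, ?_, horb v⟩
  have hd : Disjoint (orb y) (orb v) := Finset.disjoint_left.2 fun w hw hw' => hvy (by
    rw [Set.Finite.mem_toFinset] at hw hw' ⊢
    rw [← orbit_eq_iff.2 hw, orbit_eq_iff.2 hw']
    exact mem_orbit_self v)
  have := Finset.card_le_card (Finset.union_subset (hsub y hy) (hsub v hv))
  rw [Finset.card_union_of_disjoint hd] at this
  omega

/-- A subgroup of index 253 fixes a pair or a heptad. -/
theorem exists_pair_or_octad (hH : H.index = 253) :
    (∃ s : Finset GolayPt, s.card = 2 ∧ x ∉ s ∧ Inv H s) ∨ ∃ o ∈ octads, x ∈ o ∧ Inv H o := by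
  classical
  have hinsert : ∀ {X : Finset GolayPt}, Inv H X → Inv H (insert x X) := fun {X} hX h hh => by
    rw [Finset.smul_finset_insert, hX h hh, fix_x]
  have hY : Inv H (Finset.univ.erase x) := fun h _ => by
    ext v
    rw [← Finset.inv_smul_mem_iff, Finset.mem_erase, Finset.mem_erase, ne_eq, inv_smul_eq_iff, fix_x]
    simp
  have hY23 : ((Finset.univ : Finset GolayPt).erase x).card = 23 := by
    rw [Finset.card_erase_of_mem (Finset.mem_univ x), Finset.card_univ]; rfl
  obtain ⟨X, hXY, hX0, hX11, hX⟩ := exists_small H hH _ hY (by rw [← Finset.card_pos, hY23]; norm_num)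
    hY23.le (by rw [hY23]; decide)
  have hxX : x ∉ X := fun h => (Finset.mem_erase.1 (hXY h)).1 rfl
  rcases small_invariant H hH hX hxX hX0 hX11 with h | h | ⟨-, h⟩
  rotate_left 1
  · exact Or.inl ⟨X, h, hxX, hX⟩
  · exact Or.inr ⟨_, h, Finset.mem_insert_self x X, hinsert hX⟩
  obtain ⟨p, rfl⟩ := Finset.card_eq_one.1 h
  have hp : ∀ h ∈ H, h • p = p := fun h hh => by
    have := hX h hh
    rwa [Finset.smul_finset_singleton, Finset.singleton_inj] at this
  set Z := (Finset.univ.erase x).erase p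
  have hpx : p ≠ x := fun e => hxX (by simp [e])
  have hZ : Inv H Z := fun h hh => by
    ext v
    rw [← Finset.inv_smul_mem_iff, Finset.mem_erase, Finset.mem_erase, ne_eq, inv_smul_eq_iff, ne_eq,
      inv_smul_eq_iff, fix_x, hp h hh, Finset.mem_erase, Finset.mem_erase]
    simp
  have hZ22 : Z.card = 22 := by
    rw [Finset.card_erase_of_mem (Finset.mem_erase.2 ⟨hpx, Finset.mem_univ p⟩), hY23]
  obtain ⟨X, hXZ, hX0, hX11, hX⟩ := exists_small H hH Z hZ (by rw [← Finset.card_pos, hZ22]; norm_num)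
    (by omega) (by rw [hZ22]; decide)
  have hpX : p ∉ X := fun h => (Finset.mem_erase.1 (hXZ h)).1 rfl
  have hxX : x ∉ X := fun h => (Finset.mem_erase.1 (Finset.mem_of_mem_erase (hXZ h))).1 rfl
  rcases small_invariant H hH hX hxX hX0 hX11 with h | h | ⟨-, h⟩
  · refine Or.inl ⟨insert p X, by rw [Finset.card_insert_of_notMem hpX, h],
      by simp [hxX, hpx.symm], fun g hg => ?_⟩
    rw [Finset.smul_finset_insert, hX g hg, hp g hg]
  · exact Or.inl ⟨X, h, hxX, hX⟩
  · exact Or.inr ⟨_, h, Finset.mem_insert_self x X, hinsert hX⟩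

/-- Stabilisers of pairs and heptads have index at least 253. -/
theorem le_orbit_pair {s : Finset GolayPt} (hs : s.card = 2) (hx : x ∉ s) :
    253 ≤ (orbit ↥(stabilizer M24 x) s).ncard := by
  classical
  have h1 : ((Finset.univ.erase x).powersetCard 2).card = 253 := by
    rw [Finset.card_powersetCard, Finset.card_erase_of_mem (Finset.mem_univ x), Finset.card_univ]
    rfl
  rw [← h1, ← Set.ncard_coe_finset]
  refine Set.ncard_le_ncard (fun A hA => ?_) (Set.toFinite _)
  rw [Finset.mem_coe, Finset.mem_powersetCard] at hA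
  obtain ⟨g, hg⟩ := exists_move (x := x) hx (fun h => (Finset.mem_erase.1 (hA.1 h)).1 rfl)
    (hs.trans hA.2.symm) (by omega)
  exact ⟨g, hg⟩

theorem le_orbit_octad {o : Finset GolayPt} (ho : o ∈ octads) (hx : x ∈ o) :
    253 ≤ (orbit ↥(stabilizer M24 x) o).ncard := by
  classical
  let O : Finset (Finset GolayPt) := (Set.toFinite (orbit ↥(stabilizer M24 x) o)).toFinset
  let T : Finset (Finset GolayPt) := (Finset.univ.erase x).powersetCard 4
  have hT : T.card = 8855 := by
    rw [Finset.card_powersetCard, Finset.card_erase_of_mem (Finset.mem_univ x), Finset.card_univ]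
    rfl
  obtain ⟨A₀, hA₀⟩ : ((o.erase x).powersetCard 4).Nonempty := Finset.powersetCard_nonempty.2 (by
    rw [Finset.card_erase_of_mem hx, ho.2]; norm_num)
  rw [Finset.mem_powersetCard] at hA₀
  have hsub : T ⊆ O.biUnion fun Z => (Z.erase x).powersetCard 4 := by
    intro A hA
    simp only [T, Finset.mem_powersetCard] at hA
    obtain ⟨g, hg⟩ := exists_move (x := x) (A := A₀) (B := A)
      (fun h => (Finset.mem_erase.1 (hA₀.1 h)).1 rfl) (fun h => (Finset.mem_erase.1 (hA.1 h)).1 rfl)
      (hA₀.2.trans hA.2.symm) (by omega)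
    refine Finset.mem_biUnion.2 ⟨g • o, (Set.Finite.mem_toFinset _).2 ⟨g, rfl⟩,
      Finset.mem_powersetCard.2 ⟨fun a ha => Finset.mem_erase.2
        ⟨(Finset.mem_erase.1 (hA.1 ha)).1, ?_⟩, hA.2⟩⟩
    rw [← hg] at ha
    exact Finset.smul_finset_subset_smul_finset (hA₀.1.trans (Finset.erase_subset _ _)) ha
  have h2 := (Finset.card_le_card hsub).trans (Finset.card_biUnion_le_card_mul (n := 35) _ _ ?_)
  · rw [hT, ← Set.ncard_eq_toFinset_card] at h2
    omega
  · intro Z hZ
    obtain ⟨g, rfl⟩ := (Set.Finite.mem_toFinset _).1 hZ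
    have hxg : x ∈ g • o := by
      have := Finset.smul_mem_smul_finset (a := g) hx
      rwa [fix_x g] at this
    rw [Finset.card_powersetCard, Finset.card_erase_of_mem hxg, Finset.card_smul_finset, ho.2]
    decide

theorem eq_stabilizer (hH : H.index = 253) {s : Finset GolayPt} (hs : Inv H s)
    (hle : 253 ≤ (orbit ↥(stabilizer M24 x) s).ncard) :
    H = (stabilizer M24 s).subgroupOf (stabilizer M24 x) := by
  have he : (stabilizer M24 s).subgroupOf (stabilizer M24 x) = stabilizer ↥(stabilizer M24 x) s := rfl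
  have hsub : H ≤ stabilizer ↥(stabilizer M24 x) s := fun h hh => mem_stabilizer_iff.2 (hs h hh)
  rw [he]
  refine le_antisymm hsub (Subgroup.relIndex_eq_one.1 ?_)
  have h1 := Subgroup.relIndex_mul_index hsub
  rw [hH, index_stabilizer] at h1
  have hpos : 0 < H.relIndex (stabilizer ↥(stabilizer M24 x) s) := Nat.pos_of_ne_zero fun e => by
    rw [e, zero_mul] at h1; omega
  nlinarith

end Cfsg.Agent.Compute.M23Index
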